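import Mathlib

/-!
# Tensor products of domains over an algebraically closed field are domains
-/

universe u

namespace Groth.Agent.Lib.Helper50

open TensorProduct

section

variable {k : Type*} [Field k] [IsAlgClosed k]

/-- Weak Nullstellensatz: a nonzero element of a finitely generated `k`-algebra that is a domain
is nonzero at some `k`-point. -/
theorem exists_algHom_apply_ne_zero {A : Type*} [CommRing A] [IsDomain A] [Algebra k A]
    [Algebra.FiniteType k A] {a : A} (ha : a ≠ 0) : ∃ φ : A →ₐ[k] k, φ a ≠ 0 := by
  have hnt : Nontrivial (Localization.Away a) := by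
    have : IsDomain (Localization.Away a) :=
      IsLocalization.isDomain_localization (powers_le_nonZeroDivisors_of_noZeroDivisors ha)
    infer_instance
  obtain ⟨m, hm⟩ := Ideal.exists_maximal (Localization.Away a)
  letI : Field (Localization.Away a ⧸ m) := Ideal.Quotient.field m
  have hft1 : Algebra.FiniteType k (Localization.Away a) := inferInstance
  have hft : Algebra.FiniteType k (Localization.Away a ⧸ m) :=
    Algebra.FiniteType.of_surjective (Ideal.Quotient.mkₐ k m) Ideal.Quotient.mk_surjective
  have hfin : Module.Finite k (Localization.Away a ⧸ m) :=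
    finite_of_finite_type_of_isJacobsonRing k _
  have hbij : Function.Bijective (algebraMap k (Localization.Away a ⧸ m)) :=
    IsAlgClosed.algebraMap_bijective_of_isIntegral
  let e : k ≃ₐ[k] (Localization.Away a ⧸ m) := AlgEquiv.ofBijective (Algebra.ofId k _) hbij
  let ψ : A →ₐ[k] (Localization.Away a ⧸ m) :=
    (Ideal.Quotient.mkₐ k m).comp (IsScalarTower.toAlgHom k A (Localization.Away a))
  refine ⟨e.symm.toAlgHom.comp ψ, ?_⟩
  have hunit : IsUnit (ψ a) := by
    have : IsUnit (algebraMap A (Localization.Away a) a) :=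
      IsLocalization.Away.algebraMap_isUnit a
    exact this.map (Ideal.Quotient.mkₐ k m)
  intro h
  have : ψ a = 0 := by
    have h' : e.symm (ψ a) = 0 := h
    exact (e.symm.map_eq_zero_iff).mp h'
  exact hunit.ne_zero this

/-- Finitely generated case of `isDomain_tensorProduct_of_isAlgClosed`. -/
theorem eq_zero_or_eq_zero_of_mul_eq_zero_tensor_of_finiteType {A B : Type*} [CommRing A]
    [IsDomain A] [Algebra k A] [Algebra.FiniteType k A] [CommRing B] [IsDomain B] [Algebra k B]
    (x y : A ⊗[k] B) (hxy : x * y = 0) : x = 0 ∨ y = 0 := by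
  classical
  by_contra h
  push Not at h
  obtain ⟨hx, hy⟩ := h
  let ℬ := Module.Basis.ofVectorSpace k B
  let 𝔹 := Algebra.TensorProduct.basis A ℬ
  have key : ∀ (φ : A →ₐ[k] k) (z : A ⊗[k] B) i,
      ℬ.repr (Algebra.TensorProduct.lift ((Algebra.ofId k B).comp φ) (AlgHom.id k B)
        (fun _ _ => Commute.all _ _) z) i = φ (𝔹.repr z i) := by
    intro φ z i
    induction z with
    | zero => simp
    | tmul a b =>
      rw [Algebra.TensorProduct.lift_tmul, Algebra.TensorProduct.basis_repr_tmul]
      simp only [AlgHom.comp_apply, AlgHom.id_apply, Finsupp.smul_apply, Finsupp.mapRange_apply,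
        smul_eq_mul, map_mul, AlgHom.commutes]
      rw [Algebra.ofId_apply, ← Algebra.smul_def, map_smul, Finsupp.smul_apply, smul_eq_mul]
      rfl
    | add z w hz hw => simp only [map_add, Finsupp.add_apply, hz, hw]
  obtain ⟨i, hi⟩ : ∃ i, 𝔹.repr x i ≠ 0 := by
    by_contra hall
    push Not at hall
    exact hx (𝔹.repr.injective (Finsupp.ext fun i => by simp [hall i]))
  obtain ⟨j, hj⟩ : ∃ j, 𝔹.repr y j ≠ 0 := by
    by_contra hall
    push Not at hall
    exact hy (𝔹.repr.injective (Finsupp.ext fun i => by simp [hall i]))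
  obtain ⟨φ, hφ⟩ := exists_algHom_apply_ne_zero (k := k) (mul_ne_zero hi hj)
  have h1 : Algebra.TensorProduct.lift ((Algebra.ofId k B).comp φ) (AlgHom.id k B)
      (fun _ _ => Commute.all _ _) x ≠ 0 := fun h0 => by
    have := key φ x i
    rw [h0, map_zero, Finsupp.zero_apply] at this
    apply hφ
    rw [map_mul, ← this, zero_mul]
  have h2 : Algebra.TensorProduct.lift ((Algebra.ofId k B).comp φ) (AlgHom.id k B)
      (fun _ _ => Commute.all _ _) y ≠ 0 := fun h0 => by
    have := key φ y j
    rw [h0, map_zero, Finsupp.zero_apply] at this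
    apply hφ
    rw [map_mul, ← this, mul_zero]
  have h3 : Algebra.TensorProduct.lift ((Algebra.ofId k B).comp φ) (AlgHom.id k B)
      (fun _ _ => Commute.all _ _) x * Algebra.TensorProduct.lift ((Algebra.ofId k B).comp φ)
      (AlgHom.id k B) (fun _ _ => Commute.all _ _) y = 0 := by
    rw [← map_mul, hxy, map_zero]
  exact (mul_ne_zero h1 h2) h3

/-- Over an algebraically closed field, the tensor product of two domains has no zero
divisors. -/
theorem eq_zero_or_eq_zero_of_mul_eq_zero_tensor {A B : Type*} [CommRing A]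
    [IsDomain A] [Algebra k A] [CommRing B] [IsDomain B] [Algebra k B]
    (x y : A ⊗[k] B) (hxy : x * y = 0) : x = 0 ∨ y = 0 := by
  classical
  obtain ⟨J, hJ, hsub⟩ := Submodule.exists_fg_le_subset_range_rTensor_subtype (R := k)
    ({x, y} : Set (A ⊗[k] B)) (by simp)
  obtain ⟨t, ht⟩ := hJ
  let A' : Subalgebra k A := Algebra.adjoin k (t : Set A)
  have hA' : Algebra.FiniteType k A' := (Subalgebra.fg_iff_finiteType _).mp ⟨t, rfl⟩
  have hJA' : J ≤ Subalgebra.toSubmodule A' := by
    rw [← ht]
    exact Submodule.span_le.mpr Algebra.subset_adjoin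
  let ι' : A' ⊗[k] B →ₐ[k] A ⊗[k] B := Algebra.TensorProduct.map A'.val (AlgHom.id k B)
  have hinj : Function.Injective ι' := by
    have := Module.Flat.rTensor_preserves_injective_linearMap (M := B) A'.val.toLinearMap
      Subtype.val_injective
    intro a b hab
    exact this hab
  have hcomp : ∀ w : J ⊗[k] B,
      ι' ((Submodule.inclusion hJA').rTensor B w) = J.subtype.rTensor B w := by
    intro w
    induction w with
    | zero => simp
    | tmul a b => rfl
    | add u v hu hv => rw [map_add, map_add, map_add, hu, hv]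
  have hrange : ∀ z ∈ ({x, y} : Set (A ⊗[k] B)), ∃ z', ι' z' = z := by
    intro z hz
    obtain ⟨w, hw⟩ := hsub hz
    exact ⟨(Submodule.inclusion hJA').rTensor B w, (hcomp w).trans hw⟩
  obtain ⟨x', rfl⟩ := hrange x (by simp)
  obtain ⟨y', rfl⟩ := hrange y (by simp)
  have h0 : x' * y' = 0 := hinj (by rw [map_mul, hxy, map_zero])
  rcases eq_zero_or_eq_zero_of_mul_eq_zero_tensor_of_finiteType x' y' h0 with h | h
  · left; rw [h, map_zero]
  · right; rw [h, map_zero]

/-- Over an algebraically closed field, the tensor product of two domains is a domain. -/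
theorem isDomain_tensorProduct_of_isAlgClosed {A B : Type*} [CommRing A]
    [IsDomain A] [Algebra k A] [CommRing B] [IsDomain B] [Algebra k B] :
    IsDomain (A ⊗[k] B) := by
  have hnzd : NoZeroDivisors (A ⊗[k] B) :=
    ⟨fun {x y} hxy => eq_zero_or_eq_zero_of_mul_eq_zero_tensor x y hxy⟩
  have hnt : Nontrivial (A ⊗[k] B) := inferInstance
  exact NoZeroDivisors.to_isDomain _

end

end Groth.Agent.Lib.Helper50
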