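import Mathlib
import Groth.Agent.Lib.Helper50.TensorDomain

/-!
# Reducedness of tensor products over fields
-/

universe u

namespace Groth.Agent.Lib.Helper50

open TensorProduct

/-- Coordinates of `A ⊗[k] B` with respect to a `k`-basis of `B` are natural in `A`. -/
theorem basis_repr_map {k A A' B ι : Type*} [CommRing k] [CommRing A] [CommRing A'] [Ring B]
    [Algebra k A] [Algebra k A'] [Algebra k B] (ℬ : Module.Basis ι k B) (f : A →ₐ[k] A')
    (z : A ⊗[k] B) (i : ι) :
    (Algebra.TensorProduct.basis A' ℬ).repr (Algebra.TensorProduct.map f (AlgHom.id k B) z) i =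
      f ((Algebra.TensorProduct.basis A ℬ).repr z i) := by
  induction z with
  | zero => simp
  | tmul a b =>
    rw [Algebra.TensorProduct.map_tmul, Algebra.TensorProduct.basis_repr_tmul,
      Algebra.TensorProduct.basis_repr_tmul]
    simp
  | add z w hz hw => simp only [map_add, Finsupp.add_apply, hz, hw]

/-- If `T` is reduced and all fibres `κ(p) ⊗[k] Ω` are reduced, then `T ⊗[k] Ω` is reduced. -/
theorem isReduced_tensor_of_fibers {k T Ω : Type*} [Field k] [CommRing T] [IsReduced T]
    [Algebra k T] [CommRing Ω] [Algebra k Ω]
    (h : ∀ p : PrimeSpectrum T, IsReduced (p.asIdeal.ResidueField ⊗[k] Ω)) :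
    IsReduced (T ⊗[k] Ω) := by
  classical
  refine ⟨fun x hx => ?_⟩
  let ℬ := Module.Basis.ofVectorSpace k Ω
  have hcoord : ∀ i, (Algebra.TensorProduct.basis T ℬ).repr x i = 0 := by
    intro i
    apply IsNilpotent.eq_zero
    rw [nilpotent_iff_mem_prime]
    intro J hJ
    have := h ⟨J, hJ⟩
    have h0 : Algebra.TensorProduct.map (IsScalarTower.toAlgHom k T J.ResidueField)
        (AlgHom.id k Ω) x = 0 := (hx.map _).eq_zero
    have h1 := basis_repr_map ℬ (IsScalarTower.toAlgHom k T J.ResidueField) x i
    rw [h0, map_zero, Finsupp.zero_apply] at h1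
    exact (Ideal.algebraMap_residueField_eq_zero).mp h1.symm
  exact (Algebra.TensorProduct.basis T ℬ).repr.injective (Finsupp.ext fun i => by simp [hcoord i])

/-- Over an algebraically closed field, the tensor product of a reduced algebra and a domain
is reduced. -/
theorem isReduced_tensor_of_isAlgClosed {k T Ω : Type*} [Field k] [IsAlgClosed k] [CommRing T]
    [IsReduced T] [Algebra k T] [CommRing Ω] [IsDomain Ω] [Algebra k Ω] :
    IsReduced (T ⊗[k] Ω) := by
  apply isReduced_tensor_of_fibers
  intro p
  have : IsDomain (p.asIdeal.ResidueField ⊗[k] Ω) := isDomain_tensorProduct_of_isAlgClosed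
  infer_instance

/-- The tensor product of a reduced algebra over a field with a formally unramified algebra
of finite type is reduced. -/
theorem isReduced_tensor_of_formallyUnramified {k T B : Type*} [Field k] [CommRing T]
    [IsReduced T] [Algebra k T] [CommRing B] [Algebra k B] [Algebra.FormallyUnramified k B]
    [Algebra.FiniteType k B] :
    IsReduced (T ⊗[k] B) := by
  apply isReduced_tensor_of_fibers
  intro p
  exact Algebra.FormallyUnramified.isReduced_of_field p.asIdeal.ResidueField _


/-- The tensor product of a reduced algebra over a field with a separable algebraic field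
extension is reduced. -/
theorem isReduced_tensor_of_isSeparable {k T L : Type*} [Field k] [CommRing T]
    [IsReduced T] [Algebra k T] [Field L] [Algebra k L] [Algebra.IsSeparable k L] :
    IsReduced (T ⊗[k] L) := by
  apply IsReduced.tensorProduct_of_flat_of_forall_fg
  intro B hB
  have hBf : IsField B := Subalgebra.isField_of_algebraic B
  letI : Field B := hBf.toField
  have : Algebra.IsSeparable k B := Algebra.isSeparable_tower_bot_of_isSeparable k B L
  have : Algebra.FormallyUnramified k B := Algebra.FormallyUnramified.of_isSeparable k B
  have : Algebra.FiniteType k B := (Subalgebra.fg_iff_finiteType B).mp hB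
  exact isReduced_tensor_of_formallyUnramified


/-- A geometrically reduced algebra over a field stays reduced after any field extension. -/
theorem isReduced_tensor_of_isGeometricallyReduced {k S K : Type*} [Field k] [CommRing S]
    [Algebra k S] [Algebra.IsGeometricallyReduced k S] [Field K] [Algebra k K] :
    IsReduced (K ⊗[k] S) := by
  let Ω := AlgebraicClosure K
  letI : Algebra (AlgebraicClosure k) Ω :=
    (IsAlgClosed.lift : AlgebraicClosure k →ₐ[k] Ω).toRingHom.toAlgebra
  haveI : IsScalarTower k (AlgebraicClosure k) Ω :=
    IsScalarTower.of_algebraMap_eq fun c =>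
      ((IsAlgClosed.lift : AlgebraicClosure k →ₐ[k] Ω).commutes c).symm
  have h0 : IsReduced (AlgebraicClosure k ⊗[k] S) :=
    (Algebra.isGeometricallyReduced_field_iff k S).mp inferInstance
  have h1 : IsReduced ((AlgebraicClosure k ⊗[k] S) ⊗[AlgebraicClosure k] Ω) :=
    isReduced_tensor_of_isAlgClosed
  have h1' : IsReduced (Ω ⊗[AlgebraicClosure k] (AlgebraicClosure k ⊗[k] S)) :=
    isReduced_of_injective
      (Algebra.TensorProduct.comm (AlgebraicClosure k) Ω (AlgebraicClosure k ⊗[k] S))
      (Algebra.TensorProduct.comm (AlgebraicClosure k) Ω (AlgebraicClosure k ⊗[k] S)).injective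
  have h2 : IsReduced (Ω ⊗[k] S) :=
    isReduced_of_injective
      (Algebra.TensorProduct.cancelBaseChange k (AlgebraicClosure k) (AlgebraicClosure k) Ω S).symm
      (Algebra.TensorProduct.cancelBaseChange k (AlgebraicClosure k) (AlgebraicClosure k) Ω S).symm.injective
  have hinj : Function.Injective (Algebra.TensorProduct.map (IsScalarTower.toAlgHom k K Ω)
      (AlgHom.id k S)) := by
    have := Module.Flat.rTensor_preserves_injective_linearMap (M := S)
      (IsScalarTower.toAlgHom k K Ω).toLinearMap (algebraMap K Ω).injective
    intro a b hab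
    exact this hab
  exact isReduced_of_injective
    (Algebra.TensorProduct.map (IsScalarTower.toAlgHom k K Ω) (AlgHom.id k S)) hinj

/-- Reducedness of `P ⊗[k] S` passes to `K ⊗[k] S` for a separable algebraic extension `K/P`. -/
theorem isReduced_tensor_of_isSeparable_tower {k P K S : Type*} [Field k] [Field P] [Field K]
    [Algebra k P] [Algebra P K] [Algebra k K] [IsScalarTower k P K] [Algebra.IsSeparable P K]
    [CommRing S] [Algebra k S] (h : IsReduced (P ⊗[k] S)) : IsReduced (K ⊗[k] S) := by
  have h1 : IsReduced ((P ⊗[k] S) ⊗[P] K) := isReduced_tensor_of_isSeparable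
  have h1' : IsReduced (K ⊗[P] (P ⊗[k] S)) :=
    isReduced_of_injective (Algebra.TensorProduct.comm P K (P ⊗[k] S))
      (Algebra.TensorProduct.comm P K (P ⊗[k] S)).injective
  exact isReduced_of_injective
      (Algebra.TensorProduct.cancelBaseChange k P P K S).symm
      (Algebra.TensorProduct.cancelBaseChange k P P K S).symm.injective

/-- If `k' ⊗[k] S` is reduced for all finite purely inseparable extensions `k'/k`, then `S`
is geometrically reduced. -/
theorem isGeometricallyReduced_of_forall_finite_isPurelyInseparable {k S : Type u} [Field k]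
    [CommRing S] [Algebra k S]
    (h : ∀ (k' : Type u) [Field k'] [Algebra k k'] [Module.Finite k k']
      [IsPurelyInseparable k k'], IsReduced (k' ⊗[k] S)) :
    Algebra.IsGeometricallyReduced k S := by
  rw [Algebra.isGeometricallyReduced_field_iff]
  have hP' : IsReduced (S ⊗[k] perfectClosure k (AlgebraicClosure k)) := by
    apply IsReduced.tensorProduct_of_flat_of_forall_fg
    intro B hB
    have hBf : IsField B := Subalgebra.isField_of_algebraic B
    letI : Field B := hBf.toField
    have : Algebra.FiniteType k B := (Subalgebra.fg_iff_finiteType B).mp hB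
    have : Algebra.IsIntegral k B := Algebra.IsIntegral.of_injective B.val Subtype.val_injective
    have : Module.Finite k B := Algebra.IsIntegral.finite
    have : IsPurelyInseparable k B :=
      IsPurelyInseparable.tower_bot k B (perfectClosure k (AlgebraicClosure k))
    have := h B
    exact isReduced_of_injective (Algebra.TensorProduct.comm k S B)
      (Algebra.TensorProduct.comm k S B).injective
  have hP : IsReduced ((perfectClosure k (AlgebraicClosure k)) ⊗[k] S) :=
    isReduced_of_injective (Algebra.TensorProduct.comm k (perfectClosure k (AlgebraicClosure k)) S)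
      (Algebra.TensorProduct.comm k (perfectClosure k (AlgebraicClosure k)) S).injective
  have : PerfectField (perfectClosure k (AlgebraicClosure k)) :=
    perfectClosure.perfectField k (AlgebraicClosure k)
  have : Algebra.IsSeparable (perfectClosure k (AlgebraicClosure k)) (AlgebraicClosure k) :=
    Algebra.IsAlgebraic.isSeparable_of_perfectField
  exact isReduced_tensor_of_isSeparable_tower hP

end Groth.Agent.Lib.Helper50
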