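import Mathlib.RingTheory.Spectrum.Prime.Topology
import Mathlib.Topology.Connected.Clopen

/-!
# Connectedness of `Spec R` in terms of idempotents
-/

open Set Topology

namespace Groth.Agent.Lib.Helper50

variable {R S : Type*} [CommRing R] [CommRing S]

/-- `Spec R` is preconnected iff `R` has only the trivial idempotents. -/
theorem preconnectedSpace_primeSpectrum_iff :
    PreconnectedSpace (PrimeSpectrum R) ↔ ∀ e : R, IsIdempotentElem e → e = 0 ∨ e = 1 := by
  rw [preconnectedSpace_iff_clopen]
  constructor
  · intro h e he
    have hcl : IsClopen (PrimeSpectrum.basicOpen e : Set (PrimeSpectrum R)) :=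
      PrimeSpectrum.isClopen_iff.mpr ⟨e, he, rfl⟩
    rcases h _ hcl with h0 | h1
    · left
      apply PrimeSpectrum.basicOpen_injOn_isIdempotentElem he IsIdempotentElem.zero
      apply TopologicalSpace.Opens.ext
      rw [h0]
      simp
    · right
      apply PrimeSpectrum.basicOpen_injOn_isIdempotentElem he IsIdempotentElem.one
      apply TopologicalSpace.Opens.ext
      rw [h1]
      simp
  · intro h s hs
    obtain ⟨e, he, rfl⟩ := PrimeSpectrum.isClopen_iff.mp hs
    rcases h e he with rfl | rfl
    · left; simp
    · right; simp

/-- `Spec R` is connected iff `R` is nontrivial and has only the trivial idempotents. -/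
theorem connectedSpace_primeSpectrum_iff :
    ConnectedSpace (PrimeSpectrum R) ↔
      Nontrivial R ∧ ∀ e : R, IsIdempotentElem e → e = 0 ∨ e = 1 := by
  rw [connectedSpace_iff_univ, IsConnected, ← preconnectedSpace_iff_univ,
    preconnectedSpace_primeSpectrum_iff, ← Set.nonempty_iff_univ_nonempty,
    PrimeSpectrum.nonempty_iff_nontrivial]

/-- A subring of a ring with connected spectrum has connected spectrum. -/
theorem connectedSpace_primeSpectrum_of_injective (f : R →+* S) (hf : Function.Injective f)
    [ConnectedSpace (PrimeSpectrum S)] : ConnectedSpace (PrimeSpectrum R) := by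
  have hS := connectedSpace_primeSpectrum_iff.mp (inferInstance : ConnectedSpace (PrimeSpectrum S))
  rw [connectedSpace_primeSpectrum_iff]
  haveI := hS.1
  refine ⟨f.domain_nontrivial, ?_⟩
  intro e he
  rcases hS.2 (f e) (he.map f) with h | h
  · left; apply hf; rw [h, map_zero]
  · right; apply hf; rw [h, map_one]

/-- A subring of a ring with irreducible spectrum has irreducible spectrum. -/
theorem irreducibleSpace_primeSpectrum_of_injective (f : R →+* S) (hf : Function.Injective f)
    [IrreducibleSpace (PrimeSpectrum S)] : IrreducibleSpace (PrimeSpectrum R) := by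
  have hS := PrimeSpectrum.irreducibleSpace_iff_isPrime_nilradical.mp
    (inferInstance : IrreducibleSpace (PrimeSpectrum S))
  rw [PrimeSpectrum.irreducibleSpace_iff_isPrime_nilradical]
  have : nilradical R = (nilradical S).comap f := by
    ext x
    rw [Ideal.mem_comap, mem_nilradical, mem_nilradical]
    exact (IsNilpotent.map_iff hf).symm
  rw [this]
  exact Ideal.IsPrime.comap f

end Groth.Agent.Lib.Helper50
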