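import Mathlib
import Groth.Agent.Lib.Helper50.SpecConnected
import Groth.Agent.Lib.Helper50.TensorDomain

/-!
# Connectedness of spectra of tensor products over fields
-/

universe u

namespace Groth.Agent.Lib.Helper50

open TensorProduct

/-- If `Spec R` is connected and all fibres `Spec (κ(p) ⊗[k] S)` of `Spec (R ⊗[k] S) → Spec R`
are connected, then `Spec (R ⊗[k] S)` is connected. -/
theorem connectedSpace_tensor_of_fibers {k R S : Type*} [Field k] [CommRing R] [CommRing S]
    [Algebra k R] [Algebra k S] [ConnectedSpace (PrimeSpectrum R)]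
    (h : ∀ p : PrimeSpectrum R, ConnectedSpace (PrimeSpectrum (p.asIdeal.ResidueField ⊗[k] S))) :
    ConnectedSpace (PrimeSpectrum (R ⊗[k] S)) := by
  classical
  have hopen : IsOpenMap (PrimeSpectrum.comap (algebraMap R (R ⊗[k] S))) :=
    PrimeSpectrum.isOpenMap_comap_algebraMap_tensorProduct_of_field
  have hfibconn : ∀ p : PrimeSpectrum R,
      IsConnected (PrimeSpectrum.comap (algebraMap R (R ⊗[k] S)) ⁻¹' {p}) := by
    intro p
    haveI := h p
    let e : p.asIdeal.ResidueField ⊗[R] (R ⊗[k] S) ≃ₐ[R] p.asIdeal.ResidueField ⊗[k] S :=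
      Algebra.TensorProduct.cancelBaseChange k R R p.asIdeal.ResidueField S
    haveI : ConnectedSpace (PrimeSpectrum (p.asIdeal.Fiber (R ⊗[k] S))) :=
      connectedSpace_primeSpectrum_of_injective
        (R := p.asIdeal.ResidueField ⊗[R] (R ⊗[k] S)) (S := p.asIdeal.ResidueField ⊗[k] S)
        e.toRingEquiv.toRingHom e.toRingEquiv.injective
    let h := PrimeSpectrum.preimageHomeomorphFiber R (R ⊗[k] S) p
    haveI : ConnectedSpace (PrimeSpectrum.comap (algebraMap R (R ⊗[k] S)) ⁻¹' {p}) :=
      h.symm.surjective.connectedSpace h.symm.continuous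
    exact isConnected_iff_connectedSpace.mpr inferInstance
  have hsurj : Function.Surjective (PrimeSpectrum.comap (algebraMap R (R ⊗[k] S))) := by
    intro p
    obtain ⟨P, hP⟩ := (hfibconn p).nonempty
    exact ⟨P, hP⟩
  have hq : Topology.IsQuotientMap (PrimeSpectrum.comap (algebraMap R (R ⊗[k] S))) :=
    hopen.isQuotientMap (PrimeSpectrum.continuous_comap _) hsurj
  obtain ⟨p⟩ := (inferInstance : Nonempty (PrimeSpectrum R))
  obtain ⟨P, hP⟩ := hsurj p
  haveI : Nonempty (PrimeSpectrum (R ⊗[k] S)) := ⟨P⟩
  have hpre : PreconnectedSpace (PrimeSpectrum (R ⊗[k] S)) := by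
    refine ⟨?_⟩
    have := hq.isCoinducing.isConnected_preimage_of_isClosed hfibconn isClosed_univ
      (isConnected_univ)
    simpa using this.isPreconnected
  exact { hpre with toNonempty := ⟨P⟩ }


/-- Over an algebraically closed field, connectedness of the spectrum is preserved by extension
of the base field. -/
theorem connectedSpace_tensor_of_isAlgClosed {k Ω A : Type*} [Field k] [IsAlgClosed k]
    [Field Ω] [Algebra k Ω] [CommRing A]
    [Algebra k A] [hA : ConnectedSpace (PrimeSpectrum A)] :
    ConnectedSpace (PrimeSpectrum (Ω ⊗[k] A)) := by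
  have h1 : ConnectedSpace (PrimeSpectrum (A ⊗[k] Ω)) := by
    apply connectedSpace_tensor_of_fibers
    intro p
    have : IsDomain (p.asIdeal.ResidueField ⊗[k] Ω) := isDomain_tensorProduct_of_isAlgClosed
    have : IrreducibleSpace (PrimeSpectrum (p.asIdeal.ResidueField ⊗[k] Ω)) :=
      PrimeSpectrum.irreducibleSpace
    exact IrreducibleSpace.connectedSpace _
  exact connectedSpace_primeSpectrum_of_injective
    (Algebra.TensorProduct.comm k Ω A).toRingEquiv.toRingHom
    (Algebra.TensorProduct.comm k Ω A).injective

/-- Over a separably closed field, connectedness of the spectrum is preserved by extension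
of the base field. -/
theorem connectedSpace_tensor_field_of_isSepClosed {k : Type u} [Field k] [IsSepClosed k]
    {k' : Type u} [Field k'] [Algebra k k'] {R : Type*} [CommRing R]
    [Algebra k R] [hR : ConnectedSpace (PrimeSpectrum R)] :
    ConnectedSpace (PrimeSpectrum (k' ⊗[k] R)) := by
  let Ω := AlgebraicClosure k'
  letI : Algebra (AlgebraicClosure k) Ω :=
    (IsAlgClosed.lift : AlgebraicClosure k →ₐ[k] Ω).toRingHom.toAlgebra
  haveI : IsScalarTower k (AlgebraicClosure k) Ω :=
    IsScalarTower.of_algebraMap_eq fun c =>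
      ((IsAlgClosed.lift : AlgebraicClosure k →ₐ[k] Ω).commutes c).symm
  have h0 : ConnectedSpace (PrimeSpectrum (k ⊗[k] R)) :=
    connectedSpace_primeSpectrum_of_injective
      (Algebra.TensorProduct.lid k R).toRingEquiv.toRingHom
      (Algebra.TensorProduct.lid k R).injective
  have hh := PrimeSpectrum.isHomeomorph_comap_tensorProductMap_of_isPurelyInseparable
    k k R (AlgebraicClosure k)
  have h1' : ConnectedSpace (PrimeSpectrum (AlgebraicClosure k ⊗[k] R)) :=
    (hh.homeomorph _).symm.surjective.connectedSpace (hh.homeomorph _).symm.continuous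
  have h1 : ConnectedSpace (PrimeSpectrum (Ω ⊗[AlgebraicClosure k] (AlgebraicClosure k ⊗[k] R))) :=
    connectedSpace_tensor_of_isAlgClosed
  have h2 : ConnectedSpace (PrimeSpectrum (Ω ⊗[k] R)) :=
    connectedSpace_primeSpectrum_of_injective
      (Algebra.TensorProduct.cancelBaseChange k (AlgebraicClosure k) (AlgebraicClosure k) Ω R).symm.toRingEquiv.toRingHom
      (Algebra.TensorProduct.cancelBaseChange k (AlgebraicClosure k) (AlgebraicClosure k) Ω R).symm.injective
  have hinj : Function.Injective (Algebra.TensorProduct.map (IsScalarTower.toAlgHom k k' Ω)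
      (AlgHom.id k R)) := by
    have := Module.Flat.rTensor_preserves_injective_linearMap (M := R)
      (IsScalarTower.toAlgHom k k' Ω).toLinearMap (algebraMap k' Ω).injective
    intro a b hab
    exact this hab
  exact connectedSpace_primeSpectrum_of_injective
    (Algebra.TensorProduct.map (IsScalarTower.toAlgHom k k' Ω) (AlgHom.id k R)).toRingHom hinj

/-- Over a separably closed field, the tensor product of two algebras with connected spectra
has connected spectrum. -/
theorem connectedSpace_tensor_of_isSepClosed {k : Type u} [Field k] [IsSepClosed k]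
    {R S : Type u} [CommRing R] [CommRing S] [Algebra k R] [Algebra k S]
    [ConnectedSpace (PrimeSpectrum R)] [ConnectedSpace (PrimeSpectrum S)] :
    ConnectedSpace (PrimeSpectrum (R ⊗[k] S)) :=
  connectedSpace_tensor_of_fibers fun _ => connectedSpace_tensor_field_of_isSepClosed

end Groth.Agent.Lib.Helper50
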