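import Mathlib
import Groth.Agent.Lib.Helper50.SpecConnected
import Groth.Agent.Lib.Helper50.TensorDomain

/-!
# Irreducibility of spectra of tensor products over separably closed fields
-/

universe u

namespace Groth.Agent.Lib.Helper50

open TensorProduct

/-- If the kernel of `f : A → B` consists of nilpotent elements and `Spec B` is irreducible,
then `Spec A` is irreducible. -/
theorem irreducibleSpace_primeSpectrum_of_ker_nilpotent {A B : Type*} [CommRing A] [CommRing B]
    (f : A →+* B) (hf : ∀ x, f x = 0 → IsNilpotent x)
    [hB : IrreducibleSpace (PrimeSpectrum B)] : IrreducibleSpace (PrimeSpectrum A) := by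
  rw [PrimeSpectrum.irreducibleSpace_iff_isPrime_nilradical] at hB ⊢
  have : nilradical A = (nilradical B).comap f := by
    ext x
    rw [Ideal.mem_comap, mem_nilradical, mem_nilradical]
    constructor
    · intro hx
      exact hx.map f
    · rintro ⟨n, hn⟩
      rw [← map_pow] at hn
      obtain ⟨m, hm⟩ := hf _ hn
      exact ⟨n * m, by rw [pow_mul, hm]⟩
  rw [this]
  exact Ideal.comap_isPrime f _

/-- The kernel of `R ⊗ S → (R/nil) ⊗ (S/nil)` consists of nilpotent elements. -/
theorem isNilpotent_of_map_mk_nilradical_eq_zero {k R S : Type*} [CommRing k] [CommRing R]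
    [CommRing S] [Algebra k R] [Algebra k S] (x : R ⊗[k] S)
    (hx : Algebra.TensorProduct.map (Ideal.Quotient.mkₐ k (nilradical R))
      (Ideal.Quotient.mkₐ k (nilradical S)) x = 0) : IsNilpotent x := by
  have hker := Algebra.TensorProduct.map_ker (Ideal.Quotient.mkₐ k (nilradical R))
    (Ideal.Quotient.mkₐ k (nilradical S)) (Ideal.Quotient.mkₐ_surjective k _)
    (Ideal.Quotient.mkₐ_surjective k _)
  have hx' : x ∈ RingHom.ker (Algebra.TensorProduct.map (Ideal.Quotient.mkₐ k (nilradical R))
      (Ideal.Quotient.mkₐ k (nilradical S))) := hx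
  rw [hker] at hx'
  have hle : (RingHom.ker (Ideal.Quotient.mkₐ k (nilradical R))).map
      (Algebra.TensorProduct.includeLeft : R →ₐ[k] R ⊗[k] S) ⊔
      (RingHom.ker (Ideal.Quotient.mkₐ k (nilradical S))).map
      (Algebra.TensorProduct.includeRight : S →ₐ[k] R ⊗[k] S) ≤ nilradical (R ⊗[k] S) := by
    refine sup_le ?_ ?_
    · rw [Ideal.map_le_iff_le_comap]
      intro r hr
      have hr' : Ideal.Quotient.mkₐ k (nilradical R) r = 0 := hr
      rw [Ideal.Quotient.mkₐ_eq_mk, Ideal.Quotient.eq_zero_iff_mem] at hr'
      exact (mem_nilradical.mp hr').map _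
    · rw [Ideal.map_le_iff_le_comap]
      intro r hr
      have hr' : Ideal.Quotient.mkₐ k (nilradical S) r = 0 := hr
      rw [Ideal.Quotient.mkₐ_eq_mk, Ideal.Quotient.eq_zero_iff_mem] at hr'
      exact (mem_nilradical.mp hr').map _
  exact mem_nilradical.mp (hle hx')

/-- Over an algebraically closed field, the tensor product of two algebras with irreducible
spectra has irreducible spectrum. -/
theorem irreducibleSpace_tensor_tensor_of_isAlgClosed {k R S : Type*} [Field k] [IsAlgClosed k]
    [CommRing R] [CommRing S] [Algebra k R] [Algebra k S]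
    [hR : IrreducibleSpace (PrimeSpectrum R)] [hS : IrreducibleSpace (PrimeSpectrum S)] :
    IrreducibleSpace (PrimeSpectrum (R ⊗[k] S)) := by
  have hNR : (nilradical R).IsPrime := PrimeSpectrum.irreducibleSpace_iff_isPrime_nilradical.mp hR
  have hNS : (nilradical S).IsPrime := PrimeSpectrum.irreducibleSpace_iff_isPrime_nilradical.mp hS
  have hdom : IsDomain ((R ⧸ nilradical R) ⊗[k] (S ⧸ nilradical S)) :=
    isDomain_tensorProduct_of_isAlgClosed
  exact irreducibleSpace_primeSpectrum_of_ker_nilpotent
    (Algebra.TensorProduct.map (Ideal.Quotient.mkₐ k (nilradical R))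
      (Ideal.Quotient.mkₐ k (nilradical S))).toRingHom
    (fun x hx => isNilpotent_of_map_mk_nilradical_eq_zero x hx)

/-- Over a separably closed field, passing to the algebraic closure preserves irreducibility
of the spectrum. -/
theorem irreducibleSpace_algebraicClosure_tensor_of_isSepClosed {k T : Type*} [Field k]
    [IsSepClosed k] [CommRing T] [Algebra k T] [hT : IrreducibleSpace (PrimeSpectrum T)] :
    IrreducibleSpace (PrimeSpectrum (AlgebraicClosure k ⊗[k] T)) := by
  have h0 : IrreducibleSpace (PrimeSpectrum (k ⊗[k] T)) :=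
    irreducibleSpace_primeSpectrum_of_injective
      (Algebra.TensorProduct.lid k T).toRingEquiv.toRingHom
      (Algebra.TensorProduct.lid k T).injective
  have hh := PrimeSpectrum.isHomeomorph_comap_tensorProductMap_of_isPurelyInseparable
    k k T (AlgebraicClosure k)
  exact (hh.homeomorph _).irreducibleSpace_iff.mpr h0

/-- Over a separably closed field, the tensor product of two algebras with irreducible
spectra has irreducible spectrum. -/
theorem irreducibleSpace_tensor_tensor_of_isSepClosed {k R S : Type*} [Field k] [IsSepClosed k]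
    [CommRing R] [CommRing S] [Algebra k R] [Algebra k S]
    [hR : IrreducibleSpace (PrimeSpectrum R)] [hS : IrreducibleSpace (PrimeSpectrum S)] :
    IrreducibleSpace (PrimeSpectrum (R ⊗[k] S)) := by
  have hR' : IrreducibleSpace (PrimeSpectrum (AlgebraicClosure k ⊗[k] R)) :=
    irreducibleSpace_algebraicClosure_tensor_of_isSepClosed
  have hS' : IrreducibleSpace (PrimeSpectrum (AlgebraicClosure k ⊗[k] S)) :=
    irreducibleSpace_algebraicClosure_tensor_of_isSepClosed
  have h1 : IrreducibleSpace (PrimeSpectrum
      ((AlgebraicClosure k ⊗[k] R) ⊗[AlgebraicClosure k] (AlgebraicClosure k ⊗[k] S))) :=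
    irreducibleSpace_tensor_tensor_of_isAlgClosed
  have h2 : IrreducibleSpace (PrimeSpectrum ((AlgebraicClosure k ⊗[k] R) ⊗[k] S)) :=
    irreducibleSpace_primeSpectrum_of_injective
      (Algebra.TensorProduct.cancelBaseChange k (AlgebraicClosure k) (AlgebraicClosure k)
        (AlgebraicClosure k ⊗[k] R) S).symm.toRingEquiv.toRingHom
      (Algebra.TensorProduct.cancelBaseChange k (AlgebraicClosure k) (AlgebraicClosure k)
        (AlgebraicClosure k ⊗[k] R) S).symm.injective
  have hinj : Function.Injective (Algebra.TensorProduct.map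
      (Algebra.TensorProduct.includeRight : R →ₐ[k] AlgebraicClosure k ⊗[k] R)
      (AlgHom.id k S)) := by
    have := Module.Flat.rTensor_preserves_injective_linearMap (M := S)
      (Algebra.TensorProduct.includeRight : R →ₐ[k] AlgebraicClosure k ⊗[k] R).toLinearMap
      (Algebra.TensorProduct.includeRight_injective (algebraMap k (AlgebraicClosure k)).injective)
    intro a b hab
    exact this hab
  exact irreducibleSpace_primeSpectrum_of_injective
    (Algebra.TensorProduct.map
      (Algebra.TensorProduct.includeRight : R →ₐ[k] AlgebraicClosure k ⊗[k] R)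
      (AlgHom.id k S)).toRingHom hinj

/-- A ring has a unique minimal prime iff its spectrum is irreducible. -/
theorem existsUnique_mem_minimalPrimes_iff {A : Type*} [CommRing A] :
    (∃! 𝔭 : Ideal A, 𝔭 ∈ minimalPrimes A) ↔ IrreducibleSpace (PrimeSpectrum A) := by
  rw [PrimeSpectrum.irreducibleSpace_iff_isPrime_nilradical]
  constructor
  · rintro ⟨p, hp, huniq⟩
    have : nilradical A = p := by
      rw [nilradical, ← Ideal.sInf_minimalPrimes]
      have : (0 : Ideal A).minimalPrimes = {p} := by
        ext q
        constructor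
        · intro hq
          exact huniq q hq
        · rintro rfl
          exact hp
      rw [this, sInf_singleton]
    rw [this]
    exact hp.1.1
  · intro h
    have hmin : nilradical A ∈ minimalPrimes A := by
      refine ⟨⟨h, bot_le⟩, ?_⟩
      rintro q ⟨hq, _⟩ _
      exact nilradical_le_prime q
    refine ⟨nilradical A, hmin, ?_⟩
    intro q hq
    have hqp : q.IsPrime := hq.1.1
    exact le_antisymm (hq.2 ⟨h, bot_le⟩ (nilradical_le_prime q)) (nilradical_le_prime q)

end Groth.Agent.Lib.Helper50
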