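import Mathlib
import Groth.Prelude
import Groth.Agent.Lib.Helper50.GeomConn
import Groth.Agent.Lib.Helper50.IrredTensor

/-!
# Scheme-level consequences of the tensor-product lemmas (helper50)

* `geometricallyConnected_specMap_of_isSepClosed`, `geometricallyIrreducible_specMap_of_isSepClosed`:
  for `k` separably closed and `K/k` any field extension, `Spec K ⟶ Spec k` is geometrically
  connected / geometrically irreducible.
-/

open CategoryTheory AlgebraicGeometry Limits TensorProduct

namespace Groth.Agent.Lib.Helper50

universe u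

theorem geometricallyConnected_specMap_of_isSepClosed (k K : Type u) [Field k] [IsSepClosed k]
    [Field K] [Algebra k K] :
    GeometricallyConnected (Spec.map (CommRingCat.ofHom (algebraMap k K))) := by
  refine ⟨geometrically_iff_of_commRing_of_isClosedUnderIsomorphisms.mpr fun L _ _ => ?_⟩
  have h : ConnectedSpace (PrimeSpectrum (K ⊗[k] L)) :=
    connectedSpace_tensor_field_of_isSepClosed
  have h' : ConnectedSpace (Spec (CommRingCat.of (K ⊗[k] L))) := h
  exact ((pullbackSpecIso k K L).hom.homeomorph.connectedSpace_iff).mpr h'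

theorem geometricallyIrreducible_specMap_of_isSepClosed (k K : Type u) [Field k] [IsSepClosed k]
    [Field K] [Algebra k K] :
    GeometricallyIrreducible (Spec.map (CommRingCat.ofHom (algebraMap k K))) := by
  refine ⟨geometrically_iff_of_commRing_of_isClosedUnderIsomorphisms.mpr fun L _ _ => ?_⟩
  have h : IrreducibleSpace (PrimeSpectrum (K ⊗[k] L)) :=
    irreducibleSpace_tensor_tensor_of_isSepClosed
  have h' : IrreducibleSpace (Spec (CommRingCat.of (K ⊗[k] L))) := h
  exact ((pullbackSpecIso k K L).hom.homeomorph.irreducibleSpace_iff).mpr h'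


instance subsingleton_spec_field (K : Type u) [Field K] : Subsingleton ↥(Spec (CommRingCat.of K)) :=
  inferInstanceAs (Subsingleton (PrimeSpectrum K))

theorem surjective_specMap_field {K L : Type u} [Field K] [Field L] (d : K →+* L) :
    Surjective (Spec.map (CommRingCat.ofHom d)) :=
  ⟨fun x => ⟨(⊥ : PrimeSpectrum L), Subsingleton.elim _ _⟩⟩

/-- Transfer of connectedness of base changes along a commutative square of fields
`k → ks → Ω`, `k → K → Ω` with `ks` separably closed. -/
theorem connectedSpace_pullback_of_square {X : Scheme.{u}} {k ks K Ω : Type u} [Field k]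
    [Field ks] [Field K] [Field Ω] [IsSepClosed ks] (f : X ⟶ Spec (CommRingCat.of k))
    (a : k →+* ks) (b : ks →+* Ω) (c : k →+* K) (d : K →+* Ω) (h : b.comp a = d.comp c)
    [hconn : ConnectedSpace ↥(pullback f (Spec.map (CommRingCat.ofHom a)))] :
    ConnectedSpace ↥(pullback f (Spec.map (CommRingCat.ofHom c))) := by
  letI := b.toAlgebra
  have hb : GeometricallyConnected (Spec.map (CommRingCat.ofHom b)) :=
    geometricallyConnected_specMap_of_isSepClosed ks Ω
  have h1 : ConnectedSpace ↥(pullback (pullback.snd f (Spec.map (CommRingCat.ofHom a)))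
      (Spec.map (CommRingCat.ofHom b))) := inferInstance
  have h2 : ConnectedSpace ↥(pullback f
      (Spec.map (CommRingCat.ofHom b) ≫ Spec.map (CommRingCat.ofHom a))) :=
    ((pullbackLeftPullbackSndIso f (Spec.map (CommRingCat.ofHom a))
      (Spec.map (CommRingCat.ofHom b))).hom.homeomorph.connectedSpace_iff).mp h1
  have e : Spec.map (CommRingCat.ofHom b) ≫ Spec.map (CommRingCat.ofHom a) =
      Spec.map (CommRingCat.ofHom d) ≫ Spec.map (CommRingCat.ofHom c) := by
    rw [← Spec.map_comp, ← Spec.map_comp, ← CommRingCat.ofHom_comp, ← CommRingCat.ofHom_comp, h]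
  rw [e] at h2
  have h3 : ConnectedSpace ↥(pullback (pullback.snd f (Spec.map (CommRingCat.ofHom c)))
      (Spec.map (CommRingCat.ofHom d))) :=
    ((pullbackLeftPullbackSndIso f (Spec.map (CommRingCat.ofHom c))
      (Spec.map (CommRingCat.ofHom d))).hom.homeomorph.connectedSpace_iff).mpr h2
  have hd : Surjective (Spec.map (CommRingCat.ofHom d)) := surjective_specMap_field d
  have hs : Surjective (pullback.fst (pullback.snd f (Spec.map (CommRingCat.ofHom c)))
      (Spec.map (CommRingCat.ofHom d))) := inferInstance
  exact hs.surj.connectedSpace (Scheme.Hom.continuous _)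

/-- Same for irreducibility. -/
theorem irreducibleSpace_pullback_of_square {X : Scheme.{u}} {k ks K Ω : Type u} [Field k]
    [Field ks] [Field K] [Field Ω] [IsSepClosed ks] (f : X ⟶ Spec (CommRingCat.of k))
    (a : k →+* ks) (b : ks →+* Ω) (c : k →+* K) (d : K →+* Ω) (h : b.comp a = d.comp c)
    [hconn : IrreducibleSpace ↥(pullback f (Spec.map (CommRingCat.ofHom a)))] :
    IrreducibleSpace ↥(pullback f (Spec.map (CommRingCat.ofHom c))) := by
  letI := b.toAlgebra
  have hb : GeometricallyIrreducible (Spec.map (CommRingCat.ofHom b)) :=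
    geometricallyIrreducible_specMap_of_isSepClosed ks Ω
  have h1 : IrreducibleSpace ↥(pullback (pullback.snd f (Spec.map (CommRingCat.ofHom a)))
      (Spec.map (CommRingCat.ofHom b))) := inferInstance
  have h2 : IrreducibleSpace ↥(pullback f
      (Spec.map (CommRingCat.ofHom b) ≫ Spec.map (CommRingCat.ofHom a))) :=
    ((pullbackLeftPullbackSndIso f (Spec.map (CommRingCat.ofHom a))
      (Spec.map (CommRingCat.ofHom b))).hom.homeomorph.irreducibleSpace_iff).mp h1
  have e : Spec.map (CommRingCat.ofHom b) ≫ Spec.map (CommRingCat.ofHom a) =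
      Spec.map (CommRingCat.ofHom d) ≫ Spec.map (CommRingCat.ofHom c) := by
    rw [← Spec.map_comp, ← Spec.map_comp, ← CommRingCat.ofHom_comp, ← CommRingCat.ofHom_comp, h]
  rw [e] at h2
  have h3 : IrreducibleSpace ↥(pullback (pullback.snd f (Spec.map (CommRingCat.ofHom c)))
      (Spec.map (CommRingCat.ofHom d))) :=
    ((pullbackLeftPullbackSndIso f (Spec.map (CommRingCat.ofHom c))
      (Spec.map (CommRingCat.ofHom d))).hom.homeomorph.irreducibleSpace_iff).mpr h2
  have hd : Surjective (Spec.map (CommRingCat.ofHom d)) := surjective_specMap_field d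
  have hs : Surjective (pullback.fst (pullback.snd f (Spec.map (CommRingCat.ofHom c)))
      (Spec.map (CommRingCat.ofHom d))) := inferInstance
  exact hs.surj.irreducibleSpace (Scheme.Hom.continuous _)

end Groth.Agent.Lib.Helper50
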