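import Mathlib
import Groth.Prelude
import Groth.Agent.Lib.Helper50.GeomScheme

/-!
# Comparison morphisms between base changes to field extensions (helper50)
-/

open CategoryTheory AlgebraicGeometry Limits TensorProduct MorphismProperty

namespace Groth.Agent.Lib.Helper50

universe u

/-- Two field extensions of `k` embed compatibly into a common field. -/
theorem exists_field_compositum (k K Ω : Type u) [Field k] [Field K] [Field Ω] [Algebra k K]
    [Algebra k Ω] :
    ∃ (L : Type u) (_ : Field L) (a : K →+* L) (b : Ω →+* L),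
      a.comp (algebraMap k K) = b.comp (algebraMap k Ω) := by
  obtain ⟨m, hm⟩ := Ideal.exists_maximal (K ⊗[k] Ω)
  letI := Ideal.Quotient.field m
  refine ⟨(K ⊗[k] Ω) ⧸ m, inferInstance,
    (Ideal.Quotient.mk m).comp (Algebra.TensorProduct.includeLeft : K →ₐ[k] K ⊗[k] Ω).toRingHom,
    (Ideal.Quotient.mk m).comp (Algebra.TensorProduct.includeRight : Ω →ₐ[k] K ⊗[k] Ω).toRingHom,
    ?_⟩
  ext x
  simp only [RingHom.comp_apply, AlgHom.toRingHom_eq_coe, RingHom.coe_coe, AlgHom.commutes]

/-- For field maps `c : k → K`, `d : K → L` and `e = d ∘ c`, the canonical morphism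
`X_L ⟶ X_K`, which is a base change of `Spec L ⟶ Spec K`. -/
theorem exists_bcMap {X : Scheme.{u}} {k K L : Type u} [Field k] [Field K] [Field L]
    (f : X ⟶ Spec (CommRingCat.of k)) (c : k →+* K) (d : K →+* L) (e : k →+* L)
    (h : e = d.comp c) :
    ∃ π : pullback f (Spec.map (CommRingCat.ofHom e)) ⟶ pullback f (Spec.map (CommRingCat.ofHom c)),
      IsPullback π (pullback.snd _ _) (pullback.snd _ _) (Spec.map (CommRingCat.ofHom d)) ∧
        π ≫ pullback.fst _ _ = pullback.fst _ _ := by
  subst h
  have e1 : Spec.map (CommRingCat.ofHom (d.comp c)) =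
      Spec.map (CommRingCat.ofHom d) ≫ Spec.map (CommRingCat.ofHom c) := by
    rw [← Spec.map_comp, ← CommRingCat.ofHom_comp]
  let π : pullback f (Spec.map (CommRingCat.ofHom (d.comp c))) ⟶
      pullback f (Spec.map (CommRingCat.ofHom c)) :=
    pullback.lift (pullback.fst _ _) (pullback.snd _ _ ≫ Spec.map (CommRingCat.ofHom d))
      (by rw [pullback.condition, e1, Category.assoc])
  refine ⟨π, ?_, pullback.lift_fst _ _ _⟩
  refine IsPullback.of_right ?_ (pullback.lift_snd _ _ _)
    (IsPullback.of_hasPullback f (Spec.map (CommRingCat.ofHom c)))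
  rw [pullback.lift_fst, ← e1]
  exact IsPullback.of_hasPullback f _

end Groth.Agent.Lib.Helper50
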