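import Mathlib
import Groth.Prelude
import Groth.Agent.Lib.Helper50.BaseChangeMap

/-!
# Fibres of the projection `X_K ⟶ X` (helper50)
-/

open CategoryTheory AlgebraicGeometry Limits TensorProduct MorphismProperty

namespace Groth.Agent.Lib.Helper50

universe u

/-- Every point of a `k`-scheme has a ring map `k → κ(x)` compatible with the structure map. -/
theorem exists_ringHom_residueField {X : Scheme.{u}} {k : Type u} [Field k]
    (f : X ⟶ Spec (CommRingCat.of k)) (x : X) :
    ∃ φ : k →+* X.residueField x,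
      Spec.map (CommRingCat.ofHom φ) = X.fromSpecResidueField x ≫ f := by
  obtain ⟨ψ, hψ⟩ := Spec.map_surjective (X.fromSpecResidueField x ≫ f)
  exact ⟨ψ.hom, hψ⟩

/-- The fibre of `X_K ⟶ X` over `x` is homeomorphic to `Spec (κ(x) ⊗[k] K)`. -/
theorem nonempty_homeomorph_fiber_bc {X : Scheme.{u}} {k K : Type u} [Field k] [Field K]
    [Algebra k K] (f : X ⟶ Spec (CommRingCat.of k)) (x : X) (φ : k →+* X.residueField x)
    (hφ : Spec.map (CommRingCat.ofHom φ) = X.fromSpecResidueField x ≫ f) :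
    letI := φ.toAlgebra
    Nonempty (((pullback.fst f (Spec.map (CommRingCat.ofHom (algebraMap k K)))) ⁻¹' {x} : Set _) ≃ₜ
      PrimeSpectrum (X.residueField x ⊗[k] K)) := by
  letI := φ.toAlgebra
  let g := Spec.map (CommRingCat.ofHom (algebraMap k K))
  let p := pullback.fst f g
  have e1 : p.fiber x ≃ₜ p ⁻¹' {x} := p.fiberHomeo x
  let i1 : p.fiber x ≅ pullback (X.fromSpecResidueField x) p := pullbackSymmetry _ _
  let i2 : pullback (X.fromSpecResidueField x) p ≅ pullback (X.fromSpecResidueField x ≫ f) g :=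
    pullbackRightPullbackFstIso f g _
  let i3 : pullback (X.fromSpecResidueField x ≫ f) g ≅
      pullback (Spec.map (CommRingCat.ofHom φ)) g := pullback.congrHom hφ.symm rfl
  let i4 : pullback (Spec.map (CommRingCat.ofHom φ)) g ≅
      Spec (CommRingCat.of (X.residueField x ⊗[k] K)) := pullbackSpecIso k (X.residueField x) K
  exact ⟨e1.symm.trans ((i1 ≪≫ i2 ≪≫ i3 ≪≫ i4).hom.homeomorph)⟩


/-- Any morphism to an affine scheme factors through `toSpecΓ`. -/
theorem eq_toSpecΓ_comp {X : Scheme.{u}} {A : CommRingCat.{u}} (f : X ⟶ Spec A) :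
    f = X.toSpecΓ ≫ Spec.map f.appTop ≫ Spec.map (Scheme.ΓSpecIso A).inv := by
  rw [← Scheme.toSpecΓ_naturality_assoc, toSpecΓ_SpecMap_ΓSpecIso_inv, Category.comp_id]

theorem specMap_stalkMap_eq {X : Scheme.{u}} (k : Type u) [Field k]
    [X.Over (Spec (CommRingCat.of k))] (x : X) :
    Spec.map (CommRingCat.ofHom (Curv2.stalkMap k X x)) =
      X.fromSpecStalk x ≫ (X ↘ Spec (CommRingCat.of k)) := by
  conv_rhs => rw [eq_toSpecΓ_comp (X ↘ Spec (CommRingCat.of k))]
  rw [Scheme.fromSpecStalk_toSpecΓ_assoc, ← Spec.map_comp, ← Spec.map_comp]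
  rfl

theorem specMap_resMap_eq {X : Scheme.{u}} (k : Type u) [Field k]
    [X.Over (Spec (CommRingCat.of k))] (x : X) :
    Spec.map (CommRingCat.ofHom (Curv2.resMap k X x)) =
      X.fromSpecResidueField x ≫ (X ↘ Spec (CommRingCat.of k)) := by
  rw [Scheme.fromSpecResidueField, Category.assoc, ← specMap_stalkMap_eq, ← Spec.map_comp]
  rfl

end Groth.Agent.Lib.Helper50
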