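import Mathlib
import Groth.Prelude
import Groth.Agent.Lib.Helper50.FiberBC

/-!
# Stalks of base changes `X_K` as localizations of `O_{X,x} ⊗[k] K` (helper50)
-/

open CategoryTheory AlgebraicGeometry Limits TensorProduct MorphismProperty

namespace Groth.Agent.Lib.Helper50

universe u

instance flat_fromSpecStalk (X : Scheme.{u}) (x : X) : Flat (X.fromSpecStalk x) := by
  obtain ⟨_, ⟨U, hU, rfl⟩, hxU, -⟩ :=
    X.isBasis_affineOpens.exists_subset_of_mem_open (Set.mem_univ x) isOpen_univ
  rw [← hU.fromSpecStalk_eq_fromSpecStalk hxU]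
  delta IsAffineOpen.fromSpecStalk
  have : Flat (Spec.map (X.presheaf.germ U x hxU)) := by
    rw [HasRingHomProperty.Spec_iff (P := @Flat)]
    letI := TopCat.Presheaf.algebra_section_stalk X.presheaf ⟨x, hxU⟩
    have := hU.isLocalization_stalk ⟨x, hxU⟩
    have : Module.Flat Γ(X, U) (X.presheaf.stalk x) :=
      IsLocalization.flat _ (hU.primeIdealOf ⟨x, hxU⟩).asIdeal.primeCompl
    exact this
  have := hU.isOpenImmersion_fromSpec
  infer_instance

/-- A flat preimmersion induces bijections on stalks. -/
theorem stalkMap_bijective_of_flat_of_isPreimmersion {X Y : Scheme.{u}} (j : X ⟶ Y) [Flat j]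
    [IsPreimmersion j] (x : X) : Function.Bijective (j.stalkMap x) := by
  refine ⟨?_, j.stalkMap_surjective x⟩
  algebraize [(j.stalkMap x).hom]
  have : Module.FaithfullyFlat (Y.presheaf.stalk (j x)) (X.presheaf.stalk x) :=
    @Module.FaithfullyFlat.of_flat_of_isLocalHom _ _ _ _ _ _ _
      (Flat.stalkMap j x) (j.toLRSHom.prop x)
  exact ‹RingHom.FaithfullyFlat _›.injective


section

variable {X : Scheme.{u}} {k K : Type u} [Field k] [Field K] [Algebra k K]
  (f : X ⟶ Spec (CommRingCat.of k)) (x : X) (φ : k →+* X.presheaf.stalk x)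
  (hφ : Spec.map (CommRingCat.ofHom φ) = X.fromSpecStalk x ≫ f)

/-- Stalk of an iso. -/
theorem nonempty_ringEquiv_stalk_of_iso {W S : Scheme.{u}} (e : W ≅ S) (y : W) :
    Nonempty (W.presheaf.stalk y ≃+* S.presheaf.stalk (e.hom y)) :=
  ⟨(asIso (e.hom.stalkMap y)).commRingCatIsoToRingEquiv.symm⟩

set_option backward.isDefEq.respectTransparency.types false in
theorem nonempty_ringEquiv_stalk_spec (R : Type u) [CommRing R] (q : PrimeSpectrum R) :
    Nonempty ((Spec (CommRingCat.of R)).presheaf.stalk q ≃+* Localization.AtPrime q.asIdeal) :=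
  ⟨(StructureSheaf.stalkIso R q).symm.toRingEquiv⟩

include hφ in
/-- Every point `x'` of `X_K` over `x` has local ring a localization of `O_{X,x} ⊗[k] K` at a
prime, and every prime of `O_{X,x} ⊗[k] K` lying over the closed point arises. -/
theorem exists_stalk_bc :
    letI := φ.toAlgebra
    (∀ x' : ↥(pullback f (Spec.map (CommRingCat.ofHom (algebraMap k K)))),
      pullback.fst f (Spec.map (CommRingCat.ofHom (algebraMap k K))) x' = x →
      ∃ q : PrimeSpectrum (X.presheaf.stalk x ⊗[k] K),
        Nonempty ((pullback f (Spec.map (CommRingCat.ofHom (algebraMap k K)))).presheaf.stalk x' ≃+*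
          Localization.AtPrime q.asIdeal)) ∧
    (∀ q : PrimeSpectrum (X.presheaf.stalk x ⊗[k] K),
      q.asIdeal.comap (Algebra.TensorProduct.includeLeftRingHom :
        X.presheaf.stalk x →+* X.presheaf.stalk x ⊗[k] K) =
        IsLocalRing.maximalIdeal (X.presheaf.stalk x) →
      ∃ x' : ↥(pullback f (Spec.map (CommRingCat.ofHom (algebraMap k K)))),
        pullback.fst f (Spec.map (CommRingCat.ofHom (algebraMap k K))) x' = x ∧
        Nonempty ((pullback f (Spec.map (CommRingCat.ofHom (algebraMap k K)))).presheaf.stalk x' ≃+*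
          Localization.AtPrime q.asIdeal)) := by
  letI := φ.toAlgebra
  let g := Spec.map (CommRingCat.ofHom (algebraMap k K))
  let p := pullback.fst f g
  let i := X.fromSpecStalk x
  let j : pullback i p ⟶ pullback f g := pullback.snd i p
  have hjflat : Flat j := inferInstance
  have hjpre : IsPreimmersion j :=
    MorphismProperty.of_isPullback (IsPullback.of_hasPullback i p) inferInstance
  let eW : pullback i p ≅ Spec (CommRingCat.of (X.presheaf.stalk x ⊗[k] K)) :=
    pullbackRightPullbackFstIso f g i ≪≫ pullback.congrHom hφ.symm rfl ≪≫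
      pullbackSpecIso k (X.presheaf.stalk x) K
  have heW : eW.inv ≫ pullback.fst i p =
      Spec.map (CommRingCat.ofHom (Algebra.TensorProduct.includeLeftRingHom :
        X.presheaf.stalk x →+* X.presheaf.stalk x ⊗[k] K)) := by
    simp only [eW, p, i, g, Iso.trans_inv, Category.assoc, pullbackRightPullbackFstIso_inv_fst,
      pullback.congrHom_inv]
    erw [pullback.lift_fst]
    rw [Category.comp_id]
    exact pullbackSpecIso_inv_fst k (X.presheaf.stalk x) K
  -- the stalk at `j y` is the localization at `eW.hom y`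
  have key : ∀ (y : ↥(pullback i p)) (q : PrimeSpectrum (X.presheaf.stalk x ⊗[k] K)),
      eW.hom y = q → Nonempty ((pullback f g).presheaf.stalk (j y) ≃+*
      Localization.AtPrime q.asIdeal) := by
    intro y q hyq
    subst hyq
    have e1 : (pullback f g).presheaf.stalk (j y) ≃+* (pullback i p).presheaf.stalk y :=
      RingEquiv.ofBijective (j.stalkMap y).hom (stalkMap_bijective_of_flat_of_isPreimmersion j y)
    obtain ⟨e2⟩ := nonempty_ringEquiv_stalk_of_iso eW y
    obtain ⟨e3⟩ := nonempty_ringEquiv_stalk_spec (X.presheaf.stalk x ⊗[k] K) (eW.hom y)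
    exact ⟨e1.trans (e2.trans e3)⟩
  have h1 : ∀ y : ↥(pullback i p), p (j y) = i (pullback.fst i p y) := by
    intro y
    rw [← Scheme.Hom.comp_apply, ← Scheme.Hom.comp_apply, pullback.condition]
  refine ⟨fun x' hx' => ?_, fun q hq => ?_⟩
  · have hx'' : i (IsLocalRing.closedPoint (X.presheaf.stalk x)) = p x' := by
      rw [hx']; exact Scheme.fromSpecStalk_closedPoint
    obtain ⟨y, -, hy⟩ := Scheme.Pullback.exists_preimage_pullback _ _ hx''
    obtain ⟨e⟩ := key y (eW.hom y) rfl
    have hy' : j y = x' := hy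
    rw [hy'] at e
    exact ⟨eW.hom y, ⟨e⟩⟩
  · let y : ↥(pullback i p) := eW.inv q
    have hy : eW.hom y = q := Scheme.inv_hom_apply eW q
    obtain ⟨e⟩ := key y q hy
    refine ⟨j y, ?_, ⟨e⟩⟩
    rw [h1 y]
    have h2 : pullback.fst i p y = IsLocalRing.closedPoint (X.presheaf.stalk x) := by
      have h3 : pullback.fst i p y = (eW.inv ≫ pullback.fst i p) q :=
        (Scheme.Hom.comp_apply _ _ _).symm
      rw [h3, heW]
      apply PrimeSpectrum.ext
      exact hq
    rw [h2]
    exact Scheme.fromSpecStalk_closedPoint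

end

end Groth.Agent.Lib.Helper50
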