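import Mathlib
import Groth.Prelude.Def_FlatCA

/-!
# The fibre module `FlatCA.fiberMod p S N` as a localization of `N ⧸ pN`
-/

universe u

namespace Groth.Agent.Lib.Helper50

open TensorProduct

attribute [local instance] Algebra.TensorProduct.rightAlgebra

section

variable {R S : Type u} [CommRing R] [CommRing S] [Algebra R S] (p : Ideal R) [p.IsPrime]

/-- `S ⧸ pS → κ(p) ⊗ S`, as an `S`-linear map. -/
noncomputable def quotToFiber : (S ⧸ p.map (algebraMap R S)) →ₗ[S] p.Fiber S :=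
  ((((Submodule.quotEquivOfEq _ _ (Ideal.localized'_eq_map
      (Localization (Algebra.algebraMapSubmonoid S p.primeCompl))
      (Algebra.algebraMapSubmonoid S p.primeCompl) (p.map (algebraMap R S)))).restrictScalars S).trans
      (Ideal.Fiber.algEquivAux₁ (S := S) p).symm.toLinearEquiv).toLinearMap) ∘ₗ
    (Submodule.toLocalizedQuotient' (Localization (Algebra.algebraMapSubmonoid S p.primeCompl))
      (Algebra.algebraMapSubmonoid S p.primeCompl)
      (Algebra.linearMap S (Localization (Algebra.algebraMapSubmonoid S p.primeCompl)))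
      (p.map (algebraMap R S)))

instance isLocalizedModule_quotToFiber :
    IsLocalizedModule (Algebra.algebraMapSubmonoid S p.primeCompl) (quotToFiber (S := S) p) := by
  unfold quotToFiber
  infer_instance

lemma quotToFiber_mk (s : S) :
    quotToFiber p (Ideal.Quotient.mk _ s) = (1 : p.ResidueField) ⊗ₜ[R] s := by
  have h1 : (Ideal.Fiber.algEquivAux₁ (S := S) p).symm (algebraMap S _ s) =
      (1 : p.ResidueField) ⊗ₜ[R] s := by
    rw [AlgEquiv.commutes]; rfl
  rw [← h1]
  rfl

variable (N : Type u) [AddCommGroup N] [Module S N]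

/-- `N ⧸ pN → (κ(p) ⊗ S) ⊗[S] N`. -/
noncomputable def quotToFiberTensor :
    (N ⧸ (p.map (algebraMap R S)) • (⊤ : Submodule S N)) →ₗ[S] (p.Fiber S) ⊗[S] N :=
  (AlgebraTensorModule.rTensor S N (quotToFiber (S := S) p)) ∘ₗ
    (quotTensorEquivQuotSMul N (p.map (algebraMap R S))).symm.toLinearMap

instance isLocalizedModule_quotToFiberTensor :
    IsLocalizedModule (Algebra.algebraMapSubmonoid S p.primeCompl)
      (quotToFiberTensor (S := S) p N) := by
  unfold quotToFiberTensor
  infer_instance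

lemma quotToFiberTensor_mk (n : N) :
    quotToFiberTensor p N (Submodule.Quotient.mk n) = (1 : p.Fiber S) ⊗ₜ[S] n := by
  unfold quotToFiberTensor
  simp only [LinearMap.coe_comp, Function.comp_apply, LinearEquiv.coe_coe,
    quotTensorEquivQuotSMul_symm_mk, AlgebraTensorModule.rTensor_tmul]
  congr 1
  rw [← map_one (Ideal.Quotient.mk _), quotToFiber_mk]
  rfl

section facts

/-- elements of `R ∖ p` act injectively on the fibre module. -/
lemma fiberTensor_smul_eq_zero_iff {r : R} (hr : r ∉ p) (m : (p.Fiber S) ⊗[S] N) :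
    algebraMap R S r • m = 0 ↔ m = 0 := by
  have := IsLocalizedModule.smul_inj (quotToFiberTensor (S := S) p N)
    (⟨algebraMap R S r, r, hr, rfl⟩ : Algebra.algebraMapSubmonoid S p.primeCompl) m 0
  rw [smul_zero] at this
  exact this

/-- every element of the fibre module is, up to an element of `R ∖ p`, in the image of `N`. -/
lemma fiberTensor_exists_smul_eq (m : (p.Fiber S) ⊗[S] N) :
    ∃ r ∉ p, ∃ n : N, algebraMap R S r • m = (1 : p.Fiber S) ⊗ₜ[S] n := by
  obtain ⟨⟨x, ⟨t, r, hr, rfl⟩⟩, hx⟩ := IsLocalizedModule.surj (Algebra.algebraMapSubmonoid S p.primeCompl)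
    (quotToFiberTensor (S := S) p N) m
  obtain ⟨n, rfl⟩ := Submodule.Quotient.mk_surjective _ x
  refine ⟨r, hr, n, ?_⟩
  rw [quotToFiberTensor_mk] at hx
  exact hx

/-- the kernel of `N → fiberMod p S N`. -/
lemma one_tmul_eq_zero_iff (n : N) :
    (1 : p.Fiber S) ⊗ₜ[S] n = 0 ↔
      ∃ r ∉ p, algebraMap R S r • n ∈ (p.map (algebraMap R S)) • (⊤ : Submodule S N) := by
  rw [← quotToFiberTensor_mk, IsLocalizedModule.eq_zero_iff (Algebra.algebraMapSubmonoid S p.primeCompl)]
  constructor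
  · rintro ⟨⟨t, r, hr, rfl⟩, h⟩
    refine ⟨r, hr, ?_⟩
    rw [Submonoid.smul_def, ← Submodule.Quotient.mk_smul, Submodule.Quotient.mk_eq_zero] at h
    exact h
  · rintro ⟨r, hr, h⟩
    refine ⟨⟨algebraMap R S r, r, hr, rfl⟩, ?_⟩
    rw [Submonoid.smul_def, ← Submodule.Quotient.mk_smul, Submodule.Quotient.mk_eq_zero]
    exact h

lemma fiberMod_smul_eq_zero_iff {r : R} (hr : r ∉ p) (m : FlatCA.fiberMod p S N) :
    algebraMap R S r • m = 0 ↔ m = 0 :=
  fiberTensor_smul_eq_zero_iff p N hr m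

lemma fiberMod_exists_smul_eq (m : FlatCA.fiberMod p S N) :
    ∃ r ∉ p, ∃ n : N, algebraMap R S r • m = FlatCA.toFiberMod p S N n :=
  fiberTensor_exists_smul_eq p N m

lemma toFiberMod_eq_zero_iff (n : N) :
    FlatCA.toFiberMod p S N n = 0 ↔
      ∃ r ∉ p, algebraMap R S r • n ∈ (p.map (algebraMap R S)) • (⊤ : Submodule S N) :=
  one_tmul_eq_zero_iff p N n

/-- The annihilator of the image of `n` in the fibre module. -/
lemma smul_toFiberMod_eq_zero_iff (s : S) (n : N) :
    s • FlatCA.toFiberMod p S N n = 0 ↔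
      ∃ r ∉ p, (algebraMap R S r * s) • n ∈ (p.map (algebraMap R S)) • (⊤ : Submodule S N) := by
  rw [← map_smul, toFiberMod_eq_zero_iff]
  simp only [mul_smul]

/-- elements of `p` kill the fibre module. -/
lemma fiberMod_smul_eq_zero_of_mem {r : R} (hr : r ∈ p) (m : FlatCA.fiberMod p S N) :
    algebraMap R S r • m = 0 := by
  obtain ⟨r', hr', n, hn⟩ := fiberMod_exists_smul_eq p N m
  rw [← fiberMod_smul_eq_zero_iff p N hr', smul_comm, hn, smul_toFiberMod_eq_zero_iff]
  refine ⟨1, fun h => ‹p.IsPrime›.ne_top ((Ideal.eq_top_iff_one _).mpr h), ?_⟩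
  rw [map_one, one_mul]
  exact Submodule.smul_mem_smul (Ideal.mem_map_of_mem _ hr) Submodule.mem_top

lemma fiberMod_one_tmul_smul (s : S) (m : FlatCA.fiberMod p S N) :
    ((1 : p.ResidueField) ⊗ₜ[R] s : p.Fiber S) • m = s • m := by
  change ((1 : p.ResidueField) ⊗ₜ[R] s : p.Fiber S) • (show (p.Fiber S) ⊗[S] N from m) =
    s • (show (p.Fiber S) ⊗[S] N from m)
  rw [← algebraMap_smul (p.Fiber S) s]
  rfl

lemma fiberMod_rsmul_smul (r : R) (x : p.Fiber S) (m : FlatCA.fiberMod p S N) :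
    (r • x) • m = algebraMap R S r • (x • m) := by
  change (r • x) • (show (p.Fiber S) ⊗[S] N from m) =
    algebraMap R S r • (x • (show (p.Fiber S) ⊗[S] N from m))
  rw [← smul_assoc, algebraMap_smul]

/-- If `q = Ann_S(m)` is prime, then `Ann_{κ(p) ⊗ S}(m)` is prime and contracts to `q`. -/
lemma isPrime_annihilator_fiberMod (m : FlatCA.fiberMod p S N) (q : Ideal S) [hq : q.IsPrime]
    (hm : ∀ s, s ∈ q ↔ s • m = 0) :
    ((Submodule.span (p.Fiber S) {m}).annihilator).IsPrime := by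
  have hm0 : m ≠ 0 := by
    rintro rfl
    exact hq.ne_top ((Ideal.eq_top_iff_one _).mpr ((hm 1).mpr (smul_zero _)))
  have key : ∀ (x : p.Fiber S) (r : R) (s : S), r ∉ p → r • x = 1 ⊗ₜ[R] s →
      (x • m = 0 ↔ s ∈ q) := by
    intro x r s hr e
    rw [hm, ← fiberMod_one_tmul_smul, ← e, fiberMod_rsmul_smul, fiberMod_smul_eq_zero_iff p N hr]
  refine ⟨?_, ?_⟩
  · intro h
    have : (1 : p.Fiber S) ∈ (Submodule.span (p.Fiber S) {m}).annihilator := h ▸ Submodule.mem_top
    rw [Submodule.mem_annihilator_span_singleton, one_smul] at this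
    exact hm0 this
  · intro x y hxy
    simp only [Submodule.mem_annihilator_span_singleton] at hxy ⊢
    obtain ⟨r, hr, s, e⟩ := Ideal.Fiber.exists_smul_eq_one_tmul p x
    obtain ⟨r', hr', s', e'⟩ := Ideal.Fiber.exists_smul_eq_one_tmul p y
    have e'' : (r * r') • (x * y) = 1 ⊗ₜ[R] (s * s') := by
      rw [mul_smul_mul_comm, e, e', Algebra.TensorProduct.tmul_mul_tmul, one_mul]
    rw [key x r s hr e, key y r' s' hr' e']
    have := (key (x * y) (r * r') (s * s') (fun h => (‹p.IsPrime›.mem_or_mem h).elim hr hr') e'').mp hxy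
    exact hq.mem_or_mem this

end facts

section flat

variable [Module R N] [IsScalarTower R S N]

omit [p.IsPrime] in
lemma mem_map_smul_top_iff (n : N) :
    n ∈ (p.map (algebraMap R S)) • (⊤ : Submodule S N) ↔ n ∈ p • (⊤ : Submodule R N) := by
  rw [← Submodule.restrictScalars_mem R, Ideal.smul_restrictScalars, Submodule.restrictScalars_top]

omit [Module S N] in
/-- If `N` is flat over `R` then `N ⧸ pN` is torsion free over `R ⧸ p`. -/
lemma mem_smul_top_of_smul_mem_of_flat [Module.Flat R N] {r : R} (hr : r ∉ p) {n : N}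
    (h : r • n ∈ p • (⊤ : Submodule R N)) : n ∈ p • (⊤ : Submodule R N) := by
  have hne : Ideal.Quotient.mk p r ≠ 0 := by rwa [Ne, Ideal.Quotient.eq_zero_iff_mem]
  have hreg : IsSMulRegular ((R ⧸ p) ⊗[R] N) (Ideal.Quotient.mk p r) :=
    Module.Flat.isSMulRegular_of_nonZeroDivisors (M := (R ⧸ p) ⊗[R] N)
      (mem_nonZeroDivisors_of_ne_zero hne)
  have h1 : (1 : R ⧸ p) ⊗ₜ[R] (r • n) = 0 := by
    apply (quotTensorEquivQuotSMul N p).injective
    rw [quotTensorEquivQuotSMul_mk_one_tmul, map_zero, Submodule.Quotient.mk_eq_zero]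
    exact h
  have h2 : (Ideal.Quotient.mk p r) • ((1 : R ⧸ p) ⊗ₜ[R] n) = 0 := by
    rw [TensorProduct.smul_tmul', smul_eq_mul, mul_one, ← h1, TensorProduct.tmul_smul,
      TensorProduct.smul_tmul', ← Ideal.Quotient.algebraMap_eq, Algebra.algebraMap_eq_smul_one]
  have h3 : (1 : R ⧸ p) ⊗ₜ[R] n = 0 := hreg (by simp only [h2, smul_zero])
  have h4 := congrArg (quotTensorEquivQuotSMul N p) h3
  rw [quotTensorEquivQuotSMul_mk_one_tmul, map_zero, Submodule.Quotient.mk_eq_zero] at h4
  exact h4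

lemma mem_map_smul_top_of_smul_mem_of_flat [Module.Flat R N] {r : R} (hr : r ∉ p) {n : N}
    (h : algebraMap R S r • n ∈ (p.map (algebraMap R S)) • (⊤ : Submodule S N)) :
    n ∈ (p.map (algebraMap R S)) • (⊤ : Submodule S N) := by
  rw [mem_map_smul_top_iff] at h ⊢
  rw [algebraMap_smul] at h
  exact mem_smul_top_of_smul_mem_of_flat p N hr h

/-- For flat `N`, the map `N ⧸ pN → fiberMod p S N` is injective. -/
lemma toFiberMod_eq_zero_iff_of_flat [Module.Flat R N] (n : N) :
    FlatCA.toFiberMod p S N n = 0 ↔ n ∈ (p.map (algebraMap R S)) • (⊤ : Submodule S N) := by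
  rw [toFiberMod_eq_zero_iff]
  constructor
  · rintro ⟨r, hr, h⟩
    exact mem_map_smul_top_of_smul_mem_of_flat p N hr h
  · intro h
    exact ⟨1, fun h1 => ‹p.IsPrime›.ne_top ((Ideal.eq_top_iff_one _).mpr h1), by simpa using h⟩

omit [p.IsPrime] [Module S N] in
/-- For flat `N` and `p = Ann(m₀)`, `n ⊗ m₀ = 0` iff `n ∈ pN`. -/
lemma tmul_eq_zero_iff_of_flat [Module.Flat R N] {M : Type u} [AddCommGroup M] [Module R M]
    (m₀ : M) (hp : ∀ r, r ∈ p ↔ r • m₀ = 0) (n : N) :
    n ⊗ₜ[R] m₀ = 0 ↔ n ∈ p • (⊤ : Submodule R N) := by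
  have hle : p ≤ LinearMap.ker (LinearMap.toSpanSingleton R M m₀) := by
    intro r hr
    rw [LinearMap.mem_ker, LinearMap.toSpanSingleton_apply]
    exact (hp r).mp hr
  let φ : (R ⧸ p) →ₗ[R] M := Submodule.liftQ p (LinearMap.toSpanSingleton R M m₀) hle
  have hφ : Function.Injective φ := by
    rw [← LinearMap.ker_eq_bot, Submodule.ker_liftQ_eq_bot']
    ext r
    rw [LinearMap.mem_ker, LinearMap.toSpanSingleton_apply]
    exact hp r
  have hinj : Function.Injective (φ.lTensor N) :=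
    Module.Flat.lTensor_preserves_injective_linearMap _ hφ
  have h1 : φ.lTensor N (n ⊗ₜ[R] (1 : R ⧸ p)) = n ⊗ₜ[R] m₀ := by
    rw [LinearMap.lTensor_tmul]
    congr 1
    change φ (Submodule.Quotient.mk 1) = m₀
    rw [Submodule.liftQ_apply, LinearMap.toSpanSingleton_apply, one_smul]
  rw [← h1, map_eq_zero_iff _ hinj, ← tensorQuotEquivQuotSMul_symm_mk,
    LinearEquiv.map_eq_zero_iff, Submodule.Quotient.mk_eq_zero]

end flat

section ass

variable {A : Type*} [CommRing A] {M : Type*} [AddCommGroup M] [Module A M]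

lemma mem_ass_iff {q : Ideal A} :
    q ∈ FlatCA.ass A M ↔ q.IsPrime ∧ ∃ m : M, ∀ a : A, a ∈ q ↔ a • m = 0 := by
  unfold FlatCA.ass
  simp only [Set.mem_ofPred_eq]
  refine and_congr Iff.rfl (exists_congr fun m => ?_)
  rw [SetLike.ext_iff]
  simp only [Submodule.mem_annihilator_span_singleton]

/-- Associated primes are preserved by injective linear maps. -/
lemma ass_subset_of_injective {M' : Type*} [AddCommGroup M'] [Module A M'] (f : M →ₗ[A] M')
    (hf : Function.Injective f) : FlatCA.ass A M ⊆ FlatCA.ass A M' := by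
  intro q hq
  rw [mem_ass_iff] at hq ⊢
  obtain ⟨hq, m, hm⟩ := hq
  refine ⟨hq, f m, fun a => ?_⟩
  rw [hm, ← map_smul, map_eq_zero_iff f hf]

end ass

end

end Groth.Agent.Lib.Helper50
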