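import Mathlib
import Groth.Prelude
import Groth.Agent.Lib.Helper50.FiberMod

/-!
# Rings without embedded primes: basic transfer lemmas (helper50)
-/

universe u

namespace Groth.Agent.Lib.Helper50

open TensorProduct

/-- For Noetherian rings, `FlatCA.ass` agrees with Mathlib's `associatedPrimes`. -/
lemma ass_eq_associatedPrimes (A : Type*) [CommRing A] [IsNoetherianRing A] (M : Type*)
    [AddCommGroup M] [Module A M] : FlatCA.ass A M = associatedPrimes A M := by
  ext q
  rw [mem_ass_iff, AssociatedPrimes.mem_iff, isAssociatedPrime_iff]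
  refine and_congr Iff.rfl (exists_congr fun m => ?_)
  rw [SetLike.ext_iff]
  refine forall_congr' fun a => ?_
  rw [Submodule.mem_colon_singleton, Submodule.mem_bot]

/-- For Noetherian rings, `FlatCA.weakAss` agrees with Mathlib's `associatedPrimes`. -/
lemma weakAss_eq_associatedPrimes (A : Type*) [CommRing A] [IsNoetherianRing A] (M : Type*)
    [AddCommGroup M] [Module A M] : FlatCA.weakAss A M = associatedPrimes A M := by
  ext q
  constructor
  · rintro ⟨m, hm⟩
    have hq : q.IsPrime := hm.1.1
    have h1 : (Submodule.span A {m}).annihilator = (⊥ : Submodule A M).colon {m} := by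
      ext a
      rw [Submodule.mem_annihilator_span_singleton, Submodule.mem_colon_singleton,
        Submodule.mem_bot]
    rw [h1] at hm
    obtain ⟨x', hx'⟩ := Submodule.exists_eq_colon_of_mem_minimalPrimes hm
    rw [AssociatedPrimes.mem_iff, isAssociatedPrime_iff]
    exact ⟨hq, x', hx'⟩
  · intro hq
    rw [AssociatedPrimes.mem_iff, isAssociatedPrime_iff] at hq
    obtain ⟨hq', m, hm⟩ := hq
    refine ⟨m, ?_⟩
    have h1 : (Submodule.span A {m}).annihilator = q := by
      rw [hm]
      ext a
      rw [Submodule.mem_annihilator_span_singleton, Submodule.mem_colon_singleton,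
        Submodule.mem_bot]
    rw [h1]
    haveI := hq'
    rw [Ideal.minimalPrimes_eq_subsingleton_self]
    exact Set.mem_singleton q

/-- A ring has no embedded primes. -/
def NoEmbRing (A : Type*) [CommRing A] : Prop :=
  ∀ p ∈ associatedPrimes A A, ∀ q ∈ associatedPrimes A A, q ≤ p → p = q

section equiv

variable {R R' : Type*} [CommRing R] [CommRing R']

lemma comap_symm_mem_associatedPrimes (e : R ≃+* R') {P : Ideal R}
    (hP : P ∈ associatedPrimes R R) :
    P.comap (e.symm : R' →+* R) ∈ associatedPrimes R' R' := by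
  obtain ⟨hP', x, hx⟩ := hP
  refine ⟨Ideal.comap_isPrime _ _, e x, ?_⟩
  ext r
  rw [Ideal.mem_comap, hx, Ideal.mem_radical_iff, Ideal.mem_radical_iff]
  refine exists_congr fun n => ?_
  rw [Submodule.mem_colon_singleton, Submodule.mem_colon_singleton, Submodule.mem_bot,
    Submodule.mem_bot, smul_eq_mul, smul_eq_mul, ← map_pow]
  constructor
  · intro h
    have := congrArg e h
    simpa using this
  · intro h
    apply e.injective
    simpa using h

lemma comap_comap_symm (e : R ≃+* R') (P : Ideal R) :
    (P.comap (e.symm : R' →+* R)).comap (e : R →+* R') = P := by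
  ext r
  simp

lemma NoEmbRing.of_ringEquiv (e : R ≃+* R') (h : NoEmbRing R') : NoEmbRing R := by
  intro p hp q hq hqp
  have h1 := h _ (comap_symm_mem_associatedPrimes e hp) _ (comap_symm_mem_associatedPrimes e hq)
    (Ideal.comap_mono hqp)
  rw [← comap_comap_symm e p, ← comap_comap_symm e q, h1]

lemma noEmbRing_iff_of_ringEquiv (e : R ≃+* R') : NoEmbRing R ↔ NoEmbRing R' :=
  ⟨fun h => h.of_ringEquiv e.symm, fun h => h.of_ringEquiv e⟩

/-- If associated primes of `R'` are minimal, so are those of `R ≃+* R'`. -/
lemma ass_subset_minimalPrimes_of_ringEquiv (e : R ≃+* R')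
    (h : associatedPrimes R' R' ⊆ minimalPrimes R') :
    associatedPrimes R R ⊆ minimalPrimes R := by
  intro P hP
  have hP' : P.IsPrime := hP.1
  have h1 := h (comap_symm_mem_associatedPrimes e hP)
  refine ⟨⟨hP', bot_le⟩, ?_⟩
  rintro P₁ ⟨hP₁, -⟩ hle
  have h2 : P.comap (e.symm : R' →+* R) ≤ P₁.comap (e.symm : R' →+* R) :=
    h1.2 ⟨Ideal.comap_isPrime _ _, bot_le⟩ (Ideal.comap_mono hle)
  have h3 := Ideal.comap_mono (f := (e : R →+* R')) h2
  rwa [comap_comap_symm, comap_comap_symm] at h3

end equiv

end Groth.Agent.Lib.Helper50
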