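import Mathlib
import Groth.Prelude.Def_FlatCA
import Groth.Agent.Lib.Helper50.FiberMod

/-!
# `FlatCA.ass` and short exact sequences
-/

universe u

namespace Groth.Agent.Lib.Helper50

section

variable {A : Type*} [CommRing A] {M₁ M₂ M₃ : Type*} [AddCommGroup M₁] [Module A M₁]
  [AddCommGroup M₂] [Module A M₂] [AddCommGroup M₃] [Module A M₃]

lemma ass_subset_union_of_exact (f : M₁ →ₗ[A] M₂) (g : M₂ →ₗ[A] M₃)
    (hf : Function.Injective f) (hfg : Function.Exact f g) :
    FlatCA.ass A M₂ ⊆ FlatCA.ass A M₁ ∪ FlatCA.ass A M₃ := by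
  intro q hq
  rw [mem_ass_iff] at hq
  obtain ⟨hq', b, hb⟩ := hq
  by_cases h : ∃ s, s ∉ q ∧ g (s • b) = 0
  · obtain ⟨s, hs, hgs⟩ := h
    obtain ⟨a, ha⟩ := (hfg (s • b)).mp hgs
    left
    rw [mem_ass_iff]
    refine ⟨hq', a, fun s' => ?_⟩
    rw [← map_eq_zero_iff f hf, map_smul, ha, smul_smul, ← hb]
    constructor
    · intro h'
      exact q.mul_mem_right _ h'
    · intro h'
      exact (hq'.mem_or_mem h').resolve_right hs
  · push Not at h
    right
    rw [mem_ass_iff]
    refine ⟨hq', g b, fun s => ?_⟩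
    constructor
    · intro hs
      rw [← map_smul, (hb s).mp hs, map_zero]
    · intro hs
      by_contra hsq
      exact h s hsq (by rw [map_smul]; exact hs)

lemma ass_eq_empty_of_subsingleton [Subsingleton M₁] : FlatCA.ass A M₁ = ∅ := by
  ext q
  simp only [Set.mem_empty_iff_false, iff_false]
  intro hq
  rw [mem_ass_iff] at hq
  obtain ⟨hq', b, hb⟩ := hq
  exact hq'.ne_top ((Ideal.eq_top_iff_one _).mpr ((hb 1).mpr (Subsingleton.elim _ _)))

end

section tensor

open TensorProduct

variable {R S : Type u} [CommRing R] [CommRing S] [Algebra R S] (N : Type u) [AddCommGroup N]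
  [Module S N] [Module R N] [IsScalarTower R S N]

/-- For `R` Noetherian, `N` flat over `R` and `M` finite over `R`, every associated prime of
`N ⊗ M` over `S` is an associated prime of some `N ⧸ pN`. -/
theorem exists_mem_ass_quot_of_mem_ass_tensor [IsNoetherianRing R] [Module.Flat R N]
    (M : Type u) [AddCommGroup M] [Module R M] [hM : Module.Finite R M] (q : Ideal S)
    (h : q ∈ FlatCA.ass S (N ⊗[R] M)) :
    ∃ p : PrimeSpectrum R,
      q ∈ FlatCA.ass S (N ⧸ (p.asIdeal.map (algebraMap R S)) • (⊤ : Submodule S N)) := by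
  induction hM using IsNoetherianRing.induction_on_isQuotientEquivQuotientPrime R generalizing q with
  | subsingleton M' =>
    rw [ass_eq_empty_of_subsingleton] at h
    exact h.elim
  | quotient M' p e =>
    refine ⟨p, ?_⟩
    rw [mem_ass_iff] at h ⊢
    obtain ⟨hq', z, hz⟩ := h
    obtain ⟨n, hn⟩ : ∃ n : N, (e.toLinearMap.lTensor N) z = n ⊗ₜ[R] (1 : R ⧸ p.asIdeal) := by
      obtain ⟨n, hn⟩ := Submodule.Quotient.mk_surjective _
        (tensorQuotEquivQuotSMul N p.asIdeal ((e.toLinearMap.lTensor N) z))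
      refine ⟨n, ?_⟩
      rw [← tensorQuotEquivQuotSMul_symm_mk, hn, LinearEquiv.symm_apply_apply]
    refine ⟨hq', Submodule.Quotient.mk n, fun s => ?_⟩
    rw [hz, ← Submodule.Quotient.mk_smul, Submodule.Quotient.mk_eq_zero, mem_map_smul_top_iff]
    have h1 : s • z = 0 ↔ (e.toLinearMap.lTensor N) (s • z) = 0 :=
      (LinearEquiv.map_eq_zero_iff (LinearEquiv.lTensor N e)).symm
    have h2 : (e.toLinearMap.lTensor N) (s • z) = s • (e.toLinearMap.lTensor N) z :=
      (AlgebraTensorModule.lTensor S N e.toLinearMap).map_smul s z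
    rw [h1, h2, hn, TensorProduct.smul_tmul', ← tensorQuotEquivQuotSMul_symm_mk,
      LinearEquiv.map_eq_zero_iff, Submodule.Quotient.mk_eq_zero]
  | exact M₁ M₂ M₃ f g hf hg hfg ih₁ ih₃ =>
    have := ass_subset_union_of_exact (AlgebraTensorModule.lTensor S N f)
      (AlgebraTensorModule.lTensor S N g)
      (Module.Flat.lTensor_preserves_injective_linearMap f hf) (lTensor_exact N hfg hg) h
    rcases this with h1 | h3
    · exact ih₁ q h1
    · exact ih₃ q h3

end tensor

end Groth.Agent.Lib.Helper50
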