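import Mathlib
import Groth.Prelude
import Groth.Agent.Lib.Helper50.NoEmbRing
import Groth.Agent.S9664
import Groth.Agent.S9665
import Groth.Agent.S9670
import Groth.Agent.S9648
import Groth.Agent.S4641

/-!
# Associated primes of a flat extension of Noetherian rings, via fibre rings (helper50)
-/

universe u

namespace Groth.Agent.Lib.Helper50

open TensorProduct

attribute [local instance] Algebra.TensorProduct.rightAlgebra

section

variable {A A' : Type u} [CommRing A] [CommRing A'] [Algebra A A']

/-- `FlatCA.ass` is invariant under linear equivalences. -/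
lemma ass_congr {R : Type*} [CommRing R] {M M' : Type*} [AddCommGroup M] [Module R M]
    [AddCommGroup M'] [Module R M'] (e : M ≃ₗ[R] M') : FlatCA.ass R M = FlatCA.ass R M' :=
  Set.Subset.antisymm (ass_subset_of_injective e.toLinearMap e.injective)
    (ass_subset_of_injective e.symm.toLinearMap e.symm.injective)

variable (p : Ideal A) [p.IsPrime]

/-- The fibre module of `A'` over itself is the fibre ring. -/
noncomputable def fiberModSelfEquiv : FlatCA.fiberMod p A' A' ≃ₗ[p.Fiber A'] p.Fiber A' :=
  TensorProduct.AlgebraTensorModule.rid A' (p.Fiber A') (p.Fiber A')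

instance isNoetherianRing_fiber [IsNoetherianRing A'] : IsNoetherianRing (p.Fiber A') :=
  isNoetherianRing_of_ringEquiv _ (Ideal.Fiber.algEquivAux₁ (S := A') p).symm.toRingEquiv

variable [Module.Flat A A'] [IsNoetherianRing A] [IsNoetherianRing A']

/-- An associated prime of a flat Noetherian extension contracts to an associated prime. -/
theorem comap_mem_associatedPrimes_of_flat (Q : Ideal A') (hQ : Q ∈ associatedPrimes A' A') :
    Q.comap (algebraMap A A') ∈ associatedPrimes A A := by
  haveI : Q.IsPrime := hQ.1
  set q := Q.comap (algebraMap A A') with hq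
  let φ := Localization.localRingHom q Q (algebraMap A A') hq
  have hflat : φ.Flat :=
    RingHom.Flat.localRingHom (f := algebraMap A A') (by
      rw [RingHom.flat_algebraMap_iff]; infer_instance) Q q hq
  letI := φ.toAlgebra
  have hfl' : Module.Flat (Localization.AtPrime q) (Localization.AtPrime Q) := hflat
  have hass : IsAssociatedPrime (IsLocalRing.maximalIdeal (Localization.AtPrime Q))
      (Localization.AtPrime Q) := by
    have hloc : IsLocalizedModule Q.primeCompl
        (Algebra.linearMap A' (Localization.AtPrime Q)) :=
      (isLocalizedModule_iff_isLocalization).mpr inferInstance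
    refine Module.associatedPrimes.mem_associatedPrimes_of_comap_mem_associatedPrimes_of_isLocalizedModule
      Q.primeCompl (Algebra.linearMap A' (Localization.AtPrime Q)) _ ?_
    rw [show Ideal.comap (algebraMap A' (Localization.AtPrime Q))
      (IsLocalRing.maximalIdeal (Localization.AtPrime Q)) = Q from
      Localization.AtPrime.under_maximalIdeal]
    exact hQ
  have h1 := Groth.Agent.S4641.maximalIdeal_mem_associatedPrimes_of_flat φ
    (N := Localization.AtPrime Q) (fun a n => Algebra.smul_def a n) hass
  have hloc : IsLocalizedModule q.primeCompl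
      (Algebra.linearMap A (Localization.AtPrime q)) :=
    (isLocalizedModule_iff_isLocalization).mpr inferInstance
  have h2 := Module.associatedPrimes.comap_mem_associatedPrimes_of_mem_associatedPrimes_of_isLocalizedModule_of_fg
    q.primeCompl (Algebra.linearMap A (Localization.AtPrime q)) _ h1
    ((isNoetherianRing_iff_ideal_fg A).mp inferInstance _)
  rwa [show Ideal.comap (algebraMap A (Localization.AtPrime q))
      (IsLocalRing.maximalIdeal (Localization.AtPrime q)) = q from
      Localization.AtPrime.under_maximalIdeal] at h2

/-- An associated prime `Q` of a flat Noetherian extension `A'` of `A` corresponds to an associated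
prime of the fibre ring over `Q ∩ A`. -/
theorem exists_mem_associatedPrimes_fiber (Q : Ideal A') (hQ : Q ∈ associatedPrimes A' A')
    (hp : Q.comap (algebraMap A A') = p) :
    ∃ P ∈ associatedPrimes (p.Fiber A') (p.Fiber A'),
      P.comap (Algebra.TensorProduct.includeRight (R := A) (A := p.ResidueField)
        (B := A')).toRingHom = Q := by
  haveI : Q.IsPrime := hQ.1
  have h0 : Q ∈ FlatCA.ass A' (A' ⊗[A] A) := by
    rw [ass_congr (TensorProduct.AlgebraTensorModule.rid A A' A'), ass_eq_associatedPrimes]
    exact hQ
  have h1 := Groth.Agent.S9670.result A' A p Q hp h0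
  have h2 := Groth.Agent.S9665.result A' p Q hp h1
  obtain ⟨P, hP, hPQ⟩ := (Groth.Agent.S9664.result A' p Q hp).mp h2
  refine ⟨P, ?_, hPQ⟩
  rw [← ass_eq_associatedPrimes, ← ass_congr (fiberModSelfEquiv (A' := A') p)]
  exact hP

/-- Conversely: for `p ∈ Ass(A)` and `P` an associated prime of the fibre ring, the contraction of
`P` to `A'` is associated. -/
theorem comap_mem_associatedPrimes_of_fiber (hp : p ∈ associatedPrimes A A)
    (P : Ideal (p.Fiber A')) (hP : P ∈ associatedPrimes (p.Fiber A') (p.Fiber A')) :
    P.comap (Algebra.TensorProduct.includeRight (R := A) (A := p.ResidueField)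
        (B := A')).toRingHom ∈ associatedPrimes A' A' := by
  have hp' : p ∈ FlatCA.ass A A := by rw [ass_eq_associatedPrimes]; exact hp
  have hP' : P ∈ FlatCA.ass (p.Fiber A') (FlatCA.fiberMod p A' A') := by
    rw [ass_congr (fiberModSelfEquiv (A' := A') p), ass_eq_associatedPrimes]
    exact hP
  have h1 := Groth.Agent.S9648.result A A' p hp' P hP'
  rw [ass_congr (TensorProduct.AlgebraTensorModule.rid A A' A'), ass_eq_associatedPrimes] at h1
  exact h1

end

end Groth.Agent.Lib.Helper50
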