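import Mathlib
import Groth.Prelude
import Groth.Agent.Lib.Helper50.NoEmbFlat
import Groth.Agent.S2512

/-!
# Embedded primes and base change to a field extension (helper50)

`NoEmbRing A ↔ NoEmbRing (A ⊗[k] K)` when both rings are Noetherian.
-/

universe u

namespace Groth.Agent.Lib.Helper50

open TensorProduct

attribute [local instance] Algebra.TensorProduct.rightAlgebra

section

variable {k K A : Type u} [Field k] [Field K] [Algebra k K] [CommRing A] [Algebra k A]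

/-- The fibre rings of `A → A ⊗[k] K` have no embedded primes. -/
theorem ass_fiber_subset_minimalPrimes [IsNoetherianRing (A ⊗[k] K)] (p : Ideal A) [p.IsPrime] :
    associatedPrimes (p.Fiber (A ⊗[k] K)) (p.Fiber (A ⊗[k] K)) ⊆
      minimalPrimes (p.Fiber (A ⊗[k] K)) := by
  let e : p.Fiber (A ⊗[k] K) ≃ₐ[p.ResidueField] p.ResidueField ⊗[k] K :=
    Algebra.TensorProduct.cancelBaseChange k A p.ResidueField p.ResidueField K
  haveI : IsNoetherianRing (p.ResidueField ⊗[k] K) :=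
    isNoetherianRing_of_ringEquiv _ e.toRingEquiv
  exact ass_subset_minimalPrimes_of_ringEquiv e.toRingEquiv
    (Groth.Agent.S2512.result (k := k) (K := p.ResidueField) (L := K))

variable [IsNoetherianRing A] [IsNoetherianRing (A ⊗[k] K)]

/-- Minimal primes of a Noetherian ring are associated. -/
lemma minimalPrimes_subset_associatedPrimes (R : Type*) [CommRing R] [IsNoetherianRing R] :
    minimalPrimes R ⊆ associatedPrimes R R := by
  have h := Module.associatedPrimes.minimalPrimes_annihilator_subset_associatedPrimes R R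
  have h0 : Module.annihilator R R = ⊥ := by
    rw [Module.annihilator_eq_bot]
    infer_instance
  rwa [h0] at h

theorem noEmbRing_tensor_of_noEmbRing (h : NoEmbRing A) : NoEmbRing (A ⊗[k] K) := by
  intro Q hQ Q₁ hQ₁ hle
  haveI : Q.IsPrime := hQ.1
  haveI : Q₁.IsPrime := hQ₁.1
  have hp := comap_mem_associatedPrimes_of_flat (A := A) Q hQ
  have hp₁ := comap_mem_associatedPrimes_of_flat (A := A) Q₁ hQ₁
  have hpp : Q.comap (algebraMap A (A ⊗[k] K)) = Q₁.comap (algebraMap A (A ⊗[k] K)) :=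
    h _ hp _ hp₁ (Ideal.comap_mono hle)
  set p := Q.comap (algebraMap A (A ⊗[k] K)) with hpdef
  haveI : p.IsPrime := hp.1
  obtain ⟨P, hP, hPQ⟩ := exists_mem_associatedPrimes_fiber p Q hQ rfl
  have hPmin := ass_fiber_subset_minimalPrimes p hP
  haveI : P.IsPrime := hP.1
  let o := PrimeSpectrum.preimageOrderIsoFiber A (A ⊗[k] K) ⟨p, inferInstance⟩
  let x : PrimeSpectrum.comap (algebraMap A (A ⊗[k] K)) ⁻¹' {⟨p, inferInstance⟩} :=
    ⟨⟨Q, inferInstance⟩, by
      rw [Set.mem_preimage, Set.mem_singleton_iff]; exact PrimeSpectrum.ext rfl⟩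
  let x₁ : PrimeSpectrum.comap (algebraMap A (A ⊗[k] K)) ⁻¹' {⟨p, inferInstance⟩} :=
    ⟨⟨Q₁, inferInstance⟩, by
      rw [Set.mem_preimage, Set.mem_singleton_iff]; exact PrimeSpectrum.ext hpp.symm⟩
  have hx : o.symm ⟨P, inferInstance⟩ = x := by
    apply Subtype.ext
    apply PrimeSpectrum.ext
    exact hPQ
  have hox : o x = ⟨P, inferInstance⟩ := by rw [← hx, OrderIso.apply_symm_apply]
  have h1 : o x₁ ≤ o x := o.monotone (show x₁ ≤ x from hle)
  have h2 : (o x₁).asIdeal ≤ P := by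
    rw [hox] at h1; exact h1
  have h3 : P ≤ (o x₁).asIdeal := hPmin.2 ⟨(o x₁).isPrime, bot_le⟩ h2
  have h4 : o x ≤ o x₁ := by rw [hox]; exact h3
  have h5 : x ≤ x₁ := o.le_iff_le.mp h4
  exact le_antisymm h5 hle

theorem noEmbRing_of_noEmbRing_tensor (h : NoEmbRing (A ⊗[k] K)) : NoEmbRing A := by
  intro p hp p₁ hp₁ hle
  haveI : p.IsPrime := hp.1
  haveI : p₁.IsPrime := hp₁.1
  -- a prime `Q` over `p` corresponding to a minimal prime of the fibre
  obtain ⟨Q', hQ'⟩ := PrimeSpectrum.comap_surjective_of_faithfullyFlat (A := A)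
    (B := A ⊗[k] K) ⟨p, inferInstance⟩
  let o := PrimeSpectrum.preimageOrderIsoFiber A (A ⊗[k] K) ⟨p, inferInstance⟩
  let x' : PrimeSpectrum.comap (algebraMap A (A ⊗[k] K)) ⁻¹' {⟨p, inferInstance⟩} := ⟨Q', hQ'⟩
  obtain ⟨P, hPmin, -⟩ := Ideal.exists_minimalPrimes_le
    (bot_le : (⊥ : Ideal (p.Fiber (A ⊗[k] K))) ≤ (o x').asIdeal)
  haveI : P.IsPrime := hPmin.1.1
  have hPass : P ∈ associatedPrimes (p.Fiber (A ⊗[k] K)) (p.Fiber (A ⊗[k] K)) :=
    minimalPrimes_subset_associatedPrimes _ hPmin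
  have hQass := comap_mem_associatedPrimes_of_fiber p hp P hPass
  set Q := P.comap (Algebra.TensorProduct.includeRight (R := A) (A := p.ResidueField)
        (B := A ⊗[k] K)).toRingHom with hQdef
  haveI : Q.IsPrime := hQass.1
  have hQp : Q.comap (algebraMap A (A ⊗[k] K)) = p := by
    have := (o.symm ⟨P, inferInstance⟩).2
    rw [Set.mem_preimage, Set.mem_singleton_iff] at this
    exact congrArg PrimeSpectrum.asIdeal this
  -- going down
  haveI : Q.LiesOver p := ⟨hQp.symm⟩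
  obtain ⟨Q₁', hQ₁'le, hQ₁'prime, hQ₁'over⟩ := Ideal.exists_ideal_le_liesOver_of_le Q hle
  let o₁ := PrimeSpectrum.preimageOrderIsoFiber A (A ⊗[k] K) ⟨p₁, inferInstance⟩
  let x₁' : PrimeSpectrum.comap (algebraMap A (A ⊗[k] K)) ⁻¹' {⟨p₁, inferInstance⟩} :=
    ⟨⟨Q₁', hQ₁'prime⟩, by
      rw [Set.mem_preimage, Set.mem_singleton_iff]
      exact PrimeSpectrum.ext hQ₁'over.over.symm⟩
  obtain ⟨P₁, hP₁min, hP₁le⟩ := Ideal.exists_minimalPrimes_le
    (bot_le : (⊥ : Ideal (p₁.Fiber (A ⊗[k] K))) ≤ (o₁ x₁').asIdeal)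
  haveI : P₁.IsPrime := hP₁min.1.1
  have hP₁ass : P₁ ∈ associatedPrimes (p₁.Fiber (A ⊗[k] K)) (p₁.Fiber (A ⊗[k] K)) :=
    minimalPrimes_subset_associatedPrimes _ hP₁min
  have hQ₁ass := comap_mem_associatedPrimes_of_fiber p₁ hp₁ P₁ hP₁ass
  set Q₁ := P₁.comap (Algebra.TensorProduct.includeRight (R := A) (A := p₁.ResidueField)
        (B := A ⊗[k] K)).toRingHom with hQ₁def
  have hQ₁p : Q₁.comap (algebraMap A (A ⊗[k] K)) = p₁ := by
    have := (o₁.symm ⟨P₁, inferInstance⟩).2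
    rw [Set.mem_preimage, Set.mem_singleton_iff] at this
    exact congrArg PrimeSpectrum.asIdeal this
  have hQ₁le : Q₁ ≤ Q₁' := by
    have h1 : o₁.symm ⟨P₁, inferInstance⟩ ≤ o₁.symm (o₁ x₁') :=
      o₁.symm.monotone (show (⟨P₁, inferInstance⟩ : PrimeSpectrum _) ≤ o₁ x₁' from hP₁le)
    rw [OrderIso.symm_apply_apply] at h1
    exact h1
  have := h Q hQass Q₁ hQ₁ass (hQ₁le.trans hQ₁'le)
  rw [← hQp, ← hQ₁p, this]

theorem noEmbRing_tensor_iff : NoEmbRing A ↔ NoEmbRing (A ⊗[k] K) :=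
  ⟨noEmbRing_tensor_of_noEmbRing, noEmbRing_of_noEmbRing_tensor⟩

end

end Groth.Agent.Lib.Helper50
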