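import Mathlib
import Groth.Prelude
import Groth.Agent.Lib.Helper50.NoEmbBC

/-!
# Embedded primes of tensor products over a field (helper50)

For Noetherian `k`-algebras `A`, `B` without embedded primes such that `A ⊗[k] B` is Noetherian,
`A ⊗[k] B` has no embedded primes.
-/

universe u

namespace Groth.Agent.Lib.Helper50

open TensorProduct

attribute [local instance] Algebra.TensorProduct.rightAlgebra

/-- For Noetherian rings: no embedded primes iff every associated prime is minimal. -/
lemma noEmbRing_iff_ass_subset_minimalPrimes (R : Type*) [CommRing R] [IsNoetherianRing R] :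
    NoEmbRing R ↔ associatedPrimes R R ⊆ minimalPrimes R := by
  constructor
  · intro h p hp
    haveI : p.IsPrime := hp.1
    obtain ⟨q, hq, hqp⟩ := Ideal.exists_minimalPrimes_le (bot_le : (⊥ : Ideal R) ≤ p)
    have := h p hp q (minimalPrimes_subset_associatedPrimes R hq) hqp
    rw [this]; exact hq
  · intro h p hp q hq hqp
    exact le_antisymm ((h hp).2 ⟨hq.1, bot_le⟩ hqp) hqp

section flat

variable {A A' : Type u} [CommRing A] [CommRing A'] [Algebra A A'] [Module.Flat A A']
  [IsNoetherianRing A] [IsNoetherianRing A']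

/-- If `A → A'` is flat (Noetherian rings), `A` has no embedded primes and the fibre rings over
the associated primes of `A` have no embedded primes, then `A'` has no embedded primes. -/
theorem ass_subset_minimalPrimes_of_flat (hA : associatedPrimes A A ⊆ minimalPrimes A)
    (hfib : ∀ (p : Ideal A) [p.IsPrime], p ∈ associatedPrimes A A →
      associatedPrimes (p.Fiber A') (p.Fiber A') ⊆ minimalPrimes (p.Fiber A')) :
    associatedPrimes A' A' ⊆ minimalPrimes A' := by
  intro Q hQ
  haveI : Q.IsPrime := hQ.1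
  have hp := comap_mem_associatedPrimes_of_flat (A := A) Q hQ
  set p := Q.comap (algebraMap A A') with hpdef
  haveI : p.IsPrime := hp.1
  obtain ⟨P, hP, hPQ⟩ := exists_mem_associatedPrimes_fiber p Q hQ rfl
  have hPmin := hfib p hp hP
  haveI : P.IsPrime := hP.1
  refine ⟨⟨inferInstance, bot_le⟩, ?_⟩
  rintro Q₁ ⟨hQ₁, -⟩ hle
  haveI : Q₁.IsPrime := hQ₁
  have hpp : Q₁.comap (algebraMap A A') = p :=
    le_antisymm (Ideal.comap_mono hle)
      ((hA hp).2 ⟨Ideal.comap_isPrime _ _, bot_le⟩ (Ideal.comap_mono hle))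
  let o := PrimeSpectrum.preimageOrderIsoFiber A A' ⟨p, inferInstance⟩
  let x : PrimeSpectrum.comap (algebraMap A A') ⁻¹' {⟨p, inferInstance⟩} :=
    ⟨⟨Q, inferInstance⟩, by
      rw [Set.mem_preimage, Set.mem_singleton_iff]; exact PrimeSpectrum.ext rfl⟩
  let x₁ : PrimeSpectrum.comap (algebraMap A A') ⁻¹' {⟨p, inferInstance⟩} :=
    ⟨⟨Q₁, inferInstance⟩, by
      rw [Set.mem_preimage, Set.mem_singleton_iff]; exact PrimeSpectrum.ext hpp⟩
  have hx : o.symm ⟨P, inferInstance⟩ = x := by
    apply Subtype.ext
    apply PrimeSpectrum.ext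
    exact hPQ
  have hox : o x = ⟨P, inferInstance⟩ := by rw [← hx, OrderIso.apply_symm_apply]
  have h1 : o x₁ ≤ o x := o.monotone (show x₁ ≤ x from hle)
  have h2 : (o x₁).asIdeal ≤ P := by
    rw [hox] at h1; exact h1
  have h3 : P ≤ (o x₁).asIdeal := hPmin.2 ⟨(o x₁).isPrime, bot_le⟩ h2
  have h4 : o x ≤ o x₁ := by rw [hox]; exact h3
  exact o.le_iff_le.mp h4

end flat

section tensor

variable {k A B : Type u} [Field k] [CommRing A] [Algebra k A] [CommRing B] [Algebra k B]

/-- Base change of a ring without embedded primes to a field extension. -/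
theorem ass_subset_minimalPrimes_tensor_field (L : Type u) [Field L] [Algebra k L]
    [IsNoetherianRing B] [IsNoetherianRing (B ⊗[k] L)]
    (hB : associatedPrimes B B ⊆ minimalPrimes B) :
    associatedPrimes (B ⊗[k] L) (B ⊗[k] L) ⊆ minimalPrimes (B ⊗[k] L) :=
  ass_subset_minimalPrimes_of_flat (A := B) hB fun p _ _ => ass_fiber_subset_minimalPrimes p

/-- A tensor product over a field of Noetherian algebras without embedded primes has no embedded
primes (when Noetherian). -/
theorem ass_subset_minimalPrimes_tensor [IsNoetherianRing A] [IsNoetherianRing B]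
    [IsNoetherianRing (A ⊗[k] B)]
    (hA : associatedPrimes A A ⊆ minimalPrimes A) (hB : associatedPrimes B B ⊆ minimalPrimes B) :
    associatedPrimes (A ⊗[k] B) (A ⊗[k] B) ⊆ minimalPrimes (A ⊗[k] B) := by
  refine ass_subset_minimalPrimes_of_flat (A := A) hA fun p _ _ => ?_
  let e₁ : p.Fiber (A ⊗[k] B) ≃ₐ[p.ResidueField] p.ResidueField ⊗[k] B :=
    Algebra.TensorProduct.cancelBaseChange k A p.ResidueField p.ResidueField B
  let e₂ : p.ResidueField ⊗[k] B ≃ₐ[k] B ⊗[k] p.ResidueField :=
    Algebra.TensorProduct.comm k p.ResidueField B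
  let e : p.Fiber (A ⊗[k] B) ≃+* B ⊗[k] p.ResidueField :=
    e₁.toRingEquiv.trans e₂.toRingEquiv
  haveI : IsNoetherianRing (B ⊗[k] p.ResidueField) := isNoetherianRing_of_ringEquiv _ e
  exact ass_subset_minimalPrimes_of_ringEquiv e
    (ass_subset_minimalPrimes_tensor_field p.ResidueField hB)

theorem noEmbRing_tensor [IsNoetherianRing A] [IsNoetherianRing B]
    [IsNoetherianRing (A ⊗[k] B)] (hA : NoEmbRing A) (hB : NoEmbRing B) :
    NoEmbRing (A ⊗[k] B) := by
  rw [noEmbRing_iff_ass_subset_minimalPrimes] at hA hB ⊢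
  exact ass_subset_minimalPrimes_tensor hA hB

/-- A Noetherian domain has no embedded primes. -/
theorem noEmbRing_of_isDomain (R : Type*) [CommRing R] [IsDomain R] [IsNoetherianRing R] :
    NoEmbRing R := by
  rw [noEmbRing_iff_ass_subset_minimalPrimes]
  intro p hp
  have hp0 : p = ⊥ := by
    rw [AssociatedPrimes.mem_iff, isAssociatedPrime_iff] at hp
    obtain ⟨hp', x, hx⟩ := hp
    have hx0 : x ≠ 0 := by
      rintro rfl
      apply hp'.ne_top
      rw [hx, Ideal.eq_top_iff_one, Submodule.mem_colon_singleton]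
      simp
    rw [hx, eq_bot_iff]
    intro a ha
    rw [Submodule.mem_colon_singleton, Submodule.mem_bot, smul_eq_mul] at ha
    rw [Submodule.mem_bot]
    exact (mul_eq_zero.mp ha).resolve_right hx0
  rw [hp0, IsDomain.minimalPrimes_eq_singleton_bot]
  exact Set.mem_singleton _

end tensor

end Groth.Agent.Lib.Helper50
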