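import Mathlib
import Groth.Prelude
import Groth.Agent.Lib.Helper50.NoEmbBC
import Groth.Agent.Lib.Helper45.AssStructure

/-!
# Embedded associated points of the structure sheaf, on affine charts; base change to a field
extension (helper50)
-/

universe u

open CategoryTheory AlgebraicGeometry Limits TensorProduct

namespace Groth.Agent.Lib.Helper50

open Groth.Agent.Lib.Helper45

section charts

variable {X : Scheme.{u}} [IsLocallyNoetherian X]

lemma mem_ass_structureModule_iff {U : X.Opens} (hU : IsAffineOpen U) (x : U) :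
    (x : X) ∈ AssSch.Ass (Coh.structureModule X) ↔
      (hU.primeIdealOf x).asIdeal ∈ associatedPrimes Γ(X, U) Γ(X, U) := by
  haveI : IsNoetherianRing Γ(X, U) := IsLocallyNoetherian.component_noetherian ⟨U, hU⟩
  change Curv2.IsAssPoint _ _ ↔ _
  rw [isAssPoint_iff_isWeakAssPoint, isWeakAssPoint_structureModule_iff hU x,
    weakAss_eq_associatedPrimes]

/-- If `X` is covered by affine opens whose rings have no embedded primes, the structure sheaf has
no embedded associated points. -/
theorem noEmbedded_of_forall_exists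
    (h : ∀ x : X, ∃ U : X.Opens, IsAffineOpen U ∧ x ∈ U ∧ NoEmbRing Γ(X, U)) :
    AssSch.NoEmbedded (Coh.structureModule X) := by
  intro x hx y hy hyx
  obtain ⟨U, hU, hxU, hne⟩ := h x
  have hyU : y ∈ U := hyx.mem_open U.2 hxU
  have h1 := (mem_ass_structureModule_iff hU ⟨x, hxU⟩).mp hx
  have h2 := (mem_ass_structureModule_iff hU ⟨y, hyU⟩).mp hy
  have hle : (hU.primeIdealOf ⟨y, hyU⟩).asIdeal ≤ (hU.primeIdealOf ⟨x, hxU⟩).asIdeal :=
    (primeIdealOf_le_iff hU ⟨x, hxU⟩ ⟨y, hyU⟩).mpr hyx
  have h3 := hne _ h1 _ h2 hle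
  have h4 : hU.primeIdealOf ⟨x, hxU⟩ = hU.primeIdealOf ⟨y, hyU⟩ := PrimeSpectrum.ext h3
  exact congrArg Subtype.val (primeIdealOf_injective hU h4)

/-- If the structure sheaf has no embedded associated points, the rings of affine opens have no
embedded primes. -/
theorem noEmbRing_of_noEmbedded (h : AssSch.NoEmbedded (Coh.structureModule X)) {U : X.Opens}
    (hU : IsAffineOpen U) : NoEmbRing Γ(X, U) := by
  intro p hp q hq hqp
  haveI : p.IsPrime := hp.1
  haveI : q.IsPrime := hq.1
  obtain ⟨x, hx⟩ := exists_primeIdealOf_eq hU ⟨p, inferInstance⟩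
  obtain ⟨y, hy⟩ := exists_primeIdealOf_eq hU ⟨q, inferInstance⟩
  have hxp : (hU.primeIdealOf x).asIdeal = p := congrArg PrimeSpectrum.asIdeal hx
  have hyq : (hU.primeIdealOf y).asIdeal = q := congrArg PrimeSpectrum.asIdeal hy
  have h1 : (x : X) ∈ AssSch.Ass (Coh.structureModule X) := by
    rw [mem_ass_structureModule_iff hU x, hxp]; exact hp
  have h2 : (y : X) ∈ AssSch.Ass (Coh.structureModule X) := by
    rw [mem_ass_structureModule_iff hU y, hyq]; exact hq
  have h3 : (y : X) ⤳ (x : X) := by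
    rw [← primeIdealOf_le_iff hU, hxp, hyq]; exact hqp
  have h4 : x = y := Subtype.ext (h _ h1 _ h2 h3)
  rw [← hxp, ← hyq, h4]

end charts

section bc

variable {X : Scheme.{u}} {k K : Type u} [Field k] [Field K] [Algebra k K]
  (f : X ⟶ Spec (CommRingCat.of k))

set_option backward.isDefEq.respectTransparency.types false in
/-- Affine charts of the base change `X_K`. -/
theorem exists_chart_bc {U : X.Opens} (hU : IsAffineOpen U) :
    ∃ (φ : k →+* Γ(X, U)) (U' : (pullback f (Spec.map (CommRingCat.ofHom (algebraMap k K)))).Opens),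
      IsAffineOpen U' ∧
      (∀ x' : ↥(pullback f (Spec.map (CommRingCat.ofHom (algebraMap k K)))),
        pullback.fst f (Spec.map (CommRingCat.ofHom (algebraMap k K))) x' ∈ U → x' ∈ U') ∧
      Nonempty (Γ(pullback f (Spec.map (CommRingCat.ofHom (algebraMap k K))), U') ≃+*
        (letI := φ.toAlgebra; Γ(X, U) ⊗[k] K)) := by
  let φ : k →+* Γ(X, U) := (Spec.preimage (hU.fromSpec ≫ f)).hom
  have hφ : Spec.map (CommRingCat.ofHom φ) = hU.fromSpec ≫ f := by
    simp [φ]
  letI := φ.toAlgebra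
  let g := Spec.map (CommRingCat.ofHom (algebraMap k K))
  let p := pullback.fst f g
  let i := hU.fromSpec
  let j : pullback i p ⟶ pullback f g := pullback.snd i p
  let eW : pullback i p ≅ Spec (CommRingCat.of (Γ(X, U) ⊗[k] K)) :=
    pullbackRightPullbackFstIso f g i ≪≫ pullback.congrHom hφ.symm rfl ≪≫
      pullbackSpecIso k Γ(X, U) K
  let j' : Spec (CommRingCat.of (Γ(X, U) ⊗[k] K)) ⟶ pullback f g := eW.inv ≫ j
  haveI : IsOpenImmersion j' := inferInstance
  refine ⟨φ, j' ''ᵁ ⊤, (isAffineOpen_top _).image_of_isOpenImmersion j', ?_,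
    ⟨(j'.appIso ⊤ ≪≫ Scheme.ΓSpecIso _).commRingCatIsoToRingEquiv⟩⟩
  intro x' hx'
  have hxr : p x' ∈ Set.range i := by
    rw [hU.range_fromSpec]; exact hx'
  obtain ⟨a, ha⟩ := hxr
  obtain ⟨w, -, hw⟩ := Scheme.Pullback.exists_preimage_pullback a x' ha
  refine ⟨eW.hom w, trivial, ?_⟩
  change (eW.inv ≫ j) (eW.hom w) = x'
  rw [Scheme.Hom.comp_apply, Scheme.hom_inv_apply]
  exact hw

end bc

end Groth.Agent.Lib.Helper50
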