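import Mathlib
import Groth.Agent.Lib.Helper50.GeomReduced

/-!
# Finite radicial multiplicity: making the reduction geometrically reduced after a finite
purely inseparable base extension
-/

universe u

namespace Groth.Agent.Lib.Helper50

open TensorProduct

/-- If `P/k'` is an algebraic extension with `P` perfect and `P ⊗[k'] A'` is reduced, then `A'` is
geometrically reduced over `k'`. -/
theorem isGeometricallyReduced_of_isReduced_perfect_tensor {k' P A' : Type*} [Field k'] [Field P]
    [Algebra k' P] [Algebra.IsAlgebraic k' P] [PerfectField P] [CommRing A'] [Algebra k' A']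
    (h : IsReduced (P ⊗[k'] A')) : Algebra.IsGeometricallyReduced k' A' := by
  rw [Algebra.isGeometricallyReduced_field_iff]
  have : Algebra.IsSeparable P (AlgebraicClosure P) := Algebra.IsAlgebraic.isSeparable_of_perfectField
  have h1 : IsReduced (AlgebraicClosure P ⊗[k'] A') := isReduced_tensor_of_isSeparable_tower h
  let e : AlgebraicClosure k' ≃ₐ[k'] AlgebraicClosure P := IsAlgClosure.equiv k' _ _
  exact isReduced_of_injective (Algebra.TensorProduct.congr e (AlgEquiv.refl : A' ≃ₐ[k'] A'))
    (Algebra.TensorProduct.congr e (AlgEquiv.refl : A' ≃ₐ[k'] A')).injective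

/-- Let `k ⊆ k' ⊆ P` be fields. If the nilradical of `P ⊗[k] A` is generated by the images of
nilpotent elements of `k' ⊗[k] A`, then `P ⊗[k'] ((k' ⊗[k] A) / nilradical)` is reduced. -/
theorem isReduced_tensor_quotient_nilradical {k k' P A : Type*} [Field k] [Field k'] [Field P]
    [Algebra k k'] [Algebra k' P] [Algebra k P] [IsScalarTower k k' P] [CommRing A] [Algebra k A]
    (h : nilradical (P ⊗[k] A) ≤ Ideal.span
      ((Algebra.TensorProduct.map (IsScalarTower.toAlgHom k k' P) (AlgHom.id k A)) ''
        {b | IsNilpotent b})) :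
    IsReduced (P ⊗[k'] ((k' ⊗[k] A) ⧸ nilradical (k' ⊗[k] A))) := by
  let g : k' ⊗[k] A →ₐ[k'] (k' ⊗[k] A) ⧸ nilradical (k' ⊗[k] A) :=
    Ideal.Quotient.mkₐ k' (nilradical (k' ⊗[k] A))
  let π : P ⊗[k'] (k' ⊗[k] A) →ₐ[k'] P ⊗[k'] ((k' ⊗[k] A) ⧸ nilradical (k' ⊗[k] A)) :=
    Algebra.TensorProduct.map (AlgHom.id k' P) g
  have hg : Function.Surjective g := Ideal.Quotient.mkₐ_surjective _ _
  have hπ : Function.Surjective π :=
    Algebra.TensorProduct.map_surjective (AlgHom.id k' P) g Function.surjective_id hg
  have hker : RingHom.ker π = (RingHom.ker g).map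
      (Algebra.TensorProduct.includeRight : k' ⊗[k] A →ₐ[k'] P ⊗[k'] (k' ⊗[k] A)) :=
    Algebra.TensorProduct.lTensor_ker g hg
  have hkerg : ∀ b, b ∈ RingHom.ker g ↔ IsNilpotent b := by
    intro b
    change g b = 0 ↔ _
    rw [Ideal.Quotient.mkₐ_eq_mk, Ideal.Quotient.eq_zero_iff_mem, mem_nilradical]
  have h1 : RingHom.ker π ≤ nilradical (P ⊗[k'] (k' ⊗[k] A)) := by
    rw [hker, Ideal.map_le_iff_le_comap]
    intro b hb
    exact ((hkerg b).mp hb).map _
  let e := Algebra.TensorProduct.cancelBaseChange k k' P P A
  have he : ∀ b : k' ⊗[k] A, e ((1 : P) ⊗ₜ[k'] b) =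
      Algebra.TensorProduct.map (IsScalarTower.toAlgHom k k' P) (AlgHom.id k A) b := by
    intro b
    induction b with
    | zero => simp
    | tmul c a =>
      simp only [e, Algebra.TensorProduct.cancelBaseChange_tmul, Algebra.TensorProduct.map_tmul,
        AlgHom.id_apply, IsScalarTower.coe_toAlgHom']
      rw [Algebra.smul_def, mul_one]
    | add x y hx hy => rw [tmul_add, map_add, map_add, hx, hy]
  have h2 : nilradical (P ⊗[k'] (k' ⊗[k] A)) ≤ RingHom.ker π := by
    intro y hy
    have hey : e y ∈ nilradical (P ⊗[k] A) := mem_nilradical.mpr ((mem_nilradical.mp hy).map e)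
    have h3 := Ideal.mem_map_of_mem (e.symm : P ⊗[k] A →+* P ⊗[k'] (k' ⊗[k] A)) (h hey)
    rw [Ideal.map_span, Set.image_image] at h3
    have h4 : (e.symm : P ⊗[k] A →+* P ⊗[k'] (k' ⊗[k] A)) (e y) = y := e.symm_apply_apply y
    rw [h4] at h3
    rw [hker, Ideal.map]
    refine Ideal.span_mono ?_ h3
    rintro _ ⟨b, hb, rfl⟩
    refine ⟨b, (hkerg b).mpr hb, ?_⟩
    change (1 : P) ⊗ₜ[k'] b = e.symm
      ((Algebra.TensorProduct.map (IsScalarTower.toAlgHom k k' P) (AlgHom.id k A)) b)
    rw [← he b]
    exact (e.symm_apply_apply _).symm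
  refine ⟨fun x hx => ?_⟩
  obtain ⟨y, rfl⟩ := hπ x
  obtain ⟨m, hm⟩ := hx
  have hym : y ^ m ∈ RingHom.ker π := by rw [RingHom.mem_ker, map_pow, hm]
  have hy : y ∈ nilradical (P ⊗[k'] (k' ⊗[k] A)) := by
    obtain ⟨m', hm'⟩ := mem_nilradical.mp (h1 hym)
    exact mem_nilradical.mpr ⟨m * m', by rw [pow_mul, hm']⟩
  exact h2 hy


/-- If `P/k` is algebraic and the nilradical of `P ⊗[k] A` is finitely generated, then it is
generated by nilpotents coming from `k' ⊗[k] A` for a finite subextension `k'`. -/
theorem exists_finite_intermediateField_nilradical_le {k P A : Type*} [Field k] [Field P]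
    [Algebra k P] [Algebra.IsAlgebraic k P] [CommRing A] [Algebra k A]
    (hfg : (nilradical (P ⊗[k] A)).FG) :
    ∃ k' : IntermediateField k P, FiniteDimensional k k' ∧
      nilradical (P ⊗[k] A) ≤ Ideal.span
        ((Algebra.TensorProduct.map (IsScalarTower.toAlgHom k k' P) (AlgHom.id k A)) ''
          {b | IsNilpotent b}) := by
  classical
  obtain ⟨s, hs⟩ := hfg
  obtain ⟨J, hJ, hsub⟩ := Submodule.exists_fg_le_subset_range_rTensor_subtype (R := k)
    (s : Set (P ⊗[k] A)) s.finite_toSet
  obtain ⟨t, ht⟩ := hJ
  let k' : IntermediateField k P := IntermediateField.adjoin k (t : Set P)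
  have hfin : FiniteDimensional k k' :=
    IntermediateField.finiteDimensional_adjoin (fun x _ => Algebra.IsIntegral.isIntegral x)
  have hJk' : J ≤ Subalgebra.toSubmodule k'.toSubalgebra := by
    rw [← ht]
    exact Submodule.span_le.mpr (IntermediateField.subset_adjoin k (t : Set P))
  let ι' : k' ⊗[k] A →ₐ[k] P ⊗[k] A :=
    Algebra.TensorProduct.map (IsScalarTower.toAlgHom k k' P) (AlgHom.id k A)
  have hinj : Function.Injective ι' := by
    have := Module.Flat.rTensor_preserves_injective_linearMap (M := A)
      (IsScalarTower.toAlgHom k k' P).toLinearMap (algebraMap k' P).injective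
    intro a b hab
    exact this hab
  have hcomp : ∀ w : J ⊗[k] A,
      ι' ((Submodule.inclusion hJk').rTensor A w) = J.subtype.rTensor A w := by
    intro w
    induction w with
    | zero => simp
    | tmul a b => rfl
    | add u v hu hv => rw [map_add, map_add, map_add, hu, hv]
  refine ⟨k', hfin, ?_⟩
  rw [← hs]
  refine Ideal.span_mono ?_
  intro z hz
  obtain ⟨w, hw⟩ := hsub hz
  refine ⟨(Submodule.inclusion hJk').rTensor A w, ?_, (hcomp w).trans hw⟩
  have hznil : IsNilpotent z := by
    have : z ∈ nilradical (P ⊗[k] A) := hs ▸ Ideal.subset_span hz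
    exact mem_nilradical.mp this
  have h5 : IsNilpotent (ι' ((Submodule.inclusion hJk').rTensor A w)) := by
    rw [(hcomp w).trans hw]
    exact hznil
  exact (IsNilpotent.map_iff (f := ι'.toRingHom) hinj).mp h5


/-- Let `P/k` be a purely inseparable extension with `P` perfect. If the nilradical of `P ⊗[k] A`
is finitely generated, then for some finite subextension `k'` the reduction of `k' ⊗[k] A` is
geometrically reduced over `k'`. -/
theorem exists_finite_isGeometricallyReduced_quotient_nilradical {k : Type*} {P : Type u}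
    {A : Type*} [Field k]
    [Field P] [Algebra k P] [IsPurelyInseparable k P] [PerfectField P] [CommRing A] [Algebra k A]
    (hfg : (nilradical (P ⊗[k] A)).FG) :
    ∃ (k' : Type u) (_ : Field k') (_ : Algebra k k'), FiniteDimensional k k' ∧
      IsPurelyInseparable k k' ∧
      Algebra.IsGeometricallyReduced k' ((k' ⊗[k] A) ⧸ nilradical (k' ⊗[k] A)) := by
  have : Algebra.IsAlgebraic k P := IsPurelyInseparable.isAlgebraic k P
  obtain ⟨k', hfin, hle⟩ := exists_finite_intermediateField_nilradical_le hfg
  refine ⟨k', inferInstance, inferInstance, hfin, IsPurelyInseparable.tower_bot k k' P, ?_⟩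
  have hred := isReduced_tensor_quotient_nilradical (k := k) (k' := k') (P := P) (A := A) hle
  have : Algebra.IsAlgebraic k' P := Algebra.IsAlgebraic.tower_top (K := k) k'
  exact isGeometricallyReduced_of_isReduced_perfect_tensor hred


theorem nilradical_tensor_fg_of_finiteType {k P A : Type*} [Field k] [Field P] [Algebra k P]
    [CommRing A] [Algebra k A] [Algebra.FiniteType k A] : (nilradical (P ⊗[k] A)).FG := by
  have hN : IsNoetherianRing (P ⊗[k] A) := Algebra.FiniteType.isNoetherianRing P _
  exact (isNoetherianRing_iff_ideal_fg _).mp hN _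

theorem nilradical_tensor_fg_of_essFiniteType {k P A : Type*} [Field k] [Field P] [Algebra k P]
    [CommRing A] [Algebra k A] [Algebra.EssFiniteType k A] : (nilradical (P ⊗[k] A)).FG := by
  have hN : IsNoetherianRing (P ⊗[k] A) := Algebra.EssFiniteType.isNoetherianRing P _
  exact (isNoetherianRing_iff_ideal_fg _).mp hN _

/-- A finitely generated algebra over a field has finite radicial multiplicity. -/
theorem exists_finite_isGeometricallyReduced_of_finiteType {k : Type u} [Field k]
    (A : Type*) [CommRing A] [Algebra k A] [Algebra.FiniteType k A] :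
    ∃ (k' : Type u) (_ : Field k') (_ : Algebra k k'), FiniteDimensional k k' ∧
      IsPurelyInseparable k k' ∧
      Algebra.IsGeometricallyReduced k' ((k' ⊗[k] A) ⧸ nilradical (k' ⊗[k] A)) :=
  exists_finite_isGeometricallyReduced_quotient_nilradical
    (P := perfectClosure k (AlgebraicClosure k)) nilradical_tensor_fg_of_finiteType

/-- An algebra essentially of finite type over a field has finite radicial multiplicity. -/
theorem exists_finite_isGeometricallyReduced_of_essFiniteType {k : Type u} [Field k]
    (A : Type*) [CommRing A] [Algebra k A] [Algebra.EssFiniteType k A] :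
    ∃ (k' : Type u) (_ : Field k') (_ : Algebra k k'), FiniteDimensional k k' ∧
      IsPurelyInseparable k k' ∧
      Algebra.IsGeometricallyReduced k' ((k' ⊗[k] A) ⧸ nilradical (k' ⊗[k] A)) :=
  exists_finite_isGeometricallyReduced_quotient_nilradical
    (P := perfectClosure k (AlgebraicClosure k)) nilradical_tensor_fg_of_essFiniteType

end Groth.Agent.Lib.Helper50
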