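import Mathlib
import Groth.Prelude
import Groth.Agent.Lib.Helper24.SmoothNormal
import Groth.Agent.Lib.Helper24.NormalFlatDescent
import Groth.Agent.Lib.Helper47.SeparableSmooth
import Groth.Agent.Lib.Helper50.RadMult

/-!
# Normality and extension of the base field (helper50)
-/

open TensorProduct

universe u

namespace Groth.Agent.Lib.Helper50

/-- A ring which is a "directed union" of integrally closed domains (along injective ring maps) is
an integrally closed domain. -/
theorem isDomain_and_isIntegrallyClosed_of_directed {R : Type*} [CommRing R] [Nontrivial R]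
    {ι : Type*} (S : ι → Type*) [∀ i, CommRing (S i)] [∀ i, IsDomain (S i)]
    [∀ i, IsIntegrallyClosed (S i)]
    (ψ : ∀ i, S i →+* R) (hinj : ∀ i, Function.Injective (ψ i))
    (hfin : ∀ s : Finset R, ∃ i, (s : Set R) ⊆ Set.range (ψ i)) :
    IsDomain R ∧ IsIntegrallyClosed R := by
  classical
  have hdom : IsDomain R := by
    haveI : NoZeroDivisors R := by
      refine ⟨fun {x y} hxy => ?_⟩
      obtain ⟨i, hi⟩ := hfin {x, y}
      obtain ⟨x', rfl⟩ := hi (show x ∈ ((({x, y} : Finset R)) : Set R) by simp)
      obtain ⟨y', rfl⟩ := hi (show y ∈ ((({ψ i x', y} : Finset R)) : Set R) by simp)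
      rw [← map_mul, map_eq_zero_iff _ (hinj i)] at hxy
      rcases mul_eq_zero.mp hxy with h | h
      · left; rw [h, map_zero]
      · right; rw [h, map_zero]
    exact NoZeroDivisors.to_isDomain R
  refine ⟨hdom, ?_⟩
  rw [isIntegrallyClosed_iff (FractionRing R)]
  intro z hz
  obtain ⟨a, b, hb, rfl⟩ := IsFractionRing.div_surjective (A := R) z
  obtain ⟨p, hpm, hpe⟩ := hz
  obtain ⟨i, hi⟩ := hfin (insert a (insert b p.coeffs))
  obtain ⟨a', ha'⟩ := hi (show a ∈ ((insert a (insert b p.coeffs) : Finset R) : Set R) by simp)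
  obtain ⟨b', hb'⟩ := hi (show b ∈ ((insert a (insert b p.coeffs) : Finset R) : Set R) by simp)
  subst ha' hb'
  have hlift : p ∈ Polynomial.lifts (ψ i) := by
    rw [Polynomial.lifts_iff_coeff_lifts]
    intro n
    by_cases h0 : p.coeff n = 0
    · exact ⟨0, by rw [map_zero, h0]⟩
    · refine hi ?_
      simp only [Finset.coe_insert, Set.mem_insert_iff, Finset.mem_coe]
      right; right
      exact Polynomial.coeff_mem_coeffs h0
  obtain ⟨q, hq, -, hqm⟩ := Polynomial.lifts_and_degree_eq_and_monic hlift hpm
  have hginj : Function.Injective ((algebraMap R (FractionRing R)).comp (ψ i)) :=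
    (IsFractionRing.injective R (FractionRing R)).comp (hinj i)
  let Ψ : FractionRing (S i) →+* FractionRing R := IsFractionRing.lift hginj
  have hΨ : ∀ c : S i, Ψ (algebraMap (S i) (FractionRing (S i)) c) =
      algebraMap R (FractionRing R) (ψ i c) := fun c => IsFractionRing.lift_algebraMap hginj c
  let z' : FractionRing (S i) := algebraMap (S i) _ a' / algebraMap (S i) _ b'
  have hz' : Ψ z' = algebraMap R (FractionRing R) (ψ i a') / algebraMap R (FractionRing R) (ψ i b') := by
    rw [map_div₀, hΨ, hΨ]
  have hint : IsIntegral (S i) z' := by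
    refine ⟨q, hqm, ?_⟩
    apply Ψ.injective
    rw [map_zero, Polynomial.hom_eval₂, hz']
    have h1 : Ψ.comp (algebraMap (S i) (FractionRing (S i))) =
        (algebraMap R (FractionRing R)).comp (ψ i) := RingHom.ext hΨ
    rw [h1, ← Polynomial.eval₂_map, hq]
    exact hpe
  obtain ⟨y', hy'⟩ := (isIntegrallyClosed_iff (FractionRing (S i))).mp inferInstance hint
  refine ⟨ψ i y', ?_⟩
  rw [← hz', ← hΨ, hy']

/-- A flat ring map induces injective maps on localizations at corresponding primes. -/
theorem localRingHom_injective_of_flat {R S : Type*} [CommRing R] [CommRing S] (f : R →+* S)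
    (hf : f.Flat) (P : Ideal S) [P.IsPrime] :
    Function.Injective (Localization.localRingHom (P.comap f) P f rfl) := by
  have hloc := hf.localRingHom P (P.comap f) rfl
  algebraize [Localization.localRingHom (P.comap f) P f rfl]
  have : IsLocalHom (algebraMap (Localization.AtPrime (P.comap f)) (Localization.AtPrime P)) :=
    Localization.isLocalHom_localRingHom _ _ _ rfl
  have : Module.FaithfullyFlat (Localization.AtPrime (P.comap f)) (Localization.AtPrime P) :=
    Module.FaithfullyFlat.of_flat_of_isLocalHom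
  exact FaithfulSMul.algebraMap_injective _ _

/-- **Limit argument, abstract form.** A ring which is a directed union (along flat ring maps) of
normal rings is normal. -/
theorem isNormalRing_of_directed_flat {T : Type u} [CommRing T] {ι : Type*} (S : ι → Type u)
    [∀ i, CommRing (S i)] (φ : ∀ i, S i →+* T) (hflat : ∀ i, (φ i).Flat)
    (hfin : ∀ s : Finset T, ∃ i, (s : Set T) ⊆ Set.range (φ i))
    (h : ∀ i, EGA4.IsNormalRing (S i)) : EGA4.IsNormalRing T := by
  classical
  intro Q hQ
  haveI : ∀ i, IsDomain (Localization.AtPrime (Q.comap (φ i))) := fun i => (h i (Q.comap (φ i))).1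
  haveI : ∀ i, IsIntegrallyClosed (Localization.AtPrime (Q.comap (φ i))) := fun i =>
    (h i (Q.comap (φ i))).2
  refine isDomain_and_isIntegrallyClosed_of_directed
    (fun i => Localization.AtPrime (Q.comap (φ i)))
    (fun i => Localization.localRingHom (Q.comap (φ i)) Q (φ i) rfl)
    (fun i => localRingHom_injective_of_flat (φ i) (hflat i) Q) ?_
  intro s
  have hrep : ∀ x : Localization.AtPrime Q, ∃ a t : T, t ∉ Q ∧
      x * algebraMap T (Localization.AtPrime Q) t = algebraMap T (Localization.AtPrime Q) a := by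
    intro x
    obtain ⟨a, t, rfl⟩ := IsLocalization.exists_mk'_eq Q.primeCompl x
    exact ⟨a, t, t.2, IsLocalization.mk'_spec _ _ _⟩
  choose a t htQ hx using hrep
  obtain ⟨i, hi⟩ := hfin (s.image a ∪ s.image t)
  refine ⟨i, fun x hxs => ?_⟩
  obtain ⟨a', ha'⟩ := hi (show a x ∈ ((s.image a ∪ s.image t : Finset T) : Set T) by
    simp only [Finset.coe_union, Finset.coe_image, Set.mem_union, Set.mem_image, Finset.mem_coe]
    exact Or.inl ⟨x, hxs, rfl⟩)
  obtain ⟨t', ht'⟩ := hi (show t x ∈ ((s.image a ∪ s.image t : Finset T) : Set T) by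
    simp only [Finset.coe_union, Finset.coe_image, Set.mem_union, Set.mem_image, Finset.mem_coe]
    exact Or.inr ⟨x, hxs, rfl⟩)
  have htQ' : t' ∈ (Q.comap (φ i)).primeCompl := by
    change φ i t' ∉ Q
    rw [ht']
    exact htQ x
  refine ⟨IsLocalization.mk' _ a' ⟨t', htQ'⟩, ?_⟩
  change Localization.localRingHom (Q.comap (φ i)) Q (φ i) rfl _ = x
  rw [Localization.localRingHom_mk']
  symm
  rw [IsLocalization.eq_mk'_iff_mul_eq]
  simp only [ht', ha']
  exact hx x

section

variable {k K A : Type u} [Field k] [Field K] [Algebra k K] [CommRing A] [Algebra k A]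

/-- The map `F ⊗[k] A → K ⊗[k] A` for an intermediate field `F`. -/
noncomputable abbrev tensorIncl (F : IntermediateField k K) : F ⊗[k] A →ₐ[k] K ⊗[k] A :=
  Algebra.TensorProduct.map F.val (AlgHom.id k A)

theorem tensorIncl_flat (F : IntermediateField k K) :
    RingHom.Flat (R := F ⊗[k] A) (S := K ⊗[k] A) (tensorIncl (A := A) F).toRingHom := by
  have h1 : (F.val : F →ₐ[k] K).toRingHom.Flat :=
    RingHom.Flat.of_isField (Field.toIsField F) _
  have h2 : (AlgHom.id k A).toRingHom.Flat := RingHom.Flat.id A
  exact RingHom.Flat.tensorProductMap (S := k) h1 h2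

theorem tensorIncl_range_mono {F₁ F₂ : IntermediateField k K} (h : F₁ ≤ F₂) :
    (tensorIncl (A := A) F₁).range ≤ (tensorIncl (A := A) F₂).range := by
  rintro x ⟨y, rfl⟩
  refine ⟨Algebra.TensorProduct.map (IntermediateField.inclusion h) (AlgHom.id k A) y, ?_⟩
  change (tensorIncl F₂) ((Algebra.TensorProduct.map (IntermediateField.inclusion h)
    (AlgHom.id k A)) y) = (tensorIncl F₁) y
  rw [tensorIncl, tensorIncl, ← AlgHom.comp_apply, ← Algebra.TensorProduct.map_comp]
  rfl

theorem exists_fg_mem_range_tensorIncl (e : K ⊗[k] A) :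
    ∃ F : IntermediateField k K, F.FG ∧ e ∈ (tensorIncl (A := A) F).range := by
  induction e with
  | zero => exact ⟨⊥, IntermediateField.fg_bot, Subalgebra.zero_mem _⟩
  | tmul c a =>
    refine ⟨IntermediateField.adjoin k {c}, ?_, ?_⟩
    · exact IntermediateField.fg_adjoin_of_finite (Set.finite_singleton c)
    · exact ⟨(⟨c, IntermediateField.mem_adjoin_simple_self k c⟩ : IntermediateField.adjoin k {c})
        ⊗ₜ[k] a, by simp [tensorIncl]⟩
  | add x y hx hy =>
    obtain ⟨F₁, hF₁, hx⟩ := hx
    obtain ⟨F₂, hF₂, hy⟩ := hy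
    refine ⟨F₁ ⊔ F₂, IntermediateField.fg_sup hF₁ hF₂, ?_⟩
    exact Subalgebra.add_mem _ (tensorIncl_range_mono le_sup_left hx)
      (tensorIncl_range_mono le_sup_right hy)

/-- Every finite subset of `K ⊗[k] A` comes from a finitely generated subextension. -/
theorem exists_fg_subset_range_tensorIncl (s : Finset (K ⊗[k] A)) :
    ∃ F : IntermediateField k K, F.FG ∧
      (s : Set (K ⊗[k] A)) ⊆ Set.range (tensorIncl (A := A) F) := by
  classical
  induction s using Finset.induction_on with
  | empty => exact ⟨⊥, IntermediateField.fg_bot, by simp⟩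
  | insert x s hxs ih =>
    obtain ⟨F₁, hF₁, h1⟩ := ih
    obtain ⟨F₂, hF₂, h2⟩ := exists_fg_mem_range_tensorIncl (k := k) (K := K) (A := A) x
    refine ⟨F₁ ⊔ F₂, IntermediateField.fg_sup hF₁ hF₂, fun y hy => ?_⟩
    rw [Finset.coe_insert, Set.mem_insert_iff] at hy
    rcases hy with rfl | hy
    · exact tensorIncl_range_mono le_sup_right h2
    · exact tensorIncl_range_mono le_sup_left (h1 hy)

/-- **Limit argument.** If `F ⊗[k] A` is a normal ring for every finitely generated subextension
`F` of `K/k`, then `K ⊗[k] A` is a normal ring. -/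
theorem isNormalRing_tensor_of_forall_fg
    (h : ∀ F : IntermediateField k K, F.FG → EGA4.IsNormalRing (F ⊗[k] A)) :
    EGA4.IsNormalRing (K ⊗[k] A) := by
  refine isNormalRing_of_directed_flat (T := K ⊗[k] A)
    (fun F : {F : IntermediateField k K // F.FG} => F.1 ⊗[k] A)
    (fun F => (tensorIncl (A := A) F.1).toRingHom) (fun F => tensorIncl_flat F.1) ?_
    (fun F => h F.1 F.2)
  intro s
  obtain ⟨F, hF, hs⟩ := exists_fg_subset_range_tensorIncl (k := k) (K := K) (A := A) s
  exact ⟨⟨F, hF⟩, hs⟩

end

/-- A finitely generated formally smooth field extension is a localization of a smooth algebra. -/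
theorem exists_smooth_isLocalization_of_formallySmooth (k K : Type u) [Field k] [Field K]
    [Algebra k K] [Algebra.EssFiniteType k K] [Algebra.FormallySmooth k K] :
    ∃ (B : Type u) (_ : CommRing B) (_ : Algebra k B) (_ : Algebra B K) (_ : IsScalarTower k B K)
      (M : Submonoid B), Algebra.Smooth k B ∧ IsLocalization M K := by
  obtain ⟨S₀, M₀, hft, hloc⟩ := (Algebra.essFiniteType_iff_exists_subalgebra (R := k) (S := K)).mp
    (inferInstance : Algebra.EssFiniteType k K)
  have hinj : Function.Injective (algebraMap S₀ K) := Subtype.val_injective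
  let N : Submonoid S₀ := (⊥ : Ideal S₀).primeCompl
  have hM₀N : M₀ ≤ N := by
    intro m hm
    change m ∉ (⊥ : Ideal S₀)
    rw [Ideal.mem_bot]
    rintro rfl
    have := IsLocalization.map_units K (⟨0, hm⟩ : M₀)
    rw [map_zero] at this
    exact not_isUnit_zero this
  have hN : ∀ r ∈ N, IsUnit (algebraMap S₀ K r) := by
    intro r hr
    have hr0 : r ≠ 0 := fun h => hr (by rw [h]; exact Ideal.zero_mem _)
    exact IsUnit.mk0 _ (fun h => hr0 (hinj (by rw [h, map_zero])))
  haveI hlocN : IsLocalization N K := IsLocalization.of_le M₀ N hM₀N hN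
  let e : Localization.AtPrime (⊥ : Ideal S₀) ≃ₐ[S₀] K :=
    IsLocalization.algEquiv N (Localization.AtPrime (⊥ : Ideal S₀)) K
  haveI : Algebra.FormallySmooth k (Localization.AtPrime (⊥ : Ideal S₀)) :=
    Algebra.FormallySmooth.of_equiv (e.restrictScalars k).symm
  haveI : Algebra.FinitePresentation k S₀ := Algebra.FinitePresentation.of_finiteType.mp hft
  obtain ⟨f, hf, hsm⟩ := Algebra.IsSmoothAt.exists_notMem_smooth k (⊥ : Ideal S₀)
  have hfN : Submonoid.powers f ≤ N := by
    rw [Submonoid.powers_le]
    exact hf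
  letI : Algebra (Localization.Away f) K :=
    IsLocalization.localizationAlgebraOfSubmonoidLe (Localization.Away f) K
      (Submonoid.powers f) N hfN
  haveI : IsScalarTower S₀ (Localization.Away f) K :=
    IsLocalization.localization_isScalarTower_of_submonoid_le (Localization.Away f) K
      (Submonoid.powers f) N hfN
  haveI : IsScalarTower k (Localization.Away f) K := by
    refine IsScalarTower.of_algebraMap_eq' ?_
    rw [IsScalarTower.algebraMap_eq k S₀ K, IsScalarTower.algebraMap_eq S₀ (Localization.Away f) K,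
      RingHom.comp_assoc, ← IsScalarTower.algebraMap_eq k S₀ (Localization.Away f)]
  have hlocB : IsLocalization (N.map (algebraMap S₀ (Localization.Away f))) K :=
    IsLocalization.isLocalization_of_submonoid_le (Localization.Away f) K
      (Submonoid.powers f) N hfN
  exact ⟨Localization.Away f, inferInstance, inferInstance, inferInstance, inferInstance, _, hsm,
    hlocB⟩

theorem isNormalRing_of_ringEquiv {R S : Type u} [CommRing R] [CommRing S] (e : R ≃+* S)
    (h : EGA4.IsNormalRing R) : EGA4.IsNormalRing S := by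
  letI : Algebra R S := e.toRingHom.toAlgebra
  haveI : IsLocalization (⊥ : Submonoid R) S := IsLocalization.of_le_isUnit_of_bijective
    (by
      rintro _ ⟨x, hx, rfl⟩
      rw [Submonoid.mem_bot.mp hx, map_one]
      exact isUnit_one) e.bijective
  exact Groth.Agent.Lib.Helper24.isNormalRing_of_isLocalization (⊥ : Submonoid R) h

/-- **Separable finitely generated case.** If `K/k` is a finitely generated formally smooth field
extension and `A` is a normal `k`-algebra then `K ⊗[k] A` is normal. -/
theorem isNormalRing_tensor_of_formallySmooth (k K A : Type u) [Field k] [Field K] [Algebra k K]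
    [Algebra.EssFiniteType k K] [Algebra.FormallySmooth k K] [CommRing A] [Algebra k A]
    (hA : EGA4.IsNormalRing A) : EGA4.IsNormalRing (K ⊗[k] A) := by
  obtain ⟨B, _, _, _, _, M, hsm, hloc⟩ := exists_smooth_isLocalization_of_formallySmooth k K
  have h1 : EGA4.IsNormalRing (A ⊗[k] B) := Groth.Agent.Lib.Helper24.isNormalRing_of_smooth A _ hA
  have h2 : EGA4.IsNormalRing (B ⊗[k] A) :=
    isNormalRing_of_ringEquiv (Algebra.TensorProduct.comm k A B).toRingEquiv h1
  letI : Algebra (B ⊗[k] A) (K ⊗[k] A) :=
    (Algebra.TensorProduct.map (IsScalarTower.toAlgHom k B K) (AlgHom.id k A)).toRingHom.toAlgebra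
  haveI : IsScalarTower B (B ⊗[k] A) (K ⊗[k] A) := by
    refine IsScalarTower.of_algebraMap_eq' ?_
    ext b
    simp [RingHom.algebraMap_toAlgebra, Algebra.TensorProduct.algebraMap_apply]
  have H : (algebraMap (B ⊗[k] A) (K ⊗[k] A)).comp
      (Algebra.TensorProduct.includeRight : A →ₐ[k] B ⊗[k] A).toRingHom =
      (Algebra.TensorProduct.includeRight : A →ₐ[k] K ⊗[k] A).toRingHom := by
    ext a
    simp [RingHom.algebraMap_toAlgebra]
  haveI hlocT : IsLocalization (Algebra.algebraMapSubmonoid (B ⊗[k] A) M) (K ⊗[k] A) :=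
    IsLocalization.tensorProduct_tensorProduct k A M K H
  exact Groth.Agent.Lib.Helper24.isNormalRing_of_isLocalization
    (Algebra.algebraMapSubmonoid (B ⊗[k] A) M) h2

/-- **Normality ascends along separable field extensions** (no finiteness assumptions). -/
theorem isNormalRing_tensor_of_isGeometricallyReduced (k A K : Type u) [Field k] [CommRing A]
    [Algebra k A] (hA : EGA4.IsNormalRing A) [Field K] [Algebra k K]
    [Algebra.IsGeometricallyReduced k K] : EGA4.IsNormalRing (K ⊗[k] A) := by
  apply isNormalRing_tensor_of_forall_fg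
  intro F hF
  haveI : Algebra.EssFiniteType k F := IntermediateField.essFiniteType_iff.mpr hF
  haveI : Algebra.IsGeometricallyReduced k F :=
    Algebra.IsGeometricallyReduced.of_injective F.val F.val.injective
  haveI : Algebra.FormallySmooth k F :=
    Groth.Agent.Lib.Helper47.formallySmooth_of_isGeometricallyReduced k F
  exact isNormalRing_tensor_of_formallySmooth k F A hA

/-- Descent step: if `L` is a common extension of `k'` and `K` over `k` and
`L ⊗[k'] (k' ⊗[k] A)` is normal, then `K ⊗[k] A` is normal. -/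
theorem isNormalRing_tensor_of_common_extension (k k' K L A : Type u) [Field k] [Field k']
    [Field K] [Field L] [Algebra k k'] [Algebra k K] [Algebra k L] [Algebra k' L] [Algebra K L]
    [IsScalarTower k k' L] [IsScalarTower k K L] [CommRing A] [Algebra k A]
    (h : EGA4.IsNormalRing (L ⊗[k'] (k' ⊗[k] A))) : EGA4.IsNormalRing (K ⊗[k] A) := by
  have h1 : EGA4.IsNormalRing (L ⊗[k] A) :=
    isNormalRing_of_ringEquiv (Algebra.TensorProduct.cancelBaseChange k k' k' L A).toRingEquiv h
  have h2 : EGA4.IsNormalRing (L ⊗[K] (K ⊗[k] A)) :=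
    isNormalRing_of_ringEquiv
      (Algebra.TensorProduct.cancelBaseChange k K K L A).symm.toRingEquiv h1
  have h3 : EGA4.IsNormalRing ((K ⊗[k] A) ⊗[K] L) :=
    isNormalRing_of_ringEquiv (Algebra.TensorProduct.comm K L (K ⊗[k] A)).toRingEquiv h2
  exact Groth.Agent.Lib.Helper24.isNormalRing_of_faithfullyFlat (K ⊗[k] A)
    ((K ⊗[k] A) ⊗[K] L) h3

/-- For a purely inseparable extension `k'/k` and a field `K/k`, the nilradical of `k' ⊗[k] K`
is a maximal ideal. -/
theorem nilradical_tensor_isMaximal_of_isPurelyInseparable (k k' K : Type u) [Field k] [Field k']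
    [Field K] [Algebra k k'] [Algebra k K] [IsPurelyInseparable k k'] :
    (nilradical (k' ⊗[k] K)).IsMaximal := by
  have h1 : Subsingleton (PrimeSpectrum (K ⊗[k] k')) :=
    (PrimeSpectrum.isHomeomorph_comap_of_isPurelyInseparable k k' K).injective.subsingleton
  have hsub : Subsingleton (PrimeSpectrum (k' ⊗[k] K)) :=
    (PrimeSpectrum.comap_injective_of_surjective
      (Algebra.TensorProduct.comm k K k' : K ⊗[k] k' →+* k' ⊗[k] K)
      (Algebra.TensorProduct.comm k K k').surjective).subsingleton
  have hnt : Nontrivial (k' ⊗[k] K) :=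
    (Algebra.TensorProduct.includeRight_injective (R := k) (A := k') (B := K)
      (algebraMap k k').injective).nontrivial
  obtain ⟨m, hm⟩ := Ideal.exists_maximal (k' ⊗[k] K)
  have : nilradical (k' ⊗[k] K) = m := by
    rw [nilradical_eq_sInf]
    refine le_antisymm (sInf_le hm.isPrime) (le_sInf fun J hJ => ?_)
    have h2 : (⟨J, hJ⟩ : PrimeSpectrum (k' ⊗[k] K)) = ⟨m, hm.isPrime⟩ := Subsingleton.elim _ _
    exact le_of_eq (congrArg PrimeSpectrum.asIdeal h2).symm
  rw [this]
  exact hm

/-- **Finitely generated case.** If `k' ⊗[k] A` is normal for every finite purely inseparable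
`k'/k`, then `K ⊗[k] A` is normal for every finitely generated field extension `K/k`. -/
theorem isNormalRing_tensor_of_essFiniteType (k K A : Type u) [Field k] [Field K] [Algebra k K]
    [Algebra.EssFiniteType k K] [CommRing A] [Algebra k A]
    (h : ∀ (k' : Type u) [Field k'] [Algebra k k'], Module.Finite k k' → IsPurelyInseparable k k' →
      EGA4.IsNormalRing (k' ⊗[k] A)) :
    EGA4.IsNormalRing (K ⊗[k] A) := by
  obtain ⟨k', _, _, hfin, hpi, hgr⟩ :=
    exists_finite_isGeometricallyReduced_of_essFiniteType (k := k) K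
  haveI hmax := nilradical_tensor_isMaximal_of_isPurelyInseparable k k' K
  letI : Field ((k' ⊗[k] K) ⧸ nilradical (k' ⊗[k] K)) := Ideal.Quotient.field _
  letI : Algebra K ((k' ⊗[k] K) ⧸ nilradical (k' ⊗[k] K)) :=
    ((Ideal.Quotient.mk (nilradical (k' ⊗[k] K))).comp
      (Algebra.TensorProduct.includeRight : K →ₐ[k] k' ⊗[k] K).toRingHom).toAlgebra
  haveI : IsScalarTower k K ((k' ⊗[k] K) ⧸ nilradical (k' ⊗[k] K)) := by
    refine IsScalarTower.of_algebraMap_eq' ?_
    ext c
    simp [RingHom.algebraMap_toAlgebra, Algebra.TensorProduct.algebraMap_apply]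
    rfl
  haveI : Algebra.EssFiniteType k' ((k' ⊗[k] K) ⧸ nilradical (k' ⊗[k] K)) := inferInstance
  haveI : Algebra.FormallySmooth k' ((k' ⊗[k] K) ⧸ nilradical (k' ⊗[k] K)) :=
    Groth.Agent.Lib.Helper47.formallySmooth_of_isGeometricallyReduced k' _
  have h1 := isNormalRing_tensor_of_formallySmooth k'
    ((k' ⊗[k] K) ⧸ nilradical (k' ⊗[k] K)) (k' ⊗[k] A) (h k' hfin hpi)
  exact isNormalRing_tensor_of_common_extension k k' K
    ((k' ⊗[k] K) ⧸ nilradical (k' ⊗[k] K)) A h1

/-- **Geometric normality can be tested on finite purely inseparable extensions.** -/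
theorem isNormalRing_tensor_of_forall_finite_purelyInseparable (k K A : Type u) [Field k] [Field K]
    [Algebra k K] [CommRing A] [Algebra k A]
    (h : ∀ (k' : Type u) [Field k'] [Algebra k k'], Module.Finite k k' → IsPurelyInseparable k k' →
      EGA4.IsNormalRing (k' ⊗[k] A)) :
    EGA4.IsNormalRing (K ⊗[k] A) := by
  apply isNormalRing_tensor_of_forall_fg
  intro F hF
  haveI : Algebra.EssFiniteType k F := IntermediateField.essFiniteType_iff.mpr hF
  exact isNormalRing_tensor_of_essFiniteType k F A h

end Groth.Agent.Lib.Helper50
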