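import Mathlib
import Groth.Prelude
import Groth.Agent.Lib.Helper50.StalkBC
import Groth.Agent.Lib.Helper50.FiberBC
import Groth.Agent.Lib.Helper50.NormalBC

/-!
# Geometric normality at a point of a scheme over a field (helper50)
-/

open CategoryTheory AlgebraicGeometry Limits TensorProduct

universe u

namespace Groth.Agent.Lib.Helper50

/-- An integrally closed domain is a normal ring. -/
theorem isNormalRing_of_isIntegrallyClosed (R : Type u) [CommRing R] [IsDomain R]
    [IsIntegrallyClosed R] : EGA4.IsNormalRing R := by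
  intro p hp
  have hle : p.primeCompl ≤ nonZeroDivisors R := p.primeCompl_le_nonZeroDivisors
  exact ⟨IsLocalization.isDomain_localization hle,
    isIntegrallyClosed_of_isLocalization _ p.primeCompl hle⟩

/-- A ring whose localizations at maximal ideals are integrally closed domains is normal. -/
theorem isNormalRing_of_forall_isMaximal {R : Type u} [CommRing R]
    (h : ∀ (m : Ideal R) [m.IsMaximal],
      IsDomain (Localization.AtPrime m) ∧ IsIntegrallyClosed (Localization.AtPrime m)) :
    EGA4.IsNormalRing R := by
  intro Q hQ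
  obtain ⟨m, hm, hQm⟩ := Ideal.exists_le_maximal Q hQ.ne_top
  obtain ⟨hd, hic⟩ := h m
  have hN : EGA4.IsNormalRing (Localization.AtPrime m) := isNormalRing_of_isIntegrallyClosed _
  have hdisj : Disjoint (m.primeCompl : Set R) (Q : Set R) := by
    rw [Set.disjoint_left]
    intro a ha haQ
    exact ha (hQm haQ)
  exact Groth.Agent.Lib.Helper24.isIntegrallyClosed_atPrime_of_isLocalization m.primeCompl Q hdisj hN

attribute [local instance] Curv2.stalkAlgebra

section

variable (k : Type u) [Field k] (X : Scheme.{u}) [X.Over (Spec (CommRingCat.of k))] (x : X)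

/-- If all local rings of `X_{k'}` over `x` are integrally closed domains, then `k' ⊗ O_{X,x}` is a
normal ring (`k'/k` finite). -/
theorem isNormalRing_tensor_stalk_of_forall (k' : Type u) [Field k'] [Algebra k k']
    [Module.Finite k k']
    (h : ∀ x' : ↥(Curv2.bc k X k'), Curv2.bcFst k X k' x' = x →
      IsDomain ((Curv2.bc k X k').presheaf.stalk x') ∧
        IsIntegrallyClosed ((Curv2.bc k X k').presheaf.stalk x')) :
    EGA4.IsNormalRing (k' ⊗[k] X.presheaf.stalk x) := by
  suffices hreg : EGA4.IsNormalRing (X.presheaf.stalk x ⊗[k] k') from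
    isNormalRing_of_ringEquiv (Algebra.TensorProduct.comm k (X.presheaf.stalk x) k').toRingEquiv hreg
  apply isNormalRing_of_forall_isMaximal
  intro m hm
  have hq : m.comap (Algebra.TensorProduct.includeLeftRingHom :
      X.presheaf.stalk x →+* X.presheaf.stalk x ⊗[k] k') =
      IsLocalRing.maximalIdeal (X.presheaf.stalk x) := by
    have : Algebra.IsIntegral (X.presheaf.stalk x) (X.presheaf.stalk x ⊗[k] k') :=
      inferInstance
    have hmax : (m.comap (algebraMap (X.presheaf.stalk x)
        (X.presheaf.stalk x ⊗[k] k'))).IsMaximal :=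
      Ideal.isMaximal_comap_of_isIntegral_of_isMaximal m
    exact IsLocalRing.eq_maximalIdeal hmax
  obtain ⟨x', hx', ⟨e⟩⟩ := (exists_stalk_bc (K := k') (X ↘ Spec (CommRingCat.of k)) x
    (Curv2.stalkMap k X x) (specMap_stalkMap_eq k x)).2 ⟨m, hm.isPrime⟩ hq
  exact Groth.Agent.Lib.Helper24.isDomain_and_isIntegrallyClosed_of_ringEquiv e (h x' hx')

/-- If `k' ⊗ O_{X,x}` is a normal ring then all local rings of `X_{k'}` over `x` are integrally
closed domains. -/
theorem isNormal_stalk_of_isNormalRing_tensor (k' : Type u) [Field k'] [Algebra k k']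
    (h : EGA4.IsNormalRing (k' ⊗[k] X.presheaf.stalk x))
    (x' : ↥(Curv2.bc k X k')) (hx' : Curv2.bcFst k X k' x' = x) :
    IsDomain ((Curv2.bc k X k').presheaf.stalk x') ∧
      IsIntegrallyClosed ((Curv2.bc k X k').presheaf.stalk x') := by
  have hreg : EGA4.IsNormalRing (X.presheaf.stalk x ⊗[k] k') :=
    isNormalRing_of_ringEquiv (Algebra.TensorProduct.comm k k' (X.presheaf.stalk x)).toRingEquiv h
  obtain ⟨q, ⟨e⟩⟩ := (exists_stalk_bc (K := k') (X ↘ Spec (CommRingCat.of k)) x
    (Curv2.stalkMap k X x) (specMap_stalkMap_eq k x)).1 x' hx'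
  exact Groth.Agent.Lib.Helper24.isDomain_and_isIntegrallyClosed_of_ringEquiv e.symm
    (hreg q.asIdeal)

/-- (2) ⟹ (3) for geometric normality at a point. -/
theorem isNormalRing_tensor_stalk_of_forall_finite_purelyInseparable
    (h : ∀ (k' : Type u) [Field k'] [Algebra k k'] [FiniteDimensional k k']
      [IsPurelyInseparable k k'] (x' : ↥(Curv2.bc k X k')), Curv2.bcFst k X k' x' = x →
        IsDomain ↥((Curv2.bc k X k').presheaf.stalk x') ∧
          IsIntegrallyClosed ↥((Curv2.bc k X k').presheaf.stalk x'))
    (K : Type u) [Field K] [Algebra k K] : EGA4.IsNormalRing (K ⊗[k] ↥(X.presheaf.stalk x)) := by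
  apply isNormalRing_tensor_of_forall_finite_purelyInseparable
  intro k' _ _ hfin hpi
  exact isNormalRing_tensor_stalk_of_forall k X x k' (fun x' hx' => h k' x' hx')

end

/-- A field extension `K/k` with `Spec K → Spec k` geometrically reduced is geometrically reduced
in the algebraic sense. -/
theorem isGeometricallyReduced_of_geometricallyReduced_specMap (k K : Type u) [Field k] [Field K]
    [Algebra k K] [hK : GeometricallyReduced (Spec.map (CommRingCat.ofHom (algebraMap k K)))] :
    Algebra.IsGeometricallyReduced k K := by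
  rw [Algebra.isGeometricallyReduced_field_iff]
  have h1 := hK.geometrically_isReduced
  rw [geometrically_iff_of_commRing_of_isClosedUnderIsomorphisms] at h1
  have h2 : IsReduced (pullback (Spec.map (CommRingCat.ofHom (algebraMap k K)))
      (Spec.map (CommRingCat.ofHom (algebraMap k (AlgebraicClosure k))))) :=
    h1 (AlgebraicClosure k)
  have h3 : IsReduced (Spec (CommRingCat.of (K ⊗[k] AlgebraicClosure k))) :=
    isReduced_of_isOpenImmersion (pullbackSpecIso k K (AlgebraicClosure k)).inv
  have h4 : _root_.IsReduced (K ⊗[k] AlgebraicClosure k) := (affine_isReduced_iff _).mp h3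
  exact isReduced_of_injective (Algebra.TensorProduct.comm k (AlgebraicClosure k) K)
    (Algebra.TensorProduct.comm k (AlgebraicClosure k) K).injective

end Groth.Agent.Lib.Helper50
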