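import Mathlib

/-!
# Geometric reducedness passes to localizations (helper50)
-/

open TensorProduct

universe u

namespace Groth.Agent.Lib.Helper50

theorem isGeometricallyReduced_of_isLocalization {k A B : Type u} [Field k] [CommRing A]
    [CommRing B] [Algebra k A] [Algebra k B] [Algebra A B] [IsScalarTower k A B]
    (M : Submonoid A) [IsLocalization M B] [Algebra.IsGeometricallyReduced k A] :
    Algebra.IsGeometricallyReduced k B := by
  rw [Algebra.isGeometricallyReduced_field_iff]
  let K := AlgebraicClosure k
  have hA : IsReduced (K ⊗[k] A) := (Algebra.isGeometricallyReduced_field_iff k A).mp inferInstance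
  letI : Algebra (K ⊗[k] A) (K ⊗[k] B) :=
    (Algebra.TensorProduct.map (AlgHom.id K K) (IsScalarTower.toAlgHom k A B)).toRingHom.toAlgebra
  have hST : IsScalarTower K (K ⊗[k] A) (K ⊗[k] B) :=
    IsScalarTower.of_algebraMap_eq' (by
      ext x
      simp [RingHom.algebraMap_toAlgebra, Algebra.TensorProduct.algebraMap_apply])
  have hloc := IsLocalization.tensorProduct_tensorProduct_right k K M B (by
    ext x
    simp [RingHom.algebraMap_toAlgebra])
  exact isReduced_localizationPreserves
    (M.map (Algebra.TensorProduct.includeRight (R := k) (A := K))) (K ⊗[k] B) hA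

end Groth.Agent.Lib.Helper50
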