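import Mathlib
import Groth.Prelude
import Groth.Agent.Lib.Helper50.GeomReducedLoc

/-!
# The local ring at a generization is a localization of the local ring (helper50)
-/

open CategoryTheory AlgebraicGeometry TopologicalSpace

universe u

namespace Groth.Agent.Lib.Helper50

/-- The local ring at a generization `x₀` of `x` is a localization of the local ring at `x`
(via `stalkSpecializes`). -/
theorem exists_isLocalization_stalkSpecializes {X : Scheme.{u}} {x x₀ : X} (h : x₀ ⤳ x) :
    letI := (X.presheaf.stalkSpecializes h).hom.toAlgebra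
    ∃ M : Submonoid (X.presheaf.stalk x), IsLocalization M (X.presheaf.stalk x₀) := by
  letI := (X.presheaf.stalkSpecializes h).hom.toAlgebra
  obtain ⟨_, ⟨V, hV, rfl⟩, hxV, -⟩ :=
    X.isBasis_affineOpens.exists_subset_of_mem_open (Set.mem_univ x) isOpen_univ
  have hx₀V : x₀ ∈ V := h.mem_open V.isOpen hxV
  letI a1 : Algebra Γ(X, V) (X.presheaf.stalk x) :=
    TopCat.Presheaf.algebra_section_stalk X.presheaf ⟨x, hxV⟩
  letI a2 : Algebra Γ(X, V) (X.presheaf.stalk x₀) :=
    TopCat.Presheaf.algebra_section_stalk X.presheaf ⟨x₀, hx₀V⟩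
  have l1 : IsLocalization.AtPrime (X.presheaf.stalk x) (hV.primeIdealOf ⟨x, hxV⟩).asIdeal :=
    hV.isLocalization_stalk ⟨x, hxV⟩
  have l2 : IsLocalization.AtPrime (X.presheaf.stalk x₀) (hV.primeIdealOf ⟨x₀, hx₀V⟩).asIdeal :=
    hV.isLocalization_stalk ⟨x₀, hx₀V⟩
  have hst : IsScalarTower Γ(X, V) (X.presheaf.stalk x) (X.presheaf.stalk x₀) := by
    apply IsScalarTower.of_algebraMap_eq'
    have := X.presheaf.germ_stalkSpecializes hxV h
    ext s
    exact (congrArg (fun t => t.hom s) this).symm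
  have hle : (hV.primeIdealOf ⟨x, hxV⟩).asIdeal.primeCompl ≤
      (hV.primeIdealOf ⟨x₀, hx₀V⟩).asIdeal.primeCompl := by
    intro s hs
    have hu : IsUnit (algebraMap Γ(X, V) (X.presheaf.stalk x) s) :=
      (IsLocalization.AtPrime.isUnit_to_map_iff _ (hV.primeIdealOf ⟨x, hxV⟩).asIdeal s).mpr hs
    have hu' : IsUnit (algebraMap Γ(X, V) (X.presheaf.stalk x₀) s) := by
      rw [IsScalarTower.algebraMap_apply Γ(X, V) (X.presheaf.stalk x) (X.presheaf.stalk x₀)]
      exact hu.map _
    exact (IsLocalization.AtPrime.isUnit_to_map_iff _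
      (hV.primeIdealOf ⟨x₀, hx₀V⟩).asIdeal s).mp hu'
  exact ⟨_, IsLocalization.isLocalization_of_submonoid_le (X.presheaf.stalk x)
    (X.presheaf.stalk x₀) _ _ hle⟩

/-- Geometric reducedness of the local ring passes to generizations. -/
theorem isGeometricallyReduced_stalk_of_specializes {X : Scheme.{u}} {k : Type u} [Field k]
    {x x₀ : X} (h : x₀ ⤳ x) (φ : k →+* X.presheaf.stalk x) (φ₀ : k →+* X.presheaf.stalk x₀)
    (hφ : φ₀ = (X.presheaf.stalkSpecializes h).hom.comp φ)
    (hgr : letI := φ.toAlgebra; Algebra.IsGeometricallyReduced k (X.presheaf.stalk x)) :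
    letI := φ₀.toAlgebra
    Algebra.IsGeometricallyReduced k (X.presheaf.stalk x₀) := by
  letI := φ.toAlgebra
  letI := φ₀.toAlgebra
  letI := (X.presheaf.stalkSpecializes h).hom.toAlgebra
  obtain ⟨M, hM⟩ := exists_isLocalization_stalkSpecializes h
  have : IsScalarTower k (X.presheaf.stalk x) (X.presheaf.stalk x₀) :=
    IsScalarTower.of_algebraMap_eq' hφ
  exact isGeometricallyReduced_of_isLocalization M

end Groth.Agent.Lib.Helper50
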