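import Mathlib
import Groth.Prelude
import Groth.Agent.Lib.Helper50.GeomScheme

/-!
# Base change of closed subsets of schemes over a field (helper50)
-/

open CategoryTheory AlgebraicGeometry Limits TopologicalSpace

universe u

namespace Groth.Agent.Lib.Helper50

/-- For an embedding, the source is irreducible iff the range is. -/
theorem irreducibleSpace_iff_isIrreducible_range {A B : Type*} [TopologicalSpace A]
    [TopologicalSpace B] {j : A → B} (hj : Topology.IsEmbedding j) :
    IrreducibleSpace A ↔ IsIrreducible (Set.range j) := by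
  rw [hj.toHomeomorph.irreducibleSpace_iff, isIrreducible_iff_irreducibleSpace]

/-- Base change of a morphism `i : A ⟶ Y` along a cartesian square over field spectra: the
induced map has range the preimage of the range of `i`, and is a closed immersion if `i` is. -/
theorem exists_bc_of_hom {Y Y' A : Scheme.{u}} {L K : Type u} [Field L] [Field K]
    (s : Y ⟶ Spec (CommRingCat.of L)) (s' : Y' ⟶ Spec (CommRingCat.of K)) (d : L →+* K)
    (π : Y' ⟶ Y) (hπ : IsPullback π s' s (Spec.map (CommRingCat.ofHom d))) (i : A ⟶ Y) :
    ∃ J : pullback (i ≫ s) (Spec.map (CommRingCat.ofHom d)) ⟶ Y',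
      Set.range J = π ⁻¹' Set.range i ∧ (IsClosedImmersion i → IsClosedImmersion J) := by
  let J : pullback (i ≫ s) (Spec.map (CommRingCat.ofHom d)) ⟶ Y' :=
    hπ.lift (pullback.fst _ _ ≫ i) (pullback.snd _ _) (by rw [Category.assoc, pullback.condition])
  have hJ1 : J ≫ π = pullback.fst _ _ ≫ i := hπ.lift_fst _ _ _
  have hJ2 : J ≫ s' = pullback.snd _ _ := hπ.lift_snd _ _ _
  have sq : IsPullback J (pullback.fst (i ≫ s) (Spec.map (CommRingCat.ofHom d))) π i := by
    refine IsPullback.of_right ?_ hJ1 hπ.flip
    rw [hJ2]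
    exact (IsPullback.of_hasPullback (i ≫ s) (Spec.map (CommRingCat.ofHom d))).flip
  refine ⟨J, ?_, fun hi => MorphismProperty.of_isPullback sq.flip hi⟩
  have e : sq.isoPullback.hom ≫ pullback.fst π i = J := sq.isoPullback_hom_fst
  have hsurj : Set.range ⇑sq.isoPullback.hom = Set.univ :=
    Set.range_eq_univ.mpr sq.isoPullback.hom.homeomorph.surjective
  rw [← e, Scheme.Hom.comp_base, TopCat.coe_comp, Set.range_comp, hsurj, Set.image_univ,
    Scheme.Pullback.range_fst]

/-- Over a separably closed field `L`, preimages of irreducible closed subsets under base change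
to an extension field are irreducible. -/
theorem isIrreducible_preimage_of_isSepClosed {Y Y' : Scheme.{u}} {L K : Type u} [Field L]
    [IsSepClosed L] [Field K]
    (s : Y ⟶ Spec (CommRingCat.of L)) (s' : Y' ⟶ Spec (CommRingCat.of K)) (d : L →+* K)
    (π : Y' ⟶ Y) (hπ : IsPullback π s' s (Spec.map (CommRingCat.ofHom d)))
    (T : Set Y) (hT : IsIrreducible T) (hTc : IsClosed T) : IsIrreducible (π ⁻¹' T) := by
  let Z : Closeds Y := ⟨T, hTc⟩
  let I := Scheme.IdealSheafData.vanishingIdeal Z
  let i : I.subscheme ⟶ Y := I.subschemeι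
  have hi : Set.range i = T := by
    rw [Scheme.IdealSheafData.range_subschemeι, Scheme.IdealSheafData.coe_support_vanishingIdeal]
    rfl
  have hA : IrreducibleSpace I.subscheme := by
    rw [irreducibleSpace_iff_isIrreducible_range i.isEmbedding, hi]
    exact hT
  obtain ⟨J, hJ, -⟩ := exists_bc_of_hom s s' d π hπ i
  rw [← hi, ← hJ]
  -- the base change of `A` is irreducible
  have h1 : IrreducibleSpace ↥(pullback (i ≫ s) (Spec.map (CommRingCat.ofHom (RingHom.id L)))) := by
    have hid : Spec.map (CommRingCat.ofHom (RingHom.id L)) = 𝟙 _ := by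
      rw [CommRingCat.ofHom_id, Spec.map_id]
    have hiso : IsIso (pullback.fst (i ≫ s) (Spec.map (CommRingCat.ofHom (RingHom.id L)))) := by
      have : IsIso (Spec.map (CommRingCat.ofHom (RingHom.id L))) := by rw [hid]; infer_instance
      infer_instance
    exact ((asIso (pullback.fst (i ≫ s)
      (Spec.map (CommRingCat.ofHom (RingHom.id L))))).hom.homeomorph.irreducibleSpace_iff).mpr hA
  have h2 : IrreducibleSpace ↥(pullback (i ≫ s) (Spec.map (CommRingCat.ofHom d))) :=
    irreducibleSpace_pullback_of_square (i ≫ s) (RingHom.id L) d d (RingHom.id K) rfl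
  rw [← Set.image_univ]
  exact (IrreducibleSpace.isIrreducible_univ _).image _ J.continuous.continuousOn

end Groth.Agent.Lib.Helper50
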