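import Mathlib
import Groth.Agent.Lib.Helper50.GeomReduced

/-!
# Field extensions in which the base field is separably algebraically closed
-/

universe u

namespace Groth.Agent.Lib.Helper50

open TensorProduct Polynomial

/-- If `Spec (k' ⊗[k] K)` is irreducible for the subfield `k' = k(α)` generated by a separable
element `α` of `K`, then `α ∈ k`. -/
theorem mem_range_algebraMap_of_irreducibleSpace_tensor {k K : Type*} [Field k] [Field K]
    [Algebra k K] (α : K) (hα : IsSeparable k α)
    (h : IrreducibleSpace (PrimeSpectrum ((IntermediateField.adjoin k {α}) ⊗[k] K))) :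
    α ∈ Set.range (algebraMap k K) := by
  have hint : IsIntegral k α := hα.isIntegral
  have hsep : Algebra.IsSeparable k (IntermediateField.adjoin k {α}) :=
    (IntermediateField.isSeparable_adjoin_simple_iff_isSeparable k K).mpr hα
  have hred' : IsReduced (K ⊗[k] (IntermediateField.adjoin k {α})) :=
    isReduced_tensor_of_isSeparable
  have hred : IsReduced ((IntermediateField.adjoin k {α}) ⊗[k] K) :=
    isReduced_of_injective (Algebra.TensorProduct.comm k (IntermediateField.adjoin k {α}) K)
      (Algebra.TensorProduct.comm k (IntermediateField.adjoin k {α}) K).injective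
  have hprime : (nilradical ((IntermediateField.adjoin k {α}) ⊗[k] K)).IsPrime :=
    PrimeSpectrum.irreducibleSpace_iff_isPrime_nilradical.mp h
  rw [nilradical_eq_zero, Ideal.zero_eq_bot] at hprime
  have hdom : IsDomain ((IntermediateField.adjoin k {α}) ⊗[k] K) :=
    IsDomain.of_bot_isPrime ((IntermediateField.adjoin k {α}) ⊗[k] K)
  have hfield : IsField ((IntermediateField.adjoin k {α}) ⊗[k] K) :=
    Algebra.TensorProduct.isField_of_isAlgebraic k (IntermediateField.adjoin k {α}) K (Or.inl inferInstance)
  have hld := IntermediateField.LinearDisjoint.of_isField' hfield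
    (IntermediateField.adjoin k {α}).val (AlgHom.id k K)
  have hbot := hld.inf_eq_bot
  rw [IntermediateField.fieldRange_val, AlgHom.fieldRange_eq_top.mpr Function.surjective_id, inf_top_eq] at hbot
  have hmem : α ∈ IntermediateField.adjoin k {α} := IntermediateField.mem_adjoin_simple_self k α
  rw [hbot] at hmem
  exact IntermediateField.mem_bot.mp hmem

/-- If `k` is separably algebraically closed in `K`, a monic irreducible separable polynomial
over `k` stays irreducible over `K`. -/
theorem irreducible_map_of_separable {k K : Type*} [Field k] [Field K] [Algebra k K]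
    (hK : ∀ α : K, IsSeparable k α → α ∈ Set.range (algebraMap k K))
    {f : k[X]} (hf : Irreducible f) (hfm : f.Monic) (hfs : f.Separable) :
    Irreducible (f.map (algebraMap k K)) := by
  have key : ∀ g : K[X], g.Monic → g ∣ f.map (algebraMap k K) →
      g = 1 ∨ g = f.map (algebraMap k K) := by
    intro g hg hgf
    have hFsep : Algebra.IsSeparable k
        (IntermediateField.adjoin k (f.rootSet (AlgebraicClosure K))) := by
      rw [IntermediateField.isSeparable_adjoin_iff_isSeparable]
      intro x hx
      have : minpoly k x ∣ f := minpoly.dvd k x ((Polynomial.mem_rootSet.mp hx).2)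
      exact hfs.of_dvd this
    have hsplit : (g.map (algebraMap K (AlgebraicClosure K))).Splits := IsAlgClosed.splits _
    have hroots : ∀ r ∈ (g.map (algebraMap K (AlgebraicClosure K))).roots,
        r ∈ (algebraMap (IntermediateField.adjoin k (f.rootSet (AlgebraicClosure K)))
          (AlgebraicClosure K)).range := by
      intro r hr
      have hr' : r ∈ IntermediateField.adjoin k (f.rootSet (AlgebraicClosure K)) := by
        apply IntermediateField.subset_adjoin
        rw [Polynomial.mem_rootSet]
        refine ⟨hf.ne_zero, ?_⟩
        have h1 : (g.map (algebraMap K (AlgebraicClosure K))).eval r = 0 :=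
          (Polynomial.mem_roots'.mp hr).2
        obtain ⟨q, hq⟩ := hgf
        have h2 : (f.map (algebraMap k (AlgebraicClosure K))) =
            g.map (algebraMap K (AlgebraicClosure K)) * q.map (algebraMap K (AlgebraicClosure K)) := by
          rw [← Polynomial.map_mul, ← hq, Polynomial.map_map, ← IsScalarTower.algebraMap_eq]
        rw [Polynomial.aeval_def, ← Polynomial.eval_map, h2, Polynomial.eval_mul, h1, zero_mul]
      exact ⟨⟨r, hr'⟩, rfl⟩
    have hlift := hsplit.mem_lift_of_roots_mem_range (hg.map _) _ hroots
    have hcoeff : ∀ n, g.coeff n ∈ Set.range (algebraMap k K) := by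
      intro n
      apply hK
      obtain ⟨c, hc⟩ := (Polynomial.lifts_iff_coeff_lifts _).mp hlift n
      have hsepc : IsSeparable k c := Algebra.IsSeparable.isSeparable k c
      rw [Polynomial.coeff_map] at hc
      have h3 : minpoly k (g.coeff n) = minpoly k c := by
        rw [← minpoly.algebraMap_eq (algebraMap K (AlgebraicClosure K)).injective (g.coeff n),
          ← hc]
        exact minpoly.algebraMap_eq (algebraMap (IntermediateField.adjoin k
          (f.rootSet (AlgebraicClosure K))) (AlgebraicClosure K)).injective c
      unfold IsSeparable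
      rw [h3]
      exact hsepc
    obtain ⟨g₀, hg₀, -, hmonic⟩ := Polynomial.lifts_and_degree_eq_and_monic
      ((Polynomial.lifts_iff_coeff_lifts g).mpr hcoeff) hg
    have hdvd : g₀ ∣ f := by
      rw [← Polynomial.map_dvd_map (algebraMap k K) (algebraMap k K).injective hmonic, hg₀]
      exact hgf
    rcases (hf.dvd_iff.mp hdvd) with h | h
    · left
      rw [← hg₀, hmonic.eq_one_of_isUnit h, Polynomial.map_one]
    · right
      have : g₀ = f := eq_of_monic_of_associated hmonic hfm h.symm
      rw [← hg₀, this]
  have hne1 : f.map (algebraMap k K) ≠ 1 := by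
    intro h
    have : f = 1 := Polynomial.map_injective _ (algebraMap k K).injective
      (by rw [h, Polynomial.map_one])
    exact hf.ne_one this
  refine (irreducible_of_monic (hfm.map _) hne1).mpr fun a b ha hb hab => ?_
  rcases key a ha ⟨b, hab.symm⟩ with h | h
  · exact Or.inl h
  · right
    rw [h] at hab
    exact (mul_eq_left₀ (hfm.map (algebraMap k K)).ne_zero).mp hab

/-- If `k` is separably algebraically closed in `K` and `k'/k` is finite separable, then
`k' ⊗[k] K` is a domain. -/
theorem isDomain_tensor_of_finite_separable {k K k' : Type*} [Field k] [Field K] [Algebra k K]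
    (hK : ∀ α : K, IsSeparable k α → α ∈ Set.range (algebraMap k K))
    [Field k'] [Algebra k k'] [Module.Finite k k'] [Algebra.IsSeparable k k'] :
    IsDomain (k' ⊗[k] K) := by
  let fa : k' →ₐ[k] AlgebraicClosure K := IsAlgClosed.lift
  let e : k' ≃ₐ[k] fa.fieldRange := AlgEquiv.ofInjectiveField fa
  let pb := Field.powerBasisOfFiniteOfSeparable k k'
  have hirr : Irreducible ((minpoly k pb.gen).map (algebraMap k K)) :=
    irreducible_map_of_separable hK (minpoly.irreducible (Algebra.IsIntegral.isIntegral _))
      (minpoly.monic (Algebra.IsIntegral.isIntegral _))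
      (Algebra.IsSeparable.isSeparable k pb.gen)
  have hmin : (minpoly k pb.gen).map (algebraMap k K) = minpoly K (fa pb.gen) := by
    apply minpoly.eq_of_irreducible_of_monic hirr
    · rw [Polynomial.aeval_map_algebraMap, Polynomial.aeval_algHom_apply, minpoly.aeval, map_zero]
    · exact (minpoly.monic (Algebra.IsIntegral.isIntegral _)).map _
  have hdim : (minpoly K (fa pb.gen)).natDegree = pb.dim := by
    rw [← hmin, Polynomial.natDegree_map, PowerBasis.natDegree_minpoly]
  let a : Module.Basis (Fin pb.dim) k fa.fieldRange := pb.basis.map e.toLinearEquiv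
  have hLI : LinearIndependent K (fa.fieldRange.val ∘ a) := by
    have h1 := linearIndependent_pow (K := K) (fa pb.gen)
    have h2 := h1.comp (Fin.cast hdim.symm) (Fin.cast_injective _)
    convert h2 using 1
    ext i
    simp only [a, e, PowerBasis.basis_eq_pow, Function.comp_apply, Module.Basis.map_apply,
      IntermediateField.coe_val, Fin.val_cast]
    rw [← map_pow]
    rfl
  have H : fa.fieldRange.LinearDisjoint K := IntermediateField.LinearDisjoint.of_basis_left a hLI
  have hdom : IsDomain (fa.fieldRange ⊗[k] K) := H.isDomain
  exact (Algebra.TensorProduct.congr e (AlgEquiv.refl : K ≃ₐ[k] K)).toMulEquiv.isDomain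

end Groth.Agent.Lib.Helper50
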