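import Mathlib
import Groth.Agent.Lib.Helper50.TensorDomain
import Groth.Agent.Lib.Helper50.SpecConnected

/-!
# Irreducibility of `Spec (K ⊗[k] R)` under change of the field `K`
-/

universe u

namespace Groth.Agent.Lib.Helper50

open TensorProduct

section directed

variable {k : Type*} [Field k] {R : Type*} [CommRing R] [Algebra k R]

/-- If `Spec (L ⊗ R)` is irreducible for all finite subextensions `L` of an algebraic extension
`K/k`, then `Spec (K ⊗ R)` is irreducible. -/
theorem irreducibleSpace_tensor_of_forall_finite {K : Type*} [Field K] [Algebra k K]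
    [Algebra.IsAlgebraic k K]
    (h : ∀ L : IntermediateField k K, FiniteDimensional k L →
      IrreducibleSpace (PrimeSpectrum (L ⊗[k] R))) :
    IrreducibleSpace (PrimeSpectrum (K ⊗[k] R)) := by
  classical
  have hflat : ∀ (L : IntermediateField k K),
      Function.Injective (Algebra.TensorProduct.map L.val (AlgHom.id k R)) := by
    intro L
    have := Module.Flat.rTensor_preserves_injective_linearMap (M := R) L.val.toLinearMap
      Subtype.val_injective
    intro a b hab
    exact this hab
  rw [PrimeSpectrum.irreducibleSpace_iff_isPrime_nilradical]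
  refine ⟨?_, ?_⟩
  · intro htop
    have h1 : (1 : K ⊗[k] R) ∈ nilradical (K ⊗[k] R) := htop ▸ Submodule.mem_top
    rw [mem_nilradical] at h1
    have hbot := h ⊥ inferInstance
    have hnt : Nontrivial ((⊥ : IntermediateField k K) ⊗[k] R) :=
      PrimeSpectrum.nonempty_iff_nontrivial.mp hbot.toNonempty
    have h2 : (1 : K ⊗[k] R) = 0 := by
      obtain ⟨n, hn⟩ := h1
      rwa [one_pow] at hn
    exact one_ne_zero (hflat ⊥ (by rw [map_one, map_zero]; exact h2))
  · intro x y hxy
    obtain ⟨J, hJ, hsub⟩ := Submodule.exists_fg_le_subset_range_rTensor_subtype (R := k)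
      ({x, y} : Set (K ⊗[k] R)) (by simp)
    obtain ⟨t, ht⟩ := hJ
    let L : IntermediateField k K := IntermediateField.adjoin k (t : Set K)
    have hLfin : FiniteDimensional k L :=
      IntermediateField.finiteDimensional_adjoin (fun z _ => Algebra.IsIntegral.isIntegral z)
    have hJL : J ≤ L.toSubalgebra.toSubmodule := by
      rw [← ht]
      exact Submodule.span_le.mpr (IntermediateField.subset_adjoin k _)
    have hirr := h L hLfin
    have hprime := PrimeSpectrum.irreducibleSpace_iff_isPrime_nilradical.mp hirr
    have hcomp : ∀ w : J ⊗[k] R, Algebra.TensorProduct.map L.val (AlgHom.id k R)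
        ((Submodule.inclusion hJL).rTensor R w) = J.subtype.rTensor R w := by
      intro w
      induction w with
      | zero => simp
      | tmul a b => rfl
      | add u v hu hv => rw [map_add, map_add, map_add, hu, hv]
    have hrange : ∀ z ∈ ({x, y} : Set (K ⊗[k] R)),
        ∃ z', Algebra.TensorProduct.map L.val (AlgHom.id k R) z' = z := by
      intro z hz
      obtain ⟨w, hw⟩ := hsub hz
      exact ⟨(Submodule.inclusion hJL).rTensor R w, (hcomp w).trans hw⟩
    obtain ⟨x', rfl⟩ := hrange x (by simp)
    obtain ⟨y', rfl⟩ := hrange y (by simp)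
    rw [← map_mul, mem_nilradical] at hxy
    have h0 : x' * y' ∈ nilradical (L ⊗[k] R) := by
      rw [mem_nilradical]
      exact (IsNilpotent.map_iff (hflat L)).mp hxy
    rcases hprime.mem_or_mem h0 with h1 | h1
    · left
      rw [mem_nilradical] at h1 ⊢
      exact h1.map _
    · right
      rw [mem_nilradical] at h1 ⊢
      exact h1.map _

end directed

section algClosed

variable {k : Type*} [Field k] [IsAlgClosed k]

/-- Over an algebraically closed field, irreducibility of the spectrum is preserved by extension
of the base field. -/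
theorem irreducibleSpace_tensor_of_isAlgClosed {Ω A : Type*} [Field Ω] [Algebra k Ω] [CommRing A]
    [Algebra k A] [hA : IrreducibleSpace (PrimeSpectrum A)] :
    IrreducibleSpace (PrimeSpectrum (Ω ⊗[k] A)) := by
  have hN : (nilradical A).IsPrime := PrimeSpectrum.irreducibleSpace_iff_isPrime_nilradical.mp hA
  have hdom : IsDomain (Ω ⊗[k] (A ⧸ nilradical A)) := isDomain_tensorProduct_of_isAlgClosed
  let π : Ω ⊗[k] A →ₐ[k] Ω ⊗[k] (A ⧸ nilradical A) :=
    Algebra.TensorProduct.map (AlgHom.id k Ω) (Ideal.Quotient.mkₐ k (nilradical A))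
  have hex0 : Function.Exact ((nilradical A).restrictScalars k).subtype
      (Ideal.Quotient.mkₐ k (nilradical A)).toLinearMap := by
    intro y
    constructor
    · intro hy
      exact ⟨⟨y, Ideal.Quotient.eq_zero_iff_mem.mp hy⟩, rfl⟩
    · rintro ⟨z, rfl⟩
      exact Ideal.Quotient.eq_zero_iff_mem.mpr z.2
  have hex := lTensor_exact Ω hex0 (Ideal.Quotient.mkₐ_surjective k (nilradical A))
  have hker : ∀ x, π x = 0 → IsNilpotent x := by
    intro x hx
    have hx' : (Ideal.Quotient.mkₐ k (nilradical A)).toLinearMap.lTensor Ω x = 0 := hx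
    obtain ⟨w, rfl⟩ := (hex x).mp hx'
    clear hx hx'
    induction w with
    | zero => simp
    | tmul ω n =>
      obtain ⟨m, hm⟩ := mem_nilradical.mp n.2
      refine ⟨m, ?_⟩
      rw [LinearMap.lTensor_tmul, Algebra.TensorProduct.tmul_pow]
      change (ω ^ m) ⊗ₜ[k] ((n : A) ^ m) = 0
      rw [hm, tmul_zero]
    | add u v hu hv =>
      rw [map_add]
      exact (Commute.all _ _).isNilpotent_add hu hv
  rw [PrimeSpectrum.irreducibleSpace_iff_isPrime_nilradical]
  have hnil : nilradical (Ω ⊗[k] A) = RingHom.ker π.toRingHom := by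
    ext x
    rw [mem_nilradical, RingHom.mem_ker]
    constructor
    · intro hx
      exact (hx.map π).eq_zero
    · exact hker x
  rw [hnil]
  exact RingHom.ker_isPrime _

end algClosed

end Groth.Agent.Lib.Helper50
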