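import Mathlib
import Groth.Agent.S9630
import Groth.Agent.Lib.Helper50.SepClosedIn

/-!
# Fields in which `k` is separably closed are geometrically irreducible (helper50)
-/

open TensorProduct

universe u

namespace Groth.Agent.Lib.Helper50

/-- If `k` is separably algebraically closed in the field `L`, then `Spec (K ⊗[k] L)` is
irreducible for every field extension `K/k`. -/
theorem irreducibleSpace_tensor_of_sepClosedIn {k L : Type u} [Field k] [Field L] [Algebra k L]
    (hL : ∀ α : L, IsSeparable k α → α ∈ Set.range (algebraMap k L))
    (K : Type u) [Field K] [Algebra k K] :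
    IrreducibleSpace (PrimeSpectrum (K ⊗[k] L)) := by
  have h2 : ∀ (k' : Type u) [Field k'] [Algebra k k'] [Module.Finite k k']
      [Algebra.IsSeparable k k'], IrreducibleSpace (PrimeSpectrum (k' ⊗[k] L)) := by
    intro k' _ _ _ _
    have : IsDomain (k' ⊗[k] L) := isDomain_tensor_of_finite_separable hL
    infer_instance
  have h21 := (Groth.Agent.S9630.result (k := k) (R := L)).out 1 0
  exact h21.mp h2 K

theorem irreducibleSpace_tensor_of_sepClosedIn' {k L : Type u} [Field k] [Field L] [Algebra k L]
    (hL : ∀ α : L, IsSeparable k α → α ∈ Set.range (algebraMap k L))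
    (K : Type u) [Field K] [Algebra k K] :
    IrreducibleSpace (PrimeSpectrum (L ⊗[k] K)) := by
  have := irreducibleSpace_tensor_of_sepClosedIn hL K
  exact ((PrimeSpectrum.homeomorphOfRingEquiv
    (Algebra.TensorProduct.comm k K L).toRingEquiv).irreducibleSpace_iff).mp this

end Groth.Agent.Lib.Helper50
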