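import Mathlib
import Groth.Agent.Lib.Helper50.SepClosedIn2

/-!
# Primes of `κ ⊗[k] Ω` and the separable closure of `k` in `κ` (helper50)
-/

open TensorProduct

namespace Groth.Agent.Lib.Helper50

universe u

/-- If `F` is separably closed in `κ` and `Ω/F` is algebraic, then `κ ⊗[F] Ω` has a unique
prime ideal. -/
theorem subsingleton_primeSpectrum_tensor_of_sepClosedIn {F κ Ω : Type u} [Field F] [Field κ]
    [Algebra F κ] [Field Ω] [Algebra F Ω] [Algebra.IsAlgebraic F Ω]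
    (h : ∀ α : κ, IsSeparable F α → α ∈ Set.range (algebraMap F κ)) :
    Subsingleton (PrimeSpectrum (κ ⊗[F] Ω)) := by
  have hirr : IrreducibleSpace (PrimeSpectrum (κ ⊗[F] Ω)) :=
    irreducibleSpace_tensor_of_sepClosedIn' h Ω
  have hprime : (nilradical (κ ⊗[F] Ω)).IsPrime :=
    PrimeSpectrum.irreducibleSpace_iff_isPrime_nilradical.mp hirr
  have hint : Algebra.IsIntegral κ (κ ⊗[F] Ω) := inferInstance
  have hmax : ∀ P : Ideal (κ ⊗[F] Ω), P.IsPrime → P.IsMaximal := by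
    intro P hP
    exact Ideal.isMaximal_of_isIntegral_of_isMaximal_comap (R := κ) P
      (by
        have : (P.comap (algebraMap κ (κ ⊗[F] Ω))).IsPrime := Ideal.comap_isPrime _ _
        rw [Ideal.eq_bot_of_prime (P.comap (algebraMap κ (κ ⊗[F] Ω)))]
        exact Ideal.bot_isMaximal)
  have hNmax : (nilradical (κ ⊗[F] Ω)).IsMaximal := hmax _ hprime
  refine ⟨fun P Q => ?_⟩
  have hP : nilradical (κ ⊗[F] Ω) ≤ P.asIdeal := nilradical_le_prime P.asIdeal
  have hQ : nilradical (κ ⊗[F] Ω) ≤ Q.asIdeal := nilradical_le_prime Q.asIdeal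
  have hP' := hNmax.eq_of_le P.2.ne_top hP
  have hQ' := hNmax.eq_of_le Q.2.ne_top hQ
  exact PrimeSpectrum.ext (hP'.symm.trans hQ')


/-- The kernel of `κ ⊗[k] Ω → κ ⊗[F] Ω` is contained in every ideal containing the elements
`a ⊗ 1 - 1 ⊗ a`, `a ∈ F`. -/
theorem ker_mapOfCompatibleSMul_le {k F κ Ω : Type u} [Field k] [Field F] [Field κ] [Field Ω]
    [Algebra k F] [Algebra F κ] [Algebra k κ] [IsScalarTower k F κ] [Algebra F Ω] [Algebra k Ω]
    [IsScalarTower k F Ω] (Q : Ideal (κ ⊗[k] Ω))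
    (hQ : ∀ a : F, (algebraMap F κ a) ⊗ₜ[k] (1 : Ω) - (1 : κ) ⊗ₜ[k] (algebraMap F Ω a) ∈ Q) :
    RingHom.ker (Algebra.TensorProduct.mapOfCompatibleSMul F k k κ Ω) ≤ Q := by
  intro x hx
  have hx' : x ∈ LinearMap.ker (TensorProduct.mapOfCompatibleSMul F k F κ Ω) := by
    rw [LinearMap.mem_ker]
    exact hx
  rw [TensorProduct.AlgebraTensorModule.ker_mapOfCompatibleSMul] at hx'
  clear hx
  induction hx' using Submodule.span_induction with
  | mem y hy =>
    obtain ⟨a, m, n, rfl⟩ := hy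
    have : (a • m) ⊗ₜ[k] n - m ⊗ₜ[k] (a • n) =
        (m ⊗ₜ[k] n) * ((algebraMap F κ a) ⊗ₜ[k] (1 : Ω) - (1 : κ) ⊗ₜ[k] (algebraMap F Ω a)) := by
      rw [mul_sub, Algebra.TensorProduct.tmul_mul_tmul, Algebra.TensorProduct.tmul_mul_tmul,
        mul_one, mul_one, Algebra.smul_def, Algebra.smul_def, mul_comm m, mul_comm n]
    rw [this]
    exact Q.mul_mem_left _ (hQ a)
  | zero => exact Q.zero_mem
  | add y z _ _ hy hz => exact Q.add_mem hy hz
  | smul a y _ hy =>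
    have key : ∀ t : κ ⊗[k] Ω, a • t = ((algebraMap F κ a) ⊗ₜ[k] (1 : Ω)) * t := by
      intro t
      induction t with
      | zero => simp
      | tmul m n =>
        rw [Algebra.TensorProduct.tmul_mul_tmul, one_mul, TensorProduct.smul_tmul',
          Algebra.smul_def]
      | add y z hy hz => rw [smul_add, mul_add, hy, hz]
    rw [key]
    exact Q.mul_mem_left _ hy


/-- Two primes of `κ ⊗[k] Ω` containing all `a ⊗ 1 - 1 ⊗ a`, `a ∈ F`, coincide when `F` is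
separably closed in `κ` and `Ω/F` is algebraic. -/
theorem eq_of_forall_tmul_sub_mem {k F κ Ω : Type u} [Field k] [Field F] [Field κ] [Field Ω]
    [Algebra k F] [Algebra F κ] [Algebra k κ] [IsScalarTower k F κ] [Algebra F Ω] [Algebra k Ω]
    [IsScalarTower k F Ω] [Algebra.IsAlgebraic F Ω]
    (h : ∀ α : κ, IsSeparable F α → α ∈ Set.range (algebraMap F κ))
    (Q₁ Q₂ : PrimeSpectrum (κ ⊗[k] Ω))
    (hQ₁ : ∀ a : F, (algebraMap F κ a) ⊗ₜ[k] (1 : Ω) - (1 : κ) ⊗ₜ[k] (algebraMap F Ω a) ∈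
      Q₁.asIdeal)
    (hQ₂ : ∀ a : F, (algebraMap F κ a) ⊗ₜ[k] (1 : Ω) - (1 : κ) ⊗ₜ[k] (algebraMap F Ω a) ∈
      Q₂.asIdeal) : Q₁ = Q₂ := by
  let π := Algebra.TensorProduct.mapOfCompatibleSMul F k k κ Ω
  have hsurj : Function.Surjective π := Algebra.TensorProduct.mapOfCompatibleSMul_surjective F k k κ Ω
  have hk₁ : RingHom.ker π ≤ Q₁.asIdeal := ker_mapOfCompatibleSMul_le Q₁.asIdeal hQ₁
  have hk₂ : RingHom.ker π ≤ Q₂.asIdeal := ker_mapOfCompatibleSMul_le Q₂.asIdeal hQ₂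
  have hp₁ : (Q₁.asIdeal.map π).IsPrime := Ideal.map_isPrime_of_surjective hsurj hk₁
  have hp₂ : (Q₂.asIdeal.map π).IsPrime := Ideal.map_isPrime_of_surjective hsurj hk₂
  have hsub := subsingleton_primeSpectrum_tensor_of_sepClosedIn (Ω := Ω) h
  have heq : Q₁.asIdeal.map π = Q₂.asIdeal.map π :=
    congrArg PrimeSpectrum.asIdeal
      (Subsingleton.elim (⟨_, hp₁⟩ : PrimeSpectrum (κ ⊗[F] Ω)) ⟨_, hp₂⟩)
  have h1 : (Q₁.asIdeal.map π).comap π = Q₁.asIdeal := by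
    rw [Ideal.comap_map_of_surjective π hsurj]
    exact sup_eq_left.mpr hk₁
  have h2 : (Q₂.asIdeal.map π).comap π = Q₂.asIdeal := by
    rw [Ideal.comap_map_of_surjective π hsurj]
    exact sup_eq_left.mpr hk₂
  apply PrimeSpectrum.ext
  rw [← h1, ← h2, heq]


/-- For a prime `Q` of `κ ⊗[k] Ω` with `Ω` separably closed, the separable closure `F` of `k` in
`κ` is identified inside the residue ring with a subfield of `Ω`. -/
theorem exists_algHom_tmul_sub_mem {k κ Ω : Type u} [Field k] [Field κ] [Field Ω]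
    [Algebra k κ] [Algebra k Ω] [IsSepClosed Ω] (Q : Ideal (κ ⊗[k] Ω)) [hQ : Q.IsPrime] :
    ∃ τ : (separableClosure k κ) →ₐ[k] Ω, ∀ a : separableClosure k κ,
      (a : κ) ⊗ₜ[k] (1 : Ω) - (1 : κ) ⊗ₜ[k] (τ a) ∈ Q := by
  let B := (κ ⊗[k] Ω) ⧸ Q
  let ικ : κ →ₐ[k] B := (Ideal.Quotient.mkₐ k Q).comp Algebra.TensorProduct.includeLeft
  let ιΩ : Ω →ₐ[k] B := (Ideal.Quotient.mkₐ k Q).comp Algebra.TensorProduct.includeRight
  have hinj : Function.Injective ιΩ := ιΩ.toRingHom.injective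
  have hrange : ∀ a : separableClosure k κ, ικ (a : κ) ∈ ιΩ.range := by
    intro a
    have hsep : IsSeparable k (a : κ) := mem_separableClosure_iff.mp a.2
    have hint : IsIntegral k (a : κ) := hsep.isIntegral
    have hsplit : ((minpoly k (a : κ)).map (algebraMap k Ω)).Splits :=
      IsSepClosed.splits_codomain _ hsep
    have hne : (minpoly k (a : κ)).map (algebraMap k Ω) ≠ 0 :=
      Polynomial.map_ne_zero (minpoly.ne_zero hint)
    have hroot : (((minpoly k (a : κ)).map (algebraMap k Ω)).map ιΩ.toRingHom).IsRoot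
        (ικ (a : κ)) := by
      rw [Polynomial.map_map, Polynomial.IsRoot, Polynomial.eval_map]
      have : ιΩ.toRingHom.comp (algebraMap k Ω) = algebraMap k B := by
        ext x; exact ιΩ.commutes x
      rw [this, ← Polynomial.aeval_def, Polynomial.aeval_algHom_apply, minpoly.aeval, map_zero]
    obtain ⟨b, hb⟩ := hsplit.mem_range_of_isRoot hne hroot
    exact ⟨b, hb⟩
  let e : Ω ≃ₐ[k] ιΩ.range := AlgEquiv.ofInjective ιΩ hinj
  let τ₀ : (separableClosure k κ) →ₐ[k] ιΩ.range :=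
    (ικ.comp (separableClosure k κ).val).codRestrict ιΩ.range hrange
  refine ⟨e.symm.toAlgHom.comp τ₀, fun a => ?_⟩
  have h1 : ιΩ ((e.symm.toAlgHom.comp τ₀) a) = ικ (a : κ) := by
    have : (e (e.symm (τ₀ a)) : B) = ιΩ (e.symm (τ₀ a)) := rfl
    have h2 : (e (e.symm (τ₀ a)) : B) = ικ (a : κ) := by
      rw [AlgEquiv.apply_symm_apply]; rfl
    exact this.symm.trans h2
  rw [← Ideal.Quotient.eq]
  exact h1.symm


theorem sepClosedIn_separableClosure (k κ : Type u) [Field k] [Field κ] [Algebra k κ] :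
    ∀ α : κ, IsSeparable (separableClosure k κ) α →
      α ∈ Set.range (algebraMap (separableClosure k κ) κ) := by
  intro α hα
  have h1 : α ∈ separableClosure (separableClosure k κ) κ := mem_separableClosure_iff.mpr hα
  rw [separableClosure.separableClosure_eq_bot] at h1
  exact IntermediateField.mem_bot.mp h1

/-- If `L ⊆ Ω` contains the images of all embeddings into `Ω` of the separable closure of `k`
in `κ`, then `Spec (κ ⊗[k] Ω) → Spec (κ ⊗[k] L)` is injective. -/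
theorem comap_tensor_injective_of_range_le {k κ L Ω : Type u} [Field k] [Field κ] [Field L]
    [Field Ω] [Algebra k κ] [Algebra k L] [Algebra k Ω] [IsSepClosed Ω] [Algebra.IsAlgebraic k Ω]
    (d : L →ₐ[k] Ω)
    (hL : ∀ (τ : (separableClosure k κ) →ₐ[k] Ω) (a : separableClosure k κ), τ a ∈ d.range) :
    Function.Injective
      (PrimeSpectrum.comap (Algebra.TensorProduct.map (AlgHom.id k κ) d).toRingHom) := by
  intro Q₁ Q₂ hQ
  obtain ⟨τ₁, hτ₁⟩ := exists_algHom_tmul_sub_mem Q₁.asIdeal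
  obtain ⟨τ₂, hτ₂⟩ := exists_algHom_tmul_sub_mem Q₂.asIdeal
  have hτ : τ₁ = τ₂ := by
    ext a
    obtain ⟨b, hb⟩ := hL τ₁ a
    have hb' : d b = τ₁ a := hb
    have hmem₁ : ((a : κ) ⊗ₜ[k] (1 : L) - (1 : κ) ⊗ₜ[k] b) ∈
        (PrimeSpectrum.comap (Algebra.TensorProduct.map (AlgHom.id k κ) d).toRingHom
          Q₁).asIdeal := by
      rw [PrimeSpectrum.comap_asIdeal, Ideal.mem_comap]
      have : (Algebra.TensorProduct.map (AlgHom.id k κ) d).toRingHom
          ((a : κ) ⊗ₜ[k] (1 : L) - (1 : κ) ⊗ₜ[k] b) =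
          (a : κ) ⊗ₜ[k] (1 : Ω) - (1 : κ) ⊗ₜ[k] (τ₁ a) := by
        simp [hb']
      rw [this]; exact hτ₁ a
    rw [hQ, PrimeSpectrum.comap_asIdeal, Ideal.mem_comap] at hmem₁
    have h2 : (Algebra.TensorProduct.map (AlgHom.id k κ) d).toRingHom
        ((a : κ) ⊗ₜ[k] (1 : L) - (1 : κ) ⊗ₜ[k] b) =
        (a : κ) ⊗ₜ[k] (1 : Ω) - (1 : κ) ⊗ₜ[k] (τ₁ a) := by
      simp [hb']
    rw [h2] at hmem₁
    have h3 : (1 : κ) ⊗ₜ[k] (τ₂ a - τ₁ a) ∈ Q₂.asIdeal := by
      have := Q₂.asIdeal.sub_mem hmem₁ (hτ₂ a)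
      have e : (a : κ) ⊗ₜ[k] (1 : Ω) - (1 : κ) ⊗ₜ[k] (τ₁ a) -
          ((a : κ) ⊗ₜ[k] (1 : Ω) - (1 : κ) ⊗ₜ[k] (τ₂ a)) = (1 : κ) ⊗ₜ[k] (τ₂ a - τ₁ a) := by
        rw [TensorProduct.tmul_sub]; ring
      rwa [e] at this
    by_contra hne
    have hc : τ₂ a - τ₁ a ≠ 0 := sub_ne_zero.mpr (Ne.symm hne)
    have hunit : IsUnit ((1 : κ) ⊗ₜ[k] (τ₂ a - τ₁ a)) := by
      refine IsUnit.of_mul_eq_one ((1 : κ) ⊗ₜ[k] (τ₂ a - τ₁ a)⁻¹) ?_
      rw [Algebra.TensorProduct.tmul_mul_tmul, one_mul, mul_inv_cancel₀ hc]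
      rfl
    exact Q₂.2.ne_top (Ideal.eq_top_of_isUnit_mem _ h3 hunit)
  subst hτ
  letI : Algebra (separableClosure k κ) Ω := τ₁.toRingHom.toAlgebra
  haveI : IsScalarTower k (separableClosure k κ) Ω :=
    IsScalarTower.of_algebraMap_eq (fun x => (τ₁.commutes x).symm)
  haveI : Algebra.IsAlgebraic (separableClosure k κ) Ω :=
    Algebra.IsAlgebraic.tower_top (K := k) (separableClosure k κ)
  exact eq_of_forall_tmul_sub_mem (F := separableClosure k κ) (sepClosedIn_separableClosure k κ)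
    Q₁ Q₂ hτ₁ hτ₂

end Groth.Agent.Lib.Helper50
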