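import Mathlib
import Groth.Prelude
import Groth.Agent.Lib.Helper50.FiberBC
import Groth.Agent.Lib.Helper50.BaseChangeMap
import Groth.Agent.Lib.Helper50.SepClosureFiber

/-!
# The fibre of `X_K ⟶ X` over a point as the spectrum of `κ(x) ⊗[k] K` (helper50)
-/

open CategoryTheory AlgebraicGeometry Limits TensorProduct MorphismProperty

namespace Groth.Agent.Lib.Helper50

universe u

/-- A morphism `Spec (κ(x) ⊗[k] K) ⟶ X_K`, compatible with the projections, injective, with
image the fibre over `x`. -/
theorem exists_fiberMap {X : Scheme.{u}} {k K : Type u} [Field k] [Field K] [Algebra k K]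
    (f : X ⟶ Spec (CommRingCat.of k)) (x : X) (φ : k →+* X.residueField x)
    (hφ : Spec.map (CommRingCat.ofHom φ) = X.fromSpecResidueField x ≫ f) :
    letI := φ.toAlgebra
    ∃ j : Spec (CommRingCat.of (X.residueField x ⊗[k] K)) ⟶
        pullback f (Spec.map (CommRingCat.ofHom (algebraMap k K))),
      j ≫ pullback.fst _ _ = Spec.map (CommRingCat.ofHom
        (Algebra.TensorProduct.includeLeftRingHom :
          X.residueField x →+* X.residueField x ⊗[k] K)) ≫ X.fromSpecResidueField x ∧
      j ≫ pullback.snd _ _ = Spec.map (CommRingCat.ofHom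
        (Algebra.TensorProduct.includeRight : K →ₐ[k] X.residueField x ⊗[k] K).toRingHom) ∧
      (∀ z, pullback.fst f (Spec.map (CommRingCat.ofHom (algebraMap k K))) z = x →
        ∃ w, j w = z) ∧ Function.Injective j := by
  letI := φ.toAlgebra
  let g := Spec.map (CommRingCat.ofHom (algebraMap k K))
  let p := pullback.fst f g
  let r := X.fromSpecResidueField x
  let W := pullback (Spec.map (CommRingCat.ofHom φ)) g
  let jW : W ⟶ pullback f g :=
    pullback.map _ _ _ _ r (𝟙 _) (𝟙 _) (by rw [Category.comp_id, hφ]) (by simp)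
  let eW : W ≅ Spec (CommRingCat.of (X.residueField x ⊗[k] K)) :=
    pullbackSpecIso k (X.residueField x) K
  have hjfst : jW ≫ pullback.fst f g = pullback.fst _ _ ≫ r := pullback.lift_fst _ _ _
  have hjsnd : jW ≫ pullback.snd f g = pullback.snd _ _ :=
    (pullback.lift_snd _ _ _).trans (Category.comp_id _)
  let i : pullback r p ≅ W :=
    pullbackRightPullbackFstIso f g r ≪≫ pullback.congrHom hφ.symm rfl
  have hi : i.hom ≫ jW = pullback.snd r p := by
    apply pullback.hom_ext
    · rw [Category.assoc, hjfst]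
      simp only [i, Iso.trans_hom, Category.assoc, pullback.congrHom_hom]
      erw [pullback.lift_fst_assoc]
      rw [Category.comp_id, pullbackRightPullbackFstIso_hom_fst_assoc, pullback.condition]
    · rw [Category.assoc, hjsnd]
      simp only [i, Iso.trans_hom, Category.assoc, pullback.congrHom_hom]
      erw [pullback.lift_snd]
      rw [Category.comp_id, pullbackRightPullbackFstIso_hom_snd]
  refine ⟨eW.inv ≫ jW, ?_, ?_, ?_, ?_⟩
  · rw [Category.assoc, hjfst, ← Category.assoc]
    congr 1
    exact pullbackSpecIso_inv_fst k (X.residueField x) K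
  · rw [Category.assoc, hjsnd]
    exact pullbackSpecIso_inv_snd k (X.residueField x) K
  · intro z hz
    have hz' : r (IsLocalRing.closedPoint (X.residueField x)) = p z := by
      rw [hz]; exact Scheme.fromSpecResidueField_apply _ _
    obtain ⟨c, -, hc⟩ := Scheme.Pullback.exists_preimage_pullback _ _ hz'
    refine ⟨eW.hom (i.hom c), ?_⟩
    rw [Scheme.Hom.comp_apply, Scheme.hom_inv_apply, ← Scheme.Hom.comp_apply, hi]
    exact hc
  · have h1 : Function.Injective (pullback.snd r p) :=
      (pullback.snd r p).isEmbedding.injective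
    have h2 : jW = i.inv ≫ pullback.snd r p := by rw [← hi, Iso.inv_hom_id_assoc]
    intro a b hab
    simp only [Scheme.Hom.comp_apply, h2] at hab
    have h3 := h1 hab
    have h4 : Function.Injective i.inv := i.symm.hom.homeomorph.injective
    have h5 : Function.Injective eW.inv := eW.symm.hom.homeomorph.injective
    exact h5 (h4 h3)


/-- If `L ⊆ Ω` (`Ω` separably closed and algebraic over `k`) contains all embeddings of the
separable closure of `k` in `κ(x)`, then `X_Ω ⟶ X_L` is injective on the fibre over `x`. -/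
theorem bcMap_injOn_fiber {X : Scheme.{u}} {k L Ω : Type u} [Field k] [Field L] [Field Ω]
    [Algebra k L] [Algebra k Ω] [IsSepClosed Ω] [Algebra.IsAlgebraic k Ω]
    (f : X ⟶ Spec (CommRingCat.of k)) (d : L →ₐ[k] Ω) (x : X) (φ : k →+* X.residueField x)
    (hφ : Spec.map (CommRingCat.ofHom φ) = X.fromSpecResidueField x ≫ f)
    (hL : letI := φ.toAlgebra
      ∀ (τ : separableClosure k (X.residueField x) →ₐ[k] Ω)
        (a : separableClosure k (X.residueField x)), τ a ∈ d.range)
    (π : pullback f (Spec.map (CommRingCat.ofHom (algebraMap k Ω))) ⟶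
      pullback f (Spec.map (CommRingCat.ofHom (algebraMap k L))))
    (hπ1 : π ≫ pullback.fst _ _ = pullback.fst _ _)
    (hπ2 : π ≫ pullback.snd _ _ = pullback.snd _ _ ≫ Spec.map (CommRingCat.ofHom d.toRingHom))
    (ζ₁ ζ₂ : ↥(pullback f (Spec.map (CommRingCat.ofHom (algebraMap k Ω)))))
    (h₁ : pullback.fst f (Spec.map (CommRingCat.ofHom (algebraMap k Ω))) ζ₁ = x)
    (h₂ : pullback.fst f (Spec.map (CommRingCat.ofHom (algebraMap k Ω))) ζ₂ = x)
    (h : π ζ₁ = π ζ₂) : ζ₁ = ζ₂ := by
  letI := φ.toAlgebra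
  obtain ⟨jΩ, hjΩ1, hjΩ2, hjΩs, -⟩ := exists_fiberMap (K := Ω) f x φ hφ
  obtain ⟨jL, hjL1, hjL2, -, hjLi⟩ := exists_fiberMap (K := L) f x φ hφ
  let m : X.residueField x ⊗[k] L →ₐ[k] X.residueField x ⊗[k] Ω :=
    Algebra.TensorProduct.map (AlgHom.id k (X.residueField x)) d
  let c : Spec (CommRingCat.of (X.residueField x ⊗[k] Ω)) ⟶
      Spec (CommRingCat.of (X.residueField x ⊗[k] L)) := Spec.map (CommRingCat.ofHom m.toRingHom)
  have hcomm : jΩ ≫ π = c ≫ jL := by
    apply pullback.hom_ext
    · rw [Category.assoc, hπ1, hjΩ1, Category.assoc, hjL1, ← Category.assoc, ← Spec.map_comp,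
        ← CommRingCat.ofHom_comp]
      congr 3
      ext a
      simp [m]
    · rw [Category.assoc, hπ2, ← Category.assoc, hjΩ2, Category.assoc, hjL2, ← Spec.map_comp,
        ← Spec.map_comp, ← CommRingCat.ofHom_comp, ← CommRingCat.ofHom_comp]
      congr 2 <;> (ext a; simp [m])
  obtain ⟨w₁, rfl⟩ := hjΩs ζ₁ h₁
  obtain ⟨w₂, rfl⟩ := hjΩs ζ₂ h₂
  rw [← Scheme.Hom.comp_apply, ← Scheme.Hom.comp_apply, hcomm, Scheme.Hom.comp_apply,
    Scheme.Hom.comp_apply] at h
  have h3 : c w₁ = c w₂ := hjLi h
  have h4 : w₁ = w₂ :=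
    comap_tensor_injective_of_range_le (κ := X.residueField x) d hL h3
  rw [h4]

end Groth.Agent.Lib.Helper50
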