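import Mathlib

/-!
# Preimages of connected sets under open maps with connected fibres (helper50)
-/

namespace Groth.Agent.Lib.Helper50

open Topology

theorem isConnected_preimage_of_isOpenMap {α β : Type*} [TopologicalSpace α] [TopologicalSpace β]
    {f : α → β} (hc : Continuous f) (ho : IsOpenMap f)
    (hfib : ∀ t : β, IsConnected (f ⁻¹' {t})) {s : Set β} (hs : IsConnected s) :
    IsConnected (f ⁻¹' s) := by
  have hsurj : Function.Surjective f := fun t => by
    obtain ⟨x, hx⟩ := (hfib t).nonempty
    exact ⟨x, hx⟩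
  let g := s.restrictPreimage f
  have hgc : Continuous g := hc.restrictPreimage
  have hgo : IsOpenMap g := ho.restrictPreimage s
  have hgs : Function.Surjective g := by
    rintro ⟨t, ht⟩
    obtain ⟨x, rfl⟩ := hsurj t
    exact ⟨⟨x, ht⟩, rfl⟩
  have hq : IsQuotientMap g := hgo.isQuotientMap hgc hgs
  have hgfib : ∀ t : s, IsConnected (g ⁻¹' {t}) := by
    intro t
    have h1 : (Subtype.val : f ⁻¹' s → α) '' (g ⁻¹' {t}) = f ⁻¹' {t.1} := by
      ext x
      constructor
      · rintro ⟨y, hy, rfl⟩
        have : g y = t := hy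
        simpa [g] using congrArg Subtype.val this
      · intro hx
        have hx' : f x = t.1 := hx
        refine ⟨⟨x, by simp [hx', t.2]⟩, ?_, rfl⟩
        exact Subtype.ext hx'
    have h2 : IsConnected ((Subtype.val : f ⁻¹' s → α) '' (g ⁻¹' {t})) := h1 ▸ hfib t.1
    exact ⟨h2.nonempty.of_image, (IsInducing.subtypeVal.isPreconnected_image).mp h2.isPreconnected⟩
  haveI : ConnectedSpace s := isConnected_iff_connectedSpace.mp hs
  have h3 : IsConnected (g ⁻¹' Set.univ) :=
    hq.isCoinducing.isConnected_preimage_of_isClosed hgfib isClosed_univ isConnected_univ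
  rw [Set.preimage_univ] at h3
  exact isConnected_iff_connectedSpace.mpr (connectedSpace_iff_univ.mpr h3)

end Groth.Agent.Lib.Helper50
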