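import Mathlib

/-!
# Irreducibility / connectedness of total spaces via special fibres (helper50)
-/

universe u

namespace Groth.Agent.Lib.Helper50

open Topology

/-- For an open continuous map to a space with a generic point `ξ`, the source is irreducible
iff the fibre over `ξ` is irreducible. -/
theorem irreducibleSpace_iff_isIrreducible_preimage_genericPoint {A B : Type*} [TopologicalSpace A]
    [TopologicalSpace B] {p : A → B} (ho : IsOpenMap p) {ξ : B}
    (hξ : closure {ξ} = (Set.univ : Set B)) :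
    IrreducibleSpace A ↔ IsIrreducible (p ⁻¹' {ξ}) := by
  have hmem : ∀ W : Set B, IsOpen W → W.Nonempty → ξ ∈ W := by
    intro W hW ⟨w, hw⟩
    have : w ∈ closure {ξ} := hξ ▸ Set.mem_univ w
    obtain ⟨z, hzW, hz⟩ := mem_closure_iff.mp this W hW hw
    rwa [Set.mem_singleton_iff.mp hz] at hzW
  constructor
  · intro hA
    refine ⟨?_, ?_⟩
    · obtain ⟨a⟩ := hA.toNonempty
      have := hmem (p '' Set.univ) (ho _ isOpen_univ) ⟨p a, a, trivial, rfl⟩
      obtain ⟨a', -, ha'⟩ := this
      exact ⟨a', ha'⟩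
    · rintro U V hU hV ⟨u, -, huU⟩ ⟨v, -, hvV⟩
      obtain ⟨w, hwU, hwV⟩ := nonempty_preirreducible_inter hU hV ⟨u, huU⟩ ⟨v, hvV⟩
      have := hmem (p '' (U ∩ V)) (ho _ (hU.inter hV)) ⟨p w, w, ⟨hwU, hwV⟩, rfl⟩
      obtain ⟨a, ha, hpa⟩ := this
      exact ⟨a, hpa, ha⟩
  · intro hF
    have hdense : closure (p ⁻¹' {ξ}) = Set.univ := by
      apply Set.eq_univ_of_univ_subset
      calc Set.univ = p ⁻¹' (closure {ξ}) := by rw [hξ, Set.preimage_univ]
        _ ⊆ closure (p ⁻¹' {ξ}) := ho.preimage_closure_subset_closure_preimage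
    have := hF.closure
    rw [hdense] at this
    exact { isPreirreducible_univ := this.2, toNonempty := ⟨this.1.some⟩ }

/-- Space version: a continuous open closed map to a connected space, such that some subset of
the target has connected preimage, has connected source. -/
theorem connectedSpace_of_isOpenMap_of_isClosedMap {A B : Type*} [TopologicalSpace A]
    [TopologicalSpace B] [ConnectedSpace B] {g : A → B} (ho : IsOpenMap g)
    (hcl : IsClosedMap g) {S : Set B} (hS : IsConnected (g ⁻¹' S)) : ConnectedSpace A := by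
  obtain ⟨a₀, ha₀⟩ := hS.nonempty
  have hne : Nonempty A := ⟨a₀⟩
  have hpre : PreconnectedSpace A := by
    rw [preconnectedSpace_iff_clopen]
    intro W hW
    by_contra hcon
    push Not at hcon
    obtain ⟨hW0, hW1⟩ := hcon
    have hWc : IsClopen Wᶜ := hW.compl
    have hgW : IsClopen (g '' W) := ⟨hcl _ hW.1, ho _ hW.2⟩
    have hgWc : IsClopen (g '' Wᶜ) := ⟨hcl _ hWc.1, ho _ hWc.2⟩
    have h1 : g '' W = Set.univ := by
      rcases isClopen_iff.mp hgW with h | h
      · exact absurd (Set.image_eq_empty.mp h) hW0.ne_empty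
      · exact h
    have h2 : g '' Wᶜ = Set.univ := by
      rcases isClopen_iff.mp hgWc with h | h
      · exact absurd (Set.compl_empty_iff.mp (Set.image_eq_empty.mp h)) hW1
      · exact h
    obtain ⟨w, hwW, hw⟩ : g a₀ ∈ g '' W := h1 ▸ Set.mem_univ _
    obtain ⟨w', hw'W, hw'⟩ : g a₀ ∈ g '' Wᶜ := h2 ▸ Set.mem_univ _
    have hwS : w ∈ g ⁻¹' S := by
      change g w ∈ S
      rw [hw]; exact ha₀
    have hw'S : w' ∈ g ⁻¹' S := by
      change g w' ∈ S
      rw [hw']; exact ha₀
    have hsub : g ⁻¹' S ⊆ W := hS.isPreconnected.subset_isClopen hW ⟨w, hwS, hwW⟩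
    exact hw'W (hsub hw'S)
  exact { toPreconnectedSpace := hpre, toNonempty := hne }

/-- Let `p` be continuous, open and closed. If `C` is connected and contains a subset `S` whose
preimage is connected (in particular nonempty), then the preimage of `C` is connected. -/
theorem isConnected_preimage_of_isOpenMap_of_isClosedMap {A B : Type*} [TopologicalSpace A]
    [TopologicalSpace B] {p : A → B} (ho : IsOpenMap p) (hcl : IsClosedMap p)
    {C S : Set B} (hC : IsConnected C) (hSC : S ⊆ C) (hS : IsConnected (p ⁻¹' S)) :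
    IsConnected (p ⁻¹' C) := by
  haveI : ConnectedSpace C := isConnected_iff_connectedSpace.mp hC
  let g := C.restrictPreimage p
  have hgo : IsOpenMap g := ho.restrictPreimage C
  have hgc : IsClosedMap g := hcl.restrictPreimage C
  have hS' : IsConnected (g ⁻¹' (Subtype.val ⁻¹' S)) := by
    have h1 : (Subtype.val : p ⁻¹' C → A) '' (g ⁻¹' (Subtype.val ⁻¹' S)) = p ⁻¹' S := by
      ext x
      constructor
      · rintro ⟨y, hy, rfl⟩
        exact hy
      · intro hx
        exact ⟨⟨x, hSC hx⟩, hx, rfl⟩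
    have h2 : IsConnected ((Subtype.val : p ⁻¹' C → A) '' (g ⁻¹' (Subtype.val ⁻¹' S))) :=
      h1 ▸ hS
    exact ⟨h2.nonempty.of_image, (IsInducing.subtypeVal.isPreconnected_image).mp h2.isPreconnected⟩
  have := connectedSpace_of_isOpenMap_of_isClosedMap hgo hgc hS'
  exact isConnected_iff_connectedSpace.mpr this

end Groth.Agent.Lib.Helper50
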