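import Mathlib
import Groth.Prelude
import Groth.Agent.Lib.Helper50.BaseChangeMap
import Groth.Agent.Lib.Helper50.TopoConn
import Groth.Agent.Lib.Helper50.TopoFiber
import Groth.Agent.Lib.Helper50.FiberBC

/-!
# Geometric connectedness of connected components (helper50)
-/

open CategoryTheory AlgebraicGeometry Limits TensorProduct MorphismProperty

namespace Groth.Agent.Lib.Helper50

universe u

theorem isIntegralHom_specMap_of_isAlgebraic (k K : Type u) [Field k] [Field K] [Algebra k K]
    [Algebra.IsAlgebraic k K] :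
    IsIntegralHom (Spec.map (CommRingCat.ofHom (algebraMap k K))) := by
  rw [IsIntegralHom.SpecMap_iff]
  have : Algebra.IsIntegral k K := Algebra.IsAlgebraic.isIntegral
  exact algebraMap_isIntegral_iff.mpr this

theorem preimage_comp_eq {X Y Z : Scheme.{u}} (a : X ⟶ Y) (b : Y ⟶ Z) (c : X ⟶ Z) (h : a ≫ b = c)
    (S : Set Z) : a ⁻¹' (b ⁻¹' S) = c ⁻¹' S := by
  subst h
  ext x
  simp

/-- Let `C ⊆ X` be connected, containing a subset `S` whose preimage in `X_{k̄}` is connected.
Then the preimage of `C` in `X_K` is connected for every field extension `K/k`. -/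
theorem isConnected_preimage_bcFst {X : Scheme.{u}} {k : Type u} [Field k]
    (f : X ⟶ Spec (CommRingCat.of k)) {C S : Set X} (hC : _root_.IsConnected C) (hSC : S ⊆ C)
    (hS : _root_.IsConnected ((pullback.fst f (Spec.map (CommRingCat.ofHom
      (algebraMap k (AlgebraicClosure k))))) ⁻¹' S))
    (K : Type u) [Field K] [Algebra k K] :
    _root_.IsConnected ((pullback.fst f (Spec.map (CommRingCat.ofHom (algebraMap k K)))) ⁻¹' C) := by
  -- step (i)
  have hint := isIntegralHom_specMap_of_isAlgebraic k (AlgebraicClosure k)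
  have h1 : _root_.IsConnected ((pullback.fst f (Spec.map (CommRingCat.ofHom
      (algebraMap k (AlgebraicClosure k))))) ⁻¹' C) :=
    isConnected_preimage_of_isOpenMap_of_isClosedMap (Scheme.Hom.isOpenMap _)
      (Scheme.Hom.isClosedMap _) hC hSC hS
  -- step (ii)
  let K' := AlgebraicClosure K
  let e : k →+* K' := (algebraMap K K').comp (algebraMap k K)
  letI : Algebra k K' := e.toAlgebra
  let b : AlgebraicClosure k →ₐ[k] K' := IsAlgClosed.lift
  have hb : e = b.toRingHom.comp (algebraMap k (AlgebraicClosure k)) := by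
    ext x; exact (b.commutes x).symm
  obtain ⟨π₂, hπ₂, hπ₂'⟩ := exists_bcMap f (algebraMap k (AlgebraicClosure k)) b.toRingHom e hb
  letI := b.toRingHom.toAlgebra
  have hgc : GeometricallyConnected (Spec.map (CommRingCat.ofHom b.toRingHom)) :=
    geometricallyConnected_specMap_of_isSepClosed (AlgebraicClosure k) K'
  have hg : GeometricallyConnected π₂ := MorphismProperty.of_isPullback hπ₂.flip hgc
  have ho : UniversallyOpen π₂ := MorphismProperty.of_isPullback hπ₂.flip inferInstance
  have h2 : _root_.IsConnected (π₂ ⁻¹' ((pullback.fst f (Spec.map (CommRingCat.ofHom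
      (algebraMap k (AlgebraicClosure k))))) ⁻¹' C)) :=
    isConnected_preimage_of_isOpenMap (Scheme.Hom.continuous _) π₂.isOpenMap
      (Scheme.Hom.isConnected_preimage_singleton π₂) h1
  rw [preimage_comp_eq _ _ _ hπ₂'] at h2
  -- step (iii)
  obtain ⟨π₁, hπ₁, hπ₁'⟩ := exists_bcMap f (algebraMap k K) (algebraMap K K') e rfl
  have hs : Surjective π₁ :=
    MorphismProperty.of_isPullback hπ₁.flip (surjective_specMap_field (algebraMap K K'))
  rw [← preimage_comp_eq _ _ _ hπ₁'] at h2
  have h3 := h2.image π₁ (Scheme.Hom.continuous π₁).continuousOn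
  rwa [Set.image_preimage_eq _ hs.surj] at h3

end Groth.Agent.Lib.Helper50
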