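import Mathlib

/-!
# Images of irreducible components under closed generalizing maps (helper50)
-/

universe u

namespace Groth.Agent.Lib.Helper50

open Topology

/-- Under a continuous closed generalizing map between quasi-sober spaces (source T0), the image
of an irreducible component is an irreducible component. -/
theorem image_mem_irreducibleComponents_of_isClosedMap_of_generalizingMap {A B : Type*}
    [TopologicalSpace A] [TopologicalSpace B] [QuasiSober A] [QuasiSober B] [T0Space A]
    {f : A → B} (hc : Continuous f) (hcl : IsClosedMap f) (hg : GeneralizingMap f) {T : Set A}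
    (hT : T ∈ irreducibleComponents A) : f '' T ∈ irreducibleComponents B := by
  have hTc : IsClosed T := isClosed_of_mem_irreducibleComponents T hT
  have hTi : IsIrreducible T := hT.1
  set η := hTi.genericPoint with hη
  have hgen : closure {η} = T := hTi.closure_genericPoint hTc
  have himg : f '' T = closure {f η} := by
    rw [← hgen, ← hcl.closure_image_eq_of_continuous hc, Set.image_singleton]
  refine ⟨hTi.image f hc.continuousOn, ?_⟩
  intro Z' hZ' hsub
  -- pass to the closure of Z'
  have hZc : IsIrreducible (closure Z') := hZ'.closure
  set ζ' := hZc.genericPoint with hζ'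
  have hgen' : closure {ζ'} = closure Z' := hZc.closure_genericPoint isClosed_closure
  have hζ : ζ' ⤳ f η := by
    rw [specializes_iff_mem_closure, hgen']
    exact subset_closure (hsub ⟨η, hgen ▸ subset_closure rfl, rfl⟩)
  obtain ⟨η', hη', hfη'⟩ := hg hζ
  -- closure {η'} is irreducible and contains T
  have hT' : T ⊆ closure {η'} := by
    rw [← hgen]
    exact closure_minimal (Set.singleton_subset_iff.mpr hη'.mem_closure) isClosed_closure
  have hmax : closure {η'} ⊆ T := hT.2 isIrreducible_singleton.closure hT'
  have hη'T : η' ∈ closure {η} := hgen ▸ hmax (subset_closure rfl)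
  have heq : η' = η := (hη'.antisymm (specializes_iff_mem_closure.mpr hη'T)).eq
  -- hence Z' ⊆ closure {ζ'} = closure {f η} = f '' T
  intro z hz
  have : z ∈ closure {ζ'} := hgen' ▸ subset_closure hz
  rw [← hfη', heq] at this
  rwa [himg]

/-- Under a continuous closed generalizing surjection between quasi-sober spaces, every
irreducible component of the target is the image of an irreducible component of the source. -/
theorem exists_image_eq_of_mem_irreducibleComponents {A B : Type*}
    [TopologicalSpace A] [TopologicalSpace B] [QuasiSober A] [QuasiSober B] [T0Space A]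
    {f : A → B} (hc : Continuous f) (hcl : IsClosedMap f) (hg : GeneralizingMap f)
    (hs : Function.Surjective f) {Z : Set B}
    (hZ : Z ∈ irreducibleComponents B) : ∃ T ∈ irreducibleComponents A, f '' T = Z := by
  have hZc : IsClosed Z := isClosed_of_mem_irreducibleComponents Z hZ
  have hZi : IsIrreducible Z := hZ.1
  set ζ := hZi.genericPoint with hζ
  have hgen : closure {ζ} = Z := hZi.closure_genericPoint hZc
  obtain ⟨a, ha⟩ := hs ζ
  refine ⟨irreducibleComponent a, irreducibleComponent_mem_irreducibleComponents a, ?_⟩
  have himg := image_mem_irreducibleComponents_of_isClosedMap_of_generalizingMap hc hcl hg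
    (irreducibleComponent_mem_irreducibleComponents a)
  have hsub : Z ⊆ f '' irreducibleComponent a := by
    rw [← hgen]
    apply closure_minimal _ (isClosed_of_mem_irreducibleComponents _ himg)
    rw [Set.singleton_subset_iff]
    exact ⟨a, mem_irreducibleComponent, ha⟩
  exact (hZ.2 himg.1 hsub).antisymm hsub |>.symm ▸ rfl

end Groth.Agent.Lib.Helper50
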