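import Mathlib
import Groth.Prelude
import Groth.Agent.Lib.Helper50.GeomConnScheme
import Groth.Agent.Lib.Helper50.TopoIrredImage

/-!
# Irreducible components of `X_K` map onto irreducible components of `X` (helper50)
-/

open CategoryTheory AlgebraicGeometry Limits TensorProduct MorphismProperty

namespace Groth.Agent.Lib.Helper50

universe u

theorem flat_specMap_field (k K : Type u) [Field k] [Field K] (d : k →+* K) :
    Flat (Spec.map (CommRingCat.ofHom d)) := by
  rw [HasRingHomProperty.Spec_iff (P := @Flat)]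
  letI := d.toAlgebra
  have : Module.Flat k K := inferInstance
  exact this

theorem image_mem_irreducibleComponents_of_flat_of_isClosedMap {A B : Scheme.{u}} (π : A ⟶ B)
    [Flat π] (hcl : IsClosedMap π) {T : Set A} (hT : T ∈ irreducibleComponents A) :
    π '' T ∈ irreducibleComponents B :=
  image_mem_irreducibleComponents_of_isClosedMap_of_generalizingMap (Scheme.Hom.continuous π) hcl
    (Flat.generalizingMap π) hT

theorem exists_image_eq_of_flat_of_isClosedMap {A B : Scheme.{u}} (π : A ⟶ B)
    [Flat π] [Surjective π] (hcl : IsClosedMap π) {Z : Set B} (hZ : Z ∈ irreducibleComponents B) :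
    ∃ T ∈ irreducibleComponents A, π '' T = Z :=
  exists_image_eq_of_mem_irreducibleComponents (Scheme.Hom.continuous π) hcl
    (Flat.generalizingMap π) π.surjective hZ

/-- Irreducible components of `X_K` map onto irreducible components of `X`, and every irreducible
component of `X` is such an image. -/
theorem irreducibleComponents_bc {X : Scheme.{u}} {k K : Type u} [Field k] [Field K] [Algebra k K]
    (f : X ⟶ Spec (CommRingCat.of k)) :
    (∀ T ∈ irreducibleComponents ↥(pullback f (Spec.map (CommRingCat.ofHom (algebraMap k K)))),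
      (pullback.fst f (Spec.map (CommRingCat.ofHom (algebraMap k K)))) '' T ∈
        irreducibleComponents X) ∧
    (∀ Z ∈ irreducibleComponents X,
      ∃ T ∈ irreducibleComponents ↥(pullback f (Spec.map (CommRingCat.ofHom (algebraMap k K)))),
        (pullback.fst f (Spec.map (CommRingCat.ofHom (algebraMap k K)))) '' T = Z) := by
  -- the three comparison maps
  let K' := AlgebraicClosure K
  let e : k →+* K' := (algebraMap K K').comp (algebraMap k K)
  letI : Algebra k K' := e.toAlgebra
  let b : AlgebraicClosure k →ₐ[k] K' := IsAlgClosed.lift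
  have hb : e = b.toRingHom.comp (algebraMap k (AlgebraicClosure k)) := by
    ext x; exact (b.commutes x).symm
  obtain ⟨π₂, hπ₂, hπ₂'⟩ := exists_bcMap f (algebraMap k (AlgebraicClosure k)) b.toRingHom e hb
  obtain ⟨π₁, hπ₁, hπ₁'⟩ := exists_bcMap f (algebraMap k K) (algebraMap K K') e rfl
  -- π₂ : geometrically irreducible and open
  letI := b.toRingHom.toAlgebra
  have hgi : GeometricallyIrreducible (Spec.map (CommRingCat.ofHom b.toRingHom)) :=
    geometricallyIrreducible_specMap_of_isSepClosed (AlgebraicClosure k) K'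
  have hg₂ : GeometricallyIrreducible π₂ := MorphismProperty.of_isPullback hπ₂.flip hgi
  have ho₂ : UniversallyOpen π₂ := MorphismProperty.of_isPullback hπ₂.flip inferInstance
  have hs₂ : Surjective π₂ := inferInstance
  -- π₁ : flat, closed, surjective
  have hfl₁ : Flat π₁ := MorphismProperty.of_isPullback hπ₁.flip (flat_specMap_field K K' _)
  have hint₁ : IsIntegralHom π₁ :=
    MorphismProperty.of_isPullback hπ₁.flip (isIntegralHom_specMap_of_isAlgebraic K K')
  have hs₁ : Surjective π₁ :=
    MorphismProperty.of_isPullback hπ₁.flip (surjective_specMap_field (algebraMap K K'))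
  have hcl₁ : IsClosedMap π₁ := Scheme.Hom.isClosedMap π₁
  -- p₀ : X_{k̄} ⟶ X flat, closed, surjective
  let p₀ := pullback.fst f (Spec.map (CommRingCat.ofHom (algebraMap k (AlgebraicClosure k))))
  have hfl₀ : Flat p₀ :=
    MorphismProperty.of_isPullback (IsPullback.of_hasPullback f _).flip
      (flat_specMap_field k (AlgebraicClosure k) _)
  have hint₀ : IsIntegralHom p₀ :=
    MorphismProperty.of_isPullback (IsPullback.of_hasPullback f _).flip
      (isIntegralHom_specMap_of_isAlgebraic k (AlgebraicClosure k))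
  have hs₀ : Surjective p₀ :=
    MorphismProperty.of_isPullback (IsPullback.of_hasPullback f _).flip
      (surjective_specMap_field (algebraMap k (AlgebraicClosure k)))
  have hcl₀ : IsClosedMap p₀ := Scheme.Hom.isClosedMap p₀
  -- image formula
  have himg : ∀ Tb : Set ↥(pullback f (Spec.map (CommRingCat.ofHom e))),
      (pullback.fst f (Spec.map (CommRingCat.ofHom (algebraMap k K)))) '' (π₁ '' Tb) =
        p₀ '' (π₂ '' Tb) := by
    intro Tb
    rw [← Set.image_comp, ← Set.image_comp]
    have h1 : (⇑(pullback.fst f (Spec.map (CommRingCat.ofHom (algebraMap k K)))) ∘ ⇑π₁) =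
        ⇑(π₁ ≫ pullback.fst f (Spec.map (CommRingCat.ofHom (algebraMap k K)))) := by
      ext x; simp
    have h2 : (⇑p₀ ∘ ⇑π₂) = ⇑(π₂ ≫ p₀) := by
      ext x; simp
    rw [h1, h2, hπ₁', hπ₂']
  have hirr₂ : ∀ Tb ∈ irreducibleComponents ↥(pullback f (Spec.map (CommRingCat.ofHom e))),
      π₂ '' Tb ∈ irreducibleComponents
        ↥(pullback f (Spec.map (CommRingCat.ofHom (algebraMap k (AlgebraicClosure k))))) := by
    intro Tb hTb
    exact (Scheme.Hom.irreducibleComponentsEquiv π₂ π₂.isOpenMap ⟨Tb, hTb⟩).2
  constructor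
  · intro T hT
    obtain ⟨Tb, hTb, rfl⟩ := exists_image_eq_of_flat_of_isClosedMap π₁ hcl₁ hT
    rw [himg]
    exact image_mem_irreducibleComponents_of_flat_of_isClosedMap p₀ hcl₀ (hirr₂ Tb hTb)
  · intro Z hZ
    obtain ⟨T₁, hT₁, rfl⟩ := exists_image_eq_of_flat_of_isClosedMap p₀ hcl₀ hZ
    let Tb := (Scheme.Hom.irreducibleComponentsEquiv π₂ π₂.isOpenMap).symm ⟨T₁, hT₁⟩
    have hTb : π₂ '' Tb.1 = T₁ :=
      congrArg Subtype.val ((Scheme.Hom.irreducibleComponentsEquiv π₂ π₂.isOpenMap).apply_symm_apply
        ⟨T₁, hT₁⟩)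
    refine ⟨π₁ '' Tb.1,
      image_mem_irreducibleComponents_of_flat_of_isClosedMap π₁ hcl₁ Tb.2, ?_⟩
    rw [himg, hTb]

end Groth.Agent.Lib.Helper50
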