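import Mathlib
import Groth.Prelude
import Groth.Agent.Lib.Helper50.FiberSpec
import Groth.Agent.Lib.Helper50.IrredCompBC
import Groth.Agent.Lib.Helper50.ClosedSubBC
import Groth.Agent.Lib.Helper50.GeomConnScheme

/-!
# Making irreducible components geometrically irreducible by a finite separable extension
(helper50)
-/

open CategoryTheory AlgebraicGeometry Limits TensorProduct MorphismProperty TopologicalSpace

namespace Groth.Agent.Lib.Helper50

universe u

/-- Components over a component for a base change along an algebraic field extension. -/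
theorem preimage_component_square {Y Y' : Scheme.{u}} {L K : Type u} [Field L] [Field K]
    [Algebra L K] [Algebra.IsAlgebraic L K]
    (s : Y ⟶ Spec (CommRingCat.of L)) (s' : Y' ⟶ Spec (CommRingCat.of K))
    (π : Y' ⟶ Y) (hπ : IsPullback π s' s (Spec.map (CommRingCat.ofHom (algebraMap L K))))
    (T : Set Y) (hT : T ∈ irreducibleComponents ↥Y) (η : Y) (hη : IsGenericPoint η T) :
    (∀ T' ∈ irreducibleComponents ↥Y', π '' T' ⊆ T → ∃ ξ, IsGenericPoint ξ T' ∧ π ξ = η) ∧
    π ⁻¹' T = ⋃₀ {T' | T' ∈ irreducibleComponents ↥Y' ∧ π '' T' ⊆ T} := by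
  have hfl : Flat π := MorphismProperty.of_isPullback hπ.flip (flat_specMap_field L K _)
  have hgen : GeneralizingMap π := Flat.generalizingMap π
  have hint : IsIntegralHom π :=
    MorphismProperty.of_isPullback hπ.flip (isIntegralHom_specMap_of_isAlgebraic L K)
  have hcl : IsClosedMap π := Scheme.Hom.isClosedMap π
  have hbc1 : ∀ T' ∈ irreducibleComponents ↥Y', π '' T' ∈ irreducibleComponents ↥Y :=
    fun T' hT' => image_mem_irreducibleComponents_of_flat_of_isClosedMap π hcl hT'
  have hTcl : IsClosed T := isClosed_of_mem_irreducibleComponents T hT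
  have hTirr : IsIrreducible T := hT.1
  have hA : ∀ T' ∈ irreducibleComponents ↥Y', π '' T' ⊆ T → π '' T' = T := by
    intro T' hT' hsub
    exact Set.Subset.antisymm hsub ((hbc1 T' hT').2 hTirr hsub)
  refine ⟨?_, ?_⟩
  · intro T' hT' hsub
    obtain ⟨ξ, hξ⟩ := QuasiSober.sober hT'.1 (isClosed_of_mem_irreducibleComponents T' hT')
    refine ⟨ξ, hξ, ?_⟩
    have h1 : IsGenericPoint (π ξ) T := by
      have h2 := hξ.image π.continuous
      rw [hA T' hT' hsub, hTcl.closure_eq] at h2
      exact h2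
    exact h1.eq hη
  · apply Set.Subset.antisymm
    · intro x' hx'
      have hx'T : π x' ∈ T := hx'
      have hspec : η ⤳ π x' := by
        rw [specializes_iff_mem_closure, hη.def]; exact hx'T
      obtain ⟨ξ', hξ', hpξ'⟩ := hgen hspec
      obtain ⟨T', hT', hξ'T'⟩ := exists_mem_irreducibleComponents_subset_of_isIrreducible
        ({ξ'} : Set ↥Y') isIrreducible_singleton
      have hξ'mem : ξ' ∈ T' := hξ'T' rfl
      have hx'mem : x' ∈ T' :=
        (isClosed_of_mem_irreducibleComponents T' hT').closure_subset_iff.mpr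
          (Set.singleton_subset_iff.mpr hξ'mem) (specializes_iff_mem_closure.mp hξ')
      have hcomp := hbc1 T' hT'
      have hηmem : η ∈ π '' T' := ⟨ξ', hξ'mem, hpξ'⟩
      have hTsub : T ⊆ π '' T' := by
        rw [← hη.def]
        exact (isClosed_of_mem_irreducibleComponents _ hcomp).closure_subset_iff.mpr
          (Set.singleton_subset_iff.mpr hηmem)
      exact ⟨T', ⟨hT', hT.2 hcomp.1 hTsub⟩, hx'mem⟩
    · rintro x' ⟨T', ⟨hT', hsub⟩, hx'⟩
      exact hsub ⟨x', hx', rfl⟩

/-- If the preimage of a closed subset `C` of `Y` in a base change `Y'` to a separably closed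
field is irreducible, so is its preimage in every base change `Y_K`. -/
theorem isIrreducible_preimage_of_isSepClosed_square {Y Y' : Scheme.{u}} {L Ω : Type u}
    [Field L] [Field Ω] [IsSepClosed Ω] (s : Y ⟶ Spec (CommRingCat.of L))
    (s' : Y' ⟶ Spec (CommRingCat.of Ω)) (d : L →+* Ω)
    (π : Y' ⟶ Y) (hπ : IsPullback π s' s (Spec.map (CommRingCat.ofHom d)))
    (C : Set Y) (hC : IsClosed C) (hCΩ : IsIrreducible (π ⁻¹' C))
    (K : Type u) [Field K] [Algebra L K] :
    IsIrreducible (⇑(pullback.fst s (Spec.map (CommRingCat.ofHom (algebraMap L K)))) ⁻¹' C) := by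
  let Z : Closeds Y := ⟨C, hC⟩
  let I := Scheme.IdealSheafData.vanishingIdeal Z
  let i : I.subscheme ⟶ Y := I.subschemeι
  have hi : Set.range i = C := by
    rw [Scheme.IdealSheafData.range_subschemeι, Scheme.IdealSheafData.coe_support_vanishingIdeal]
    rfl
  obtain ⟨JΩ, hJΩ, hJΩcl⟩ := exists_bc_of_hom s s' d π hπ i
  have hcl : IsClosedImmersion JΩ := hJΩcl inferInstance
  have h1 : IrreducibleSpace ↥(pullback (i ≫ s) (Spec.map (CommRingCat.ofHom d))) := by
    rw [irreducibleSpace_iff_isIrreducible_range JΩ.isEmbedding, hJΩ, hi]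
    exact hCΩ
  letI := d.toAlgebra
  obtain ⟨Ω', _, a, b, hab⟩ := exists_field_compositum L Ω K
  have h2 : IrreducibleSpace ↥(pullback (i ≫ s) (Spec.map (CommRingCat.ofHom (algebraMap L K)))) :=
    irreducibleSpace_pullback_of_square (i ≫ s) d a (algebraMap L K) b hab
  obtain ⟨JK, hJK, -⟩ := exists_bc_of_hom s (pullback.snd s _) (algebraMap L K)
    (pullback.fst s (Spec.map (CommRingCat.ofHom (algebraMap L K))))
    (IsPullback.of_hasPullback s _) i
  rw [← hi, ← hJK, ← Set.image_univ]
  exact (IrreducibleSpace.isIrreducible_univ _).image _ JK.continuous.continuousOn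


/-- If the generic points of the finitely many irreducible components of `X` have residue fields
in which the separable closure of `k` is finite over `k`, then after a finite separable extension
`L/k` all irreducible components of `X_L` are geometrically irreducible. -/
theorem exists_finite_separable_geomIrred {k : Type u} [Field k] {X : Scheme.{u}}
    (f : X ⟶ Spec (CommRingCat.of k)) [Finite ↥(irreducibleComponents ↥X)]
    (hx : ∀ Z : ↥(irreducibleComponents ↥X), ∃ (x : X) (φ : k →+* X.residueField x),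
      IsGenericPoint x Z.1 ∧
      Spec.map (CommRingCat.ofHom φ) = X.fromSpecResidueField x ≫ f ∧
      (letI := φ.toAlgebra; FiniteDimensional k (separableClosure k (X.residueField x)))) :
    ∃ (L : Type u) (_ : Field L) (_ : Algebra k L), FiniteDimensional k L ∧
      Algebra.IsSeparable k L ∧
      ∀ (K : Type u) [Field K] [Algebra L K]
        (Z' : Set ↥(pullback f (Spec.map (CommRingCat.ofHom (algebraMap k L))))),
        Z' ∈ irreducibleComponents ↥(pullback f (Spec.map (CommRingCat.ofHom (algebraMap k L)))) →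
        IsIrreducible (⇑(pullback.fst (pullback.snd f (Spec.map (CommRingCat.ofHom (algebraMap k L))))
          (Spec.map (CommRingCat.ofHom (algebraMap L K)))) ⁻¹' Z') := by
  classical
  let Ω := SeparableClosure k
  choose x φ hgen hφ hfd using hx
  let N : ↥(irreducibleComponents ↥X) → IntermediateField k Ω := fun Z =>
    letI := (φ Z).toAlgebra
    IntermediateField.normalClosure k (separableClosure k (X.residueField (x Z))) Ω
  have hNfd : ∀ Z, FiniteDimensional k (N Z) := by
    intro Z
    letI := (φ Z).toAlgebra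
    haveI := hfd Z
    exact normalClosure.is_finiteDimensional k
      (separableClosure k (X.residueField (x Z))) Ω
  let L : IntermediateField k Ω := ⨆ Z, N Z
  have hLfd : FiniteDimensional k L := IntermediateField.finiteDimensional_iSup_of_finite
  have hLsep : Algebra.IsSeparable k L := Algebra.isSeparable_tower_bot_of_isSeparable k L Ω
  refine ⟨L, inferInstance, inferInstance, hLfd, hLsep, ?_⟩
  intro K _ _ Z' hZ'
  let gL := Spec.map (CommRingCat.ofHom (algebraMap k L))
  let gΩ := Spec.map (CommRingCat.ofHom (algebraMap k Ω))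
  let pL := pullback.fst f gL
  let pΩ := pullback.fst f gΩ
  -- the comparison map
  obtain ⟨π, hπ, hπ1⟩ := exists_bcMap f (algebraMap k L) (algebraMap L Ω) (algebraMap k Ω)
    (IsScalarTower.algebraMap_eq k L Ω)
  have hπ2 : π ≫ pullback.snd f gL = pullback.snd f gΩ ≫
      Spec.map (CommRingCat.ofHom (L.val : ↥L →ₐ[k] Ω).toRingHom) := hπ.w
  haveI : Algebra.IsAlgebraic L Ω := Algebra.IsAlgebraic.tower_top (K := k) L
  have hπsurj : Surjective π :=
    MorphismProperty.of_isPullback hπ.flip (surjective_specMap_field (algebraMap L Ω))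
  -- the generic point of `Z'` and its image
  obtain ⟨ξ', hξ'⟩ := QuasiSober.sober hZ'.1 (isClosed_of_mem_irreducibleComponents Z' hZ')
  have hZ : pL '' Z' ∈ irreducibleComponents ↥X := (irreducibleComponents_bc (K := L) f).1 Z' hZ'
  let Z₀ : ↥(irreducibleComponents ↥X) := ⟨pL '' Z', hZ⟩
  have hx₀ : pL ξ' = x Z₀ := by
    have h1 : IsGenericPoint (pL ξ') (pL '' Z') := by
      have h2 := hξ'.image pL.continuous
      rwa [(isClosed_of_mem_irreducibleComponents _ hZ).closure_eq] at h2
    exact h1.eq (hgen Z₀)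
  -- components of `X_Ω` over `Z'`
  obtain ⟨hG, hcover⟩ := preimage_component_square (pullback.snd f gL) (pullback.snd f gΩ) π hπ
    Z' hZ' ξ' hξ'
  have huniq : ∀ T₁ ∈ irreducibleComponents ↥(pullback f gΩ), π '' T₁ ⊆ Z' →
      ∀ T₂ ∈ irreducibleComponents ↥(pullback f gΩ), π '' T₂ ⊆ Z' → T₁ = T₂ := by
    intro T₁ hT₁ hs₁ T₂ hT₂ hs₂
    obtain ⟨ζ₁, hζ₁, hπζ₁⟩ := hG T₁ hT₁ hs₁
    obtain ⟨ζ₂, hζ₂, hπζ₂⟩ := hG T₂ hT₂ hs₂
    have hp : ∀ ζ : ↥(pullback f gΩ), π ζ = ξ' → pΩ ζ = x Z₀ := by
      intro ζ hζ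
      have : pΩ ζ = pL (π ζ) := by
        rw [← Scheme.Hom.comp_apply, hπ1]
      rw [this, hζ, hx₀]
    have hLrange : letI := (φ Z₀).toAlgebra
        ∀ (τ : separableClosure k (X.residueField (x Z₀)) →ₐ[k] Ω)
          (a : separableClosure k (X.residueField (x Z₀))), τ a ∈ (L.val : ↥L →ₐ[k] Ω).range := by
      letI := (φ Z₀).toAlgebra
      intro τ a
      rw [IntermediateField.range_val, IntermediateField.mem_toSubalgebra]
      have h1 : τ a ∈ τ.fieldRange := ⟨a, rfl⟩
      have h2 : τ.fieldRange ≤ N Z₀ := τ.fieldRange_le_normalClosure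
      exact (le_iSup N Z₀) (h2 h1)
    have := bcMap_injOn_fiber f (L.val : ↥L →ₐ[k] Ω) (x Z₀) (φ Z₀) (hφ Z₀) hLrange π hπ1 hπ2
      ζ₁ ζ₂ (hp ζ₁ hπζ₁) (hp ζ₂ hπζ₂) (hπζ₁.trans hπζ₂.symm)
    rw [← hζ₁.def, ← hζ₂.def, this]
  have hirr : IsIrreducible (π ⁻¹' Z') := by
    obtain ⟨y, hy⟩ := hπsurj.surj ξ'
    have hymem : y ∈ π ⁻¹' Z' := by
      show π y ∈ Z'
      rw [hy, ← hξ'.def]; exact subset_closure rfl
    rw [hcover] at hymem
    obtain ⟨T₀, ⟨hT₀, hs₀⟩, -⟩ := hymem
    have : π ⁻¹' Z' = T₀ := by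
      rw [hcover]
      apply Set.Subset.antisymm
      · rintro z ⟨T₁, ⟨hT₁, hs₁⟩, hz⟩
        rwa [← huniq T₁ hT₁ hs₁ T₀ hT₀ hs₀]
      · intro z hz
        exact ⟨T₀, ⟨hT₀, hs₀⟩, hz⟩
    rw [this]; exact hT₀.1
  exact isIrreducible_preimage_of_isSepClosed_square (pullback.snd f gL) (pullback.snd f gΩ)
    (algebraMap L Ω) π hπ Z' (isClosed_of_mem_irreducibleComponents Z' hZ') hirr K

end Groth.Agent.Lib.Helper50
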