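import Mathlib
import Groth.Prelude
import Groth.Agent.Lib.Helper50.GeomIrredComp

/-!
# The separable closure of `k` in a finitely generated field extension is finite (helper50)
-/

open CategoryTheory AlgebraicGeometry Limits TensorProduct MorphismProperty TopologicalSpace

namespace Groth.Agent.Lib.Helper50

universe u

open scoped IntermediateField.algebraAdjoinAdjoin in
/-- A family in an algebraic subextension `E` that is linearly independent over `k` stays linearly
independent over `k(x)` for an algebraically independent family `x`. -/
theorem linearIndependent_adjoin_of_algebraicIndependent {k K : Type*} [Field k] [Field K]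
    [Algebra k K] (E : IntermediateField k K) [Algebra.IsAlgebraic k E] {σ : Type*} (x : σ → K)
    (hx : AlgebraicIndependent k x) {ι : Type*} (v : ι → E) (hv : LinearIndependent k v) :
    LinearIndependent (IntermediateField.adjoin k (Set.range x)) (fun i => (v i : K)) := by
  classical
  rw [← LinearIndependent.iff_fractionRing (R := Algebra.adjoin k (Set.range x))
    (K := IntermediateField.adjoin k (Set.range x))]
  have hxE : AlgebraicIndependent E x := hx.extendScalars E
  rw [linearIndependent_iff']
  intro s g hg i hi
  let P : ι → MvPolynomial σ k := fun j => hx.repr (g j)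
  have hP : ∀ j, MvPolynomial.aeval x (P j) = (g j : K) := fun j => hx.aeval_repr (g j)
  let Q : MvPolynomial σ E :=
    ∑ j ∈ s, MvPolynomial.C (v j) * MvPolynomial.map (algebraMap k E) (P j)
  have hQ : MvPolynomial.aeval x Q = 0 := by
    simp only [Q, map_sum, map_mul, MvPolynomial.aeval_C]
    have h1 : ∀ j ∈ s, (algebraMap (↥E) K) (v j) *
        (MvPolynomial.aeval x) ((MvPolynomial.map (algebraMap k ↥E)) (P j)) =
        g j • (v j : K) := by
      intro j _
      rw [MvPolynomial.aeval_map_algebraMap, hP j, mul_comm]
      rfl
    rw [Finset.sum_congr rfl h1]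
    exact hg
  have hQ0 : Q = 0 := by
    have hinj := algebraicIndependent_iff_injective_aeval.mp hxE
    exact hinj (hQ.trans (map_zero _).symm)
  have hcoeff : ∀ m, ∀ j ∈ s, (P j).coeff m = 0 := by
    intro m
    have h2 : ∑ j ∈ s, (P j).coeff m • v j = 0 := by
      have := congrArg (fun q => q.coeff m) hQ0
      simp only [Q, MvPolynomial.coeff_sum, MvPolynomial.coeff_C_mul, MvPolynomial.coeff_map,
        MvPolynomial.coeff_zero] at this
      rw [← this]
      refine Finset.sum_congr rfl fun j _ => ?_
      rw [Algebra.smul_def, mul_comm]
    exact (linearIndependent_iff'.mp hv) s (fun j => (P j).coeff m) h2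
  have hPi : P i = 0 := MvPolynomial.ext _ _ fun m => by
    rw [hcoeff m i hi, MvPolynomial.coeff_zero]
  have : hx.aevalEquiv (P i) = g i := AlgEquiv.apply_symm_apply hx.aevalEquiv (g i)
  rw [← this, hPi, map_zero]

/-- An algebraic subextension of a finitely generated field extension is finite. -/
theorem finiteDimensional_of_isAlgebraic_of_essFiniteType (k K : Type*) [Field k] [Field K]
    [Algebra k K] [Algebra.EssFiniteType k K] (E : IntermediateField k K)
    [Algebra.IsAlgebraic k E] : FiniteDimensional k E := by
  classical
  obtain ⟨s, hs⟩ := IntermediateField.fg_top k K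
  have halg : Algebra.IsAlgebraic (Algebra.adjoin k (s : Set K)) K := by
    rw [← IntermediateField.isAlgebraic_adjoin_iff_top, hs, Algebra.isAlgebraic_iff_isIntegral]
    exact Algebra.isIntegral_of_surjective IntermediateField.topEquiv.surjective
  obtain ⟨t, hts, ht⟩ := exists_isTranscendenceBasis_subset (R := k) (s : Set K)
  let F := IntermediateField.adjoin k (Set.range ((↑) : t → K))
  have hFalg : Algebra.IsAlgebraic F K := ht.isAlgebraic_field
  have hFess : Algebra.EssFiniteType F K := .of_comp k _ _
  have hFfin : Module.Finite F K := Algebra.finite_of_essFiniteType_of_isAlgebraic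
  let b := Module.Basis.ofVectorSpace k E
  have hli : LinearIndependent F (fun i => (b i : K)) :=
    linearIndependent_adjoin_of_algebraicIndependent E _ ht.1 b b.linearIndependent
  haveI : Finite (Module.Basis.ofVectorSpaceIndex k E) := hli.finite
  exact Module.Finite.of_basis b

theorem finiteDimensional_separableClosure_of_essFiniteType (k K : Type*) [Field k] [Field K]
    [Algebra k K] [Algebra.EssFiniteType k K] :
    FiniteDimensional k (separableClosure k K) := by
  haveI : Algebra.IsAlgebraic k (separableClosure k K) :=
    Algebra.IsSeparable.isAlgebraic k (separableClosure k K)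
  exact finiteDimensional_of_isAlgebraic_of_essFiniteType k K (separableClosure k K)

/-- Residue fields of a scheme locally of finite type over a field are finitely generated field
extensions. -/
theorem essFiniteType_residueField {X : Scheme.{u}} {k : Type u} [Field k]
    (f : X ⟶ Spec (CommRingCat.of k)) [LocallyOfFiniteType f] (x : X)
    (φ : k →+* X.residueField x)
    (hφ : Spec.map (CommRingCat.ofHom φ) = X.fromSpecResidueField x ≫ f) :
    φ.EssFiniteType := by
  have h1 : X.fromSpecResidueField x ≫ f = Spec.map (X.residue x) ≫ Spec.map (f.stalkMap x) ≫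
      Spec.map (StructureSheaf.toStalk (CommRingCat.of k) (f x)) := by
    rw [Scheme.fromSpecResidueField, Category.assoc, ← Scheme.SpecMap_stalkMap_fromSpecStalk,
      Spec.fromSpecStalk_eq']
    rfl
  rw [h1, ← Spec.map_comp, ← Spec.map_comp] at hφ
  have h2 := Spec.map_injective hφ
  have h3 : φ = ((X.residue x).hom.comp (f.stalkMap x).hom).comp
      (StructureSheaf.toStalk (CommRingCat.of k) (f x)).hom := by
    ext a
    have := congrArg (fun g => g.hom a) h2
    exact this
  rw [h3]
  refine RingHom.EssFiniteType.comp ?_
    (RingHom.EssFiniteType.comp (LocallyOfFiniteType.stalkMap f x) ?_)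
  · have hloc : Algebra.EssFiniteType k
        ((Spec.structureSheaf (CommRingCat.of k)).presheaf.stalk (f x)) :=
      Algebra.EssFiniteType.of_isLocalization _
        (PrimeSpectrum.asIdeal (R := k) (f x)).primeCompl
    exact RingHom.essFiniteType_algebraMap.mpr hloc
  · apply RingHom.FiniteType.essFiniteType
    exact RingHom.FiniteType.of_surjective _ (X.residue_surjective x)

/-- A closed subset whose preimages in all base changes are irreducible gives a geometrically
irreducible reduced closed subscheme. -/
theorem geometricallyIrreducible_subscheme_of_forall_isIrreducible {Y : Scheme.{u}} {L : Type u}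
    [Field L] (s : Y ⟶ Spec (CommRingCat.of L)) (C : Set Y) (hC : IsClosed C)
    (h : ∀ (K : Type u) [Field K] [Algebra L K],
      IsIrreducible (⇑(pullback.fst s (Spec.map (CommRingCat.ofHom (algebraMap L K)))) ⁻¹' C)) :
    GeometricallyIrreducible
      ((Scheme.IdealSheafData.vanishingIdeal ⟨C, hC⟩).subschemeι ≫ s) := by
  let Z : Closeds Y := ⟨C, hC⟩
  let I := Scheme.IdealSheafData.vanishingIdeal Z
  let i : I.subscheme ⟶ Y := I.subschemeι
  have hi : Set.range i = C := by
    rw [Scheme.IdealSheafData.range_subschemeι, Scheme.IdealSheafData.coe_support_vanishingIdeal]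
    rfl
  rw [GeometricallyIrreducible.eq_geometrically,
    geometrically_iff_of_commRing_of_isClosedUnderIsomorphisms]
  intro K _ _
  obtain ⟨JK, hJK, hJKcl⟩ := exists_bc_of_hom s (pullback.snd s _) (algebraMap L K)
    (pullback.fst s (Spec.map (CommRingCat.ofHom (algebraMap L K))))
    (IsPullback.of_hasPullback s _) i
  have hcl : IsClosedImmersion JK := hJKcl inferInstance
  show IrreducibleSpace ↥(pullback (i ≫ s) (Spec.map (CommRingCat.ofHom (algebraMap L K))))
  rw [irreducibleSpace_iff_isIrreducible_range JK.isEmbedding, hJK, hi]
  exact h K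

theorem exists_finite_separable_components_geomIrred {k : Type u} [Field k] {X : Scheme.{u}}
    (f : X ⟶ Spec (CommRingCat.of k)) [LocallyOfFiniteType f]
    (hirr : (irreducibleComponents ↥X).Finite) :
    ∃ (k' : Type u) (_ : Field k') (_ : Algebra k k'), FiniteDimensional k k' ∧
      Algebra.IsSeparable k k' ∧
      ∀ (T : Set ↥(pullback f (Spec.map (CommRingCat.ofHom (algebraMap k k')))))
        (hT : T ∈ irreducibleComponents
          ↥(pullback f (Spec.map (CommRingCat.ofHom (algebraMap k k'))))),
        GeometricallyIrreducible
          ((Scheme.IdealSheafData.vanishingIdeal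
            ⟨T, isClosed_of_mem_irreducibleComponents T hT⟩).subschemeι ≫
            pullback.snd f (Spec.map (CommRingCat.ofHom (algebraMap k k')))) := by
  haveI : Finite ↥(irreducibleComponents ↥X) := hirr.to_subtype
  obtain ⟨L, hF, hA, hfd, hsep, hL⟩ := exists_finite_separable_geomIrred f (by
    intro Z
    obtain ⟨x, hx⟩ := QuasiSober.sober Z.2.1 (isClosed_of_mem_irreducibleComponents Z.1 Z.2)
    obtain ⟨φ, hφ⟩ := exists_ringHom_residueField f x
    refine ⟨x, φ, hx, hφ, ?_⟩
    letI := φ.toAlgebra
    haveI : Algebra.EssFiniteType k (X.residueField x) := essFiniteType_residueField f x φ hφ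
    exact finiteDimensional_separableClosure_of_essFiniteType k (X.residueField x))
  refine ⟨L, hF, hA, hfd, hsep, fun T hT => ?_⟩
  exact geometricallyIrreducible_subscheme_of_forall_isIrreducible _ T _
    (fun K _ _ => hL K T hT)

end Groth.Agent.Lib.Helper50
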