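import Mathlib
import Groth.Prelude
import Groth.Agent.Lib.Helper50.GeomIrredComp

/-!
# Making connected components geometrically connected by a finite separable extension
(helper50)
-/

open CategoryTheory AlgebraicGeometry Limits TensorProduct MorphismProperty TopologicalSpace

namespace Groth.Agent.Lib.Helper50

universe u

theorem isPreconnected_preimage_of_subsingleton_fiber {A B : Type*} [TopologicalSpace A]
    [TopologicalSpace B] {π : A → B} (hc : Continuous π) (ho : IsOpenMap π) (hcl : IsClosedMap π)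
    {C : Set B} (hC : IsClopen C) (hCconn : IsPreconnected C) {ξ : B} (hξ : ξ ∈ C)
    (hfib : (π ⁻¹' {ξ}).Subsingleton) : IsPreconnected (π ⁻¹' C) := by
  have hW : IsClopen (π ⁻¹' C) := hC.preimage hc
  intro u v hu hv hsub hnu hnv
  by_contra hempty
  rw [Set.not_nonempty_iff_eq_empty] at hempty
  have hU : IsClopen (π ⁻¹' C ∩ u) := by
    refine ⟨?_, hW.2.inter hu⟩
    have : π ⁻¹' C ∩ u = π ⁻¹' C \ v := by
      ext a
      constructor
      · rintro ⟨ha, hau⟩
        refine ⟨ha, fun hav => ?_⟩
        have : a ∈ π ⁻¹' C ∩ (u ∩ v) := ⟨ha, hau, hav⟩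
        rw [hempty] at this; exact this
      · rintro ⟨ha, hav⟩
        exact ⟨ha, (hsub ha).resolve_right hav⟩
    rw [this]
    exact hW.1.sdiff hv
  have hV : IsClopen (π ⁻¹' C ∩ v) := by
    refine ⟨?_, hW.2.inter hv⟩
    have : π ⁻¹' C ∩ v = π ⁻¹' C \ u := by
      ext a
      constructor
      · rintro ⟨ha, hav⟩
        refine ⟨ha, fun hau => ?_⟩
        have : a ∈ π ⁻¹' C ∩ (u ∩ v) := ⟨ha, hau, hav⟩
        rw [hempty] at this; exact this
      · rintro ⟨ha, hau⟩
        exact ⟨ha, (hsub ha).resolve_left hau⟩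
    rw [this]
    exact hW.1.sdiff hu
  have hπU : IsClopen (π '' (π ⁻¹' C ∩ u)) := ⟨hcl _ hU.1, ho _ hU.2⟩
  have hπV : IsClopen (π '' (π ⁻¹' C ∩ v)) := ⟨hcl _ hV.1, ho _ hV.2⟩
  have hCU : C ⊆ π '' (π ⁻¹' C ∩ u) := by
    apply hCconn.subset_isClopen hπU
    obtain ⟨a, ha, hau⟩ := hnu
    exact ⟨π a, ha, ⟨a, ⟨ha, hau⟩, rfl⟩⟩
  have hCV : C ⊆ π '' (π ⁻¹' C ∩ v) := by
    apply hCconn.subset_isClopen hπV
    obtain ⟨a, ha, hav⟩ := hnv
    exact ⟨π a, ha, ⟨a, ⟨ha, hav⟩, rfl⟩⟩
  obtain ⟨a, ⟨ha, hau⟩, haξ⟩ := hCU hξ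
  obtain ⟨b, ⟨hb, hbv⟩, hbξ⟩ := hCV hξ
  have hab : a = b := hfib haξ hbξ
  subst hab
  have : a ∈ π ⁻¹' C ∩ (u ∩ v) := ⟨ha, hau, hbv⟩
  rw [hempty] at this
  exact this

theorem connectedSpace_iff_isConnected_range {A B : Type*} [TopologicalSpace A]
    [TopologicalSpace B] {J : A → B} (hJ : Topology.IsInducing J) :
    ConnectedSpace A ↔ IsConnected (Set.range J) := by
  rw [connectedSpace_iff_univ, ← Set.image_univ]
  constructor
  · intro h; exact h.image _ hJ.continuous.continuousOn
  · intro h
    refine ⟨?_, hJ.isPreconnected_image.mp h.2⟩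
    obtain ⟨_, a, -, -⟩ := h.1
    exact ⟨a, trivial⟩

/-- If the preimage of a closed subset `C` of `Y` in a base change `Y'` to a separably closed
field is connected, so is its preimage in every base change `Y_K`. -/
theorem isConnected_preimage_of_isSepClosed_square {Y Y' : Scheme.{u}} {L Ω : Type u}
    [Field L] [Field Ω] [IsSepClosed Ω] (s : Y ⟶ Spec (CommRingCat.of L))
    (s' : Y' ⟶ Spec (CommRingCat.of Ω)) (d : L →+* Ω)
    (π : Y' ⟶ Y) (hπ : IsPullback π s' s (Spec.map (CommRingCat.ofHom d)))
    (C : Set Y) (hC : IsClosed C) (hCΩ : _root_.IsConnected (π ⁻¹' C))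
    (K : Type u) [Field K] [Algebra L K] :
    _root_.IsConnected (⇑(pullback.fst s (Spec.map (CommRingCat.ofHom (algebraMap L K)))) ⁻¹' C) := by
  let Z : Closeds Y := ⟨C, hC⟩
  let I := Scheme.IdealSheafData.vanishingIdeal Z
  let i : I.subscheme ⟶ Y := I.subschemeι
  have hi : Set.range i = C := by
    rw [Scheme.IdealSheafData.range_subschemeι, Scheme.IdealSheafData.coe_support_vanishingIdeal]
    rfl
  obtain ⟨JΩ, hJΩ, hJΩcl⟩ := exists_bc_of_hom s s' d π hπ i
  have hcl : IsClosedImmersion JΩ := hJΩcl inferInstance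
  have h1 : ConnectedSpace ↥(pullback (i ≫ s) (Spec.map (CommRingCat.ofHom d))) := by
    rw [connectedSpace_iff_isConnected_range JΩ.isEmbedding.isInducing, hJΩ, hi]
    exact hCΩ
  letI := d.toAlgebra
  obtain ⟨Ω', _, a, b, hab⟩ := exists_field_compositum L Ω K
  have h2 : ConnectedSpace ↥(pullback (i ≫ s) (Spec.map (CommRingCat.ofHom (algebraMap L K)))) :=
    connectedSpace_pullback_of_square (i ≫ s) d a (algebraMap L K) b hab
  obtain ⟨JK, hJK, -⟩ := exists_bc_of_hom s (pullback.snd s _) (algebraMap L K)
    (pullback.fst s (Spec.map (CommRingCat.ofHom (algebraMap L K))))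
    (IsPullback.of_hasPullback s _) i
  rw [← hi, ← hJK, ← Set.image_univ]
  exact (connectedSpace_iff_univ.mp h2).image _ JK.continuous.continuousOn

/-- If each of the finitely many connected components of `X` contains a point whose residue field
has finite separable closure of `k`, then after a finite separable extension
`L/k` all connected components of `X_L` are geometrically connected. -/
theorem exists_finite_separable_geomConn {k : Type u} [Field k] {X : Scheme.{u}}
    (f : X ⟶ Spec (CommRingCat.of k)) [Finite (_root_.ConnectedComponents ↥X)]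
    (hx : ∀ c : _root_.ConnectedComponents ↥X, ∃ (x : X) (φ : k →+* X.residueField x),
      _root_.ConnectedComponents.mk x = c ∧
      Spec.map (CommRingCat.ofHom φ) = X.fromSpecResidueField x ≫ f ∧
      (letI := φ.toAlgebra; FiniteDimensional k (separableClosure k (X.residueField x)))) :
    ∃ (L : Type u) (_ : Field L) (_ : Algebra k L), FiniteDimensional k L ∧
      Algebra.IsSeparable k L ∧
      ∀ (K : Type u) [Field K] [Algebra L K]
        (x' : ↥(pullback f (Spec.map (CommRingCat.ofHom (algebraMap k L))))),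
        _root_.IsConnected
          (⇑(pullback.fst (pullback.snd f (Spec.map (CommRingCat.ofHom (algebraMap k L))))
          (Spec.map (CommRingCat.ofHom (algebraMap L K)))) ⁻¹' connectedComponent x') := by
  classical
  let Ω := SeparableClosure k
  choose x φ hmk hφ hfd using hx
  let N : _root_.ConnectedComponents ↥X → IntermediateField k Ω := fun Z =>
    letI := (φ Z).toAlgebra
    IntermediateField.normalClosure k (separableClosure k (X.residueField (x Z))) Ω
  have hNfd : ∀ Z, FiniteDimensional k (N Z) := by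
    intro Z
    letI := (φ Z).toAlgebra
    haveI := hfd Z
    exact normalClosure.is_finiteDimensional k
      (separableClosure k (X.residueField (x Z))) Ω
  let L : IntermediateField k Ω := ⨆ Z, N Z
  have hLfd : FiniteDimensional k L := IntermediateField.finiteDimensional_iSup_of_finite
  have hLsep : Algebra.IsSeparable k L := Algebra.isSeparable_tower_bot_of_isSeparable k L Ω
  refine ⟨L, inferInstance, inferInstance, hLfd, hLsep, ?_⟩
  intro K _ _ x'
  let gL := Spec.map (CommRingCat.ofHom (algebraMap k L))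
  let gΩ := Spec.map (CommRingCat.ofHom (algebraMap k Ω))
  let pL := pullback.fst f gL
  let pΩ := pullback.fst f gΩ
  -- `pL` is finite, open and closed
  have hgLfin : IsFinite gL := by
    rw [IsFinite.SpecMap_iff]
    exact RingHom.finite_algebraMap.mpr hLfd
  have hpLfin : IsFinite pL := inferInstance
  have hgLflat : Flat gL := flat_specMap_field k L _
  have hpLflat : Flat pL := inferInstance
  have hpLopen : IsOpenMap pL := by
    haveI : UniversallyOpen pL := inferInstance
    exact pL.isOpenMap
  have hpLclosed : IsClosedMap pL := Scheme.Hom.isClosedMap pL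
  haveI hfinL : Finite (_root_.ConnectedComponents ↥(pullback f gL)) :=
    hpLopen.finite_connectedComponents_of_finite_preimage_singleton hpLclosed pL.continuous
      (fun y => pL.finite_preimage_singleton y)
  have hC'clopen : IsClopen (connectedComponent x') := by
    rw [← connectedComponents_preimage_singleton]
    exact (isClopen_discrete _).preimage _root_.ConnectedComponents.continuous_coe
  -- a point `ξ'` of the component over the chosen point
  let c := _root_.ConnectedComponents.mk (pL x')
  have himg : IsClopen (pL '' connectedComponent x') :=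
    ⟨hpLclosed _ hC'clopen.1, hpLopen _ hC'clopen.2⟩
  have hxc : x c ∈ connectedComponent (pL x') :=
    _root_.ConnectedComponents.coe_eq_coe'.mp (hmk c)
  have hsub : connectedComponent (pL x') ⊆ pL '' connectedComponent x' :=
    isPreconnected_connectedComponent.subset_isClopen himg
      ⟨pL x', mem_connectedComponent, ⟨x', mem_connectedComponent, rfl⟩⟩
  obtain ⟨ξ', hξ'C, hx₀⟩ := hsub hxc
  -- the comparison map
  obtain ⟨π, hπ, hπ1⟩ := exists_bcMap f (algebraMap k L) (algebraMap L Ω) (algebraMap k Ω)
    (IsScalarTower.algebraMap_eq k L Ω)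
  have hπ2 : π ≫ pullback.snd f gL = pullback.snd f gΩ ≫
      Spec.map (CommRingCat.ofHom (L.val : ↥L →ₐ[k] Ω).toRingHom) := hπ.w
  haveI : Algebra.IsAlgebraic L Ω := Algebra.IsAlgebraic.tower_top (K := k) L
  have hπsurj : Surjective π :=
    MorphismProperty.of_isPullback hπ.flip (surjective_specMap_field (algebraMap L Ω))
  have hπint : IsIntegralHom π :=
    MorphismProperty.of_isPullback hπ.flip (isIntegralHom_specMap_of_isAlgebraic L Ω)
  have hπclosed : IsClosedMap π := Scheme.Hom.isClosedMap π
  have hπuo : UniversallyOpen π := MorphismProperty.of_isPullback hπ.flip inferInstance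
  have hπopen : IsOpenMap π := π.isOpenMap
  have hfib : (π ⁻¹' {ξ'}).Subsingleton := by
    intro ζ₁ hζ₁ ζ₂ hζ₂
    have hπζ₁ : π ζ₁ = ξ' := hζ₁
    have hπζ₂ : π ζ₂ = ξ' := hζ₂
    have hp : ∀ ζ : ↥(pullback f gΩ), π ζ = ξ' → pΩ ζ = x c := by
      intro ζ hζ
      have : pΩ ζ = pL (π ζ) := by
        rw [← Scheme.Hom.comp_apply, hπ1]
      rw [this, hζ, hx₀]
    have hLrange : letI := (φ c).toAlgebra
        ∀ (τ : separableClosure k (X.residueField (x c)) →ₐ[k] Ω)
          (a : separableClosure k (X.residueField (x c))), τ a ∈ (L.val : ↥L →ₐ[k] Ω).range := by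
      letI := (φ c).toAlgebra
      intro τ a
      rw [IntermediateField.range_val, IntermediateField.mem_toSubalgebra]
      have h1 : τ a ∈ τ.fieldRange := ⟨a, rfl⟩
      have h2 : τ.fieldRange ≤ N c := τ.fieldRange_le_normalClosure
      exact (le_iSup N c) (h2 h1)
    exact bcMap_injOn_fiber f (L.val : ↥L →ₐ[k] Ω) (x c) (φ c) (hφ c) hLrange π hπ1 hπ2
      ζ₁ ζ₂ (hp ζ₁ hπζ₁) (hp ζ₂ hπζ₂) (hπζ₁.trans hπζ₂.symm)
  have hconn : _root_.IsConnected (π ⁻¹' connectedComponent x') := by
    refine ⟨?_, isPreconnected_preimage_of_subsingleton_fiber π.continuous hπopen hπclosed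
      hC'clopen isPreconnected_connectedComponent hξ'C hfib⟩
    obtain ⟨y, hy⟩ := hπsurj.surj x'
    exact ⟨y, by show π y ∈ connectedComponent x'; rw [hy]; exact mem_connectedComponent⟩
  exact isConnected_preimage_of_isSepClosed_square (pullback.snd f gL) (pullback.snd f gΩ)
    (algebraMap L Ω) π hπ _ isClosed_connectedComponent hconn K

end Groth.Agent.Lib.Helper50
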