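import Mathlib
import Groth.Prelude
import Groth.Agent.Lib.Helper50.GeomConnComp

/-!
# Descending clopen subsets of base changes along algebraic extensions to finite level (helper50)
-/

open CategoryTheory AlgebraicGeometry Limits TensorProduct MorphismProperty TopologicalSpace

namespace Groth.Agent.Lib.Helper50

universe u

/-- Every element of `A ⊗[k] K` (`K/k` algebraic) comes from `A ⊗[k] F` for a finite
subextension `F`. -/
theorem exists_finite_intermediateField_mem_range {k K A : Type u} [Field k] [Field K]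
    [Algebra k K] [Algebra.IsAlgebraic k K] [CommRing A] [Algebra k A] (e : A ⊗[k] K) :
    ∃ F : IntermediateField k K, FiniteDimensional k F ∧
      e ∈ (Algebra.TensorProduct.map (AlgHom.id k A) F.val).range := by
  have hmono : ∀ (F₁ F₂ : IntermediateField k K) (h : F₁ ≤ F₂) (x : A ⊗[k] K),
      x ∈ (Algebra.TensorProduct.map (AlgHom.id k A) F₁.val).range →
      x ∈ (Algebra.TensorProduct.map (AlgHom.id k A) F₂.val).range := by
    rintro F₁ F₂ h x ⟨y, rfl⟩
    refine ⟨Algebra.TensorProduct.map (AlgHom.id k A) (IntermediateField.inclusion h) y, ?_⟩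
    show (Algebra.TensorProduct.map (AlgHom.id k A) F₂.val)
      ((Algebra.TensorProduct.map (AlgHom.id k A) (IntermediateField.inclusion h)) y) =
      (Algebra.TensorProduct.map (AlgHom.id k A) F₁.val) y
    rw [← AlgHom.comp_apply, ← Algebra.TensorProduct.map_comp]
    rfl
  induction e with
  | zero => exact ⟨⊥, inferInstance, Subalgebra.zero_mem _⟩
  | tmul a c =>
    refine ⟨IntermediateField.adjoin k {c}, ?_, ?_⟩
    · exact IntermediateField.adjoin.finiteDimensional
        (Algebra.IsAlgebraic.isAlgebraic c).isIntegral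
    · exact ⟨a ⊗ₜ[k] ⟨c, IntermediateField.mem_adjoin_simple_self k c⟩, by simp⟩
  | add x y hx hy =>
    obtain ⟨F₁, hF₁, hx⟩ := hx
    obtain ⟨F₂, hF₂, hy⟩ := hy
    refine ⟨F₁ ⊔ F₂, IntermediateField.finiteDimensional_sup F₁ F₂, ?_⟩
    exact Subalgebra.add_mem _ (hmono F₁ _ le_sup_left x hx) (hmono F₂ _ le_sup_right y hy)

theorem tensorMap_val_injective {k K A : Type u} [Field k] [Field K]
    [Algebra k K] [CommRing A] [Algebra k A] (F : IntermediateField k K) :
    Function.Injective (Algebra.TensorProduct.map (AlgHom.id k A) F.val) := by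
  have h := Module.Flat.lTensor_preserves_injective_linearMap (M := A) F.val.toLinearMap
    F.val.injective
  exact h

/-- Idempotents of `A ⊗[k] K` descend to a finite level. -/
theorem exists_finite_intermediateField_idempotent {k K A : Type u} [Field k] [Field K]
    [Algebra k K] [Algebra.IsAlgebraic k K] [CommRing A] [Algebra k A] (e : A ⊗[k] K)
    (he : IsIdempotentElem e) :
    ∃ F : IntermediateField k K, FiniteDimensional k F ∧ ∃ e' : A ⊗[k] F, IsIdempotentElem e' ∧
      Algebra.TensorProduct.map (AlgHom.id k A) F.val e' = e := by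
  obtain ⟨F, hF, e', he'⟩ := exists_finite_intermediateField_mem_range e
  have he'' : Algebra.TensorProduct.map (AlgHom.id k A) F.val e' = e := he'
  refine ⟨F, hF, e', ?_, he''⟩
  apply tensorMap_val_injective F
  rw [map_mul, he'', he.eq]

/-- Base change of a morphism `Spec A ⟶ X` of `k`-schemes along `k → K`, with source identified
with `Spec (A ⊗[k] K)`. -/
theorem exists_specTensorMap {X : Scheme.{u}} {k K : Type u} [Field k] [Field K] [Algebra k K]
    (f : X ⟶ Spec (CommRingCat.of k)) {A : Type u} [CommRing A] [Algebra k A]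
    (i : Spec (CommRingCat.of A) ⟶ X)
    (hi : Spec.map (CommRingCat.ofHom (algebraMap k A)) = i ≫ f) :
    ∃ j : Spec (CommRingCat.of (A ⊗[k] K)) ⟶
        pullback f (Spec.map (CommRingCat.ofHom (algebraMap k K))),
      j ≫ pullback.snd _ _ = Spec.map (CommRingCat.ofHom
        (Algebra.TensorProduct.includeRight : K →ₐ[k] A ⊗[k] K).toRingHom) ∧
      IsPullback j (Spec.map (CommRingCat.ofHom
        (Algebra.TensorProduct.includeLeftRingHom : A →+* A ⊗[k] K))) (pullback.fst _ _) i := by
  let g := Spec.map (CommRingCat.ofHom (algebraMap k K))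
  let W := pullback (Spec.map (CommRingCat.ofHom (algebraMap k A))) g
  let jW : W ⟶ pullback f g :=
    pullback.map _ _ _ _ i (𝟙 _) (𝟙 _) (by rw [Category.comp_id, hi]) (by simp)
  let eW : W ≅ Spec (CommRingCat.of (A ⊗[k] K)) := pullbackSpecIso k A K
  have hjfst : jW ≫ pullback.fst f g = pullback.fst _ _ ≫ i := pullback.lift_fst _ _ _
  have hjsnd : jW ≫ pullback.snd f g = pullback.snd _ _ :=
    (pullback.lift_snd _ _ _).trans (Category.comp_id _)
  have sq : IsPullback jW (pullback.fst (Spec.map (CommRingCat.ofHom (algebraMap k A))) g)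
      (pullback.fst f g) i := by
    refine IsPullback.of_right ?_ hjfst (IsPullback.of_hasPullback f g).flip
    rw [hjsnd, ← hi]
    exact (IsPullback.of_hasPullback _ _).flip
  refine ⟨eW.inv ≫ jW, ?_, ?_⟩
  · rw [Category.assoc, hjsnd]
    exact pullbackSpecIso_inv_snd k A K
  · have h1 : eW.inv ≫ pullback.fst (Spec.map (CommRingCat.ofHom (algebraMap k A))) g =
        Spec.map (CommRingCat.ofHom
          (Algebra.TensorProduct.includeLeftRingHom : A →+* A ⊗[k] K)) :=
      pullbackSpecIso_inv_fst k A K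
    rw [← h1]
    exact IsPullback.of_iso sq eW (Iso.refl _) (Iso.refl _) (Iso.refl _)
      (by rw [Iso.refl_hom, Category.comp_id, Iso.hom_inv_id_assoc])
      (by rw [Iso.refl_hom, Category.comp_id, Iso.hom_inv_id_assoc])
      (by rw [Iso.refl_hom, Iso.refl_hom, Category.comp_id, Category.id_comp])
      (by rw [Iso.refl_hom, Iso.refl_hom, Category.comp_id, Category.id_comp])

theorem range_eq_preimage_of_isPullback {P X Y Z : Scheme.{u}} {a : P ⟶ X} {b : P ⟶ Y}
    {c : X ⟶ Z} {d : Y ⟶ Z} (h : IsPullback a b c d) : Set.range a = c ⁻¹' Set.range d := by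
  have e : h.isoPullback.hom ≫ pullback.fst c d = a := h.isoPullback_hom_fst
  have hsurj : Set.range ⇑h.isoPullback.hom = Set.univ :=
    Set.range_eq_univ.mpr h.isoPullback.hom.homeomorph.surjective
  rw [← e, Scheme.Hom.comp_base, TopCat.coe_comp, Set.range_comp, hsurj, Set.image_univ,
    Scheme.Pullback.range_fst]

/-- **Connectedness passes to the limit**: if `X_F` is connected for every finite subextension
`F` of an algebraic extension `K/k`, then `X_K` is connected. -/
theorem connectedSpace_bc_of_forall_finite {X : Scheme.{u}} {k K : Type u} [Field k] [Field K]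
    [Algebra k K] [Algebra.IsAlgebraic k K] (f : X ⟶ Spec (CommRingCat.of k))
    (h : ∀ F : IntermediateField k K, FiniteDimensional k F →
      ConnectedSpace ↥(pullback f (Spec.map (CommRingCat.ofHom (algebraMap k F))))) :
    ConnectedSpace ↥(pullback f (Spec.map (CommRingCat.ofHom (algebraMap k K)))) := by
  let gK := Spec.map (CommRingCat.ofHom (algebraMap k K))
  let pK := pullback.fst f gK
  have hpKsurj : Surjective pK :=
    MorphismProperty.pullback_fst _ _ (surjective_specMap_field (algebraMap k K))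
  have hbot := h ⊥ inferInstance
  obtain ⟨y₀⟩ := hbot.toNonempty
  obtain ⟨z₀, -⟩ := hpKsurj.surj (pullback.fst f _ y₀)
  have hne : Nonempty ↥(pullback f gK) := ⟨z₀⟩
  refine { toPreconnectedSpace := ?_, toNonempty := hne }
  rw [preconnectedSpace_iff_clopen]
  intro U hU
  by_contra hcon
  push Not at hcon
  obtain ⟨hU0, hU1⟩ := hcon
  obtain ⟨ū, hū⟩ := hU0
  -- an affine open neighbourhood of the image of `ū`
  let 𝒰 := X.affineOpenCover
  obtain ⟨x, hx⟩ : ∃ x : X, pK ū = x := ⟨_, rfl⟩
  obtain ⟨a, ha⟩ := 𝒰.covers x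
  let A : Type u := 𝒰.X (𝒰.idx x)
  let i : Spec (CommRingCat.of A) ⟶ X := 𝒰.f (𝒰.idx x)
  haveI : IsOpenImmersion i := 𝒰.map_prop _
  obtain ⟨ψ, hψ⟩ := Spec.map_surjective (i ≫ f)
  letI : Algebra k A := ψ.hom.toAlgebra
  have hi : Spec.map (CommRingCat.ofHom (algebraMap k A)) = i ≫ f := hψ
  obtain ⟨jK, hjK2, hjKpb⟩ := exists_specTensorMap (K := K) f i hi
  have hjKrange : Set.range jK = pK ⁻¹' Set.range i := range_eq_preimage_of_isPullback hjKpb
  obtain ⟨w₀, hw₀⟩ : ū ∈ Set.range jK := by
    rw [hjKrange]; exact ⟨a, ha.trans hx.symm⟩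
  -- the idempotent cutting out `U` over the affine open
  have hUW : IsClopen (jK ⁻¹' U) := hU.preimage jK.continuous
  obtain ⟨e, he, hUe⟩ := PrimeSpectrum.isClopen_iff.mp hUW
  obtain ⟨F, hF, e', he', hee'⟩ := exists_finite_intermediateField_idempotent e he
  -- the finite level
  let gF := Spec.map (CommRingCat.ofHom (algebraMap k F))
  let pF := pullback.fst f gF
  obtain ⟨q, hq, hq1⟩ := exists_bcMap f (algebraMap k F) (algebraMap F K) (algebraMap k K)
    (IsScalarTower.algebraMap_eq k F K)
  have hq2 : q ≫ pullback.snd f gF = pullback.snd f gK ≫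
      Spec.map (CommRingCat.ofHom (algebraMap F K)) := hq.w
  obtain ⟨jF, hjF2, hjFpb⟩ := exists_specTensorMap (K := F) f i hi
  haveI : IsOpenImmersion jF := MorphismProperty.of_isPullback hjFpb.flip inferInstance
  have hjFrange : Set.range jF = pF ⁻¹' Set.range i := range_eq_preimage_of_isPullback hjFpb
  let ι : A ⊗[k] F →ₐ[k] A ⊗[k] K := Algebra.TensorProduct.map (AlgHom.id k A) F.val
  let sι : Spec (CommRingCat.of (A ⊗[k] K)) ⟶ Spec (CommRingCat.of (A ⊗[k] F)) :=
    Spec.map (CommRingCat.ofHom ι.toRingHom)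
  have hι1 : ι.toRingHom.comp (Algebra.TensorProduct.includeLeftRingHom : A →+* A ⊗[k] F) =
      (Algebra.TensorProduct.includeLeftRingHom : A →+* A ⊗[k] K) := by
    ext b; simp [ι]
  have hι2 : ι.toRingHom.comp
      (Algebra.TensorProduct.includeRight : F →ₐ[k] A ⊗[k] F).toRingHom =
      (Algebra.TensorProduct.includeRight : K →ₐ[k] A ⊗[k] K).toRingHom.comp
        (algebraMap F K) := by
    ext b; simp [ι]
  have hc1 : CommRingCat.ofHom (Algebra.TensorProduct.includeLeftRingHom : A →+* A ⊗[k] F) ≫
      CommRingCat.ofHom ι.toRingHom =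
      CommRingCat.ofHom (Algebra.TensorProduct.includeLeftRingHom : A →+* A ⊗[k] K) :=
    CommRingCat.hom_ext hι1
  have hc2 : CommRingCat.ofHom
      (Algebra.TensorProduct.includeRight : F →ₐ[k] A ⊗[k] F).toRingHom ≫
      CommRingCat.ofHom ι.toRingHom =
      CommRingCat.ofHom (algebraMap F K) ≫ CommRingCat.ofHom
        (Algebra.TensorProduct.includeRight : K →ₐ[k] A ⊗[k] K).toRingHom :=
    CommRingCat.hom_ext hι2
  have hs1 : sι ≫ Spec.map (CommRingCat.ofHom
      (Algebra.TensorProduct.includeLeftRingHom : A →+* A ⊗[k] F)) =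
      Spec.map (CommRingCat.ofHom
        (Algebra.TensorProduct.includeLeftRingHom : A →+* A ⊗[k] K)) := by
    rw [← hc1, Spec.map_comp]
  have hs2 : sι ≫ Spec.map (CommRingCat.ofHom
      (Algebra.TensorProduct.includeRight : F →ₐ[k] A ⊗[k] F).toRingHom) =
      Spec.map (CommRingCat.ofHom
        (Algebra.TensorProduct.includeRight : K →ₐ[k] A ⊗[k] K).toRingHom) ≫
      Spec.map (CommRingCat.ofHom (algebraMap F K)) := by
    rw [← Spec.map_comp, hc2, Spec.map_comp]
  have hcomm : jK ≫ q = sι ≫ jF := by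
    apply pullback.hom_ext
    · rw [Category.assoc, hq1, hjKpb.w, Category.assoc, hjFpb.w, ← Category.assoc, hs1]
    · rw [Category.assoc, hq2, ← Category.assoc, hjK2, Category.assoc, hjF2, hs2]
  have hιpre : ∀ w : ↥(Spec (CommRingCat.of (A ⊗[k] K))),
      sι w ∈ (PrimeSpectrum.basicOpen e' : Set (PrimeSpectrum (A ⊗[k] F))) ↔
        w ∈ (PrimeSpectrum.basicOpen e : Set (PrimeSpectrum (A ⊗[k] K))) := by
    intro w
    have h1 : sι w = PrimeSpectrum.comap ι.toRingHom w := rfl
    rw [h1]
    have key : (PrimeSpectrum.comap ι.toRingHom w ∈ PrimeSpectrum.basicOpen e') ↔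
        ((w : PrimeSpectrum (A ⊗[k] K)) ∈ PrimeSpectrum.basicOpen e) := by
      have hw : ((w : PrimeSpectrum (A ⊗[k] K)) ∈ PrimeSpectrum.basicOpen e) ↔
          e ∉ (w : PrimeSpectrum (A ⊗[k] K)).asIdeal := PrimeSpectrum.mem_basicOpen e w
      rw [PrimeSpectrum.mem_basicOpen, hw, PrimeSpectrum.comap_asIdeal, Ideal.mem_comap]
      have : ι.toRingHom e' = e := hee'
      rw [this]
    exact key
  let E : Set ↥(pullback f gF) := jF '' (PrimeSpectrum.basicOpen e' : Set (PrimeSpectrum (A ⊗[k] F)))
  have hEpre : q ⁻¹' E ⊆ U := by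
    rintro z ⟨w', hw', hzw'⟩
    have h1 : pK z ∈ Set.range i := by
      have h2 : pF (jF w') ∈ Set.range i := by
        have : jF w' ∈ Set.range jF := ⟨w', rfl⟩
        rw [hjFrange] at this; exact this
      have h3 : pK z = pF (q z) := by
        show pK z = (q ≫ pullback.fst f gF) z
        rw [hq1]
      rw [h3, ← hzw']; exact h2
    obtain ⟨w, hw⟩ : z ∈ Set.range jK := by rw [hjKrange]; exact h1
    have h4 : jF (sι w) = jF w' := by
      rw [hzw', ← hw, ← Scheme.Hom.comp_apply, ← Scheme.Hom.comp_apply, hcomm]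
    have h5 := jF.isEmbedding.injective h4
    have h6 : w ∈ (PrimeSpectrum.basicOpen e : Set (PrimeSpectrum (A ⊗[k] K))) := by
      rw [← hιpre, h5]; exact hw'
    have h7 : w ∈ jK ⁻¹' U := by rw [hUe]; exact h6
    rw [← hw]; exact h7
  have hqū : q ū ∈ E := by
    have h6 : w₀ ∈ (PrimeSpectrum.basicOpen e : Set (PrimeSpectrum (A ⊗[k] K))) := by
      have : w₀ ∈ jK ⁻¹' U := by show jK w₀ ∈ U; rw [hw₀]; exact hū
      rw [hUe] at this; exact this
    refine ⟨sι w₀, (hιpre w₀).mpr h6, ?_⟩
    rw [← hw₀, ← Scheme.Hom.comp_apply, ← Scheme.Hom.comp_apply, hcomm]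
  -- use connectedness of `X_F`
  haveI := h F hF
  haveI : Algebra.IsAlgebraic F K := Algebra.IsAlgebraic.tower_top (K := k) F
  have hqint : IsIntegralHom q :=
    MorphismProperty.of_isPullback hq.flip (isIntegralHom_specMap_of_isAlgebraic F K)
  have hqclosed : IsClosedMap q := Scheme.Hom.isClosedMap q
  have hquo : UniversallyOpen q := MorphismProperty.of_isPullback hq.flip inferInstance
  have hqopen : IsOpenMap q := q.isOpenMap
  have hVne : (Uᶜ).Nonempty := Set.nonempty_compl.mpr hU1
  have hVimg : q '' Uᶜ = Set.univ :=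
    IsClopen.eq_univ ⟨hqclosed _ hU.compl.1, hqopen _ hU.compl.2⟩ (hVne.image _)
  obtain ⟨v, hv, hvq⟩ : q ū ∈ q '' Uᶜ := hVimg ▸ Set.mem_univ _
  have : v ∈ q ⁻¹' E := by show q v ∈ E; rw [hvq]; exact hqū
  exact hv (hEpre this)

end Groth.Agent.Lib.Helper50

namespace Groth.Agent.Lib.Helper50

universe u

/-- A `k`-scheme is geometrically connected iff all its base changes to finite separable
extensions are connected. -/
theorem geometricallyConnected_iff_forall_finite_separable {X : Scheme.{u}} {k : Type u} [Field k]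
    (f : X ⟶ Spec (CommRingCat.of k)) :
    GeometricallyConnected f ↔
      ∀ (k' : Type u) [Field k'] [Algebra k k'] [FiniteDimensional k k']
        [Algebra.IsSeparable k k'],
        ConnectedSpace ↥(pullback f (Spec.map (CommRingCat.ofHom (algebraMap k k')))) := by
  constructor
  · intro h k' _ _ _ _
    exact (geometrically_iff_of_commRing_of_isClosedUnderIsomorphisms.mp h.1) k'
  · intro h
    let Ω := SeparableClosure k
    haveI hΩ : ConnectedSpace ↥(pullback f (Spec.map (CommRingCat.ofHom (algebraMap k Ω)))) := by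
      apply connectedSpace_bc_of_forall_finite
      intro F hF
      haveI : Algebra.IsSeparable k F := Algebra.isSeparable_tower_bot_of_isSeparable k F Ω
      exact h F
    refine ⟨geometrically_iff_of_commRing_of_isClosedUnderIsomorphisms.mpr fun K _ _ => ?_⟩
    obtain ⟨Ω', _, a, b, hab⟩ := exists_field_compositum k Ω K
    exact connectedSpace_pullback_of_square f (algebraMap k Ω) a (algebraMap k K) b hab

end Groth.Agent.Lib.Helper50
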