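import Mathlib

/-!
# Geometric reducedness from a jointly injective family of maps (helper50)
-/

open TensorProduct

universe u

namespace Groth.Agent.Lib.Helper50

/-- Coefficients w.r.t. the base-changed basis are natural in the algebra. -/
theorem basis_repr_map_apply {k K A B : Type*} [Field k] [AddCommGroup K] [Module k K]
    [CommRing A] [CommRing B] [Algebra k A] [Algebra k B] {J : Type*} (b : Module.Basis J k K)
    (φ : A →ₐ[k] B) (t : A ⊗[k] K) (j : J) :
    (Algebra.TensorProduct.basis B b).repr (TensorProduct.map φ.toLinearMap LinearMap.id t) j =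
      φ ((Algebra.TensorProduct.basis A b).repr t j) := by
  induction t using TensorProduct.induction_on with
  | zero => simp
  | tmul a m =>
    simp only [TensorProduct.map_tmul, AlgHom.toLinearMap_apply, LinearMap.id_coe, id_eq,
      Algebra.TensorProduct.basis_repr_tmul, Finsupp.smul_apply, Finsupp.mapRange_apply,
      smul_eq_mul, map_mul, AlgHom.commutes]
  | add x y hx hy => simp only [map_add, Finsupp.add_apply, hx, hy]

/-- If a family of `k`-algebra maps `φ i : A → B i` is jointly injective and all `B i ⊗ K` are
reduced, then `A ⊗ K` is reduced. -/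
theorem isReduced_tensorProduct_of_forall_algHom {k K A : Type u} [Field k] [Field K] [Algebra k K]
    [CommRing A] [Algebra k A] {ι : Type*} (B : ι → Type u) [∀ i, CommRing (B i)]
    [∀ i, Algebra k (B i)] (φ : ∀ i, A →ₐ[k] B i)
    (hφ : ∀ a : A, (∀ i, φ i a = 0) → a = 0)
    (hB : ∀ i, IsReduced (B i ⊗[k] K)) : IsReduced (A ⊗[k] K) := by
  refine ⟨fun t ht => ?_⟩
  let b := Module.Free.chooseBasis k K
  have h0 : ∀ i, Algebra.TensorProduct.map (φ i) (AlgHom.id k K) t = 0 := by
    intro i
    have := hB i
    exact (ht.map (Algebra.TensorProduct.map (φ i) (AlgHom.id k K))).eq_zero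
  apply (Algebra.TensorProduct.basis A b).repr.injective
  ext j
  rw [map_zero, Finsupp.zero_apply]
  apply hφ
  intro i
  have h1 := basis_repr_map_apply b (φ i) t j
  rw [← h1]
  have h2 : ∀ s : A ⊗[k] K, TensorProduct.map (φ i).toLinearMap LinearMap.id s =
      Algebra.TensorProduct.map (φ i) (AlgHom.id k K) s := by
    intro s
    induction s using TensorProduct.induction_on with
    | zero => simp
    | tmul a m => simp
    | add x y hx hy => simp only [map_add, hx, hy]
  rw [h2, h0 i, map_zero, Finsupp.zero_apply]

/-- If a family of `k`-algebra maps `φ i : A → B i` is jointly injective and all `B i` are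
geometrically reduced, then `A` is geometrically reduced. -/
theorem isGeometricallyReduced_of_forall_algHom {k A : Type u} [Field k]
    [CommRing A] [Algebra k A] {ι : Type*} (B : ι → Type u) [∀ i, CommRing (B i)]
    [∀ i, Algebra k (B i)] (φ : ∀ i, A →ₐ[k] B i)
    (hφ : ∀ a : A, (∀ i, φ i a = 0) → a = 0)
    (hB : ∀ i, Algebra.IsGeometricallyReduced k (B i)) : Algebra.IsGeometricallyReduced k A := by
  rw [Algebra.isGeometricallyReduced_field_iff]
  have h1 : IsReduced (A ⊗[k] AlgebraicClosure k) := by
    apply isReduced_tensorProduct_of_forall_algHom B φ hφ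
    intro i
    have := (Algebra.isGeometricallyReduced_field_iff k (B i)).mp (hB i)
    exact isReduced_of_injective (Algebra.TensorProduct.comm k (B i) (AlgebraicClosure k))
      (Algebra.TensorProduct.comm k (B i) (AlgebraicClosure k)).injective
  exact isReduced_of_injective (Algebra.TensorProduct.comm k (AlgebraicClosure k) A)
    (Algebra.TensorProduct.comm k (AlgebraicClosure k) A).injective

end Groth.Agent.Lib.Helper50
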