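import Mathlib
import Groth.Prelude
import Groth.Agent.Lib.Helper50.StalkBC
import Groth.Agent.Lib.Helper50.GeomReduced

/-!
# Geometric reducedness at a point (helper50)
-/

open CategoryTheory AlgebraicGeometry Limits TensorProduct MorphismProperty

namespace Groth.Agent.Lib.Helper50

universe u

section

variable {X : Scheme.{u}} {k : Type u} [Field k]
  (f : X ⟶ Spec (CommRingCat.of k)) (x : X) (φ : k →+* X.presheaf.stalk x)
  (hφ : Spec.map (CommRingCat.ofHom φ) = X.fromSpecStalk x ≫ f)

include hφ in
/-- `X` is geometrically reduced at `x` iff `O_{X,x}` is a geometrically reduced `k`-algebra. -/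
theorem isGeomReducedAt_iff :
    letI := φ.toAlgebra
    (∀ (K : Type u) [Field K] [Algebra k K]
      (x' : ↥(pullback f (Spec.map (CommRingCat.ofHom (algebraMap k K))))),
      pullback.fst f (Spec.map (CommRingCat.ofHom (algebraMap k K))) x' = x →
      IsReduced ((pullback f (Spec.map (CommRingCat.ofHom (algebraMap k K)))).presheaf.stalk x')) ↔
    Algebra.IsGeometricallyReduced k (X.presheaf.stalk x) := by
  letI := φ.toAlgebra
  constructor
  · intro h
    apply isGeometricallyReduced_of_forall_finite_isPurelyInseparable
    intro k' _ _ _ _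
    suffices hred : IsReduced (X.presheaf.stalk x ⊗[k] k') from
      isReduced_of_injective (Algebra.TensorProduct.comm k k' (X.presheaf.stalk x))
        (Algebra.TensorProduct.comm k k' (X.presheaf.stalk x)).injective
    apply isReduced_ofLocalizationMaximal
    intro m hm
    have hq : m.comap (Algebra.TensorProduct.includeLeftRingHom :
        X.presheaf.stalk x →+* X.presheaf.stalk x ⊗[k] k') =
        IsLocalRing.maximalIdeal (X.presheaf.stalk x) := by
      have : Algebra.IsIntegral (X.presheaf.stalk x) (X.presheaf.stalk x ⊗[k] k') :=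
        inferInstance
      have hmax : (m.comap (algebraMap (X.presheaf.stalk x)
          (X.presheaf.stalk x ⊗[k] k'))).IsMaximal :=
        Ideal.isMaximal_comap_of_isIntegral_of_isMaximal m
      exact IsLocalRing.eq_maximalIdeal hmax
    obtain ⟨x', hx', ⟨e⟩⟩ := (exists_stalk_bc (K := k') f x φ hφ).2 ⟨m, hm.isPrime⟩ hq
    have := h k' x' hx'
    exact isReduced_of_injective e.symm e.symm.injective
  · intro hgr K _ _ x' hx'
    obtain ⟨q, ⟨e⟩⟩ := (exists_stalk_bc (K := K) f x φ hφ).1 x' hx'
    have h1 : IsReduced (K ⊗[k] X.presheaf.stalk x) := isReduced_tensor_of_isGeometricallyReduced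
    have h2 : IsReduced (X.presheaf.stalk x ⊗[k] K) :=
      isReduced_of_injective (Algebra.TensorProduct.comm k (X.presheaf.stalk x) K)
        (Algebra.TensorProduct.comm k (X.presheaf.stalk x) K).injective
    have h3 : IsReduced (Localization.AtPrime q.asIdeal) := inferInstance
    exact isReduced_of_injective e e.injective

end

end Groth.Agent.Lib.Helper50
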