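import Mathlib
import Groth.Prelude
import Groth.Agent.Lib.Helper50.GeomReducedAt

/-!
# Geometric reducedness of schemes via local rings (helper50)
-/

open CategoryTheory AlgebraicGeometry Limits TensorProduct MorphismProperty

namespace Groth.Agent.Lib.Helper50

universe u

section

variable {X : Scheme.{u}} {k : Type u} [Field k]
  (f : X ⟶ Spec (CommRingCat.of k))

/-- Enough to test on finite purely inseparable extensions. -/
theorem isGeometricallyReduced_stalk_of_forall_finite_isPurelyInseparable (x : X)
    (φ : k →+* X.presheaf.stalk x)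
    (hφ : Spec.map (CommRingCat.ofHom φ) = X.fromSpecStalk x ≫ f)
    (h : ∀ (K : Type u) [Field K] [Algebra k K] [Module.Finite k K] [IsPurelyInseparable k K]
      (x' : ↥(pullback f (Spec.map (CommRingCat.ofHom (algebraMap k K))))),
      pullback.fst f (Spec.map (CommRingCat.ofHom (algebraMap k K))) x' = x →
      IsReduced ((pullback f (Spec.map (CommRingCat.ofHom (algebraMap k K)))).presheaf.stalk x')) :
    letI := φ.toAlgebra
    Algebra.IsGeometricallyReduced k (X.presheaf.stalk x) := by
  letI := φ.toAlgebra
  apply isGeometricallyReduced_of_forall_finite_isPurelyInseparable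
  intro k' _ _ _ _
  suffices hred : IsReduced (X.presheaf.stalk x ⊗[k] k') from
    isReduced_of_injective (Algebra.TensorProduct.comm k k' (X.presheaf.stalk x))
      (Algebra.TensorProduct.comm k k' (X.presheaf.stalk x)).injective
  apply isReduced_ofLocalizationMaximal
  intro m hm
  have hq : m.comap (Algebra.TensorProduct.includeLeftRingHom :
      X.presheaf.stalk x →+* X.presheaf.stalk x ⊗[k] k') =
      IsLocalRing.maximalIdeal (X.presheaf.stalk x) := by
    have : Algebra.IsIntegral (X.presheaf.stalk x) (X.presheaf.stalk x ⊗[k] k') :=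
      inferInstance
    have hmax : (m.comap (algebraMap (X.presheaf.stalk x)
        (X.presheaf.stalk x ⊗[k] k'))).IsMaximal :=
      Ideal.isMaximal_comap_of_isIntegral_of_isMaximal m
    exact IsLocalRing.eq_maximalIdeal hmax
  obtain ⟨x', hx', ⟨e⟩⟩ := (exists_stalk_bc (K := k') f x φ hφ).2 ⟨m, hm.isPrime⟩ hq
  have := h k' x' hx'
  exact isReduced_of_injective e.symm e.symm.injective

/-- A `k`-scheme all of whose local rings are geometrically reduced is geometrically reduced. -/
theorem geometricallyReduced_of_forall_stalk
    (h : ∀ x : X, ∃ φ : k →+* X.presheaf.stalk x,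
      Spec.map (CommRingCat.ofHom φ) = X.fromSpecStalk x ≫ f ∧
      (letI := φ.toAlgebra; Algebra.IsGeometricallyReduced k (X.presheaf.stalk x))) :
    GeometricallyReduced f := by
  refine ⟨geometrically_iff_of_commRing_of_isClosedUnderIsomorphisms.mpr fun K _ _ => ?_⟩
  apply +allowSynthFailures isReduced_of_isReduced_stalk
  intro x'
  obtain ⟨φ, hφ, hgr⟩ := h (pullback.fst f (Spec.map (CommRingCat.ofHom (algebraMap k K))) x')
  exact (isGeomReducedAt_iff f _ φ hφ).mpr hgr K x' rfl

/-- Conversely the local rings of a geometrically reduced `k`-scheme are geometrically reduced. -/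
theorem isGeometricallyReduced_stalk_of_geometricallyReduced [hf : GeometricallyReduced f] (x : X)
    (φ : k →+* X.presheaf.stalk x)
    (hφ : Spec.map (CommRingCat.ofHom φ) = X.fromSpecStalk x ≫ f) :
    letI := φ.toAlgebra
    Algebra.IsGeometricallyReduced k (X.presheaf.stalk x) := by
  refine (isGeomReducedAt_iff f x φ hφ).mp fun K _ _ x' _ => ?_
  have : IsReduced (pullback f (Spec.map (CommRingCat.ofHom (algebraMap k K)))) :=
    pullback_of_geometrically hf.1 _ _
  infer_instance

/-- Stalk structure maps exist. -/
theorem exists_ringHom_stalk (x : X) :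
    ∃ φ : k →+* X.presheaf.stalk x,
      Spec.map (CommRingCat.ofHom φ) = X.fromSpecStalk x ≫ f := by
  obtain ⟨ψ, hψ⟩ := Spec.map_surjective (X.fromSpecStalk x ≫ f)
  exact ⟨ψ.hom, hψ⟩

/-- If `X_{k'}` is reduced for all finite purely inseparable `k'/k`, then `X` is geometrically
reduced. -/
theorem geometricallyReduced_of_forall_finite_isPurelyInseparable
    (h : ∀ (K : Type u) [Field K] [Algebra k K] [Module.Finite k K] [IsPurelyInseparable k K],
      IsReduced (pullback f (Spec.map (CommRingCat.ofHom (algebraMap k K))))) :
    GeometricallyReduced f := by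
  apply geometricallyReduced_of_forall_stalk
  intro x
  obtain ⟨φ, hφ⟩ := exists_ringHom_stalk f x
  refine ⟨φ, hφ, isGeometricallyReduced_stalk_of_forall_finite_isPurelyInseparable f x φ hφ ?_⟩
  intro K _ _ _ _ x' _
  have := h K
  infer_instance

end

end Groth.Agent.Lib.Helper50
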