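import Mathlib
import Groth.Prelude
import Groth.Agent.Lib.Helper50.GeomReducedJoint
import Groth.Agent.Lib.Helper50.GeomReducedScheme

/-!
# Geometric reducedness can be checked at the maximal points of a reduced scheme (helper50)
-/

open CategoryTheory AlgebraicGeometry TopologicalSpace

universe u

namespace Groth.Agent.Lib.Helper50

/-- The point of `X` attached to a minimal prime of a local ring is the generic point of an
irreducible component. -/
theorem closure_mem_irreducibleComponents_of_minimalPrimes {X : Scheme.{u}} (x : X)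
    (P : PrimeSpectrum (X.presheaf.stalk x)) (hP : P.asIdeal ∈ minimalPrimes (X.presheaf.stalk x)) :
    closure {X.fromSpecStalk x P} ∈ irreducibleComponents (X : Type u) := by
  set η := X.fromSpecStalk x P with hη
  have hirr : IsIrreducible (closure ({η} : Set X)) := isIrreducible_singleton.closure
  refine ⟨hirr, fun Z' hZ' hle => ?_⟩
  -- generic point of closure Z'
  have hZc : IsIrreducible (closure Z') := hZ'.closure
  obtain ⟨η', hη'⟩ := QuasiSober.sober hZc isClosed_closure
  have hηη' : η' ⤳ η := by
    rw [specializes_iff_mem_closure, hη'.def]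
    exact subset_closure (hle (subset_closure rfl))
  have hηx : η ⤳ x := by
    have : η ∈ Set.range (X.fromSpecStalk x) := ⟨P, rfl⟩
    rwa [Scheme.range_fromSpecStalk] at this
  have hη'x : η' ⤳ x := hηη'.trans hηx
  obtain ⟨P', hP'⟩ : ∃ P' : PrimeSpectrum (X.presheaf.stalk x), X.fromSpecStalk x P' = η' := by
    have : η' ∈ Set.range (X.fromSpecStalk x) := by
      rw [Scheme.range_fromSpecStalk]; exact hη'x
    exact this
  have hemb := (X.fromSpecStalk x).isEmbedding
  have hsp : P' ⤳ P := by
    refine hemb.isInducing.specializes_iff.mp ?_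
    rw [hP', ← hη]
    exact hηη'
  have hle' : P'.asIdeal ≤ P.asIdeal := (PrimeSpectrum.le_iff_specializes P' P).mpr hsp
  have hPP' : P.asIdeal ≤ P'.asIdeal := hP.2 ⟨P'.isPrime, bot_le⟩ hle'
  have heq : P' = P := PrimeSpectrum.ext (le_antisymm hle' hPP')
  have : η' = η := by rw [← hP', heq]
  intro z hz
  rw [← this, hη'.def]
  exact subset_closure hz

/-- In a reduced local ring of a scheme, a nonzero element stays nonzero at some generic point of an
irreducible component. -/
theorem exists_stalkSpecializes_ne_zero {X : Scheme.{u}} (x : X)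
    [IsReduced (X.presheaf.stalk x)] (a : X.presheaf.stalk x) (ha : a ≠ 0) :
    ∃ (η : X) (h : η ⤳ x), closure {η} ∈ irreducibleComponents (X : Type u) ∧
      (X.presheaf.stalkSpecializes h).hom a ≠ 0 := by
  have hnil : a ∉ nilradical (X.presheaf.stalk x) := by
    rw [nilradical_eq_zero]; exact ha
  rw [nilradical, ← Ideal.sInf_minimalPrimes, Ideal.mem_sInf] at hnil
  push Not at hnil
  obtain ⟨p, hp, hap⟩ := hnil
  have hpp : p.IsPrime := hp.1.1
  let P : PrimeSpectrum (X.presheaf.stalk x) := ⟨p, hpp⟩
  set η := X.fromSpecStalk x P with hη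
  have hηx : η ⤳ x := by
    have : η ∈ Set.range (X.fromSpecStalk x) := ⟨P, rfl⟩
    rwa [Scheme.range_fromSpecStalk] at this
  refine ⟨η, hηx, closure_mem_irreducibleComponents_of_minimalPrimes x P hp, ?_⟩
  let Q := (Spec.map (X.presheaf.stalkSpecializes hηx)) (IsLocalRing.closedPoint (X.presheaf.stalk η))
  have hQ : X.fromSpecStalk x Q = η := by
    rw [← Scheme.Hom.comp_apply, Scheme.SpecMap_stalkSpecializes_fromSpecStalk,
      Scheme.fromSpecStalk_closedPoint]
  have hQP : Q = P := (X.fromSpecStalk x).isEmbedding.injective (hQ.trans hη)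
  intro h0
  apply hap
  have : a ∈ Q.asIdeal := by
    change (X.presheaf.stalkSpecializes hηx).hom a ∈ IsLocalRing.maximalIdeal _
    rw [h0]; exact Ideal.zero_mem _
  rwa [hQP] at this

open Limits in
/-- A reduced `k`-scheme which is geometrically reduced at the generic points of its irreducible
components is geometrically reduced. -/
theorem geometricallyReduced_of_forall_generic {X : Scheme.{u}} {k : Type u} [Field k]
    (f : X ⟶ Spec (CommRingCat.of k)) [IsReduced X]
    (h : ∀ η : X, closure {η} ∈ irreducibleComponents (X : Type u) →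
      ∀ (K : Type u) [Field K] [Algebra k K]
      (y : ↥(pullback f (Spec.map (CommRingCat.ofHom (algebraMap k K))))),
      pullback.fst f (Spec.map (CommRingCat.ofHom (algebraMap k K))) y = η →
      IsReduced ((pullback f (Spec.map (CommRingCat.ofHom (algebraMap k K)))).presheaf.stalk y)) :
    GeometricallyReduced f := by
  apply geometricallyReduced_of_forall_stalk
  intro x
  obtain ⟨φ, hφ⟩ := exists_ringHom_stalk f x
  refine ⟨φ, hφ, ?_⟩
  letI := φ.toAlgebra
  let ι := {η : X // η ⤳ x ∧ closure {η} ∈ irreducibleComponents (X : Type u)}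
  let φη : ∀ i : ι, k →+* X.presheaf.stalk i.1 := fun i =>
    (X.presheaf.stalkSpecializes i.2.1).hom.comp φ
  letI alg : ∀ i : ι, Algebra k (X.presheaf.stalk i.1) := fun i => (φη i).toAlgebra
  let ψ : ∀ i : ι, X.presheaf.stalk x →ₐ[k] X.presheaf.stalk i.1 := fun i =>
    { (X.presheaf.stalkSpecializes i.2.1).hom with commutes' := fun a => rfl }
  refine isGeometricallyReduced_of_forall_algHom (fun i : ι => X.presheaf.stalk i.1) ψ ?_ ?_
  · intro a ha
    by_contra hne
    obtain ⟨η, hη, hc, hne'⟩ := exists_stalkSpecializes_ne_zero x a hne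
    exact hne' (ha ⟨η, hη, hc⟩)
  · intro i
    have hφη : Spec.map (CommRingCat.ofHom (φη i)) = X.fromSpecStalk i.1 ≫ f := by
      rw [CommRingCat.ofHom_comp, Spec.map_comp, hφ, CommRingCat.ofHom_hom,
        Scheme.SpecMap_stalkSpecializes_fromSpecStalk_assoc]
    exact (isGeomReducedAt_iff f i.1 (φη i) hφη).mp (h i.1 i.2.2)

end Groth.Agent.Lib.Helper50
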