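import Mathlib
import Groth.Prelude
import Groth.Agent.Lib.Helper50.RadMult
import Groth.Agent.Lib.Helper50.GeomReducedGeneric
import Groth.Agent.Lib.Helper50.FiniteLevel

/-!
# The reduction of a base change to a finite purely inseparable extension is geometrically
reduced (helper50)
-/

open CategoryTheory AlgebraicGeometry Limits TensorProduct TopologicalSpace

universe u

namespace Groth.Agent.Lib.Helper50

/-- Monotonicity in the intermediate field of the condition that the nilradical of `P ⊗[k] A` is
generated by nilpotents of `k' ⊗[k] A`. -/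
theorem span_image_nilpotent_mono {k P A : Type*} [Field k] [Field P] [Algebra k P]
    [CommRing A] [Algebra k A] {k₁ k₂ : IntermediateField k P} (h : k₁ ≤ k₂) :
    Ideal.span ((Algebra.TensorProduct.map (IsScalarTower.toAlgHom k k₁ P) (AlgHom.id k A)) ''
        {b | IsNilpotent b}) ≤
      Ideal.span ((Algebra.TensorProduct.map (IsScalarTower.toAlgHom k k₂ P) (AlgHom.id k A)) ''
        {b | IsNilpotent b}) := by
  refine Ideal.span_mono ?_
  rintro _ ⟨b, hb, rfl⟩
  refine ⟨Algebra.TensorProduct.map (IntermediateField.inclusion h) (AlgHom.id k A) b,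
    IsNilpotent.map hb _, ?_⟩
  rw [← AlgHom.comp_apply, ← Algebra.TensorProduct.map_comp]
  rfl

/-- A common finite subextension working for finitely many algebras. -/
theorem exists_finite_intermediateField_forall_nilradical_le {k P : Type*} [Field k] [Field P]
    [Algebra k P] [Algebra.IsAlgebraic k P] {ι : Type*} [Finite ι] (A : ι → Type*)
    [∀ i, CommRing (A i)] [∀ i, Algebra k (A i)]
    (hfg : ∀ i, (nilradical (P ⊗[k] A i)).FG) :
    ∃ k' : IntermediateField k P, FiniteDimensional k k' ∧
      ∀ i, nilradical (P ⊗[k] A i) ≤ Ideal.span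
        ((Algebra.TensorProduct.map (IsScalarTower.toAlgHom k k' P) (AlgHom.id k (A i))) ''
          {b | IsNilpotent b}) := by
  choose K hK1 hK2 using fun i => exists_finite_intermediateField_nilradical_le (hfg i)
  refine ⟨⨆ i, K i, IntermediateField.finiteDimensional_iSup_of_finite, fun i => ?_⟩
  exact (hK2 i).trans (span_image_nilpotent_mono (le_iSup K i))

/-- The generic point of an irreducible component has no proper generizations. -/
theorem eq_of_specializes_of_closure_mem_irreducibleComponents {T : Type*} [TopologicalSpace T]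
    [T0Space T] {η : T} (hη : closure {η} ∈ irreducibleComponents T) (x : T) (hx : x ⤳ η) :
    x = η := by
  refine (hx.antisymm ?_).eq
  rw [specializes_iff_mem_closure]
  have h1 : closure {η} ⊆ closure {x} :=
    closure_minimal (Set.singleton_subset_iff.mpr hx.mem_closure) isClosed_closure
  have h2 : IsIrreducible (closure {x}) := isIrreducible_singleton.closure
  have h3 : closure {x} ⊆ closure {η} := hη.2 h2 h1
  exact h3 (subset_closure rfl)

/-- A point of a quasi-sober space without proper generizations is the generic point of an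
irreducible component. -/
theorem closure_mem_irreducibleComponents_of_forall_specializes {T : Type*} [TopologicalSpace T]
    [QuasiSober T] {ξ : T} (h : ∀ y : T, y ⤳ ξ → y = ξ) :
    closure {ξ} ∈ irreducibleComponents T := by
  have hirr : IsIrreducible (closure ({ξ} : Set T)) := isIrreducible_singleton.closure
  refine ⟨hirr, fun Z' hZ' hle => ?_⟩
  have hZc : IsIrreducible (closure Z') := hZ'.closure
  obtain ⟨η', hη'⟩ := QuasiSober.sober hZc isClosed_closure
  have hηη' : η' ⤳ ξ := by
    rw [specializes_iff_mem_closure, hη'.def]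
    exact subset_closure (hle (subset_closure rfl))
  have := h η' hηη'
  intro z hz
  rw [← this, hη'.def]
  exact subset_closure hz

/-- The local ring at a point without proper generizations has a single prime. -/
theorem subsingleton_primeSpectrum_stalk {X : Scheme.{u}} (ξ : X) (h : ∀ y : X, y ⤳ ξ → y = ξ) :
    Subsingleton (PrimeSpectrum (X.presheaf.stalk ξ)) := by
  refine ⟨fun P Q => ?_⟩
  have hP : X.fromSpecStalk ξ P ⤳ ξ := by
    have : X.fromSpecStalk ξ P ∈ Set.range (X.fromSpecStalk ξ) := ⟨P, rfl⟩
    rwa [Scheme.range_fromSpecStalk] at this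
  have hQ : X.fromSpecStalk ξ Q ⤳ ξ := by
    have : X.fromSpecStalk ξ Q ∈ Set.range (X.fromSpecStalk ξ) := ⟨Q, rfl⟩
    rwa [Scheme.range_fromSpecStalk] at this
  exact (X.fromSpecStalk ξ).isEmbedding.injective ((h _ hP).trans (h _ hQ).symm)

/-- A reduced local ring with a single prime has zero maximal ideal. -/
theorem maximalIdeal_eq_bot_of_subsingleton_primeSpectrum {R : Type*} [CommRing R] [IsLocalRing R]
    [IsReduced R] [Subsingleton (PrimeSpectrum R)] : IsLocalRing.maximalIdeal R = ⊥ := by
  rw [← Ideal.zero_eq_bot, ← nilradical_eq_zero R, nilradical_eq_sInf]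
  refine le_antisymm (le_sInf fun J hJ => ?_) (sInf_le (IsLocalRing.maximalIdeal.isMaximal R).isPrime)
  have : (⟨J, hJ⟩ : PrimeSpectrum R) = IsLocalRing.closedPoint R := Subsingleton.elim _ _
  rw [← show (⟨J, hJ⟩ : PrimeSpectrum R).asIdeal = J from rfl, this]
  exact le_of_eq rfl

/-- Every morphism from a reduced scheme kills the nilradical of the target. -/
theorem nilradical_le_ker {T Z : Scheme.{u}} (h : T ⟶ Z) [IsReduced T] : Z.nilradical ≤ h.ker := by
  rw [Scheme.Hom.ker, Scheme.IdealSheafData.le_ofIdeals_iff]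
  intro U s hs
  have hs' : s ∈ (⊥ : Ideal Γ(Z, U.1)).radical := by
    simpa [Scheme.nilradical] using hs
  obtain ⟨n, hn⟩ := hs'
  rw [RingHom.mem_ker]
  have h1 : IsNilpotent ((h.app U.1).hom s) := ⟨n, by rw [← map_pow, Ideal.mem_bot.mp hn, map_zero]⟩
  exact h1.eq_zero

/-- If a local geometrically reduced `k'`-algebra `L` maps to `Y` over `k'`, hitting a point whose
local ring is a field, then `Y` is geometrically reduced at that point. -/
theorem isGeomReducedAt_of_specMap {Y : Scheme.{u}} {k' : Type u} [Field k']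
    (g : Y ⟶ Spec (CommRingCat.of k'))
    (L : Type u) [CommRing L] [IsLocalRing L] [Algebra k' L] [Algebra.IsGeometricallyReduced k' L]
    (h1 : Spec (CommRingCat.of L) ⟶ Y)
    (hh : h1 ≫ g = Spec.map (CommRingCat.ofHom (algebraMap k' L)))
    (hfield : IsLocalRing.maximalIdeal
      (Y.presheaf.stalk (h1 (IsLocalRing.closedPoint L))) = ⊥) :
    ∀ (K : Type u) [Field K] [Algebra k' K]
      (y : ↥(pullback g (Spec.map (CommRingCat.ofHom (algebraMap k' K))))),
      pullback.fst g (Spec.map (CommRingCat.ofHom (algebraMap k' K))) y =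
        h1 (IsLocalRing.closedPoint L) →
      IsReduced ((pullback g (Spec.map (CommRingCat.ofHom (algebraMap k' K)))).presheaf.stalk y) := by
  obtain ⟨φ', hφ'⟩ := exists_ringHom_stalk g (h1 (IsLocalRing.closedPoint L))
  rw [isGeomReducedAt_iff g _ φ' hφ']
  letI := φ'.toAlgebra
  let ψ := Scheme.stalkClosedPointTo h1
  have hψ : ψ.hom.comp φ' = algebraMap k' L := by
    have h2 : Spec.map (CommRingCat.ofHom φ' ≫ ψ) =
        Spec.map (CommRingCat.ofHom (algebraMap k' L)) := by
      rw [Spec.map_comp, hφ', Scheme.Spec_stalkClosedPointTo_fromSpecStalk_assoc, hh]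
    have h3 := Spec.map_injective h2
    ext c
    exact congrArg (fun t => t.hom c) h3
  have hc : ∀ c : k', ψ.hom (algebraMap k' (Y.presheaf.stalk (h1 (IsLocalRing.closedPoint L))) c) =
      algebraMap k' L c := fun c => by
    change (ψ.hom.comp φ') c = _
    rw [hψ]
  let ψa : Y.presheaf.stalk (h1 (IsLocalRing.closedPoint L)) →ₐ[k'] L :=
    { ψ.hom with commutes' := hc }
  have hinj : Function.Injective ψa := by
    rw [injective_iff_map_eq_zero]
    intro a ha
    by_contra hne
    have hu : IsUnit a := by
      by_contra hnu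
      have hm : a ∈ IsLocalRing.maximalIdeal
          (Y.presheaf.stalk (h1 (IsLocalRing.closedPoint L))) :=
        (IsLocalRing.mem_maximalIdeal a).mpr hnu
      rw [hfield] at hm
      exact hne (Ideal.mem_bot.mp hm)
    have hu' := hu.map ψa
    rw [ha] at hu'
    exact not_isUnit_zero hu'
  exact Algebra.IsGeometricallyReduced.of_injective ψa hinj

/-- The closed subscheme defined by a radical ideal sheaf is reduced. -/
theorem isReduced_subscheme_radical' {X : Scheme.{u}} (I : X.IdealSheafData) :
    IsReduced I.radical.subscheme := by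
  have : ∀ U, IsReduced (I.radical.subschemeCover.openCover.X U) := by
    intro U
    have : _root_.IsReduced (Γ(X, U.1) ⧸ I.radical.ideal U) := by
      rw [← Ideal.isRadical_iff_quotient_reduced]
      simp only [Scheme.IdealSheafData.radical_ideal]
      exact Ideal.radical_isRadical _
    show IsReduced (Spec (.of (Γ(X, U.1) ⧸ I.radical.ideal U)))
    infer_instance
  exact IsReduced.of_openCover _ I.radical.subschemeCover.openCover

theorem isReduced_subscheme_nilradical' (X : Scheme.{u}) : IsReduced X.nilradical.subscheme :=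
  isReduced_subscheme_radical' ⊥

/-- Let `k'/k` be purely inseparable. If for every generic point `ξ` of an irreducible component
of `X` the reduction of `k' ⊗[k] O_{X,ξ}` is geometrically reduced over `k'`, then the reduction
of `X_{k'}` is geometrically reduced over `k'`. -/
theorem geometricallyReduced_nilradical_bc {X : Scheme.{u}} {k k' : Type u} [Field k] [Field k']
    [Algebra k k'] [IsPurelyInseparable k k'] (f : X ⟶ Spec (CommRingCat.of k))
    (H : ∀ ξ : X, closure {ξ} ∈ irreducibleComponents (X : Type u) →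
      ∃ φ : k →+* X.presheaf.stalk ξ, Spec.map (CommRingCat.ofHom φ) = X.fromSpecStalk ξ ≫ f ∧
        letI := φ.toAlgebra
        Algebra.IsGeometricallyReduced k'
          ((k' ⊗[k] X.presheaf.stalk ξ) ⧸ nilradical (k' ⊗[k] X.presheaf.stalk ξ))) :
    GeometricallyReduced
      ((pullback f (Spec.map (CommRingCat.ofHom (algebraMap k k')))).nilradical.subschemeι ≫
        pullback.snd f (Spec.map (CommRingCat.ofHom (algebraMap k k')))) := by
  let X' := pullback f (Spec.map (CommRingCat.ofHom (algebraMap k k')))
  let ι : X'.nilradical.subscheme ⟶ X' := X'.nilradical.subschemeι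
  let p : X' ⟶ X := pullback.fst _ _
  have hred : IsReduced X'.nilradical.subscheme := isReduced_subscheme_nilradical' X'
  refine geometricallyReduced_of_forall_generic _ ?_
  intro η hη
  have hηgen := eq_of_specializes_of_closure_mem_irreducibleComponents hη
  obtain ⟨ξ, hξdef⟩ : ∃ ξ, p (ι η) = ξ := ⟨_, rfl⟩
  have hsurj : Function.Surjective ι := by
    rw [← Set.range_eq_univ, Scheme.IdealSheafData.range_subschemeι]
    rfl
  have hξ : ∀ y : X, y ⤳ ξ → y = ξ := by
    intro y hy
    rw [← hξdef] at hy
    obtain ⟨x', hx', rfl⟩ := (Flat.generalizingMap (f := p)) hy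
    obtain ⟨y', rfl⟩ := hsurj x'
    have h2 : y' ⤳ η := ι.isEmbedding.isInducing.specializes_iff.mp hx'
    rw [hηgen y' h2, hξdef]
  obtain ⟨φ, hφ, hgr⟩ := H ξ (closure_mem_irreducibleComponents_of_forall_specializes hξ)
  letI := φ.toAlgebra
  have hA1 : Subsingleton (PrimeSpectrum (X.presheaf.stalk ξ)) :=
    subsingleton_primeSpectrum_stalk ξ hξ
  have hA2 : Subsingleton (PrimeSpectrum (X.presheaf.stalk ξ ⊗[k] k')) :=
    (PrimeSpectrum.isHomeomorph_comap_of_isPurelyInseparable k k'
      (X.presheaf.stalk ξ)).injective.subsingleton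
  let q : X.presheaf.stalk ξ ⊗[k] k' →+*
      (k' ⊗[k] X.presheaf.stalk ξ) ⧸ nilradical (k' ⊗[k] X.presheaf.stalk ξ) :=
    (Ideal.Quotient.mk _).comp
      (Algebra.TensorProduct.comm k (X.presheaf.stalk ξ) k' : _ →+* _)
  have hqsurj : Function.Surjective q :=
    Ideal.Quotient.mk_surjective.comp (Algebra.TensorProduct.comm k (X.presheaf.stalk ξ) k').surjective
  have hq : q.comp (Algebra.TensorProduct.includeRight :
      k' →ₐ[k] X.presheaf.stalk ξ ⊗[k] k').toRingHom = algebraMap k' _ := by
    ext c
    simp [q]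
    rfl
  have hAnt : Nontrivial (k' ⊗[k] X.presheaf.stalk ξ) :=
    (Algebra.TensorProduct.includeRight_injective (R := k) (A := k') (B := X.presheaf.stalk ξ)
      (algebraMap k k').injective).nontrivial
  have hLnt : Nontrivial ((k' ⊗[k] X.presheaf.stalk ξ) ⧸ nilradical (k' ⊗[k] X.presheaf.stalk ξ)) := by
    apply Ideal.Quotient.nontrivial_iff.mpr
    intro htop
    have h1 : (1 : k' ⊗[k] X.presheaf.stalk ξ) ∈ nilradical (k' ⊗[k] X.presheaf.stalk ξ) := by
      rw [htop]; trivial
    exact not_isNilpotent_one (mem_nilradical.mp h1)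
  have hLsub : Subsingleton (PrimeSpectrum
      ((k' ⊗[k] X.presheaf.stalk ξ) ⧸ nilradical (k' ⊗[k] X.presheaf.stalk ξ))) :=
    (PrimeSpectrum.comap_injective_of_surjective q hqsurj).subsingleton
  have hLloc : IsLocalRing
      ((k' ⊗[k] X.presheaf.stalk ξ) ⧸ nilradical (k' ⊗[k] X.presheaf.stalk ξ)) := by
    apply IsLocalRing.of_unique_max_ideal
    obtain ⟨m, hm⟩ := Ideal.exists_maximal
      ((k' ⊗[k] X.presheaf.stalk ξ) ⧸ nilradical (k' ⊗[k] X.presheaf.stalk ξ))
    refine ⟨m, hm, fun m' hm' => ?_⟩
    exact congrArg PrimeSpectrum.asIdeal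
      (Subsingleton.elim (⟨m', hm'.isPrime⟩ : PrimeSpectrum _) ⟨m, hm.isPrime⟩)
  have hφ' : Spec.map (CommRingCat.ofHom (algebraMap k (X.presheaf.stalk ξ))) =
      X.fromSpecStalk ξ ≫ f := hφ
  obtain ⟨j, hj1, hj2⟩ := @exists_specTensorMap X k k' _ _ _ f (X.presheaf.stalk ξ) _ φ.toAlgebra
    (X.fromSpecStalk ξ) hφ'
  let h0 : Spec (CommRingCat.of
      ((k' ⊗[k] X.presheaf.stalk ξ) ⧸ nilradical (k' ⊗[k] X.presheaf.stalk ξ))) ⟶ X' :=
    Spec.map (CommRingCat.ofHom q) ≫ j
  have hLred : _root_.IsReduced
      ((k' ⊗[k] X.presheaf.stalk ξ) ⧸ nilradical (k' ⊗[k] X.presheaf.stalk ξ)) :=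
    (Ideal.isRadical_iff_quotient_reduced _).mp (Ideal.radical_isRadical _)
  have hker : ι.ker ≤ h0.ker := by
    rw [Scheme.IdealSheafData.ker_subschemeι]
    exact nilradical_le_ker h0
  let h1 := IsClosedImmersion.lift ι h0 hker
  have hh1 : h1 ≫ ι = h0 := IsClosedImmersion.lift_fac _ _ _
  have hh : h1 ≫ (ι ≫ pullback.snd f (Spec.map (CommRingCat.ofHom (algebraMap k k')))) =
      Spec.map (CommRingCat.ofHom (algebraMap k' _)) := by
    rw [← Category.assoc, hh1, Category.assoc, hj1, ← Spec.map_comp, ← CommRingCat.ofHom_comp, hq]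
  have hη1 : η = h1 (IsLocalRing.closedPoint _) := by
    apply ι.isEmbedding.injective
    have hr : ι η ∈ Set.range j := by
      rw [range_eq_preimage_of_isPullback hj2]
      exact ⟨IsLocalRing.closedPoint (X.presheaf.stalk ξ), by
        rw [Scheme.fromSpecStalk_closedPoint]; exact hξdef.symm⟩
    obtain ⟨t, ht⟩ := hr
    rw [← ht, ← Scheme.Hom.comp_apply, hh1]
    change j t = j _
    congr 1
    exact hA2.elim _ _
  subst hη1
  have hfield : IsLocalRing.maximalIdeal
      (X'.nilradical.subscheme.presheaf.stalk (h1 (IsLocalRing.closedPoint _))) = ⊥ := by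
    haveI := subsingleton_primeSpectrum_stalk _ hηgen
    exact maximalIdeal_eq_bot_of_subsingleton_primeSpectrum
  exact isGeomReducedAt_of_specMap _ _ h1 hh hfield

/-- Local rings of a scheme locally of finite type over a field are essentially of finite type. -/
theorem essFiniteType_stalk {X : Scheme.{u}} {k : Type u} [Field k]
    (f : X ⟶ Spec (CommRingCat.of k)) [LocallyOfFiniteType f] (x : X)
    (φ : k →+* X.presheaf.stalk x)
    (hφ : Spec.map (CommRingCat.ofHom φ) = X.fromSpecStalk x ≫ f) :
    φ.EssFiniteType := by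
  have h1 : X.fromSpecStalk x ≫ f = Spec.map (f.stalkMap x) ≫
      Spec.map (StructureSheaf.toStalk (CommRingCat.of k) (f x)) := by
    rw [← Scheme.SpecMap_stalkMap_fromSpecStalk, Spec.fromSpecStalk_eq']
    rfl
  rw [h1, ← Spec.map_comp] at hφ
  have h2 := Spec.map_injective hφ
  have h3 : φ = (f.stalkMap x).hom.comp
      (StructureSheaf.toStalk (CommRingCat.of k) (f x)).hom := by
    ext a
    have := congrArg (fun g => g.hom a) h2
    exact this
  rw [h3]
  refine RingHom.EssFiniteType.comp ?_ (LocallyOfFiniteType.stalkMap f x)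
  have hloc : Algebra.EssFiniteType k
      ((Spec.structureSheaf (CommRingCat.of k)).presheaf.stalk (f x)) :=
    Algebra.EssFiniteType.of_isLocalization _
      (PrimeSpectrum.asIdeal (R := k) (f x)).primeCompl
  exact RingHom.essFiniteType_algebraMap.mpr hloc

/-- For `X` locally of finite type over `k` with finitely many irreducible components there is a
finite purely inseparable extension `k'/k` such that `(X_{k'})_red` is geometrically reduced. -/
theorem exists_finite_purelyInseparable_nilradical_bc {X : Scheme.{u}} {k : Type u} [Field k]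
    (f : X ⟶ Spec (CommRingCat.of k)) [LocallyOfFiniteType f]
    (hirr : (irreducibleComponents (X : Type u)).Finite) :
    ∃ (k' : Type u) (_ : Field k') (_ : Algebra k k'), FiniteDimensional k k' ∧
      IsPurelyInseparable k k' ∧
      GeometricallyReduced
        ((pullback f (Spec.map (CommRingCat.ofHom (algebraMap k k')))).nilradical.subschemeι ≫
          pullback.snd f (Spec.map (CommRingCat.ofHom (algebraMap k k')))) := by
  let ι := {ξ : X // closure {ξ} ∈ irreducibleComponents (X : Type u)}
  have hfinι : Finite ι := by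
    haveI := hirr.to_subtype
    refine Finite.of_injective
      (fun ξ : ι => (⟨closure {ξ.1}, ξ.2⟩ : irreducibleComponents (X : Type u))) ?_
    intro a b h
    have h1 : closure ({a.1} : Set X) = closure {b.1} := congrArg Subtype.val h
    apply Subtype.ext
    have h2 : a.1 ⤳ b.1 := by
      rw [specializes_iff_closure_subset, h1]
    have h3 : b.1 ⤳ a.1 := by
      rw [specializes_iff_closure_subset, h1]
    exact (h2.antisymm h3).eq
  choose φ hφ using fun ξ : ι => exists_ringHom_stalk f ξ.1
  letI : ∀ ξ : ι, Algebra k (X.presheaf.stalk ξ.1) := fun ξ => (φ ξ).toAlgebra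
  let P := perfectClosure k (AlgebraicClosure k)
  have hfg : ∀ ξ : ι, (nilradical (P ⊗[k] X.presheaf.stalk ξ.1)).FG := fun ξ => by
    haveI : Algebra.EssFiniteType k (X.presheaf.stalk ξ.1) :=
      RingHom.essFiniteType_algebraMap.mp (essFiniteType_stalk f ξ.1 (φ ξ) (hφ ξ))
    exact nilradical_tensor_fg_of_essFiniteType
  haveI : Algebra.IsAlgebraic k P := IsPurelyInseparable.isAlgebraic k P
  obtain ⟨k', hfin, hle⟩ := exists_finite_intermediateField_forall_nilradical_le
    (fun ξ : ι => X.presheaf.stalk ξ.1) hfg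
  haveI : IsPurelyInseparable k k' := IsPurelyInseparable.tower_bot k k' P
  refine ⟨k', inferInstance, inferInstance, hfin, inferInstance, ?_⟩
  apply geometricallyReduced_nilradical_bc f
  intro ξ hξ
  refine ⟨φ ⟨ξ, hξ⟩, hφ ⟨ξ, hξ⟩, ?_⟩
  letI : Algebra k (X.presheaf.stalk ξ) := (φ ⟨ξ, hξ⟩).toAlgebra
  have hred := isReduced_tensor_quotient_nilradical (k := k) (k' := k') (P := P)
    (A := X.presheaf.stalk ξ) (hle ⟨ξ, hξ⟩)
  haveI : Algebra.IsAlgebraic k' P := Algebra.IsAlgebraic.tower_top (K := k) k'
  exact isGeometricallyReduced_of_isReduced_perfect_tensor hred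

end Groth.Agent.Lib.Helper50
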