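import Mathlib
import Groth.Prelude.Def_MoreMor
import Groth.Agent.Lib.Helper50.GeomScheme

/-!
# Base change of geometric fibres (helper50)

* `exists_geomFiber_bc`: for a cartesian square, the geometric fibre of `f'` over `y'` is the base
  change of the geometric fibre of `f` over `g y'` along an embedding of separable closures.
* `encard_irreducibleComponents_eq_of_isSepClosed`, `card_connectedComponents_eq_of_isSepClosed`:
  base change from a separably closed field preserves the number of irreducible / connected
  components.
-/

open CategoryTheory AlgebraicGeometry Limits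

namespace Groth.Agent.Lib.Helper50

universe u

theorem exists_geomFiber_bc {X Y X' Y' : Scheme.{u}} (f : X ⟶ Y) (f' : X' ⟶ Y') (g' : X' ⟶ X)
    (g : Y' ⟶ Y) (hc : IsPullback g' f' f g) (y' : Y') :
    ∃ (d : SeparableClosure (Y.residueField (g y')) →+* SeparableClosure (Y'.residueField y'))
      (π : MoreMor.geomFiber f' y' ⟶ MoreMor.geomFiber f (g y')),
      IsPullback π
        (pullback.snd (f'.fiberToSpecResidueField y')
          (Spec.map (CommRingCat.ofHom
            (algebraMap (Y'.residueField y') (SeparableClosure (Y'.residueField y'))))))
        (pullback.snd (f.fiberToSpecResidueField (g y'))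
          (Spec.map (CommRingCat.ofHom
            (algebraMap (Y.residueField (g y')) (SeparableClosure (Y.residueField (g y')))))))
        (Spec.map (CommRingCat.ofHom d)) := by
  unfold MoreMor.geomFiber
  let r : Y.residueField (g y') →+* Y'.residueField y' := (g.residueFieldMap y').hom
  letI : Algebra (Y.residueField (g y')) (SeparableClosure (Y'.residueField y')) :=
    ((algebraMap (Y'.residueField y') (SeparableClosure (Y'.residueField y'))).comp r).toAlgebra
  let d0 : SeparableClosure (Y.residueField (g y')) →ₐ[Y.residueField (g y')]
      SeparableClosure (Y'.residueField y') := IsSepClosed.lift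
  have hd : d0.toRingHom.comp
      (algebraMap (Y.residueField (g y')) (SeparableClosure (Y.residueField (g y')))) =
      (algebraMap (Y'.residueField y') (SeparableClosure (Y'.residueField y'))).comp r := by
    exact RingHom.ext fun x => d0.commutes x
  have h1 := isPullback_fiberToSpecResidueField_of_isPullback hc y'
  have h2 := IsPullback.of_hasPullback (f'.fiberToSpecResidueField y')
    (Spec.map (CommRingCat.ofHom
      (algebraMap (Y'.residueField y') (SeparableClosure (Y'.residueField y')))))
  have big := h2.paste_horiz h1
  have h3 := IsPullback.of_hasPullback (f.fiberToSpecResidueField (g y'))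
    (Spec.map (CommRingCat.ofHom
      (algebraMap (Y.residueField (g y')) (SeparableClosure (Y.residueField (g y'))))))
  have e : g.residueFieldMap y' ≫ CommRingCat.ofHom
      (algebraMap (Y'.residueField y') (SeparableClosure (Y'.residueField y'))) =
      CommRingCat.ofHom
        (algebraMap (Y.residueField (g y')) (SeparableClosure (Y.residueField (g y')))) ≫
      CommRingCat.ofHom d0.toRingHom := by
    apply CommRingCat.hom_ext
    exact hd.symm
  have hbot : Spec.map (CommRingCat.ofHom
      (algebraMap (Y'.residueField y') (SeparableClosure (Y'.residueField y')))) ≫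
      Spec.map (g.residueFieldMap y') =
      Spec.map (CommRingCat.ofHom d0.toRingHom) ≫ Spec.map (CommRingCat.ofHom
      (algebraMap (Y.residueField (g y')) (SeparableClosure (Y.residueField (g y'))))) := by
    rw [← Spec.map_comp, ← Spec.map_comp]
    exact congrArg Spec.map e
  have big' : IsPullback
      (pullback.fst (f'.fiberToSpecResidueField y')
        (Spec.map (CommRingCat.ofHom
          (algebraMap (Y'.residueField y') (SeparableClosure (Y'.residueField y'))))) ≫
        pullback.map f' (Y'.fromSpecResidueField y') f (Y.fromSpecResidueField (g y')) g'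
          (Spec.map (g.residueFieldMap y')) g hc.w.symm (by simp))
      (pullback.snd (f'.fiberToSpecResidueField y')
        (Spec.map (CommRingCat.ofHom
          (algebraMap (Y'.residueField y') (SeparableClosure (Y'.residueField y'))))))
      (f.fiberToSpecResidueField (g y'))
      (Spec.map (CommRingCat.ofHom d0.toRingHom) ≫ Spec.map (CommRingCat.ofHom
      (algebraMap (Y.residueField (g y')) (SeparableClosure (Y.residueField (g y')))))) := by
    convert big using 1
    exact hbot.symm
  refine ⟨d0.toRingHom, h3.lift _ (pullback.snd _ _ ≫ Spec.map (CommRingCat.ofHom d0.toRingHom))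
    (by rw [Category.assoc]; exact big'.w), ?_⟩
  refine IsPullback.of_right ?_ (h3.lift_snd _ _ _) h3
  rw [h3.lift_fst]
  exact big'

theorem encard_irreducibleComponents_eq_of_isSepClosed {Y Y' : Scheme.{u}} {L K : Type u}
    [Field L] [IsSepClosed L] [Field K]
    (s : Y ⟶ Spec (CommRingCat.of L)) (s' : Y' ⟶ Spec (CommRingCat.of K)) (d : L →+* K)
    (π : Y' ⟶ Y) (hπ : IsPullback π s' s (Spec.map (CommRingCat.ofHom d))) :
    (irreducibleComponents Y').encard = (irreducibleComponents Y).encard := by
  letI := d.toAlgebra
  have hgi : GeometricallyIrreducible (Spec.map (CommRingCat.ofHom d)) :=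
    geometricallyIrreducible_specMap_of_isSepClosed L K
  have hg : GeometricallyIrreducible π := MorphismProperty.of_isPullback hπ.flip hgi
  have ho : UniversallyOpen π := MorphismProperty.of_isPullback hπ.flip inferInstance
  exact Set.encard_congr (Scheme.Hom.irreducibleComponentsEquiv π π.isOpenMap)

theorem card_connectedComponents_eq_of_isSepClosed {Y Y' : Scheme.{u}} {L K : Type u}
    [Field L] [IsSepClosed L] [Field K]
    (s : Y ⟶ Spec (CommRingCat.of L)) (s' : Y' ⟶ Spec (CommRingCat.of K)) (d : L →+* K)
    (π : Y' ⟶ Y) (hπ : IsPullback π s' s (Spec.map (CommRingCat.ofHom d))) :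
    ENat.card (_root_.ConnectedComponents Y') = ENat.card (_root_.ConnectedComponents Y) := by
  letI := d.toAlgebra
  have hgi : GeometricallyConnected (Spec.map (CommRingCat.ofHom d)) :=
    geometricallyConnected_specMap_of_isSepClosed L K
  have hg : GeometricallyConnected π := MorphismProperty.of_isPullback hπ.flip hgi
  have ho : UniversallyOpen π := MorphismProperty.of_isPullback hπ.flip inferInstance
  exact ENat.card_congr (Scheme.Hom.connectedComponentsHomeomorph π π.isOpenMap).toEquiv

end Groth.Agent.Lib.Helper50
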