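import Mathlib
import Groth.Agent.Lib.Helper50.NormalBC
import Groth.Agent.Lib.Helper13.NormalRing
import Groth.Agent.Lib.Helper48.FieldJapanese
import Groth.Agent.S9412

/-! Tensor products of normal rings over a field (Stacks 06DG), helper50. -/

set_option autoImplicit false
universe u
open TensorProduct Polynomial

namespace Groth.Agent.Lib.Helper50

section Directed

/-- Elements of the fraction field of a localization at a prime are fractions of elements of
the original ring. -/
theorem exists_frac_repr_atPrime {T : Type*} [CommRing T] (Q : Ideal T) [Q.IsPrime]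
    (R K : Type*) [CommRing R] [Algebra T R] [IsLocalization.AtPrime R Q] [IsDomain R]
    [Field K] [Algebra R K] [IsFractionRing R K] (y : K) :
    ∃ a b : T, algebraMap R K (algebraMap T R b) ≠ 0 ∧
      y * algebraMap R K (algebraMap T R b) = algebraMap R K (algebraMap T R a) := by
  obtain ⟨r, r', hr', rfl⟩ := IsFractionRing.div_surjective (A := R) y
  obtain ⟨a, s, rfl⟩ := IsLocalization.exists_mk'_eq Q.primeCompl r
  obtain ⟨b, t, rfl⟩ := IsLocalization.exists_mk'_eq Q.primeCompl r'
  have hinj : Function.Injective (algebraMap R K) := IsFractionRing.injective R K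
  have h1 : algebraMap R K (IsLocalization.mk' R b t) ≠ 0 := by
    intro h
    rw [map_eq_zero_iff _ hinj] at h
    exact nonZeroDivisors.ne_zero hr' h
  have hs : algebraMap R K (algebraMap T R s) ≠ 0 := by
    intro h
    rw [map_eq_zero_iff _ hinj] at h
    exact (IsLocalization.map_units R s).ne_zero h
  have ht : algebraMap R K (algebraMap T R t) ≠ 0 := by
    intro h
    rw [map_eq_zero_iff _ hinj] at h
    exact (IsLocalization.map_units R t).ne_zero h
  have e1 : algebraMap R K (IsLocalization.mk' R a s) * algebraMap R K (algebraMap T R s) =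
      algebraMap R K (algebraMap T R a) := by
    rw [← map_mul, IsLocalization.mk'_spec]
  have e2 : algebraMap R K (IsLocalization.mk' R b t) * algebraMap R K (algebraMap T R t) =
      algebraMap R K (algebraMap T R b) := by
    rw [← map_mul, IsLocalization.mk'_spec]
  refine ⟨a * t, b * s, ?_, ?_⟩
  · rw [map_mul, map_mul, ← e2]
    exact mul_ne_zero (mul_ne_zero h1 ht) hs
  · rw [map_mul, map_mul, map_mul, map_mul, ← e2, ← e1]
    field_simp

/-- Non-flat directed union: if every finite subset of `T` lies in the range of one of the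
injective ring maps `φ i : S i → T` from normal rings, then `T` is normal. -/
theorem isNormalRing_of_forall_finset_range {T : Type u} [CommRing T] {ι : Type*}
    (S : ι → Type u) [∀ i, CommRing (S i)] (φ : ∀ i, S i →+* T)
    (hinj : ∀ i, Function.Injective (φ i))
    (hfin : ∀ s : Finset T, ∃ i, (s : Set T) ⊆ Set.range (φ i))
    (h : ∀ i, EGA4.IsNormalRing (S i)) : EGA4.IsNormalRing T := by
  classical
  intro Q hQ
  haveI : Nontrivial T := ⟨0, 1, fun h01 => hQ.ne_top ((Ideal.eq_top_iff_one Q).mpr (h01 ▸ Q.zero_mem))⟩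
  -- comparison maps
  have hzero : ∀ i (a : S i),
      algebraMap (S i) (Localization.AtPrime (Q.comap (φ i))) a = 0 →
      algebraMap T (Localization.AtPrime Q) (φ i a) = 0 := by
    intro i a ha
    have := Localization.localRingHom_to_map (Q.comap (φ i)) Q (φ i) rfl a
    rw [← this, ha, map_zero]
  have hdom : IsDomain (Localization.AtPrime Q) := by
    refine @NoZeroDivisors.to_isDomain _ _ _ ⟨?_⟩
    intro x y hxy
    obtain ⟨a, s, rfl⟩ := IsLocalization.exists_mk'_eq Q.primeCompl x
    obtain ⟨b, t, rfl⟩ := IsLocalization.exists_mk'_eq Q.primeCompl y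
    rw [← IsLocalization.mk'_mul, IsLocalization.mk'_eq_zero_iff] at hxy
    obtain ⟨m, hm⟩ := hxy
    obtain ⟨i, hi⟩ := hfin {a, b, (m : T)}
    obtain ⟨a', rfl⟩ : a ∈ Set.range (φ i) := hi (by simp)
    obtain ⟨b', rfl⟩ : b ∈ Set.range (φ i) := hi (by simp)
    obtain ⟨m', hm'⟩ : (m : T) ∈ Set.range (φ i) := hi (by simp)
    have hm'Q : m' ∈ (Q.comap (φ i)).primeCompl := by
      change m' ∉ Q.comap (φ i)
      rw [Ideal.mem_comap, hm']
      exact m.2
    haveI := (h i (Q.comap (φ i))).1
    have h0 : m' * (a' * b') = 0 := hinj i (by rw [map_mul, map_mul, hm', map_zero]; exact hm)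
    have hu : IsUnit (algebraMap (S i) (Localization.AtPrime (Q.comap (φ i))) m') :=
      IsLocalization.map_units _ (⟨m', hm'Q⟩ : (Q.comap (φ i)).primeCompl)
    have h1 : algebraMap (S i) (Localization.AtPrime (Q.comap (φ i))) a' *
        algebraMap (S i) (Localization.AtPrime (Q.comap (φ i))) b' = 0 := by
      have := congrArg (algebraMap (S i) (Localization.AtPrime (Q.comap (φ i)))) h0
      rw [map_mul, map_mul, map_zero] at this
      exact (hu.mul_right_eq_zero).mp this
    rcases mul_eq_zero.mp h1 with h2 | h2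
    · left
      rw [IsLocalization.mk'_eq_mul_mk'_one, hzero i a' h2, zero_mul]
    · right
      rw [IsLocalization.mk'_eq_mul_mk'_one, hzero i b' h2, zero_mul]
  refine ⟨hdom, ?_⟩
  rw [isIntegrallyClosed_iff (FractionRing (Localization.AtPrime Q))]
  intro x hx
  obtain ⟨m, hmx⟩ := IsIntegral.exists_multiple_integral_of_isLocalization Q.primeCompl x hx
  have hinjK : Function.Injective (algebraMap (Localization.AtPrime Q)
      (FractionRing (Localization.AtPrime Q))) := IsFractionRing.injective _ _
  -- it suffices to treat `y = m • x`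
  suffices hy : ∃ z : Localization.AtPrime Q,
      algebraMap _ (FractionRing (Localization.AtPrime Q)) z = m • x by
    obtain ⟨z, hz⟩ := hy
    have hu : IsUnit (algebraMap T (Localization.AtPrime Q) m) := IsLocalization.map_units _ m
    refine ⟨z * ((hu.unit⁻¹ : (Localization.AtPrime Q)ˣ) : Localization.AtPrime Q), ?_⟩
    have hmK : algebraMap (Localization.AtPrime Q) (FractionRing (Localization.AtPrime Q))
        (algebraMap T (Localization.AtPrime Q) m) ≠ 0 := by
      intro h0
      rw [map_eq_zero_iff _ hinjK] at h0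
      exact hu.ne_zero h0
    have h3 : m • x = algebraMap (Localization.AtPrime Q) (FractionRing (Localization.AtPrime Q))
        (algebraMap T (Localization.AtPrime Q) m) * x := by
      rw [Submonoid.smul_def, Algebra.smul_def, IsScalarTower.algebraMap_apply T
        (Localization.AtPrime Q) (FractionRing (Localization.AtPrime Q))]
    have h4 : algebraMap (Localization.AtPrime Q) (FractionRing (Localization.AtPrime Q))
        ((hu.unit⁻¹ : (Localization.AtPrime Q)ˣ) : Localization.AtPrime Q) *
        algebraMap (Localization.AtPrime Q) (FractionRing (Localization.AtPrime Q))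
        (algebraMap T (Localization.AtPrime Q) m) = 1 := by
      rw [← map_mul, IsUnit.val_inv_mul, map_one]
    rw [map_mul, hz, h3]
    calc _ = (algebraMap (Localization.AtPrime Q) (FractionRing (Localization.AtPrime Q))
        ((hu.unit⁻¹ : (Localization.AtPrime Q)ˣ) : Localization.AtPrime Q) *
        algebraMap (Localization.AtPrime Q) (FractionRing (Localization.AtPrime Q))
        (algebraMap T (Localization.AtPrime Q) m)) * x := by ring
      _ = x := by rw [h4, one_mul]
  generalize m • x = y at hmx
  obtain ⟨a, b, hb, hab⟩ := exists_frac_repr_atPrime Q (Localization.AtPrime Q)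
    (FractionRing (Localization.AtPrime Q)) y
  obtain ⟨q, hq_monic, hq⟩ := hmx
  -- the homogenized equation
  have hH : algebraMap (Localization.AtPrime Q) (FractionRing (Localization.AtPrime Q))
      (algebraMap T (Localization.AtPrime Q) (eval a (scaleRoots q b))) = 0 := by
    rw [← IsScalarTower.algebraMap_apply T (Localization.AtPrime Q)
      (FractionRing (Localization.AtPrime Q)), ← Polynomial.eval₂_at_apply,
      IsScalarTower.algebraMap_apply T (Localization.AtPrime Q)
      (FractionRing (Localization.AtPrime Q)) a, ← hab, mul_comm y,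
      ← IsScalarTower.algebraMap_apply T (Localization.AtPrime Q)
      (FractionRing (Localization.AtPrime Q)), Polynomial.scaleRoots_eval₂_mul, hq, mul_zero]
  rw [map_eq_zero_iff _ hinjK, IsLocalization.map_eq_zero_iff Q.primeCompl] at hH
  obtain ⟨u, hu⟩ := hH
  obtain ⟨i, hi⟩ := hfin (insert a (insert b (insert (u : T) q.coeffs)))
  obtain ⟨a', rfl⟩ : a ∈ Set.range (φ i) := hi (by simp)
  obtain ⟨b', rfl⟩ : b ∈ Set.range (φ i) := hi (by simp)
  obtain ⟨u', hu'⟩ : (u : T) ∈ Set.range (φ i) := hi (by simp)
  have hlift : q ∈ Polynomial.lifts (φ i) := by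
    rw [Polynomial.lifts_iff_coeffs_subset_range]
    intro c hc
    exact hi (by simp [Finset.mem_coe.mp hc])
  obtain ⟨q', rfl, hq'deg, hq'monic⟩ := Polynomial.lifts_and_natDegree_eq_and_monic hlift hq_monic
  haveI hdomi : IsDomain (Localization.AtPrime (Q.comap (φ i))) := (h i (Q.comap (φ i))).1
  haveI hici : IsIntegrallyClosed (Localization.AtPrime (Q.comap (φ i))) := (h i (Q.comap (φ i))).2
  have hφH : φ i (eval a' (scaleRoots q' b')) =
      eval (φ i a') (scaleRoots (q'.map (φ i)) (φ i b')) := by
    rw [← Polynomial.map_scaleRoots _ _ _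
      (by rw [hq'monic.leadingCoeff, map_one]; exact one_ne_zero), Polynomial.eval_map,
      Polynomial.eval₂_at_apply]
  have hu'H : u' * eval a' (scaleRoots q' b') = 0 :=
    hinj i (by rw [map_mul, hu', hφH, map_zero]; exact hu)
  have hu'Q : u' ∈ (Q.comap (φ i)).primeCompl := by
    change u' ∉ Q.comap (φ i)
    rw [Ideal.mem_comap, hu']
    exact u.2
  have hinjKi : Function.Injective (algebraMap (Localization.AtPrime (Q.comap (φ i)))
      (FractionRing (Localization.AtPrime (Q.comap (φ i))))) := IsFractionRing.injective _ _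
  have hjiH : algebraMap (S i) (FractionRing (Localization.AtPrime (Q.comap (φ i))))
      (eval a' (scaleRoots q' b')) = 0 := by
    have hunit : IsUnit (algebraMap (S i) (Localization.AtPrime (Q.comap (φ i))) u') :=
      IsLocalization.map_units _ (⟨u', hu'Q⟩ : (Q.comap (φ i)).primeCompl)
    have := congrArg (algebraMap (S i) (Localization.AtPrime (Q.comap (φ i)))) hu'H
    rw [map_mul, map_zero, hunit.mul_right_eq_zero] at this
    rw [IsScalarTower.algebraMap_apply (S i) (Localization.AtPrime (Q.comap (φ i)))
      (FractionRing (Localization.AtPrime (Q.comap (φ i)))), this, map_zero]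
  have hjib : algebraMap (S i) (FractionRing (Localization.AtPrime (Q.comap (φ i)))) b' ≠ 0 := by
    intro h0
    rw [IsScalarTower.algebraMap_apply (S i) (Localization.AtPrime (Q.comap (φ i)))
      (FractionRing (Localization.AtPrime (Q.comap (φ i)))), map_eq_zero_iff _ hinjKi] at h0
    exact hb (by rw [hzero i b' h0, map_zero])
  have heval : eval₂ (algebraMap (S i) (FractionRing (Localization.AtPrime (Q.comap (φ i)))))
      (algebraMap (S i) (FractionRing (Localization.AtPrime (Q.comap (φ i)))) a' /
        algebraMap (S i) (FractionRing (Localization.AtPrime (Q.comap (φ i)))) b') q' = 0 := by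
    have h5 := Polynomial.scaleRoots_eval₂_mul (p := q')
      (algebraMap (S i) (FractionRing (Localization.AtPrime (Q.comap (φ i)))))
      (algebraMap (S i) (FractionRing (Localization.AtPrime (Q.comap (φ i)))) a' /
        algebraMap (S i) (FractionRing (Localization.AtPrime (Q.comap (φ i)))) b') b'
    rw [mul_div_cancel₀ _ hjib, Polynomial.eval₂_at_apply, hjiH] at h5
    exact (mul_eq_zero.mp h5.symm).resolve_left (pow_ne_zero _ hjib)
  have hint : IsIntegral (Localization.AtPrime (Q.comap (φ i)))
      (algebraMap (S i) (FractionRing (Localization.AtPrime (Q.comap (φ i)))) a' /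
        algebraMap (S i) (FractionRing (Localization.AtPrime (Q.comap (φ i)))) b') := by
    have h8 : IsIntegral (S i)
      (algebraMap (S i) (FractionRing (Localization.AtPrime (Q.comap (φ i)))) a' /
        algebraMap (S i) (FractionRing (Localization.AtPrime (Q.comap (φ i)))) b') :=
      ⟨q', hq'monic, heval⟩
    exact h8.tower_top
  obtain ⟨z, hz⟩ := IsIntegrallyClosed.isIntegral_iff.mp hint
  have hza : algebraMap (S i) (Localization.AtPrime (Q.comap (φ i))) a' =
      z * algebraMap (S i) (Localization.AtPrime (Q.comap (φ i))) b' := by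
    apply hinjKi
    rw [map_mul, hz, ← IsScalarTower.algebraMap_apply, ← IsScalarTower.algebraMap_apply,
      div_mul_cancel₀ _ hjib]
  have hψ : ∀ c, Localization.localRingHom (Q.comap (φ i)) Q (φ i) rfl
      (algebraMap (S i) _ c) = algebraMap T _ (φ i c) :=
    Localization.localRingHom_to_map _ _ _ _
  have h6 : algebraMap T (Localization.AtPrime Q) (φ i a') =
      Localization.localRingHom (Q.comap (φ i)) Q (φ i) rfl z *
        algebraMap T (Localization.AtPrime Q) (φ i b') := by
    rw [← hψ, ← hψ, hza, map_mul]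
  refine ⟨Localization.localRingHom (Q.comap (φ i)) Q (φ i) rfl z, ?_⟩
  have h7 : y * algebraMap (Localization.AtPrime Q) (FractionRing (Localization.AtPrime Q))
      (algebraMap T (Localization.AtPrime Q) (φ i b')) =
      algebraMap (Localization.AtPrime Q) (FractionRing (Localization.AtPrime Q))
        (Localization.localRingHom (Q.comap (φ i)) Q (φ i) rfl z) *
      algebraMap (Localization.AtPrime Q) (FractionRing (Localization.AtPrime Q))
        (algebraMap T (Localization.AtPrime Q) (φ i b')) := by
    rw [hab, h6, map_mul]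
  exact (mul_right_cancel₀ hb h7).symm

end Directed

section TwoLoc

theorem isReduced_of_isNormalRing {R : Type u} [CommRing R] (h : EGA4.IsNormalRing R) :
    IsReduced R := by
  apply isReduced_ofLocalizationMaximal
  intro J hJ
  haveI := (h J).1
  infer_instance

theorem le_nonZeroDivisors_of_isLocalization_of_injective {R S : Type*} [CommRing R] [CommRing S]
    [Algebra R S] (M : Submonoid R) [IsLocalization M S]
    (hinj : Function.Injective (algebraMap R S)) : M ≤ nonZeroDivisors R := by
  intro m hm
  rw [mem_nonZeroDivisors_iff_right]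
  intro x hx
  apply hinj
  have hu : IsUnit (algebraMap R S m) := IsLocalization.map_units S (⟨m, hm⟩ : M)
  have := congrArg (algebraMap R S) hx
  rw [map_mul, map_zero, hu.mul_left_eq_zero] at this
  rw [this, map_zero]

/-- Stacks 06DG, the key step: a ring `R` which is the intersection of two normal localizations
`R₁`, `R₂` (at non-zero-divisors) inside a common localization `Ω`, with `R₁` having finitely many
minimal primes, is normal. -/
theorem isNormalRing_of_two_localizations {R R₁ R₂ Ω : Type u} [CommRing R] [CommRing R₁]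
    [CommRing R₂] [CommRing Ω] [Algebra R R₁] [Algebra R R₂] [Algebra R Ω] [Algebra R₁ Ω]
    [Algebra R₂ Ω] [IsScalarTower R R₁ Ω] [IsScalarTower R R₂ Ω]
    (M₁ M₂ M : Submonoid R) [IsLocalization M₁ R₁] [IsLocalization M₂ R₂] [IsLocalization M Ω]
    (hinj : Function.Injective (algebraMap R Ω))
    (h₁ : EGA4.IsNormalRing R₁) (hfin : (minimalPrimes R₁).Finite) (h₂ : EGA4.IsNormalRing R₂)
    (hint : ∀ (x₁ : R₁) (x₂ : R₂), algebraMap R₁ Ω x₁ = algebraMap R₂ Ω x₂ →
      ∃ r : R, algebraMap R R₁ r = x₁) :
    EGA4.IsNormalRing R := by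
  have hi₁ : Function.Injective (algebraMap R R₁) := by
    intro a b hab
    apply hinj
    rw [IsScalarTower.algebraMap_apply R R₁ Ω, hab, ← IsScalarTower.algebraMap_apply]
  have hi₂ : Function.Injective (algebraMap R R₂) := by
    intro a b hab
    apply hinj
    rw [IsScalarTower.algebraMap_apply R R₂ Ω, hab, ← IsScalarTower.algebraMap_apply]
  have hM : M ≤ nonZeroDivisors R := le_nonZeroDivisors_of_isLocalization_of_injective M hinj
  have hM₁ : M₁ ≤ nonZeroDivisors R := le_nonZeroDivisors_of_isLocalization_of_injective M₁ hi₁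
  have hM₂ : M₂ ≤ nonZeroDivisors R := le_nonZeroDivisors_of_isLocalization_of_injective M₂ hi₂
  haveI : IsReduced R₁ := isReduced_of_isNormalRing h₁
  haveI : IsReduced R := isReduced_of_injective (algebraMap R R₁) hi₁
  -- finitely many minimal primes
  have hfinR : (minimalPrimes R).Finite := by
    have h3 := IsLocalization.minimalPrimes_comap M₁ R₁ (⊥ : Ideal R₁)
    have h4 : (⊥ : Ideal R₁).comap (algebraMap R R₁) = ⊥ := by
      rw [← RingHom.ker_eq_comap_bot, (RingHom.injective_iff_ker_eq_bot _).mp hi₁]
    rw [h4] at h3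
    change ((⊥ : Ideal R).minimalPrimes).Finite
    rw [h3]
    exact Set.Finite.image _ hfin
  -- the total ring of fractions
  let Qt := FractionRing R
  let θ : Ω →+* Qt := IsLocalization.lift (M := M) (g := algebraMap R Qt)
    (fun m => IsLocalization.map_units Qt (⟨m.1, hM m.2⟩ : nonZeroDivisors R))
  have hθ : ∀ r, θ (algebraMap R Ω r) = algebraMap R Qt r := fun r => IsLocalization.lift_eq _ r
  have hθinj : Function.Injective θ := by
    rw [IsLocalization.lift_injective_iff]
    intro a b
    rw [(IsFractionRing.injective R Qt).eq_iff, hinj.eq_iff]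
  letI alg₁ : Algebra R₁ Qt := (θ.comp (algebraMap R₁ Ω)).toAlgebra
  letI alg₂ : Algebra R₂ Qt := (θ.comp (algebraMap R₂ Ω)).toAlgebra
  haveI tw₁ : IsScalarTower R R₁ Qt := IsScalarTower.of_algebraMap_eq (fun r => by
    change algebraMap R Qt r = θ (algebraMap R₁ Ω (algebraMap R R₁ r))
    rw [← IsScalarTower.algebraMap_apply R R₁ Ω, hθ])
  haveI tw₂ : IsScalarTower R R₂ Qt := IsScalarTower.of_algebraMap_eq (fun r => by
    change algebraMap R Qt r = θ (algebraMap R₂ Ω (algebraMap R R₂ r))
    rw [← IsScalarTower.algebraMap_apply R R₂ Ω, hθ])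
  haveI loc₁ : IsLocalization ((nonZeroDivisors R).map (algebraMap R R₁)) Qt :=
    IsLocalization.isLocalization_of_submonoid_le R₁ Qt M₁ (nonZeroDivisors R) hM₁
  haveI loc₂ : IsLocalization ((nonZeroDivisors R).map (algebraMap R R₂)) Qt :=
    IsLocalization.isLocalization_of_submonoid_le R₂ Qt M₂ (nonZeroDivisors R) hM₂
  have hT₁ : (nonZeroDivisors R).map (algebraMap R R₁) ≤ nonZeroDivisors R₁ :=
    IsLocalization.map_nonZeroDivisors_le M₁ R₁
  have hT₂ : (nonZeroDivisors R).map (algebraMap R R₂) ≤ nonZeroDivisors R₂ :=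
    IsLocalization.map_nonZeroDivisors_le M₂ R₂
  apply Groth.Agent.Lib.Helper13.isNormalRing_of_isIntegrallyClosedIn hfinR Qt
  intro x hx
  obtain ⟨x₁, hx₁⟩ := Groth.Agent.Lib.Helper13.mem_range_of_isIntegral_of_isNormalRing _ hT₁ h₁ x
    hx.tower_top
  obtain ⟨x₂, hx₂⟩ := Groth.Agent.Lib.Helper13.mem_range_of_isIntegral_of_isNormalRing _ hT₂ h₂ x
    hx.tower_top
  have hx₁₂ : algebraMap R₁ Ω x₁ = algebraMap R₂ Ω x₂ := hθinj (hx₁.trans hx₂.symm)
  obtain ⟨r, hr⟩ := hint x₁ x₂ hx₁₂
  exact ⟨r, by rw [← hx₁, ← hr, ← IsScalarTower.algebraMap_apply]⟩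

end TwoLoc

section Intersection

/-- Over a field: `(A ⊗ L) ∩ (K ⊗ B) = A ⊗ B` inside `K ⊗ L` for subspaces `A ⊆ K`, `B ⊆ L`. -/
theorem exists_of_lTensor_eq_rTensor {k : Type*} [Field k] {A K B L : Type*}
    [AddCommGroup A] [Module k A] [AddCommGroup K] [Module k K] [AddCommGroup B] [Module k B]
    [AddCommGroup L] [Module k L] (α : A →ₗ[k] K) (β : B →ₗ[k] L)
    (hα : Function.Injective α) (hβ : Function.Injective β)
    (x₁ : K ⊗[k] B) (x₂ : A ⊗[k] L)
    (h : LinearMap.lTensor K β x₁ = LinearMap.rTensor L α x₂) :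
    ∃ r : A ⊗[k] B, LinearMap.rTensor B α r = x₁ := by
  have hex : Function.Exact β (LinearMap.range β).mkQ := LinearMap.exact_map_mkQ_range β
  have hsurj : Function.Surjective (LinearMap.range β).mkQ := Submodule.mkQ_surjective _
  have hexA := lTensor_exact A hex hsurj
  -- the image of `x₂` in `A ⊗ L/B` vanishes
  have h0 : LinearMap.lTensor A (LinearMap.range β).mkQ x₂ = 0 := by
    apply Module.Flat.rTensor_preserves_injective_linearMap (M := L ⧸ LinearMap.range β) α hα
    rw [map_zero, ← LinearMap.comp_apply, LinearMap.rTensor_comp_lTensor,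
      ← LinearMap.lTensor_comp_rTensor, LinearMap.comp_apply, ← h, ← LinearMap.comp_apply,
      ← LinearMap.lTensor_comp, hex.linearMap_comp_eq_zero, LinearMap.lTensor_zero,
      LinearMap.zero_apply]
  obtain ⟨r, hr⟩ := (hexA x₂).mp h0
  refine ⟨r, ?_⟩
  apply Module.Flat.lTensor_preserves_injective_linearMap (M := K) β hβ
  rw [h, ← hr, ← LinearMap.comp_apply, ← LinearMap.comp_apply, LinearMap.lTensor_comp_rTensor,
    LinearMap.rTensor_comp_lTensor]

end Intersection

section FiniteType

variable (k A B : Type u) [Field k] [CommRing A] [CommRing B] [IsDomain A] [IsDomain B]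
  [Algebra k A] [Algebra k B]

omit [IsDomain A] [IsDomain B] in
theorem tensorMap_injective {A' B' : Type*} [CommRing A'] [CommRing B'] [Algebra k A']
    [Algebra k B'] (f : A →ₐ[k] A') (g : B →ₐ[k] B') (hf : Function.Injective f)
    (hg : Function.Injective g) : Function.Injective (Algebra.TensorProduct.map f g) := by
  have := TensorProduct.map_injective_of_flat_flat f.toLinearMap g.toLinearMap hf hg
  exact this

/-- Stacks 06DG, finite type case (abstract fraction fields). -/
theorem isNormalRing_tensor_of_finiteType_aux [Algebra.FiniteType k B]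
    (K L : Type u) [Field K] [Field L] [Algebra A K] [IsFractionRing A K] [Algebra B L]
    [IsFractionRing B L] [Algebra k K] [Algebra k L] [IsScalarTower k A K] [IsScalarTower k B L]
    (h₁ : EGA4.IsNormalRing (K ⊗[k] B))
    (h₂ : EGA4.IsNormalRing (A ⊗[k] L)) :
    EGA4.IsNormalRing (A ⊗[k] B) := by
  let αK : A →ₐ[k] K := IsScalarTower.toAlgHom k A K
  let βL : B →ₐ[k] L := IsScalarTower.toAlgHom k B L
  have hαK : Function.Injective αK := IsFractionRing.injective A K
  have hβL : Function.Injective βL := IsFractionRing.injective B L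
  letI a₁ : Algebra (A ⊗[k] B) (K ⊗[k] B) :=
    (Algebra.TensorProduct.map αK (AlgHom.id k B)).toRingHom.toAlgebra
  letI a₂ : Algebra (A ⊗[k] B) (A ⊗[k] L) :=
    (Algebra.TensorProduct.map (AlgHom.id k A) βL).toRingHom.toAlgebra
  letI aΩ : Algebra (A ⊗[k] B) (K ⊗[k] L) :=
    (Algebra.TensorProduct.map αK βL).toRingHom.toAlgebra
  letI a₁Ω : Algebra (K ⊗[k] B) (K ⊗[k] L) :=
    (Algebra.TensorProduct.map (AlgHom.id k K) βL).toRingHom.toAlgebra
  letI a₂Ω : Algebra (A ⊗[k] L) (K ⊗[k] L) :=
    (Algebra.TensorProduct.map αK (AlgHom.id k L)).toRingHom.toAlgebra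
  haveI t₁ : IsScalarTower (A ⊗[k] B) (K ⊗[k] B) (K ⊗[k] L) :=
    IsScalarTower.of_algebraMap_eq (fun r => by
    change Algebra.TensorProduct.map αK βL r = Algebra.TensorProduct.map (AlgHom.id k _) βL
      (Algebra.TensorProduct.map αK (AlgHom.id k B) r)
    rw [← AlgHom.comp_apply, ← Algebra.TensorProduct.map_comp]
    rfl)
  haveI t₂ : IsScalarTower (A ⊗[k] B) (A ⊗[k] L) (K ⊗[k] L) :=
    IsScalarTower.of_algebraMap_eq (fun r => by
    change Algebra.TensorProduct.map αK βL r = Algebra.TensorProduct.map αK (AlgHom.id k _)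
      (Algebra.TensorProduct.map (AlgHom.id k A) βL r)
    rw [← AlgHom.comp_apply, ← Algebra.TensorProduct.map_comp]
    rfl)
  haveI s₁ : IsScalarTower A (A ⊗[k] B) (K ⊗[k] B) :=
    IsScalarTower.of_algebraMap_eq (fun a => by
      change algebraMap A K a ⊗ₜ[k] (1 : B) =
        Algebra.TensorProduct.map αK (AlgHom.id k B) (a ⊗ₜ[k] 1)
      simp [αK])
  haveI loc₁ : IsLocalization (Algebra.algebraMapSubmonoid (A ⊗[k] B) (nonZeroDivisors A))
      (K ⊗[k] B) :=
    IsLocalization.tensorProduct_tensorProduct k B (nonZeroDivisors A) K (by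
      ext b
      change Algebra.TensorProduct.map αK (AlgHom.id k B) ((1 : A) ⊗ₜ[k] b) = _
      simp)
  haveI s₂ : IsScalarTower A (A ⊗[k] B) (A ⊗[k] L) :=
    IsScalarTower.of_algebraMap_eq (fun a => by
      change a ⊗ₜ[k] (1 : L) =
        Algebra.TensorProduct.map (AlgHom.id k A) βL (a ⊗ₜ[k] 1)
      simp)
  haveI loc₂ : IsLocalization ((nonZeroDivisors B).map
      (Algebra.TensorProduct.includeRight (R := k) (A := A))) (A ⊗[k] L) :=
    IsLocalization.tensorProduct_tensorProduct_right k A (nonZeroDivisors B) L (by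
      ext b
      change Algebra.TensorProduct.map (AlgHom.id k A) βL ((1 : A) ⊗ₜ[k] b) = _
      simp [βL])
  haveI s₃ : IsScalarTower A (A ⊗[k] L) (K ⊗[k] L) :=
    IsScalarTower.of_algebraMap_eq (fun a => by
      change algebraMap A K a ⊗ₜ[k] (1 : L) =
        Algebra.TensorProduct.map αK (AlgHom.id k L) (a ⊗ₜ[k] 1)
      simp [αK])
  haveI loc₃ : IsLocalization (Algebra.algebraMapSubmonoid (A ⊗[k] L)
      (nonZeroDivisors A)) (K ⊗[k] L) :=
    IsLocalization.tensorProduct_tensorProduct k L (nonZeroDivisors A) K (by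
      ext b
      change Algebra.TensorProduct.map αK (AlgHom.id k L) ((1 : A) ⊗ₜ[k] b) = _
      simp)
  haveI locΩ := IsLocalization.localization_localization_isLocalization
    ((nonZeroDivisors B).map (Algebra.TensorProduct.includeRight (R := k) (A := A)))
    (Algebra.algebraMapSubmonoid (A ⊗[k] L) (nonZeroDivisors A))
    (K ⊗[k] L)
  refine isNormalRing_of_two_localizations (R := A ⊗[k] B) (R₁ := K ⊗[k] B) (R₂ := A ⊗[k] L)
    (Ω := K ⊗[k] L)
    (Algebra.algebraMapSubmonoid (A ⊗[k] B) (nonZeroDivisors A))
    ((nonZeroDivisors B).map (Algebra.TensorProduct.includeRight (R := k) (A := A)))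
    (IsLocalization.localizationLocalizationSubmodule
      ((nonZeroDivisors B).map (Algebra.TensorProduct.includeRight (R := k) (A := A)))
      (Algebra.algebraMapSubmonoid (A ⊗[k] L) (nonZeroDivisors A)))
    ?_ h₁ ?_ h₂ ?_
  · exact tensorMap_injective k A B αK βL hαK hβL
  · haveI : Algebra.FiniteType K (K ⊗[k] B) := inferInstance
    haveI : IsNoetherianRing (K ⊗[k] B) := Algebra.FiniteType.isNoetherianRing K _
    exact minimalPrimes.finite_of_isNoetherianRing _
  · intro x₁ x₂ hx
    obtain ⟨r, hr⟩ := exists_of_lTensor_eq_rTensor αK.toLinearMap βL.toLinearMap hαK hβL x₁ x₂ hx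
    exact ⟨r, hr⟩

end FiniteType

section Approximation

variable (k B : Type u) [Field k] [CommRing B] [IsDomain B] [IsIntegrallyClosed B] [Algebra k B]

/-- A finitely generated subalgebra `C` of an integrally closed domain `B` over a field is
contained in (the image of) a finite type integrally closed domain mapping injectively to `B`:
the normalization of `C`. -/
theorem exists_finiteType_normal_of_fg (C : Subalgebra k B) (hC : C.FG) :
    ∃ (D : Type u) (_ : CommRing D) (_ : IsDomain D) (_ : IsIntegrallyClosed D)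
      (_ : Algebra k D) (_ : Algebra.FiniteType k D) (ψ : D →ₐ[k] B),
      Function.Injective ψ ∧ ∀ c ∈ C, c ∈ Set.range ψ := by
  classical
  haveI : Algebra.FiniteType k C := (Subalgebra.fg_iff_finiteType C).mp hC
  let F := FractionRing C
  let L := FractionRing B
  let D := integralClosure C F
  haveI : IsIntegrallyClosed D := integralClosure.isIntegrallyClosedOfFiniteExtension F
  haveI hfinD : Module.Finite C D :=
    Groth.Agent.Lib.Helper48.finite_integralClosure_of_finiteType_field k C F F
  haveI : Algebra.FiniteType k D := Algebra.FiniteType.trans (inferInstance : Algebra.FiniteType k C)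
    (inferInstance : Algebra.FiniteType C D)
  -- the map `F → L`
  let g : C →ₐ[k] L := (IsScalarTower.toAlgHom k B L).comp C.val
  have hg : Function.Injective g := (IsFractionRing.injective B L).comp Subtype.val_injective
  let lam : F →ₐ[k] L := IsFractionRing.liftAlgHom (K := F) hg
  have hlam : ∀ c : C, lam (algebraMap C F c) = algebraMap B L (c : B) := by
    intro c
    exact IsFractionRing.lift_algebraMap hg c
  have hmem : ∀ x : D, ∃ b : B, algebraMap B L b = lam (x : F) := by
    intro x
    have hx : IsIntegral C (x : F) := x.2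
    have hint : IsIntegral B (lam (x : F)) := by
      obtain ⟨p, hp, hpx⟩ := hx
      refine ⟨p.map C.val.toRingHom, hp.map _, ?_⟩
      rw [Polynomial.eval₂_map]
      have h1 : (algebraMap B L).comp C.val.toRingHom = lam.toRingHom.comp (algebraMap C F) := by
        ext c
        exact (hlam c).symm
      rw [h1]
      have h3 := Polynomial.hom_eval₂ p (algebraMap C F) lam.toRingHom (x : F)
      rw [hpx, map_zero] at h3
      exact h3.symm
    exact IsIntegrallyClosed.isIntegral_iff.mp hint
  have hinjL : Function.Injective (algebraMap B L) := IsFractionRing.injective B L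
  choose ψ₀ hψ₀ using hmem
  let ψ : D →ₐ[k] B :=
    { toFun := ψ₀
      map_one' := hinjL (by rw [hψ₀, map_one]; exact map_one lam)
      map_mul' := fun x y => hinjL (by
        rw [hψ₀, map_mul, hψ₀, hψ₀]; exact map_mul lam _ _)
      map_zero' := hinjL (by rw [hψ₀, map_zero]; exact map_zero lam)
      map_add' := fun x y => hinjL (by
        rw [hψ₀, map_add, hψ₀, hψ₀]; exact map_add lam _ _)
      commutes' := fun c => hinjL (by
        rw [hψ₀, ← IsScalarTower.algebraMap_apply k B L]
        exact lam.commutes c) }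
  refine ⟨D, inferInstance, inferInstance, inferInstance, inferInstance, inferInstance, ψ, ?_, ?_⟩
  · intro x y hxy
    have h2 : lam (x : F) = lam (y : F) := by
      rw [← hψ₀ x, ← hψ₀ y]
      exact congrArg _ hxy
    exact Subtype.ext (lam.toRingHom.injective h2)
  · intro c hc
    refine ⟨algebraMap C D ⟨c, hc⟩, hinjL ?_⟩
    change algebraMap B L (ψ₀ _) = _
    rw [hψ₀]
    exact hlam ⟨c, hc⟩

end Approximation

section Cover

variable (k A B : Type u) [Field k] [CommRing A] [CommRing B] [Algebra k A] [Algebra k B]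

theorem tensor_val_range_mono {C₁ C₂ : Subalgebra k B} (h : C₁ ≤ C₂) :
    (Algebra.TensorProduct.map (AlgHom.id k A) C₁.val).range ≤
      (Algebra.TensorProduct.map (AlgHom.id k A) C₂.val).range := by
  rintro x ⟨y, rfl⟩
  refine ⟨Algebra.TensorProduct.map (AlgHom.id k A) (Subalgebra.inclusion h) y, ?_⟩
  change (Algebra.TensorProduct.map (AlgHom.id k A) C₂.val)
    ((Algebra.TensorProduct.map (AlgHom.id k A) (Subalgebra.inclusion h)) y) =
    (Algebra.TensorProduct.map (AlgHom.id k A) C₁.val) y
  rw [← AlgHom.comp_apply, ← Algebra.TensorProduct.map_comp]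
  rfl

theorem exists_fg_mem_range_tensor_val (e : A ⊗[k] B) :
    ∃ C : Subalgebra k B, C.FG ∧
      e ∈ (Algebra.TensorProduct.map (AlgHom.id k A) C.val).range := by
  induction e with
  | zero => exact ⟨⊥, Subalgebra.fg_bot, Subalgebra.zero_mem _⟩
  | tmul a b =>
    refine ⟨Algebra.adjoin k {b}, Subalgebra.fg_adjoin_finset {b} |> (by simpa using ·), ?_⟩
    exact ⟨a ⊗ₜ ⟨b, Algebra.subset_adjoin (Set.mem_singleton b)⟩, by simp⟩
  | add x y hx hy =>
    obtain ⟨C₁, h₁, hx⟩ := hx
    obtain ⟨C₂, h₂, hy⟩ := hy
    exact ⟨C₁ ⊔ C₂, h₁.sup h₂, add_mem (tensor_val_range_mono k A B le_sup_left hx)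
      (tensor_val_range_mono k A B le_sup_right hy)⟩

theorem exists_fg_subset_range_tensor_val (s : Finset (A ⊗[k] B)) :
    ∃ C : Subalgebra k B, C.FG ∧
      (s : Set (A ⊗[k] B)) ⊆ Set.range (Algebra.TensorProduct.map (AlgHom.id k A) C.val) := by
  classical
  induction s using Finset.induction_on with
  | empty => exact ⟨⊥, Subalgebra.fg_bot, by simp⟩
  | insert x s hxs ih =>
    obtain ⟨C₁, h₁, hs⟩ := ih
    obtain ⟨C₂, h₂, hx⟩ := exists_fg_mem_range_tensor_val k A B x
    refine ⟨C₁ ⊔ C₂, h₁.sup h₂, ?_⟩
    intro y hy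
    rw [Finset.coe_insert, Set.mem_insert_iff] at hy
    rcases hy with rfl | hy
    · exact tensor_val_range_mono k A B le_sup_right hx
    · exact tensor_val_range_mono k A B le_sup_left (hs hy)

end Cover

section Main

/-- A finite type integrally closed domain with an injective map to `B`. -/
structure NormalApprox (k B : Type u) [Field k] [CommRing B] [Algebra k B] where
  D : Type u
  [cr : CommRing D]
  [dom : IsDomain D]
  [ic : IsIntegrallyClosed D]
  [alg : Algebra k D]
  [ft : Algebra.FiniteType k D]
  ψ : D →ₐ[k] B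
  inj : Function.Injective ψ

attribute [instance] NormalApprox.cr NormalApprox.dom NormalApprox.ic NormalApprox.alg
  NormalApprox.ft

theorem isNormalRing_of_isIntegrallyClosed' (R : Type u) [CommRing R] [IsDomain R]
    [IsIntegrallyClosed R] : EGA4.IsNormalRing R := by
  intro p hp
  have hle : p.primeCompl ≤ nonZeroDivisors R := p.primeCompl_le_nonZeroDivisors
  exact ⟨IsLocalization.isDomain_localization hle,
    isIntegrallyClosed_of_isLocalization _ p.primeCompl hle⟩

/-- Stacks 06DG for domains: `A`, `B` domains over `k`, `B` integrally closed, `Frac A`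
geometrically reduced over `k`, and `A ⊗ F` normal for all subfields `F` of `Frac B`. Then
`A ⊗ B` is normal. -/
theorem isNormalRing_tensor_of_isIntegrallyClosed (k A B : Type u) [Field k] [CommRing A]
    [CommRing B] [IsDomain A] [IsDomain B] [IsIntegrallyClosed B] [Algebra k A] [Algebra k B]
    [Algebra.IsGeometricallyReduced k (FractionRing A)]
    (hL : ∀ (F : Type u) [Field F] [Algebra k F], (F →ₐ[k] FractionRing B) →
      EGA4.IsNormalRing (A ⊗[k] F)) :
    EGA4.IsNormalRing (A ⊗[k] B) := by
  classical
  refine isNormalRing_of_forall_finset_range (T := A ⊗[k] B) (ι := NormalApprox k B)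
    (fun i => A ⊗[k] i.D)
    (fun i => (Algebra.TensorProduct.map (AlgHom.id k A) i.ψ).toRingHom) ?_ ?_ ?_
  · intro i
    exact tensorMap_injective k A i.D (AlgHom.id k A) i.ψ Function.injective_id i.inj
  · intro s
    obtain ⟨C, hC, hs⟩ := exists_fg_subset_range_tensor_val k A B s
    obtain ⟨D, _, _, _, _, _, ψ, hψ, hCψ⟩ := exists_finiteType_normal_of_fg k B C hC
    refine ⟨⟨D, ψ, hψ⟩, ?_⟩
    have key : ∀ y : A ⊗[k] C, ∃ z : A ⊗[k] D,
        Algebra.TensorProduct.map (AlgHom.id k A) ψ z =
          Algebra.TensorProduct.map (AlgHom.id k A) C.val y := by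
      intro y
      induction y with
      | zero => exact ⟨0, by simp⟩
      | tmul a c =>
        obtain ⟨d, hd⟩ := hCψ c.1 c.2
        exact ⟨a ⊗ₜ d, by simp [hd]⟩
      | add y z hy hz =>
        obtain ⟨y', hy'⟩ := hy
        obtain ⟨z', hz'⟩ := hz
        exact ⟨y' + z', by rw [map_add, hy', hz', map_add]⟩
    intro x hx
    obtain ⟨y, rfl⟩ := hs hx
    obtain ⟨z, hz⟩ := key y
    exact ⟨z, hz⟩
  · intro i
    refine isNormalRing_tensor_of_finiteType_aux k A i.D (FractionRing A) (FractionRing i.D) ?_ ?_
    · exact isNormalRing_tensor_of_isGeometricallyReduced k i.D (FractionRing A)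
        (isNormalRing_of_isIntegrallyClosed' i.D)
    · refine hL (FractionRing i.D) (IsFractionRing.liftAlgHom
        (g := (IsScalarTower.toAlgHom k B (FractionRing B)).comp i.ψ) ?_)
      exact (IsFractionRing.injective B (FractionRing B)).comp i.inj

end Main

section Reduction

theorem isIntegrallyClosed_atPrime_tensor_of_localization_left (k A B A' : Type u) [Field k]
    [CommRing A] [CommRing B] [CommRing A'] [Algebra k A] [Algebra k B] [Algebra A A']
    [Algebra k A'] [IsScalarTower k A A'] (r : Ideal (A ⊗[k] B)) [r.IsPrime] (p : Ideal A)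
    [p.IsPrime]
    (hp : r.comap (Algebra.TensorProduct.includeLeftRingHom : A →+* A ⊗[k] B) = p)
    [IsLocalization.AtPrime A' p] (h : EGA4.IsNormalRing (A' ⊗[k] B)) :
    IsDomain (Localization.AtPrime r) ∧ IsIntegrallyClosed (Localization.AtPrime r) := by
  let α : A →ₐ[k] A' := IsScalarTower.toAlgHom k A A'
  letI a₁ : Algebra (A ⊗[k] B) (A' ⊗[k] B) :=
    (Algebra.TensorProduct.map α (AlgHom.id k B)).toRingHom.toAlgebra
  haveI s₁ : IsScalarTower A (A ⊗[k] B) (A' ⊗[k] B) :=
    IsScalarTower.of_algebraMap_eq (fun a => by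
      change algebraMap A A' a ⊗ₜ[k] (1 : B) =
        Algebra.TensorProduct.map α (AlgHom.id k B) (a ⊗ₜ[k] 1)
      simp [α])
  haveI loc₁ : IsLocalization (Algebra.algebraMapSubmonoid (A ⊗[k] B) p.primeCompl)
      (A' ⊗[k] B) :=
    IsLocalization.tensorProduct_tensorProduct k B p.primeCompl A' (by
      ext b
      change Algebra.TensorProduct.map α (AlgHom.id k B) ((1 : A) ⊗ₜ[k] b) = _
      simp)
  have hdisj : Disjoint (Algebra.algebraMapSubmonoid (A ⊗[k] B) p.primeCompl : Set (A ⊗[k] B))
      (r : Set (A ⊗[k] B)) := by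
    rw [Set.disjoint_left]
    rintro _ ⟨a, ha, rfl⟩ har
    apply ha
    rw [← hp]
    exact har
  exact Groth.Agent.Lib.Helper24.isIntegrallyClosed_atPrime_of_isLocalization
    (Algebra.algebraMapSubmonoid (A ⊗[k] B) p.primeCompl) r hdisj h

theorem isNormalRing_tensor_of_forall_atPrime_left (k A B : Type u) [Field k]
    [CommRing A] [CommRing B] [Algebra k A] [Algebra k B]
    (h : ∀ (p : Ideal A) [p.IsPrime], EGA4.IsNormalRing (Localization.AtPrime p ⊗[k] B)) :
    EGA4.IsNormalRing (A ⊗[k] B) := by
  intro r hr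
  exact isIntegrallyClosed_atPrime_tensor_of_localization_left k A B
    (Localization.AtPrime (r.comap (Algebra.TensorProduct.includeLeftRingHom : A →+* A ⊗[k] B)))
    r _ rfl (h _)

theorem isNormalRing_tensor_of_forall_atPrime_right (k A B : Type u) [Field k]
    [CommRing A] [CommRing B] [Algebra k A] [Algebra k B]
    (h : ∀ (q : Ideal B) [q.IsPrime], EGA4.IsNormalRing (A ⊗[k] Localization.AtPrime q)) :
    EGA4.IsNormalRing (A ⊗[k] B) := by
  refine isNormalRing_of_ringEquiv (Algebra.TensorProduct.comm k B A).toRingEquiv ?_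
  apply isNormalRing_tensor_of_forall_atPrime_left
  intro q hq
  exact isNormalRing_of_ringEquiv
    (Algebra.TensorProduct.comm k A (Localization.AtPrime q)).toRingEquiv (h q)

end Reduction

section Final

/-- The fraction field of a geometrically normal domain is geometrically reduced. -/
theorem isGeometricallyReduced_of_isGeomNormal (k A : Type u) [Field k] [CommRing A]
    [Algebra k A] (hA : EGA4.IsGeomNormal k A) (K : Type u) [Field K] [Algebra A K]
    [IsFractionRing A K] [Algebra k K] [IsScalarTower k A K] :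
    Algebra.IsGeometricallyReduced k K := by
  rw [Algebra.isGeometricallyReduced_field_iff]
  have hN : EGA4.IsNormalRing (AlgebraicClosure k ⊗[k] A) :=
    isNormalRing_tensor_of_forall_finite_purelyInseparable k (AlgebraicClosure k) A
      (fun k' _ _ hfin _ => hA k' hfin)
  have hred : IsReduced (AlgebraicClosure k ⊗[k] A) := isReduced_of_isNormalRing hN
  let β : A →ₐ[k] K := IsScalarTower.toAlgHom k A K
  letI a₁ : Algebra (AlgebraicClosure k ⊗[k] A) (AlgebraicClosure k ⊗[k] K) :=
    (Algebra.TensorProduct.map (AlgHom.id k (AlgebraicClosure k)) β).toRingHom.toAlgebra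
  haveI s₁ : IsScalarTower (AlgebraicClosure k) (AlgebraicClosure k ⊗[k] A)
      (AlgebraicClosure k ⊗[k] K) :=
    IsScalarTower.of_algebraMap_eq (fun a => by
      change a ⊗ₜ[k] (1 : K) =
        Algebra.TensorProduct.map (AlgHom.id k (AlgebraicClosure k)) β (a ⊗ₜ[k] 1)
      simp)
  haveI loc : IsLocalization ((nonZeroDivisors A).map
      (Algebra.TensorProduct.includeRight (R := k) (A := AlgebraicClosure k)))
      (AlgebraicClosure k ⊗[k] K) :=
    IsLocalization.tensorProduct_tensorProduct_right k (AlgebraicClosure k) (nonZeroDivisors A) K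
      (by
        ext b
        change Algebra.TensorProduct.map (AlgHom.id k (AlgebraicClosure k)) β
          ((1 : AlgebraicClosure k) ⊗ₜ[k] b) = _
        simp [β])
  exact isReduced_localizationPreserves ((nonZeroDivisors A).map
      (Algebra.TensorProduct.includeRight (R := k) (A := AlgebraicClosure k)))
    (AlgebraicClosure k ⊗[k] K) hred

/-- Stacks 06DG: `A` geometrically normal over `k`, `B` a normal ring; then `A ⊗ B` is normal. -/
theorem isNormalRing_tensor_of_isGeomNormal (k A B : Type u) [Field k] [CommRing A] [Algebra k A]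
    [CommRing B] [Algebra k B] (hA : EGA4.IsGeomNormal k A) (hB : EGA4.IsNormalRing B) :
    EGA4.IsNormalRing (A ⊗[k] B) := by
  apply isNormalRing_tensor_of_forall_atPrime_left
  intro p hp
  apply isNormalRing_tensor_of_forall_atPrime_right
  intro q hq
  have hAp : EGA4.IsGeomNormal k (Localization.AtPrime p) :=
    Groth.Agent.S9412.result k A p.primeCompl (Localization.AtPrime p) hA
  have hAN : EGA4.IsNormalRing A :=
    isNormalRing_of_ringEquiv (Algebra.TensorProduct.lid k A).toRingEquiv
      (hA k (Module.Finite.self k))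
  haveI : IsDomain (Localization.AtPrime p) := (hAN p).1
  haveI : IsDomain (Localization.AtPrime q) := (hB q).1
  haveI : IsIntegrallyClosed (Localization.AtPrime q) := (hB q).2
  haveI : Algebra.IsGeometricallyReduced k (FractionRing (Localization.AtPrime p)) :=
    isGeometricallyReduced_of_isGeomNormal k (Localization.AtPrime p) hAp _
  apply isNormalRing_tensor_of_isIntegrallyClosed
  intro F _ _ _
  exact isNormalRing_of_ringEquiv (Algebra.TensorProduct.comm k F _).toRingEquiv
    (isNormalRing_tensor_of_forall_finite_purelyInseparable k F (Localization.AtPrime p)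
      (fun k' _ _ hfin _ => hAp k' hfin))

end Final

end Groth.Agent.Lib.Helper50
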