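import Mathlib
import Groth.Prelude
import Groth.Agent.Lib.Helper50.NormalBC

/-!
# Geometric normality and finitely generated extensions of the base field (helper50)
-/

open TensorProduct

universe u

namespace Groth.Agent.Lib.Helper50

/-- Geometric normality passes to `K ⊗[k] S` over `K`, for `K/k` finitely generated. -/
theorem isGeomNormal_tensor_of_isGeomNormal (k S K : Type u) [Field k] [CommRing S] [Algebra k S]
    [Field K] [Algebra k K] [Algebra.EssFiniteType k K] (h : EGA4.IsGeomNormal k S) :
    EGA4.IsGeomNormal K (K ⊗[k] S) := by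
  intro K' _ _ hfin
  letI : Algebra k K' := ((algebraMap K K').comp (algebraMap k K)).toAlgebra
  haveI : IsScalarTower k K K' := IsScalarTower.of_algebraMap_eq' rfl
  haveI : Algebra.EssFiniteType k K' := Algebra.EssFiniteType.comp k K K'
  have h1 := isNormalRing_tensor_of_essFiniteType k K' S (fun k' _ _ hfin _ => h k' hfin)
  exact isNormalRing_of_ringEquiv
    (Algebra.TensorProduct.cancelBaseChange k K K K' S).symm.toRingEquiv h1

/-- Geometric normality descends from `K ⊗[k] S` over `K` to `S` over `k`. -/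
theorem isGeomNormal_of_isGeomNormal_tensor (k S K : Type u) [Field k] [CommRing S] [Algebra k S]
    [Field K] [Algebra k K] (h : EGA4.IsGeomNormal K (K ⊗[k] S)) :
    EGA4.IsGeomNormal k S := by
  intro k' _ _ hfin
  have hnt : Nontrivial (k' ⊗[k] K) :=
    (Algebra.TensorProduct.includeRight_injective (R := k) (A := k') (B := K)
      (algebraMap k k').injective).nontrivial
  obtain ⟨m, hm⟩ := Ideal.exists_maximal (k' ⊗[k] K)
  letI : Field ((k' ⊗[k] K) ⧸ m) := Ideal.Quotient.field m
  letI : Algebra K ((k' ⊗[k] K) ⧸ m) :=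
    ((Ideal.Quotient.mk m).comp
      (Algebra.TensorProduct.includeRight : K →ₐ[k] k' ⊗[k] K).toRingHom).toAlgebra
  haveI : IsScalarTower k K ((k' ⊗[k] K) ⧸ m) := by
    refine IsScalarTower.of_algebraMap_eq' ?_
    ext c
    simp [RingHom.algebraMap_toAlgebra, Algebra.TensorProduct.algebraMap_apply]
    rfl
  let ψ : K ⊗[k] k' →ₐ[K] (k' ⊗[k] K) ⧸ m :=
    { ((Ideal.Quotient.mk m).comp
        (Algebra.TensorProduct.comm k K k' : K ⊗[k] k' →+* k' ⊗[k] K)) with
      commutes' := fun c => by
        simp [RingHom.algebraMap_toAlgebra, Algebra.TensorProduct.algebraMap_apply] }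
  have hψ : Function.Surjective ψ :=
    Ideal.Quotient.mk_surjective.comp (Algebra.TensorProduct.comm k K k').surjective
  haveI : Module.Finite K ((k' ⊗[k] K) ⧸ m) := Module.Finite.of_surjective ψ.toLinearMap hψ
  have h1 := h ((k' ⊗[k] K) ⧸ m) inferInstance
  exact isNormalRing_tensor_of_common_extension k K k' ((k' ⊗[k] K) ⧸ m) S h1

end Groth.Agent.Lib.Helper50
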