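import Mathlib
import Groth.Agent.Lib.Helper50.NormalTensor
import Groth.Agent.Lib.Helper50.NormalBC2
import Groth.Agent.S9293

/-! Base change of normal homomorphisms (helper50). -/

set_option autoImplicit false
universe u
open TensorProduct

namespace Groth.Agent.Lib.Helper50

/-- Geometric normality is stable under arbitrary field extension. -/
theorem isGeomNormal_tensor_of_isGeomNormal' (k S K : Type u) [Field k] [CommRing S] [Algebra k S]
    [Field K] [Algebra k K] (h : EGA4.IsGeomNormal k S) :
    EGA4.IsGeomNormal K (K ⊗[k] S) := by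
  intro K' _ _ hfin
  letI : Algebra k K' := ((algebraMap K K').comp (algebraMap k K)).toAlgebra
  haveI : IsScalarTower k K K' := IsScalarTower.of_algebraMap_eq' rfl
  have h1 := isNormalRing_tensor_of_forall_finite_purelyInseparable k K' S
    (fun k' _ _ hfin _ => h k' hfin)
  exact isNormalRing_of_ringEquiv
    (Algebra.TensorProduct.cancelBaseChange k K K' K' S).symm.toRingEquiv h1

theorem isGeomNormal_of_algEquiv {K S S' : Type u} [Field K] [CommRing S] [CommRing S']
    [Algebra K S] [Algebra K S'] (e : S ≃ₐ[K] S') (h : EGA4.IsGeomNormal K S) :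
    EGA4.IsGeomNormal K S' := by
  intro K' _ _ hfin
  exact isNormalRing_of_ringEquiv
    (Algebra.TensorProduct.congr (AlgEquiv.refl (R := K) (A₁ := K')) e).toRingEquiv (h K' hfin)

theorem isNormalHom_baseChange (A B A' : Type u) [CommRing A] [CommRing B] [CommRing A']
    [Algebra A B] [Algebra A A'] (h : EGA4.IsNormalHom A B) :
    EGA4.IsNormalHom A' (A' ⊗[A] B) := by
  have hflat : Module.Flat A B := h.1
  refine ⟨inferInstance, fun p' _ => ?_⟩
  letI := Localization.AtPrime.algebraOfLiesOver (p'.under A) p'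
  have hG := h.2 (p'.under A)
  have h1 : EGA4.IsGeomNormal p'.ResidueField
      (p'.ResidueField ⊗[(p'.under A).ResidueField] (p'.under A).Fiber B) :=
    isGeomNormal_tensor_of_isGeomNormal' _ _ p'.ResidueField hG
  exact isGeomNormal_of_algEquiv (Groth.Agent.S9293.Aux.fiberBaseChangeAlgEquiv A A' B p').symm h1

theorem isNormalHom_of_baseChange_of_faithfullyFlat (A B A' : Type u) [CommRing A] [CommRing B]
    [CommRing A'] [Algebra A B] [Algebra A A'] (hff : Module.FaithfullyFlat A A')
    (h' : EGA4.IsNormalHom A' (A' ⊗[A] B)) : EGA4.IsNormalHom A B := by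
  have hflat' : Module.Flat A' (A' ⊗[A] B) := h'.1
  refine ⟨Module.Flat.of_flat_tensorProduct A B A', fun p hp => ?_⟩
  obtain ⟨⟨p', hp'⟩, hpp⟩ := PrimeSpectrum.comap_surjective_of_faithfullyFlat (B := A') ⟨p, hp⟩
  have hpe : p'.under A = p := congrArg PrimeSpectrum.asIdeal hpp
  subst hpe
  letI := Localization.AtPrime.algebraOfLiesOver (p'.under A) p'
  have h1 : EGA4.IsGeomNormal p'.ResidueField
      (p'.ResidueField ⊗[(p'.under A).ResidueField] (p'.under A).Fiber B) :=
    isGeomNormal_of_algEquiv (Groth.Agent.S9293.Aux.fiberBaseChangeAlgEquiv A A' B p') (h'.2 p')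
  exact isGeomNormal_of_isGeomNormal_tensor _ _ p'.ResidueField h1

end Groth.Agent.Lib.Helper50
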