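import Mathlib
import Groth.Agent.Lib.Helper50.GeomReduced
import Groth.Agent.Lib.Helper50.GeomReducedLoc

/-!
# Separably generated extensions are geometrically reduced; subextensions (helper50)
-/

open TensorProduct IntermediateField

universe u

namespace Groth.Agent.Lib.Helper50

/-- Polynomial rings over a field are geometrically reduced. -/
theorem isGeometricallyReduced_mvPolynomial (k : Type u) [Field k] (ι : Type*) :
    Algebra.IsGeometricallyReduced k (MvPolynomial ι k) := by
  rw [Algebra.isGeometricallyReduced_field_iff]
  let e := MvPolynomial.algebraTensorAlgEquiv (σ := ι) k (AlgebraicClosure k)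
  exact isReduced_of_injective e e.injective

open scoped IntermediateField.algebraAdjoinAdjoin in
/-- A separably generated field extension is geometrically reduced. -/
theorem isGeometricallyReduced_of_isTranscendenceBasis_of_isSeparable {k K : Type u} [Field k]
    [Field K] [Algebra k K] {ι : Type*} (x : ι → K) (hx : IsTranscendenceBasis k x)
    [Algebra.IsSeparable (IntermediateField.adjoin k (Set.range x)) K] :
    Algebra.IsGeometricallyReduced k K := by
  have h1 : Algebra.IsGeometricallyReduced k (Algebra.adjoin k (Set.range x)) := by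
    have := isGeometricallyReduced_mvPolynomial k ι
    exact Algebra.IsGeometricallyReduced.of_injective hx.1.aevalEquiv.symm.toAlgHom
      hx.1.aevalEquiv.symm.injective
  have h2 : Algebra.IsGeometricallyReduced k (IntermediateField.adjoin k (Set.range x)) :=
    isGeometricallyReduced_of_isLocalization (nonZeroDivisors (Algebra.adjoin k (Set.range x)))
  rw [Algebra.isGeometricallyReduced_field_iff]
  have h3 : IsReduced ((IntermediateField.adjoin k (Set.range x)) ⊗[k] AlgebraicClosure k) := by
    have := (Algebra.isGeometricallyReduced_field_iff k _).mp h2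
    exact isReduced_of_injective (Algebra.TensorProduct.comm k _ _)
      (Algebra.TensorProduct.comm k _ _).injective
  have h4 : IsReduced (K ⊗[k] AlgebraicClosure k) :=
    isReduced_tensor_of_isSeparable_tower (P := IntermediateField.adjoin k (Set.range x)) h3
  exact isReduced_of_injective (Algebra.TensorProduct.comm k _ _)
    (Algebra.TensorProduct.comm k _ _).injective

/-- If `∑ dᵢ ⊗ vᵢ = 0` with the `vᵢ` linearly independent over the field `k`, then all
`dᵢ = 0`. -/
theorem eq_zero_of_sum_tmul_eq_zero {k Ω K : Type*} [Field k] [AddCommGroup Ω] [Module k Ω]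
    [AddCommGroup K] [Module k K] (s : Set K) (hs : LinearIndepOn k id s) (t : Finset s)
    (d : s → Ω) (h : ∑ i ∈ t, d i ⊗ₜ[k] (i : K) = 0) : ∀ j ∈ t, d j = 0 := by
  classical
  intro j hj
  let b := Module.Basis.extend hs
  have hsub := hs.subset_extend (Set.subset_univ s)
  have hb : ∀ i : s, b ⟨i, hsub i.2⟩ = (i : K) := fun i => Module.Basis.extend_apply_self hs _
  let f : K →ₗ[k] k := b.coord ⟨j, hsub j.2⟩
  have hf : ∀ i : s, f i = if i = j then 1 else 0 := by
    intro i
    rw [← hb i, Module.Basis.coord_apply, Module.Basis.repr_self, Finsupp.single_apply]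
    by_cases hij : i = j
    · simp [hij]
    · have : (⟨(i : K), hsub i.2⟩ : hs.extend (Set.subset_univ s)) ≠ ⟨(j : K), hsub j.2⟩ := by
        intro h'
        have e : (i : K) = (j : K) := Subtype.mk.inj h'
        exact hij (Subtype.ext e)
      simp [hij, this]
  have h2 := congrArg (TensorProduct.rid k Ω ∘ LinearMap.lTensor Ω f) h
  simp only [Function.comp_apply, map_sum, LinearMap.lTensor_tmul, TensorProduct.rid_tmul, hf,
    map_zero, ite_smul, one_smul, zero_smul, Finset.sum_ite_eq', hj, if_true] at h2
  exact h2

/-- Over a field of characteristic `p`, in a geometrically reduced field extension,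
`p`-th powers of linearly independent elements are linearly independent. -/
theorem linearIndepOn_pow_of_isGeometricallyReduced {k K : Type u} [Field k] [Field K]
    [Algebra k K] (p : ℕ) [hp : Fact p.Prime] [CharP k p] [Algebra.IsGeometricallyReduced k K]
    (s : Finset K) (hs : LinearIndepOn k id (s : Set K)) :
    LinearIndepOn k (· ^ p) (s : Set K) := by
  classical
  let Ω := AlgebraicClosure k
  have hred : IsReduced (Ω ⊗[k] K) := (Algebra.isGeometricallyReduced_field_iff k K).mp inferInstance
  haveI : CharP Ω p := charP_of_injective_algebraMap (algebraMap k Ω).injective p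
  haveI : CharP (Ω ⊗[k] K) p :=
    charP_of_injective_algebraMap (algebraMap Ω (Ω ⊗[k] K)).injective p
  rw [LinearIndepOn, Fintype.linearIndependent_iff]
  intro c hc
  let d : ↥(s : Set K) → Ω := fun i => (frobeniusEquiv Ω p).symm (algebraMap k Ω (c i))
  have hd : ∀ i, d i ^ p = algebraMap k Ω (c i) := fun i => by
    simp only [d]
    exact frobeniusEquiv_symm_pow_p Ω p _
  let t : Ω ⊗[k] K := ∑ i : ↥(s : Set K), d i ⊗ₜ[k] (i : K)
  have ht : t ^ p = 0 := by
    simp only [t]
    rw [sum_pow_char]
    have : ∀ i : ↥(s : Set K), (d i ⊗ₜ[k] (i : K)) ^ p = (1 : Ω) ⊗ₜ[k] (c i • (i : K) ^ p) := by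
      intro i
      rw [Algebra.TensorProduct.tmul_pow, hd, TensorProduct.tmul_smul, Algebra.algebraMap_eq_smul_one,
        TensorProduct.smul_tmul']
    simp only [this]
    rw [← TensorProduct.tmul_sum, hc, TensorProduct.tmul_zero]
  have ht0 : t = 0 := by
    have : IsNilpotent t := ⟨p, ht⟩
    exact this.eq_zero
  intro i
  have hdi := eq_zero_of_sum_tmul_eq_zero (s : Set K) hs Finset.univ d ht0 i (Finset.mem_univ _)
  have : algebraMap k Ω (c i) = 0 := by rw [← hd, hdi, zero_pow hp.out.ne_zero]
  exact (map_eq_zero _).mp this

end Groth.Agent.Lib.Helper50
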