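import Mathlib
import Groth.Prelude

/-!
# Reduced locus and integral locus of a locally Noetherian scheme are open (helper50)
-/

open CategoryTheory AlgebraicGeometry TopologicalSpace

universe u

namespace Groth.Agent.Lib.Helper50

/-- The set where a section has zero germ is open. -/
theorem isOpen_setOf_germ_eq_zero {X : Scheme.{u}} (U : X.Opens) (n : Γ(X, U)) :
    IsOpen {y : X | ∃ hy : y ∈ U, X.presheaf.germ U y hy n = 0} := by
  rw [isOpen_iff_forall_mem_open]
  rintro y ⟨hy, h0⟩
  obtain ⟨V, i, hyV, hV⟩ := X.toRingedSpace.exists_res_eq_zero_of_germ_eq_zero U n ⟨y, hy⟩ h0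
  refine ⟨V, ?_, V.isOpen, hyV⟩
  intro z hz
  refine ⟨i.le hz, ?_⟩
  have := X.presheaf.germ_res_apply i z hz n
  rw [← this]
  erw [hV]
  exact map_zero _

/-- On an affine open with Noetherian ring, reducedness of a stalk is detected by generators of
the nilradical. -/
theorem isReduced_stalk_iff_of_span_eq_nilradical {X : Scheme.{u}} {U : X.Opens}
    (hU : IsAffineOpen U) (s : Set Γ(X, U)) (hs : Ideal.span s = nilradical Γ(X, U))
    (y : X) (hy : y ∈ U) :
    IsReduced (X.presheaf.stalk y) ↔ ∀ n ∈ s, X.presheaf.germ U y hy n = 0 := by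
  constructor
  · intro hred n hn
    have hnil : IsNilpotent n := by
      have : n ∈ nilradical Γ(X, U) := hs ▸ Ideal.subset_span hn
      exact this
    exact (hnil.map (X.presheaf.germ U y hy).hom).eq_zero
  · intro h
    letI : Algebra Γ(X, U) (X.presheaf.stalk y) :=
      TopCat.Presheaf.algebra_section_stalk X.presheaf ⟨y, hy⟩
    have hloc : IsLocalization.AtPrime (X.presheaf.stalk y) (hU.primeIdealOf ⟨y, hy⟩).asIdeal :=
      hU.isLocalization_stalk ⟨y, hy⟩
    have h1 := IsLocalization.map_radical (hU.primeIdealOf ⟨y, hy⟩).asIdeal.primeCompl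
      (X.presheaf.stalk y) (⊥ : Ideal Γ(X, U))
    rw [Ideal.map_bot] at h1
    suffices hrad : (⊥ : Ideal (X.presheaf.stalk y)).radical = ⊥ by
      refine ⟨fun t ht => ?_⟩
      have : t ∈ (⊥ : Ideal (X.presheaf.stalk y)).radical := ht
      rwa [hrad] at this
    rw [← h1]
    change (nilradical Γ(X, U)).map _ = ⊥
    rw [← hs, Ideal.map_span, Ideal.span_eq_bot]
    rintro _ ⟨n, hn, rfl⟩
    exact h n hn

/-- The reduced locus of a locally Noetherian scheme is open. -/
theorem isOpen_setOf_isReduced_stalk (X : Scheme.{u}) [IsLocallyNoetherian X] :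
    IsOpen {x : X | IsReduced (X.presheaf.stalk x)} := by
  rw [isOpen_iff_forall_mem_open]
  intro x hx
  obtain ⟨_, ⟨U, hU, rfl⟩, hxU, -⟩ :=
    X.isBasis_affineOpens.exists_subset_of_mem_open (Set.mem_univ x) isOpen_univ
  have hN : IsNoetherianRing Γ(X, U) := IsLocallyNoetherian.component_noetherian ⟨U, hU⟩
  obtain ⟨s, hs⟩ := (isNoetherianRing_iff_ideal_fg _).mp hN (nilradical Γ(X, U))
  refine ⟨(U : Set X) ∩ ⋂ n ∈ s, {y : X | ∃ hy : y ∈ U, X.presheaf.germ U y hy n = 0}, ?_, ?_, ?_⟩
  · rintro y ⟨hyU, hy⟩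
    simp only [Set.mem_iInter] at hy
    refine (isReduced_stalk_iff_of_span_eq_nilradical hU (s : Set Γ(X, U)) hs y hyU).mpr ?_
    intro n hn
    obtain ⟨_, h0⟩ := hy n hn
    exact h0
  · exact U.isOpen.inter (isOpen_biInter_finset fun n _ => isOpen_setOf_germ_eq_zero U n)
  · refine ⟨hxU, ?_⟩
    simp only [Set.mem_iInter]
    intro n hn
    exact ⟨hxU, (isReduced_stalk_iff_of_span_eq_nilradical hU (s : Set Γ(X, U)) hs x hxU).mp hx n hn⟩

/-- An affine open of a locally Noetherian scheme contains only finitely many generic points of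
irreducible components. -/
theorem finite_setOf_closure_mem_irreducibleComponents {X : Scheme.{u}} [IsLocallyNoetherian X]
    {U : X.Opens} (hU : IsAffineOpen U) :
    {η : X | η ∈ U ∧ closure {η} ∈ irreducibleComponents (X : Type u)}.Finite := by
  have hN : IsNoetherianRing Γ(X, U) := IsLocallyNoetherian.component_noetherian ⟨U, hU⟩
  have hNS : NoetherianSpace U := noetherianSpace_of_isAffineOpen U hU
  have hfin : (irreducibleComponents U).Finite := NoetherianSpace.finite_irreducibleComponents
  apply Set.Finite.of_finite_image (f := fun η : X => ((↑) : U → X) ⁻¹' closure {η})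
  · apply hfin.subset
    rintro _ ⟨η, ⟨hηU, hη⟩, rfl⟩
    refine preimage_mem_irreducibleComponents hη U.isOpenEmbedding ⟨η, subset_closure rfl, ?_⟩
    exact ⟨⟨η, hηU⟩, rfl⟩
  · rintro η ⟨hηU, hη⟩ η' ⟨hη'U, hη'⟩ heq
    have h1 : η' ∈ closure {η} := by
      have : (⟨η', hη'U⟩ : U) ∈ ((↑) : U → X) ⁻¹' closure {η'} := subset_closure rfl
      have heq' : ((↑) : U → X) ⁻¹' closure {η} = ((↑) : U → X) ⁻¹' closure {η'} := heq
      rw [← heq'] at this
      exact this
    have h2 : η ∈ closure {η'} := by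
      have : (⟨η, hηU⟩ : U) ∈ ((↑) : U → X) ⁻¹' closure {η} := subset_closure rfl
      have heq' : ((↑) : U → X) ⁻¹' closure {η} = ((↑) : U → X) ⁻¹' closure {η'} := heq
      rw [heq'] at this
      exact this
    exact ((specializes_iff_mem_closure.mpr h1).antisymm (specializes_iff_mem_closure.mpr h2)).eq

end Groth.Agent.Lib.Helper50
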