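import Mathlib
import Groth.Prelude
import Groth.Agent.Lib.Helper50.GeomReducedGeneric
import Groth.Agent.Lib.Helper50.StalkSpecializes
import Groth.Agent.Lib.Helper50.NoethLocus

/-!
# The geometrically reduced locus of a locally Noetherian scheme over a field is open (helper50)
-/

open CategoryTheory AlgebraicGeometry TopologicalSpace Limits

universe u

namespace Groth.Agent.Lib.Helper50

variable {X : Scheme.{u}} {k : Type u} [Field k] (f : X ⟶ Spec (CommRingCat.of k))

/-- `FBase.IsGeomReducedAt` in terms of the local ring. -/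
theorem fbase_isGeomReducedAt_iff (x : X) (φ : k →+* X.presheaf.stalk x)
    (hφ : Spec.map (CommRingCat.ofHom φ) = X.fromSpecStalk x ≫ f) :
    letI := φ.toAlgebra
    FBase.IsGeomReducedAt f x ↔ Algebra.IsGeometricallyReduced k (X.presheaf.stalk x) :=
  isGeomReducedAt_iff f x φ hφ

/-- Geometric reducedness at a point passes to generizations. -/
theorem fbase_isGeomReducedAt_of_specializes {x η : X} (h : η ⤳ x)
    (hx : FBase.IsGeomReducedAt f x) : FBase.IsGeomReducedAt f η := by
  obtain ⟨φ, hφ⟩ := exists_ringHom_stalk f x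
  have hφη : Spec.map (CommRingCat.ofHom ((X.presheaf.stalkSpecializes h).hom.comp φ)) =
      X.fromSpecStalk η ≫ f := by
    rw [CommRingCat.ofHom_comp, Spec.map_comp, hφ, CommRingCat.ofHom_hom,
      Scheme.SpecMap_stalkSpecializes_fromSpecStalk_assoc]
  refine (fbase_isGeomReducedAt_iff f η _ hφη).mpr ?_
  exact isGeometricallyReduced_stalk_of_specializes h φ _ rfl
    ((fbase_isGeomReducedAt_iff f x φ hφ).mp hx)

/-- Geometric reducedness at a point implies that the local ring is reduced. -/
theorem isReduced_stalk_of_fbase_isGeomReducedAt {x : X}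
    (hx : FBase.IsGeomReducedAt f x) : IsReduced (X.presheaf.stalk x) := by
  obtain ⟨φ, hφ⟩ := exists_ringHom_stalk f x
  letI := φ.toAlgebra
  have := (fbase_isGeomReducedAt_iff f x φ hφ).mp hx
  exact Algebra.isReduced_of_isGeometricallyReduced k

/-- Pointwise criterion: reduced local ring and geometrically reduced at all maximal
generizations. -/
theorem fbase_isGeomReducedAt_of_forall_generic (x : X) [IsReduced (X.presheaf.stalk x)]
    (h : ∀ η : X, η ⤳ x → closure {η} ∈ irreducibleComponents (X : Type u) →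
      FBase.IsGeomReducedAt f η) : FBase.IsGeomReducedAt f x := by
  obtain ⟨φ, hφ⟩ := exists_ringHom_stalk f x
  refine (fbase_isGeomReducedAt_iff f x φ hφ).mpr ?_
  letI := φ.toAlgebra
  let ι := {η : X // η ⤳ x ∧ closure {η} ∈ irreducibleComponents (X : Type u)}
  let φη : ∀ i : ι, k →+* X.presheaf.stalk i.1 := fun i =>
    (X.presheaf.stalkSpecializes i.2.1).hom.comp φ
  letI alg : ∀ i : ι, Algebra k (X.presheaf.stalk i.1) := fun i => (φη i).toAlgebra
  let ψ : ∀ i : ι, X.presheaf.stalk x →ₐ[k] X.presheaf.stalk i.1 := fun i =>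
    { (X.presheaf.stalkSpecializes i.2.1).hom with commutes' := fun a => rfl }
  refine isGeometricallyReduced_of_forall_algHom (fun i : ι => X.presheaf.stalk i.1) ψ ?_ ?_
  · intro a ha
    by_contra hne
    obtain ⟨η, hη, hc, hne'⟩ := exists_stalkSpecializes_ne_zero x a hne
    exact hne' (ha ⟨η, hη, hc⟩)
  · intro i
    have hφη : Spec.map (CommRingCat.ofHom (φη i)) = X.fromSpecStalk i.1 ≫ f := by
      rw [CommRingCat.ofHom_comp, Spec.map_comp, hφ, CommRingCat.ofHom_hom,
        Scheme.SpecMap_stalkSpecializes_fromSpecStalk_assoc]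
    exact (fbase_isGeomReducedAt_iff f i.1 (φη i) hφη).mp (h i.1 i.2.1 i.2.2)

/-- The geometrically reduced locus of a locally Noetherian `k`-scheme is open. -/
theorem isOpen_setOf_fbase_isGeomReducedAt [IsLocallyNoetherian X] :
    IsOpen {x : X | FBase.IsGeomReducedAt f x} := by
  rw [isOpen_iff_forall_mem_open]
  intro x hx
  obtain ⟨_, ⟨U, hU, rfl⟩, hxU, -⟩ :=
    X.isBasis_affineOpens.exists_subset_of_mem_open (Set.mem_univ x) isOpen_univ
  have hM := finite_setOf_closure_mem_irreducibleComponents hU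
  set M := {η : X | η ∈ U ∧ closure {η} ∈ irreducibleComponents (X : Type u)} with hMdef
  let Bad := {η ∈ M | ¬ FBase.IsGeomReducedAt f η}
  have hBad : Bad.Finite := hM.subset fun η hη => hη.1
  let C := ⋃ η ∈ Bad, closure ({η} : Set X)
  have hC : IsClosed C := hBad.isClosed_biUnion fun η _ => isClosed_closure
  have hR := isOpen_setOf_isReduced_stalk X
  refine ⟨(U : Set X) ∩ {y | IsReduced (X.presheaf.stalk y)} ∩ Cᶜ, ?_,
    (U.isOpen.inter hR).inter hC.isOpen_compl, ⟨⟨hxU, ?_⟩, ?_⟩⟩
  · rintro y ⟨⟨hyU, hyR⟩, hyC⟩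
    have : IsReduced (X.presheaf.stalk y) := hyR
    apply fbase_isGeomReducedAt_of_forall_generic f y
    intro η hηy hη
    by_contra hbad
    apply hyC
    have hηU : η ∈ U := hηy.mem_open U.isOpen hyU
    have hηBad : η ∈ Bad := ⟨⟨hηU, hη⟩, hbad⟩
    exact Set.mem_biUnion hηBad (specializes_iff_mem_closure.mp hηy)
  · exact isReduced_stalk_of_fbase_isGeomReducedAt f hx
  · intro hxC
    simp only [C, Set.mem_iUnion] at hxC
    obtain ⟨η, hηBad, hxη⟩ := hxC
    exact hηBad.2 (fbase_isGeomReducedAt_of_specializes f (specializes_iff_mem_closure.mpr hxη) hx)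

end Groth.Agent.Lib.Helper50
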