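import Mathlib
import Groth.Prelude
import Groth.Agent.Lib.Helper50.StalkBC
import Groth.Agent.Lib.Helper50.FiberBC
import Groth.Agent.Lib.Helper24.SmoothNormal
import Groth.Agent.S2672
import Groth.Agent.S0564

/-!
# Geometric regularity at a point of a locally Noetherian scheme over a field (helper50)
-/

open CategoryTheory AlgebraicGeometry Limits TensorProduct

universe u

namespace Groth.Agent.Lib.Helper50

/-- A Noetherian ring which is regular at all maximal ideals is regular. -/
theorem isRegularRing_of_forall_isMaximal {R : Type u} [CommRing R] [IsNoetherianRing R]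
    (h : ∀ (m : Ideal R) [m.IsMaximal], IsRegularLocalRing (Localization.AtPrime m)) :
    IsRegularRing R := by
  rw [isRegularRing_iff]
  intro Q hQ
  obtain ⟨m, hm, hQm⟩ := Ideal.exists_le_maximal Q hQ.ne_top
  haveI := h m
  have hdisj : Disjoint (m.primeCompl : Set R) (Q : Set R) := by
    rw [Set.disjoint_left]
    intro a ha haQ
    exact ha (hQm haQ)
  obtain ⟨q', hq', ⟨e⟩⟩ := Groth.Agent.Lib.Helper24.exists_atPrime_ringEquiv_of_disjoint
    (S' := Localization.AtPrime m) m.primeCompl Q hdisj
  haveI := Groth.Agent.S0564.result (Localization.AtPrime m) q'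
  exact IsRegularLocalRing.of_ringEquiv e.symm

attribute [local instance] Curv2.stalkAlgebra

section

variable (k : Type u) [Field k] (X : Scheme.{u}) [X.Over (Spec (CommRingCat.of k))]
  [IsLocallyNoetherian X] (x : X)

/-- If all local rings of `X_{k'}` over `x` are regular, then `O_{X,x} ⊗ k'` is a regular ring
(`k'/k` finite). -/
theorem isRegularRing_tensor_stalk_of_forall (k' : Type u) [Field k'] [Algebra k k']
    [Module.Finite k k']
    (h : ∀ x' : ↥(Curv2.bc k X k'), Curv2.bcFst k X k' x' = x →
      IsRegularLocalRing ((Curv2.bc k X k').presheaf.stalk x')) :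
    IsRegularRing (k' ⊗[k] X.presheaf.stalk x) := by
  have hN : IsNoetherianRing (X.presheaf.stalk x ⊗[k] k') :=
    Algebra.FiniteType.isNoetherianRing (X.presheaf.stalk x) _
  suffices hreg : IsRegularRing (X.presheaf.stalk x ⊗[k] k') from
    IsRegularRing.of_ringEquiv (Algebra.TensorProduct.comm k (X.presheaf.stalk x) k').toRingEquiv
  apply isRegularRing_of_forall_isMaximal
  intro m hm
  have hq : m.comap (Algebra.TensorProduct.includeLeftRingHom :
      X.presheaf.stalk x →+* X.presheaf.stalk x ⊗[k] k') =
      IsLocalRing.maximalIdeal (X.presheaf.stalk x) := by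
    have : Algebra.IsIntegral (X.presheaf.stalk x) (X.presheaf.stalk x ⊗[k] k') :=
      inferInstance
    have hmax : (m.comap (algebraMap (X.presheaf.stalk x)
        (X.presheaf.stalk x ⊗[k] k'))).IsMaximal :=
      Ideal.isMaximal_comap_of_isIntegral_of_isMaximal m
    exact IsLocalRing.eq_maximalIdeal hmax
  obtain ⟨x', hx', ⟨e⟩⟩ := (exists_stalk_bc (K := k') (X ↘ Spec (CommRingCat.of k)) x
    (Curv2.stalkMap k X x) (specMap_stalkMap_eq k x)).2 ⟨m, hm.isPrime⟩ hq
  haveI := h x' hx'
  exact IsRegularLocalRing.of_ringEquiv e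

omit [IsLocallyNoetherian X] in
/-- If `k' ⊗ O_{X,x}` is a regular ring then all local rings of `X_{k'}` over `x` are regular. -/
theorem isRegularLocalRing_stalk_of_isRegularRing_tensor (k' : Type u) [Field k'] [Algebra k k']
    (h : IsRegularRing (k' ⊗[k] X.presheaf.stalk x))
    (x' : ↥(Curv2.bc k X k')) (hx' : Curv2.bcFst k X k' x' = x) :
    IsRegularLocalRing ((Curv2.bc k X k').presheaf.stalk x') := by
  have hreg : IsRegularRing (X.presheaf.stalk x ⊗[k] k') :=
    IsRegularRing.of_ringEquiv (Algebra.TensorProduct.comm k k' (X.presheaf.stalk x)).toRingEquiv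
  obtain ⟨q, ⟨e⟩⟩ := (exists_stalk_bc (K := k') (X ↘ Spec (CommRingCat.of k)) x
    (Curv2.stalkMap k X x) (specMap_stalkMap_eq k x)).1 x' hx'
  haveI : IsRegularLocalRing (Localization.AtPrime q.asIdeal) := inferInstance
  exact IsRegularLocalRing.of_ringEquiv e.symm

/-- (2) ⟺ (3). -/
theorem forall_finite_purelyInseparable_iff_isGeometricallyRegular :
    (∀ (k' : Type u) [Field k'] [Algebra k k'] [FiniteDimensional k k'] [IsPurelyInseparable k k']
        (x' : ↥(Curv2.bc k X k')),
        Curv2.bcFst k X k' x' = x → IsRegularLocalRing ↥((Curv2.bc k X k').presheaf.stalk x')) ↔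
      CAlg.IsGeometricallyRegular k ↥(X.presheaf.stalk x) := by
  constructor
  · intro h
    rw [(Groth.Agent.S2672.result k (X.presheaf.stalk x)).1]
    intro k' _ _ hfin hpi
    exact isRegularRing_tensor_stalk_of_forall k X x k' (fun x' hx' => h k' x' hx')
  · intro h k' _ _ hfin hpi x' hx'
    exact isRegularLocalRing_stalk_of_isRegularRing_tensor k X x k'
      ((Groth.Agent.S2672.result k (X.presheaf.stalk x)).1.mp h k' hfin hpi) x' hx'

/-- (3) ⟹ (1). -/
theorem isGeomRegularAt_of_isGeometricallyRegular
    (h : CAlg.IsGeometricallyRegular k ↥(X.presheaf.stalk x)) : Curv2.IsGeomRegularAt k X x := by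
  intro k' _ _ hfg x' hx'
  have hess : Algebra.EssFiniteType k k' := by
    have h1 : Algebra.EssFiniteType k (⊤ : IntermediateField k k') :=
      IntermediateField.essFiniteType_iff.mpr hfg
    exact (Algebra.EssFiniteType.iff_of_algEquiv (IntermediateField.topEquiv (F := k) (E := k'))).mp h1
  exact isRegularLocalRing_stalk_of_isRegularRing_tensor k X x k'
    ((Groth.Agent.S2672.result k (X.presheaf.stalk x)).2.mp h k' hess) x' hx'

omit [IsLocallyNoetherian X] in
/-- (1) ⟹ (2). -/
theorem forall_finite_purelyInseparable_of_isGeomRegularAt (h : Curv2.IsGeomRegularAt k X x)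
    (k' : Type u) [Field k'] [Algebra k k'] [FiniteDimensional k k']
    (x' : ↥(Curv2.bc k X k')) (hx' : Curv2.bcFst k X k' x' = x) :
    IsRegularLocalRing ↥((Curv2.bc k X k').presheaf.stalk x') := by
  refine h k' ?_ x' hx'
  have : Algebra.EssFiniteType k k' := inferInstance
  exact IntermediateField.fg_top k k'

end

end Groth.Agent.Lib.Helper50
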