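import Mathlib
import Groth.Prelude

/-! Ind-smooth algebras: descending tensor relations to a finitely presented stage (helper50). -/

set_option autoImplicit false
universe u v
open TensorProduct

namespace Groth.Agent.Lib.Helper50

/-- **Finite stage lemma.** If `f : A₀ → S` is a map of `R`-algebras with `A₀` finitely presented,
and `w ∈ A₀ ⊗ B` dies in `S ⊗ B`, then `f` factors through a finitely presented `R`-algebra `A₁`
such that `w` already dies in `A₁ ⊗ B`. -/
theorem exists_finitePresentation_factor_rTensor_eq_zero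
    {R : Type u} [CommRing R] {A₀ S : Type u} [CommRing A₀] [CommRing S] [Algebra R A₀]
    [Algebra R S] [Algebra.FinitePresentation R A₀] (f : A₀ →ₐ[R] S)
    {B : Type v} [AddCommGroup B] [Module R B]
    (w : A₀ ⊗[R] B) (hw : f.toLinearMap.rTensor B w = 0) :
    ∃ (A₁ : Type u) (_ : CommRing A₁) (_ : Algebra R A₁), Algebra.FinitePresentation R A₁ ∧
      ∃ (g : A₀ →ₐ[R] A₁) (h : A₁ →ₐ[R] S), h.comp g = f ∧ g.toLinearMap.rTensor B w = 0 := by
  classical
  letI : Algebra A₀ S := f.toRingHom.toAlgebra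
  haveI : IsScalarTower R A₀ S := IsScalarTower.of_algebraMap_eq (fun r => (f.commutes r).symm)
  -- the big polynomial ring
  let π₀ : MvPolynomial S A₀ →ₐ[A₀] S := MvPolynomial.aeval id
  let π : MvPolynomial S A₀ →ₐ[R] S := π₀.restrictScalars R
  let ι : A₀ →ₐ[R] MvPolynomial S A₀ := IsScalarTower.toAlgHom R A₀ (MvPolynomial S A₀)
  have hπι : π.comp ι = f := by
    ext a
    change π₀ (algebraMap A₀ _ a) = f a
    rw [π₀.commutes]
    rfl
  have hπsurj : Function.Surjective π := fun s => ⟨MvPolynomial.X s, by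
    change MvPolynomial.aeval id (MvPolynomial.X s) = s
    rw [MvPolynomial.aeval_X]; rfl⟩
  have hex := rTensor_exact B (LinearMap.exact_subtype_ker_map π.toLinearMap) hπsurj
  have h0 : π.toLinearMap.rTensor B (ι.toLinearMap.rTensor B w) = 0 := by
    rw [← LinearMap.rTensor_comp_apply]
    have : π.toLinearMap ∘ₗ ι.toLinearMap = f.toLinearMap := by
      rw [← hπι]; rfl
    rw [this, hw]
  obtain ⟨t, ht⟩ := (hex _).mp h0
  obtain ⟨T, hT⟩ := TensorProduct.exists_finset t
  -- the finitely many variables involved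
  let F : Finset S := T.biUnion (fun i => (i.1 : MvPolynomial S A₀).vars)
  let incl : MvPolynomial F A₀ →ₐ[A₀] MvPolynomial S A₀ := MvPolynomial.rename Subtype.val
  let ρ : MvPolynomial S A₀ →ₐ[A₀] MvPolynomial F A₀ :=
    MvPolynomial.killCompl Subtype.val_injective
  have hk : ∀ i ∈ T, ∃ q : MvPolynomial F A₀, incl q = (i.1 : MvPolynomial S A₀) := by
    intro i hi
    refine MvPolynomial.exists_rename_eq_of_vars_subset_range _ _ Subtype.val_injective ?_
    intro s hs
    exact ⟨⟨s, Finset.mem_biUnion.mpr ⟨i, hi, hs⟩⟩, rfl⟩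
  choose! q hq using hk
  let I : Ideal (MvPolynomial F A₀) := Ideal.span (q '' (T : Set _))
  have hIfg : I.FG := ⟨T.image q, by rw [Finset.coe_image]⟩
  haveI : Algebra.FinitePresentation R (MvPolynomial F A₀) :=
    Algebra.FinitePresentation.mvPolynomial R A₀ F
  refine ⟨MvPolynomial F A₀ ⧸ I, inferInstance, inferInstance,
    Algebra.FinitePresentation.quotient hIfg, ?_⟩
  let ιF : A₀ →ₐ[R] MvPolynomial F A₀ := IsScalarTower.toAlgHom R A₀ (MvPolynomial F A₀)
  have hIker : ∀ a ∈ I, (π.comp (incl.restrictScalars R)) a = 0 := by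
    intro a ha
    change a ∈ RingHom.ker (π.comp (incl.restrictScalars R)).toRingHom
    revert a
    change I ≤ _
    rw [Ideal.span_le]
    rintro _ ⟨i, hi, rfl⟩
    change π (incl (q i)) = 0
    rw [hq i hi]
    exact i.1.2
  refine ⟨(Ideal.Quotient.mkₐ R I).comp ιF,
    Ideal.Quotient.liftₐ I (π.comp (incl.restrictScalars R)) hIker, ?_, ?_⟩
  · ext a
    change π (incl (algebraMap A₀ _ a)) = f a
    rw [incl.commutes, ← hπι]
    rfl
  · have h1 : ιF.toLinearMap = (ρ.restrictScalars R).toLinearMap ∘ₗ ι.toLinearMap := by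
      refine LinearMap.ext (fun a => ?_)
      change algebraMap A₀ _ a = ρ (algebraMap A₀ _ a)
      rw [ρ.commutes]
    have h2 : ((Ideal.Quotient.mkₐ R I).comp ιF).toLinearMap =
        (Ideal.Quotient.mkₐ R I).toLinearMap ∘ₗ (ρ.restrictScalars R).toLinearMap ∘ₗ
          ι.toLinearMap := by
      rw [← h1]; rfl
    rw [h2, LinearMap.rTensor_comp_apply, LinearMap.rTensor_comp_apply, ← ht, hT, map_sum,
      map_sum, map_sum]
    refine Finset.sum_eq_zero (fun i hi => ?_)
    rw [LinearMap.rTensor_tmul, LinearMap.rTensor_tmul, LinearMap.rTensor_tmul]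
    have h3 : (Ideal.Quotient.mkₐ R I).toLinearMap ((ρ.restrictScalars R).toLinearMap
        ((LinearMap.ker π.toLinearMap).subtype i.1)) = 0 := by
      change Ideal.Quotient.mk I (ρ (i.1 : MvPolynomial S A₀)) = 0
      rw [← hq i hi]
      change Ideal.Quotient.mk I (MvPolynomial.killCompl Subtype.val_injective
        (MvPolynomial.rename Subtype.val (q i))) = 0
      rw [MvPolynomial.killCompl_rename_app]
      exact Ideal.Quotient.eq_zero_iff_mem.mpr (Ideal.subset_span ⟨i, hi, rfl⟩)
    rw [h3, zero_tmul]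


section IntegralClosure

variable (R : Type u) [CommRing R] (S : Type u) [CommRing S] [Algebra R S]
  (B : Type u) [CommRing B] [Algebra R B]

theorem toIntegralClosure_val_apply (x : S ⊗[R] integralClosure R B) :
    ((TensorProduct.toIntegralClosure R S B x : integralClosure S (S ⊗[R] B)) : S ⊗[R] B) =
      (integralClosure R B).val.toLinearMap.lTensor S x := rfl

variable {R S B}

theorem toIntegralClosure_injective_of_indSmooth (hS : Smoothing.IndSmooth R S) :
    Function.Injective (TensorProduct.toIntegralClosure R S B) := by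
  classical
  rw [injective_iff_map_eq_zero]
  intro z hz
  have hz' : (integralClosure R B).val.toLinearMap.lTensor S z = 0 := by
    rw [← toIntegralClosure_val_apply, hz]; rfl
  obtain ⟨T, hT⟩ := TensorProduct.exists_finset z
  let f : MvPolynomial T R →ₐ[R] S := MvPolynomial.aeval (fun i => i.1.1)
  let z₀ : MvPolynomial T R ⊗[R] integralClosure R B :=
    ∑ i : T, (MvPolynomial.X i) ⊗ₜ[R] i.1.2
  have hz₀ : f.toLinearMap.rTensor _ z₀ = z := by
    rw [hT, map_sum, ← Finset.sum_coe_sort T]
    refine Finset.sum_congr rfl (fun i _ => ?_)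
    rw [LinearMap.rTensor_tmul]
    congr 1
    exact MvPolynomial.aeval_X _ _
  let w := (integralClosure R B).val.toLinearMap.lTensor (MvPolynomial T R) z₀
  have hw : f.toLinearMap.rTensor B w = 0 := by
    change (f.toLinearMap.rTensor B ∘ₗ (integralClosure R B).val.toLinearMap.lTensor _) z₀ = 0
    rw [LinearMap.rTensor_comp_lTensor, ← LinearMap.lTensor_comp_rTensor, LinearMap.comp_apply,
      hz₀, hz']
  obtain ⟨A₁, _, _, hA₁, g, h, hgh, hgw⟩ := exists_finitePresentation_factor_rTensor_eq_zero f w hw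
  obtain ⟨T', _, _, hT', g', h', hgh'⟩ := hS A₁ hA₁ h
  haveI : Module.Flat R T' := Algebra.Smooth.flat R T'
  have h1 : ((g'.comp g).toLinearMap.rTensor _ z₀ : T' ⊗[R] integralClosure R B) = 0 := by
    apply Module.Flat.lTensor_preserves_injective_linearMap (M := T')
      (integralClosure R B).val.toLinearMap Subtype.val_injective
    rw [map_zero]
    change ((integralClosure R B).val.toLinearMap.lTensor T' ∘ₗ
      (g'.comp g).toLinearMap.rTensor _) z₀ = 0
    rw [LinearMap.lTensor_comp_rTensor, ← LinearMap.rTensor_comp_lTensor, LinearMap.comp_apply]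
    change (g'.toLinearMap ∘ₗ g.toLinearMap).rTensor B w = 0
    rw [LinearMap.rTensor_comp_apply, hgw, map_zero]
  rw [← hz₀, ← hgh, ← hgh']
  change ((h'.toLinearMap ∘ₗ (g'.comp g).toLinearMap).rTensor _) z₀ = 0
  rw [LinearMap.rTensor_comp_apply, h1, map_zero]


theorem toIntegralClosure_surjective_of_indSmooth (hS : Smoothing.IndSmooth R S) :
    Function.Surjective (TensorProduct.toIntegralClosure R S B) := by
  classical
  rintro ⟨ζ, hζ⟩
  obtain ⟨p, hp, hpζ⟩ := hζ
  obtain ⟨T, hT⟩ := TensorProduct.exists_finset ζ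
  let d := p.natDegree
  let f : MvPolynomial (T ⊕ Fin d) R →ₐ[R] S :=
    MvPolynomial.aeval (Sum.elim (fun i => i.1.1) (fun j => p.coeff j))
  let ζ₀ : MvPolynomial (T ⊕ Fin d) R ⊗[R] B :=
    ∑ i : T, (MvPolynomial.X (Sum.inl i)) ⊗ₜ[R] i.1.2
  let p₀ : Polynomial (MvPolynomial (T ⊕ Fin d) R) :=
    Polynomial.X ^ d + ∑ j : Fin d, Polynomial.C (MvPolynomial.X (Sum.inr j)) * Polynomial.X ^ (j : ℕ)
  have hp₀ : p₀.Monic := Polynomial.monic_X_pow_add (Polynomial.degree_sum_fin_lt _)
  have hp₀f : p₀.map (f : _ →+* S) = p := by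
    conv_rhs => rw [hp.as_sum]
    simp only [p₀, Polynomial.map_add, Polynomial.map_pow, Polynomial.map_X, Polynomial.map_sum,
      Polynomial.map_mul, Polynomial.map_C]
    congr 1
    rw [← Fin.sum_univ_eq_sum_range (fun i => Polynomial.C (p.coeff i) * Polynomial.X ^ i)]
    refine Finset.sum_congr rfl (fun j _ => ?_)
    congr 2
    change MvPolynomial.aeval _ (MvPolynomial.X (Sum.inr j)) = _
    rw [MvPolynomial.aeval_X]; rfl
  have hζ₀ : Algebra.TensorProduct.map f (AlgHom.id R B) ζ₀ = ζ := by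
    rw [hT, map_sum, ← Finset.sum_coe_sort T]
    refine Finset.sum_congr rfl (fun i _ => ?_)
    rw [Algebra.TensorProduct.map_tmul]
    congr 1
    exact MvPolynomial.aeval_X _ _
  -- naturality of polynomial evaluation
  have hnat : ∀ {A A' : Type u} [CommRing A] [CommRing A'] [Algebra R A] [Algebra R A']
      (φ : A →ₐ[R] A') (q : Polynomial A) (x : A ⊗[R] B),
      Algebra.TensorProduct.map φ (AlgHom.id R B) (Polynomial.eval₂ (algebraMap A (A ⊗[R] B)) x q) =
        Polynomial.eval₂ (algebraMap A' (A' ⊗[R] B))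
          (Algebra.TensorProduct.map φ (AlgHom.id R B) x) (q.map (φ : A →+* A')) := by
    intro A A' _ _ _ _ φ q x
    rw [Polynomial.eval₂_map]
    have := Polynomial.hom_eval₂ q (algebraMap A (A ⊗[R] B))
      (Algebra.TensorProduct.map φ (AlgHom.id R B) : A ⊗[R] B →+* A' ⊗[R] B) x
    refine this.trans ?_
    congr 1
  let w := Polynomial.eval₂ (algebraMap _ (MvPolynomial (T ⊕ Fin d) R ⊗[R] B)) ζ₀ p₀
  have hw : f.toLinearMap.rTensor B w = 0 := by
    change Algebra.TensorProduct.map f (AlgHom.id R B) w = 0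
    rw [hnat f p₀ ζ₀, hζ₀, hp₀f]
    exact hpζ
  obtain ⟨A₁, _, _, hA₁, g, h, hgh, hgw⟩ := exists_finitePresentation_factor_rTensor_eq_zero f w hw
  obtain ⟨T', _, _, hT', g', h', hgh'⟩ := hS A₁ hA₁ h
  haveI := hT'
  let ζT : T' ⊗[R] B := Algebra.TensorProduct.map (g'.comp g) (AlgHom.id R B) ζ₀
  have hζT : IsIntegral T' ζT := by
    refine ⟨p₀.map ((g'.comp g : _ →ₐ[R] T') : _ →+* T'), hp₀.map _, ?_⟩
    rw [← hnat (g'.comp g) p₀ ζ₀]
    change ((g'.toLinearMap ∘ₗ g.toLinearMap).rTensor B) w = 0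
    rw [LinearMap.rTensor_comp_apply, hgw, map_zero]
  obtain ⟨y, hy⟩ := (TensorProduct.toIntegralClosure_bijective_of_smooth (R := R) (S := T')
    (B := B)).2 ⟨ζT, hζT⟩
  refine ⟨h'.toLinearMap.rTensor _ y, Subtype.ext ?_⟩
  rw [toIntegralClosure_val_apply]
  change ((integralClosure R B).val.toLinearMap.lTensor S ∘ₗ h'.toLinearMap.rTensor _) y = ζ
  rw [LinearMap.lTensor_comp_rTensor, ← LinearMap.rTensor_comp_lTensor, LinearMap.comp_apply,
    ← toIntegralClosure_val_apply, hy]
  change Algebra.TensorProduct.map h' (AlgHom.id R B)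
    (Algebra.TensorProduct.map (g'.comp g) (AlgHom.id R B) ζ₀) = ζ
  rw [← hζ₀, ← hgh, ← hgh']
  rw [← AlgHom.comp_apply, ← Algebra.TensorProduct.map_comp]
  rfl

theorem toIntegralClosure_bijective_of_indSmooth (hS : Smoothing.IndSmooth R S) :
    Function.Bijective (TensorProduct.toIntegralClosure R S B) :=
  ⟨toIntegralClosure_injective_of_indSmooth hS, toIntegralClosure_surjective_of_indSmooth hS⟩

end IntegralClosure

end Groth.Agent.Lib.Helper50
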