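import Mathlib
import Groth.Prelude
import Groth.Agent.Lib.Helper50.GeomScheme

/-!
# Purely inseparable field extensions are universal homeomorphisms, scheme version (helper50)
-/

open CategoryTheory AlgebraicGeometry Limits TensorProduct MorphismProperty

namespace Groth.Agent.Lib.Helper50

universe u

theorem universallyInjective_specMap_of_isPurelyInseparable (k K : Type u) [Field k] [Field K]
    [Algebra k K] [IsPurelyInseparable k K] :
    UniversallyInjective (Spec.map (CommRingCat.ofHom (algebraMap k K))) := by
  refine ((tfae_universallyInjective
    (Spec.map (CommRingCat.ofHom (algebraMap k K)))).out 0 1).mpr ?_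
  intro L _ g₁ g₂ hg
  obtain ⟨φ₁, rfl⟩ := Spec.map_surjective g₁
  obtain ⟨φ₂, rfl⟩ := Spec.map_surjective g₂
  simp only [← Spec.map_comp] at hg
  have h := Spec.map_injective hg
  congr 1
  ext1
  apply IsPurelyInseparable.injective_comp_algebraMap k K L
  ext x
  have := congrArg (fun t => t.hom x) h
  simpa using this

/-- A morphism which is universally open, universally injective and surjective is a universal
homeomorphism. -/
theorem isUnivHomeo_of_universallyOpen_of_universallyInjective_of_surjective {X Y : Scheme.{u}}
    (g : X ⟶ Y) [UniversallyOpen g] [UniversallyInjective g] [Surjective g] :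
    FlatMor.IsUnivHomeo g := by
  intro X' Y' i₁ i₂ g' hpb
  have h1 : UniversallyOpen g' := MorphismProperty.of_isPullback hpb.flip inferInstance
  have h2 : UniversallyInjective g' := MorphismProperty.of_isPullback hpb.flip inferInstance
  have h3 : Surjective g' := MorphismProperty.of_isPullback hpb.flip inferInstance
  exact ⟨g'.continuous, g'.isOpenMap, g'.injective, g'.surjective⟩

theorem isUnivHomeo_specMap_of_isPurelyInseparable (k K : Type u) [Field k] [Field K]
    [Algebra k K] [IsPurelyInseparable k K] :
    FlatMor.IsUnivHomeo (Spec.map (CommRingCat.ofHom (algebraMap k K))) := by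
  have := universallyInjective_specMap_of_isPurelyInseparable k K
  have := surjective_specMap_field (algebraMap k K)
  exact isUnivHomeo_of_universallyOpen_of_universallyInjective_of_surjective _

theorem isUnivHomeo_pullback_fst_of_isPurelyInseparable {X : Scheme.{u}} (k K : Type u) [Field k]
    [Field K] [Algebra k K] [IsPurelyInseparable k K] (f : X ⟶ Spec (CommRingCat.of k)) :
    FlatMor.IsUnivHomeo (pullback.fst f (Spec.map (CommRingCat.ofHom (algebraMap k K)))) := by
  have h1 := universallyInjective_specMap_of_isPurelyInseparable k K
  have := surjective_specMap_field (algebraMap k K)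
  have : UniversallyInjective (pullback.fst f (Spec.map (CommRingCat.ofHom (algebraMap k K)))) :=
    MorphismProperty.of_isPullback (IsPullback.of_hasPullback f _).flip h1
  exact isUnivHomeo_of_universallyOpen_of_universallyInjective_of_surjective _

end Groth.Agent.Lib.Helper50
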