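import Mathlib
import Groth.Prelude
import Groth.Agent.Lib.Helper50.GeomReducedScheme
import Groth.Agent.Lib.Helper50.UnivHomeo
import Groth.Agent.Lib.Helper50.IrredCompBC

/-!
# Geometric reducedness at a point can be tested on one perfect extension (helper50)
-/

open CategoryTheory AlgebraicGeometry Limits TensorProduct MorphismProperty

namespace Groth.Agent.Lib.Helper50

universe u

theorem exists_ringHom_of_isPurelyInseparable_of_perfectField (k K Ω : Type u) [Field k] [Field K]
    [Field Ω] [Algebra k K] [Algebra k Ω] [IsPurelyInseparable k K] [PerfectField Ω] :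
    ∃ d : K →+* Ω, d.comp (algebraMap k K) = algebraMap k Ω := by
  let p := ringExpChar k
  haveI : ExpChar k p := ringExpChar.expChar k
  haveI : ExpChar K p := expChar_of_injective_algebraMap (algebraMap k K).injective p
  haveI : ExpChar Ω p := expChar_of_injective_algebraMap (algebraMap k Ω).injective p
  haveI : PerfectRing Ω p := PerfectField.toPerfectRing p
  exact ⟨PerfectRing.lift (algebraMap k K) (algebraMap k Ω) p, PerfectRing.lift_comp _ _ _⟩

/-- Flat morphisms induce injective maps on stalks. -/
theorem stalkMap_injective_of_flat {X Y : Scheme.{u}} (j : X ⟶ Y) [Flat j] (x : X) :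
    Function.Injective (j.stalkMap x) := by
  algebraize [(j.stalkMap x).hom]
  have : Module.FaithfullyFlat (Y.presheaf.stalk (j x)) (X.presheaf.stalk x) :=
    @Module.FaithfullyFlat.of_flat_of_isLocalHom _ _ _ _ _ _ _
      (Flat.stalkMap j x) (j.toLRSHom.prop x)
  exact ‹RingHom.FaithfullyFlat _›.injective

/-- If the local ring of `X_Ω` at one point over `x` is reduced, for a perfect extension `Ω/k`,
then `O_{X,x}` is geometrically reduced over `k`. -/
theorem isGeometricallyReduced_stalk_of_perfect {X : Scheme.{u}} {k Ω : Type u} [Field k]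
    [Field Ω] [Algebra k Ω] [PerfectField Ω] (f : X ⟶ Spec (CommRingCat.of k)) (x : X)
    (φ : k →+* X.presheaf.stalk x)
    (hφ : Spec.map (CommRingCat.ofHom φ) = X.fromSpecStalk x ≫ f)
    (x' : ↥(pullback f (Spec.map (CommRingCat.ofHom (algebraMap k Ω)))))
    (hx' : pullback.fst f (Spec.map (CommRingCat.ofHom (algebraMap k Ω))) x' = x)
    (h : IsReduced ((pullback f (Spec.map (CommRingCat.ofHom (algebraMap k Ω)))).presheaf.stalk x')) :
    letI := φ.toAlgebra
    Algebra.IsGeometricallyReduced k (X.presheaf.stalk x) := by
  apply isGeometricallyReduced_stalk_of_forall_finite_isPurelyInseparable f x φ hφ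
  intro K _ _ _ _ y hy
  obtain ⟨d, hd⟩ := exists_ringHom_of_isPurelyInseparable_of_perfectField k K Ω
  obtain ⟨π, hπ, hπ'⟩ := exists_bcMap f (algebraMap k K) d (algebraMap k Ω) hd.symm
  have hfl : Flat π := MorphismProperty.of_isPullback hπ.flip (flat_specMap_field K Ω d)
  have hinj : Function.Injective
      (pullback.fst f (Spec.map (CommRingCat.ofHom (algebraMap k K)))) := by
    have h1 := universallyInjective_specMap_of_isPurelyInseparable k K
    have : UniversallyInjective (pullback.fst f (Spec.map (CommRingCat.ofHom (algebraMap k K)))) :=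
      MorphismProperty.of_isPullback (IsPullback.of_hasPullback f _).flip h1
    exact Scheme.Hom.injective _
  have hπy : π x' = y := by
    apply hinj
    rw [hy, ← Scheme.Hom.comp_apply, hπ', hx']
  subst hπy
  exact isReduced_of_injective (π.stalkMap x').hom (stalkMap_injective_of_flat π x')

end Groth.Agent.Lib.Helper50
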