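import Mathlib

/-!
# The Galois group of `L/k` acting on `L ⊗[k] K`

`Gal(L/k)` acts transitively on the primes of `L ⊗[k] K` when `L/k` is Galois.
-/

universe u

namespace Groth.Agent.Lib.Helper50

open TensorProduct

section

variable (k L K : Type*) [Field k] [Field L] [Algebra k L] [Field K] [Algebra k K]

/-- The action of `Gal(L/k)` on `L ⊗[k] K` as a monoid hom to the automorphism group. -/
noncomputable def galTensorHom : (L ≃ₐ[k] L) →* ((L ⊗[k] K) ≃ₐ[k] (L ⊗[k] K)) where
  toFun σ := Algebra.TensorProduct.congr σ AlgEquiv.refl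
  map_one' := by
    apply AlgEquiv.ext
    intro x
    induction x with
    | zero => simp
    | tmul a b => simp
    | add x y hx hy => simp only [map_add, hx, hy]
  map_mul' σ τ := by
    apply AlgEquiv.ext
    intro x
    induction x with
    | zero => simp
    | tmul a b => simp [AlgEquiv.mul_apply]
    | add x y hx hy => simp only [map_add, hx, hy]

lemma galTensorHom_apply (σ : L ≃ₐ[k] L) (x : L ⊗[k] K) :
    galTensorHom k L K σ x =
      Algebra.TensorProduct.map (σ : L →ₐ[k] L) (AlgHom.id k K) x := by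
  induction x with
  | zero => simp
  | tmul a b => simp [galTensorHom]
  | add x y hx hy => simp only [map_add, hx, hy]

lemma galTensorHom_tmul (σ : L ≃ₐ[k] L) (a : L) (b : K) :
    galTensorHom k L K σ (a ⊗ₜ[k] b) = σ a ⊗ₜ[k] b := by
  simp [galTensorHom]

/-- The action of `Gal(L/k)` on `L ⊗[k] K`. -/
@[reducible] noncomputable def galTensorAction : MulSemiringAction (L ≃ₐ[k] L) (L ⊗[k] K) :=
  MulSemiringAction.compHom (L ⊗[k] K) (galTensorHom k L K)

/-- The stabilizer of `x : L ⊗[k] K` in `Gal(L/k)`. -/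
def galStab (x : L ⊗[k] K) : Subgroup (L ≃ₐ[k] L) where
  carrier := {σ | galTensorHom k L K σ x = x}
  mul_mem' {σ τ} hσ hτ := by
    simp only [Set.mem_ofPred_eq] at hσ hτ ⊢
    rw [map_mul, AlgEquiv.mul_apply, hτ, hσ]
  one_mem' := by simp
  inv_mem' {σ} hσ := by
    simp only [Set.mem_ofPred_eq] at hσ ⊢
    rw [map_inv]
    conv_lhs => rw [← hσ]
    exact AlgEquiv.symm_apply_apply _ _

lemma mem_galStab {x : L ⊗[k] K} {σ : L ≃ₐ[k] L} :
    σ ∈ galStab k L K x ↔ galTensorHom k L K σ x = x := Iff.rfl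

/-- The stabilizer of every element is open (Krull topology). -/
lemma galStab_isOpen [Algebra.IsIntegral k L] (x : L ⊗[k] K) :
    IsOpen (galStab k L K x : Set (L ≃ₐ[k] L)) := by
  induction x with
  | zero =>
    have : galStab k L K (0 : L ⊗[k] K) = ⊤ := by
      ext σ; simp [mem_galStab]
    rw [this]
    exact isOpen_univ
  | tmul a b =>
    refine Subgroup.isOpen_mono (H₁ := MulAction.stabilizer (L ≃ₐ[k] L) a) ?_
      (stabilizer_isOpen_of_isIntegral a)
    intro σ hσ
    rw [MulAction.mem_stabilizer_iff] at hσ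
    rw [mem_galStab, galTensorHom_tmul]
    congr 1
  | add x y hx hy =>
    refine Subgroup.isOpen_mono (H₁ := galStab k L K x ⊓ galStab k L K y) ?_ (hx.inter hy)
    intro σ hσ
    rw [Subgroup.mem_inf, mem_galStab, mem_galStab] at hσ
    rw [mem_galStab, map_add, hσ.1, hσ.2]

/-- Coordinates (with respect to a `k`-basis of `K`) of `σ • x`. -/
lemma galTensorHom_repr {ι : Type*} (e : Module.Basis ι k K) (σ : L ≃ₐ[k] L) (x : L ⊗[k] K)
    (i : ι) :
    (Algebra.TensorProduct.basis L e).repr (galTensorHom k L K σ x) i =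
      σ ((Algebra.TensorProduct.basis L e).repr x i) := by
  induction x with
  | zero => simp
  | tmul a b =>
    rw [galTensorHom_tmul, Algebra.TensorProduct.basis_repr_tmul,
      Algebra.TensorProduct.basis_repr_tmul]
    simp only [Finsupp.smul_apply, Finsupp.mapRange_apply, smul_eq_mul, map_mul, AlgEquiv.commutes]
  | add x y hx hy =>
    rw [map_add, map_add, map_add, Finsupp.add_apply, Finsupp.add_apply, map_add, hx, hy]

/-- The fixed points of `Gal(L/k)` on `L ⊗[k] K` are exactly `K`, for `L/k` Galois. -/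
lemma exists_one_tmul_eq_of_fixed [IsGalois k L] (x : L ⊗[k] K)
    (hx : ∀ σ : L ≃ₐ[k] L, galTensorHom k L K σ x = x) : ∃ a : K, (1 : L) ⊗ₜ[k] a = x := by
  classical
  let e := Module.Basis.ofVectorSpace k K
  let B := Algebra.TensorProduct.basis L e
  have h1 : ∀ i, B.repr x i ∈ Set.range (algebraMap k L) := by
    intro i
    rw [InfiniteGalois.mem_range_algebraMap_iff_fixed]
    intro σ
    rw [← galTensorHom_repr k L K e σ x i, hx σ]
  let f : L → k := fun c => if h : ∃ d, algebraMap k L d = c then h.choose else 0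
  have hf0 : f 0 = 0 := by
    have h : ∃ d, algebraMap k L d = 0 := ⟨0, map_zero _⟩
    simp only [f, dif_pos h]
    exact (algebraMap k L).injective (h.choose_spec.trans (map_zero _).symm)
  have hf : ∀ c, c ∈ Set.range (algebraMap k L) → algebraMap k L (f c) = c := by
    intro c hc
    have hc' : ∃ d, algebraMap k L d = c := hc
    simp only [f, dif_pos hc']
    exact hc'.choose_spec
  refine ⟨e.repr.symm ((B.repr x).mapRange f hf0), ?_⟩
  apply B.repr.injective
  ext i
  rw [Algebra.TensorProduct.basis_repr_tmul, one_smul, LinearEquiv.apply_symm_apply]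
  simp only [Finsupp.mapRange_apply]
  exact hf _ (h1 i)

attribute [local instance] Algebra.TensorProduct.rightAlgebra in
set_option maxHeartbeats 1000000 in
/-- `Gal(L/k)` acts transitively on the primes of `L ⊗[k] K`, for `L/k` Galois. -/
theorem exists_galTensor_comap_eq [IsGalois k L] (P Q : Ideal (L ⊗[k] K)) [P.IsPrime] [Q.IsPrime] :
    ∃ σ : L ≃ₐ[k] L, Q = P.comap
      (Algebra.TensorProduct.map (σ : L →ₐ[k] L) (AlgHom.id k K)) := by
  have hPQ : P.under K = Q.under K := by
    rw [Ideal.eq_bot_of_prime (P.under K), Ideal.eq_bot_of_prime (Q.under K)]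
  refine Exists.elim (@Algebra.IsInvariant.exists_smul_of_under_eq_of_profinite K (L ⊗[k] K) _ _ _
    (L ≃ₐ[k] L) _ (galTensorAction k L K) ?_ _ _ _ _ (⊥ : TopologicalSpace (L ⊗[k] K))
    (@DiscreteTopology.mk (L ⊗[k] K) ⊥ rfl) ?_ ?_ P Q _ _ hPQ) ?_
  · constructor
    intro σ c x
    change galTensorHom k L K σ (c • x) = c • galTensorHom k L K σ x
    rw [Algebra.smul_def, map_mul, Algebra.smul_def]
    congr 1
    change galTensorHom k L K σ ((1 : L) ⊗ₜ[k] c) = (1 : L) ⊗ₜ[k] c
    rw [galTensorHom_tmul, map_one]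
  · refine (@continuousSMul_iff_stabilizer_isOpen (L ≃ₐ[k] L) (L ⊗[k] K) _ ⊥ _ _
      (galTensorAction k L K).toMulAction (@DiscreteTopology.mk (L ⊗[k] K) ⊥ rfl)).mpr ?_
    intro x
    exact galStab_isOpen k L K x
  · exact @Algebra.IsInvariant.mk K (L ⊗[k] K) (L ≃ₐ[k] L) _ _ _ _ (galTensorAction k L K)
      (fun x hx => exists_one_tmul_eq_of_fixed k L K x hx)
  · intro g hg
    refine ⟨g⁻¹, ?_⟩
    rw [hg, @Ideal.pointwise_smul_eq_comap _ _ _ _ (galTensorAction k L K)]
    ext x
    rw [Ideal.mem_comap, Ideal.mem_comap]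
    have e : (RingEquiv.symm ((@MulSemiringAction.toRingAut (L ≃ₐ[k] L) (L ⊗[k] K) _ _
        (galTensorAction k L K)) g)) x =
        Algebra.TensorProduct.map ((g⁻¹ : L ≃ₐ[k] L) : L →ₐ[k] L) (AlgHom.id k K) x := by
      rw [← galTensorHom_apply]
      rfl
    rw [e]

end

end Groth.Agent.Lib.Helper50
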