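import Mathlib
import Groth.Prelude
import Groth.Agent.Lib.Helper50.GaloisTensor
import Groth.Agent.Lib.Helper50.GeomConnScheme

/-!
# The Galois group acts transitively on the fibres of `X_K ⟶ X` (helper50)
-/

open CategoryTheory AlgebraicGeometry Limits TensorProduct MorphismProperty

namespace Groth.Agent.Lib.Helper50

universe u

/-- Ring-level transitivity in the order `κ ⊗[k] K`. -/
theorem exists_comap_id_tensor_eq (k K κ : Type u) [Field k] [Field K] [Algebra k K] [IsGalois k K]
    [Field κ] [Algebra k κ] (P Q : PrimeSpectrum (κ ⊗[k] K)) :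
    ∃ σ : K ≃ₐ[k] K, Q = PrimeSpectrum.comap
      (Algebra.TensorProduct.map (AlgHom.id k κ) (σ : K →ₐ[k] K)).toRingHom P := by
  let c : κ ⊗[k] K ≃ₐ[k] K ⊗[k] κ := Algebra.TensorProduct.comm k κ K
  let P' : Ideal (K ⊗[k] κ) := P.asIdeal.comap c.symm.toRingHom
  let Q' : Ideal (K ⊗[k] κ) := Q.asIdeal.comap c.symm.toRingHom
  have hP' : P'.IsPrime := Ideal.comap_isPrime _ _
  have hQ' : Q'.IsPrime := Ideal.comap_isPrime _ _
  obtain ⟨σ, hσ⟩ := exists_galTensor_comap_eq k K κ P' Q'
  refine ⟨σ, ?_⟩
  have h2 : ∀ x : κ ⊗[k] K,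
      c.symm.toRingHom ((Algebra.TensorProduct.map (σ : K →ₐ[k] K) (AlgHom.id k κ)) (c x)) =
      (Algebra.TensorProduct.map (AlgHom.id k κ) (σ : K →ₐ[k] K)).toRingHom x := by
    intro x
    induction x with
    | zero => simp
    | tmul a b => simp [c]
    | add x y hx hy => simp only [map_add, hx, hy]
  apply PrimeSpectrum.ext
  ext x
  have h1 : x ∈ Q.asIdeal ↔ c x ∈ Q' := by
    simp [Q', Ideal.mem_comap]
  rw [h1, hσ]
  simp only [Ideal.mem_comap, P', PrimeSpectrum.comap_asIdeal]
  rw [h2]


/-- The Galois group acts transitively on the fibres of `X_K ⟶ X`: any two points of `X_K` with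
the same image in `X` are exchanged by (any morphism realizing) the action of some `σ`. -/
theorem exists_galAct_eq {X : Scheme.{u}} {k K : Type u} [Field k] [Field K] [Algebra k K]
    [IsGalois k K] (f : X ⟶ Spec (CommRingCat.of k))
    (t y : ↥(pullback f (Spec.map (CommRingCat.ofHom (algebraMap k K)))))
    (h : pullback.fst f (Spec.map (CommRingCat.ofHom (algebraMap k K))) t =
      pullback.fst f (Spec.map (CommRingCat.ofHom (algebraMap k K))) y) :
    ∃ σ : K ≃ₐ[k] K, ∀ (a : pullback f (Spec.map (CommRingCat.ofHom (algebraMap k K))) ⟶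
        pullback f (Spec.map (CommRingCat.ofHom (algebraMap k K)))),
      a ≫ pullback.fst f _ = pullback.fst f _ →
      a ≫ pullback.snd f _ = pullback.snd f _ ≫
        Spec.map (CommRingCat.ofHom (σ : K →ₐ[k] K).toRingHom) → a t = y := by
  let g := Spec.map (CommRingCat.ofHom (algebraMap k K))
  let p := pullback.fst f g
  let x := p t
  obtain ⟨φ, hφ⟩ := exists_ringHom_residueField f x
  letI := φ.toAlgebra
  let r := X.fromSpecResidueField x
  let W := pullback (Spec.map (CommRingCat.ofHom φ)) g
  let j : W ⟶ pullback f g :=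
    pullback.map _ _ _ _ r (𝟙 _) (𝟙 _) (by rw [Category.comp_id, hφ]) (by simp)
  let eW : W ≅ Spec (CommRingCat.of (X.residueField x ⊗[k] K)) :=
    pullbackSpecIso k (X.residueField x) K
  have hjfst : j ≫ pullback.fst f g = pullback.fst _ _ ≫ r := pullback.lift_fst _ _ _
  have hjsnd : j ≫ pullback.snd f g = pullback.snd _ _ :=
    (pullback.lift_snd _ _ _).trans (Category.comp_id _)
  -- surjectivity of `j` onto the fibre
  have hsurj : ∀ z : ↥(pullback f g), p z = x → ∃ w : ↥W, j w = z := by
    intro z hz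
    have hz' : r (IsLocalRing.closedPoint (X.residueField x)) = p z := by
      rw [hz]; exact Scheme.fromSpecResidueField_apply _ _
    obtain ⟨c, -, hc⟩ := Scheme.Pullback.exists_preimage_pullback _ _ hz'
    let i : pullback r p ≅ W :=
      pullbackRightPullbackFstIso f g r ≪≫ pullback.congrHom hφ.symm rfl
    have hi : i.hom ≫ j = pullback.snd r p := by
      apply pullback.hom_ext
      · rw [Category.assoc, hjfst]
        simp only [i, Iso.trans_hom, Category.assoc, pullback.congrHom_hom]
        erw [pullback.lift_fst_assoc]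
        rw [Category.comp_id, pullbackRightPullbackFstIso_hom_fst_assoc, pullback.condition]
      · rw [Category.assoc, hjsnd]
        simp only [i, Iso.trans_hom, Category.assoc, pullback.congrHom_hom]
        erw [pullback.lift_snd]
        rw [Category.comp_id, pullbackRightPullbackFstIso_hom_snd]
    refine ⟨i.hom c, ?_⟩
    rw [← Scheme.Hom.comp_apply, hi]
    exact hc
  obtain ⟨wt, hwt⟩ := hsurj t rfl
  obtain ⟨wy, hwy⟩ := hsurj y h.symm
  let Pt : PrimeSpectrum (X.residueField x ⊗[k] K) := eW.hom wt
  let Py : PrimeSpectrum (X.residueField x ⊗[k] K) := eW.hom wy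
  obtain ⟨σ, hσ⟩ := exists_comap_id_tensor_eq k K (X.residueField x) Pt Py
  refine ⟨σ, fun a ha1 ha2 => ?_⟩
  let τ : X.residueField x ⊗[k] K →+* X.residueField x ⊗[k] K :=
    (Algebra.TensorProduct.map (AlgHom.id k (X.residueField x)) (σ : K →ₐ[k] K)).toRingHom
  let aW : W ⟶ W := eW.hom ≫ Spec.map (CommRingCat.ofHom τ) ≫ eW.inv
  have haW1 : aW ≫ pullback.fst _ _ = pullback.fst _ _ := by
    simp only [aW, Category.assoc]
    erw [pullbackSpecIso_inv_fst k (X.residueField x) K]
    rw [← Spec.map_comp, ← CommRingCat.ofHom_comp]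
    have : τ.comp (Algebra.TensorProduct.includeLeftRingHom) =
        (Algebra.TensorProduct.includeLeftRingHom :
          X.residueField x →+* X.residueField x ⊗[k] K) := by
      ext a; simp [τ]
    rw [this]
    exact pullbackSpecIso_hom_fst k (X.residueField x) K
  have haW2 : aW ≫ pullback.snd _ _ = pullback.snd _ _ ≫
      Spec.map (CommRingCat.ofHom (σ : K →ₐ[k] K).toRingHom) := by
    simp only [aW, Category.assoc]
    erw [pullbackSpecIso_inv_snd k (X.residueField x) K]
    rw [← Spec.map_comp, ← CommRingCat.ofHom_comp]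
    have : τ.comp (Algebra.TensorProduct.includeRight :
        K →ₐ[k] X.residueField x ⊗[k] K).toRingHom =
        (Algebra.TensorProduct.includeRight :
          K →ₐ[k] X.residueField x ⊗[k] K).toRingHom.comp (σ : K →ₐ[k] K).toRingHom := by
      ext a; simp [τ]
    simp only [AlgHom.toRingHom_eq_coe] at this ⊢
    rw [this, CommRingCat.ofHom_comp, Spec.map_comp]
    erw [pullbackSpecIso_hom_snd_assoc k (X.residueField x) K]
  have hcomm : j ≫ a = aW ≫ j := by
    apply pullback.hom_ext
    · rw [Category.assoc, ha1, hjfst, Category.assoc, hjfst, ← Category.assoc, haW1]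
    · rw [Category.assoc, ha2, ← Category.assoc, hjsnd, Category.assoc, hjsnd, haW2]
  have h1 : a t = j (aW wt) := by
    rw [← hwt, ← Scheme.Hom.comp_apply, hcomm, Scheme.Hom.comp_apply]
  have h2 : aW wt = wy := by
    have h3 : eW.hom (aW wt) = eW.hom wy := by
      simp only [aW, Scheme.Hom.comp_apply]
      rw [Scheme.inv_hom_apply]
      exact hσ.symm
    have := congrArg (fun z => eW.inv z) h3
    simpa [Scheme.hom_inv_apply] using this
  rw [h1, h2, hwy]

end Groth.Agent.Lib.Helper50
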