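import Mathlib
import Groth.Prelude.Def_Curv2
import Groth.Agent.Lib.Helper50.GaloisBC
import Groth.Agent.Lib.Helper50.IrredCompBC
import Groth.Agent.Lib.Helper50.NoethLocus

/-!
# Galois orbits of irreducible components (helper50)
-/

open CategoryTheory AlgebraicGeometry Limits TopologicalSpace

namespace Groth.Agent.Lib.Helper50

universe u

theorem galAct_comp_galAct_symm (k : Type u) [Field k] (X : Scheme.{u})
    [X.Over (Spec (CommRingCat.of k))] (K : Type u) [Field K] [Algebra k K] (σ : K ≃ₐ[k] K) :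
    Curv2.galAct k X K σ ≫ Curv2.galAct k X K σ.symm = 𝟙 _ := by
  have h1 : ∀ τ : K ≃ₐ[k] K, Curv2.galAct k X K τ ≫ pullback.fst _ _ = pullback.fst _ _ := by
    intro τ
    unfold Curv2.galAct
    rw [pullback.lift_fst, Category.comp_id]
  have h2 : ∀ τ : K ≃ₐ[k] K, Curv2.galAct k X K τ ≫ pullback.snd _ _ =
      pullback.snd _ _ ≫ Spec.map (CommRingCat.ofHom (τ : K →ₐ[k] K).toRingHom) := by
    intro τ
    unfold Curv2.galAct
    rw [pullback.lift_snd]
  apply pullback.hom_ext
  · rw [Category.assoc, h1, h1, Category.id_comp]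
  · rw [Category.assoc, h2, ← Category.assoc, h2, Category.assoc, ← Spec.map_comp,
      ← CommRingCat.ofHom_comp, Category.id_comp]
    have : ((σ : K →ₐ[k] K).toRingHom).comp ((σ.symm : K →ₐ[k] K).toRingHom) = RingHom.id K := by
      ext x; simp
    rw [this, CommRingCat.ofHom_id, Spec.map_id, Category.comp_id]

theorem isIso_galAct (k : Type u) [Field k] (X : Scheme.{u})
    [X.Over (Spec (CommRingCat.of k))] (K : Type u) [Field K] [Algebra k K] (σ : K ≃ₐ[k] K) :
    IsIso (Curv2.galAct k X K σ) := by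
  refine ⟨Curv2.galAct k X K σ.symm, galAct_comp_galAct_symm k X K σ, ?_⟩
  have := galAct_comp_galAct_symm k X K σ.symm
  rwa [AlgEquiv.symm_symm] at this

end Groth.Agent.Lib.Helper50

namespace Groth.Agent.Lib.Helper50

universe u

/-- Components of `X_K` over a component `T` of `X`: finiteness, covering of the preimage, and
transitivity of the Galois action. -/
theorem galois_components (k : Type u) [Field k] (X : Scheme.{u})
    [X.Over (Spec (CommRingCat.of k))] [LocallyOfFiniteType (X ↘ (Spec (CommRingCat.of k)))]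
    (K : Type u) [Field K] [Algebra k K] [IsGalois k K]
    (T : Set X) (hT : T ∈ irreducibleComponents (X : Type u)) :
    {T' : Set (Curv2.bc k X K) | T' ∈ irreducibleComponents (Curv2.bc k X K : Type u) ∧
        (Curv2.bcFst k X K).base '' T' ⊆ T}.Finite ∧
      (Curv2.bcFst k X K).base ⁻¹' T = ⋃₀ {T' : Set (Curv2.bc k X K) |
        T' ∈ irreducibleComponents (Curv2.bc k X K : Type u) ∧
        (Curv2.bcFst k X K).base '' T' ⊆ T} ∧
      ∀ T' T'' : Set (Curv2.bc k X K), T' ∈ irreducibleComponents (Curv2.bc k X K : Type u) →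
        T'' ∈ irreducibleComponents (Curv2.bc k X K : Type u) →
        (Curv2.bcFst k X K).base '' T' ⊆ T → (Curv2.bcFst k X K).base '' T'' ⊆ T →
        ∃ σ : K ≃ₐ[k] K, (Curv2.galAct k X K σ).base '' T' = T'' := by
  let f := (X ↘ Spec (CommRingCat.of k))
  let g := Spec.map (CommRingCat.ofHom (algebraMap k K))
  let p : pullback f g ⟶ X := pullback.fst f g
  have hfl : Flat p := MorphismProperty.pullback_fst _ _ (flat_specMap_field k K _)
  have hgen : GeneralizingMap p := Flat.generalizingMap p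
  obtain ⟨hbc1, -⟩ := irreducibleComponents_bc (K := K) f
  have hTcl : IsClosed T := isClosed_of_mem_irreducibleComponents T hT
  have hTirr : IsIrreducible T := hT.1
  obtain ⟨η, hη⟩ := QuasiSober.sober hTirr hTcl
  -- Claim A
  have hA : ∀ T' ∈ irreducibleComponents ↥(pullback f g), p '' T' ⊆ T → p '' T' = T := by
    intro T' hT' hsub
    exact Set.Subset.antisymm hsub ((hbc1 T' hT').2 hTirr hsub)
  -- generic points
  have hG : ∀ T' ∈ irreducibleComponents ↥(pullback f g), p '' T' ⊆ T →
      ∃ ξ, IsGenericPoint ξ T' ∧ p ξ = η := by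
    intro T' hT' hsub
    obtain ⟨ξ, hξ⟩ := QuasiSober.sober hT'.1 (isClosed_of_mem_irreducibleComponents T' hT')
    refine ⟨ξ, hξ, ?_⟩
    have h1 : IsGenericPoint (p ξ) T := by
      have h2 := hξ.image p.continuous
      rw [hA T' hT' hsub, hTcl.closure_eq] at h2
      exact h2
    exact h1.eq hη
  refine ⟨?_, ?_, ?_⟩
  · -- finiteness
    have hLN : IsLocallyNoetherian (pullback f g) :=
      LocallyOfFiniteType.isLocallyNoetherian (pullback.snd f g)
    obtain ⟨_, ⟨U, hU, rfl⟩, hηU, -⟩ :=
      X.isBasis_affineOpens.exists_subset_of_mem_open (Set.mem_univ η) isOpen_univ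
    have haff : IsAffineHom p := MorphismProperty.pullback_fst _ _ inferInstance
    have hU' : IsAffineOpen (p ⁻¹ᵁ U) := hU.preimage p
    have hfin := finite_setOf_closure_mem_irreducibleComponents hU'
    refine (hfin.image (fun ξ => closure {ξ})).subset ?_
    rintro T' ⟨hT', hsub⟩
    obtain ⟨ξ, hξ, hpξ⟩ := hG T' hT' hsub
    refine ⟨ξ, ⟨?_, ?_⟩, hξ.def⟩
    · show p ξ ∈ U
      rw [hpξ]; exact hηU
    · rw [hξ.def]; exact hT'
  · -- covering
    apply Set.Subset.antisymm
    · intro x' hx'
      have hx'T : p x' ∈ T := hx'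
      have hspec : η ⤳ p x' := by
        rw [specializes_iff_mem_closure, hη.def]; exact hx'T
      obtain ⟨ξ', hξ', hpξ'⟩ := hgen hspec
      obtain ⟨T', hT', hξ'T'⟩ := exists_mem_irreducibleComponents_subset_of_isIrreducible
        ({ξ'} : Set ↥(pullback f g)) isIrreducible_singleton
      have hξ'mem : ξ' ∈ T' := hξ'T' rfl
      have hx'mem : x' ∈ T' :=
        (isClosed_of_mem_irreducibleComponents T' hT').closure_subset_iff.mpr
          (Set.singleton_subset_iff.mpr hξ'mem) (specializes_iff_mem_closure.mp hξ')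
      have hcomp := hbc1 T' hT'
      have hηmem : η ∈ p '' T' := ⟨ξ', hξ'mem, hpξ'⟩
      have hTsub : T ⊆ p '' T' := by
        rw [← hη.def]
        exact (isClosed_of_mem_irreducibleComponents _ hcomp).closure_subset_iff.mpr
          (Set.singleton_subset_iff.mpr hηmem)
      exact ⟨T', ⟨hT', hT.2 hcomp.1 hTsub⟩, hx'mem⟩
    · rintro x' ⟨T', ⟨hT', hsub⟩, hx'⟩
      exact hsub ⟨x', hx', rfl⟩
  · -- orbit
    intro T' T'' hT' hT'' hsub' hsub''
    obtain ⟨ξ', hξ', hpξ'⟩ := hG T' hT' hsub'
    obtain ⟨ξ'', hξ'', hpξ''⟩ := hG T'' hT'' hsub''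
    obtain ⟨σ, hσ⟩ := exists_galAct_eq f ξ' ξ'' (hpξ'.trans hpξ''.symm)
    refine ⟨σ, ?_⟩
    have h1 : Curv2.galAct k X K σ ξ' = ξ'' := by
      apply hσ
      · unfold Curv2.galAct
        rw [Limits.pullback.lift_fst, Category.comp_id]
      · unfold Curv2.galAct
        rw [Limits.pullback.lift_snd]
    have hiso := isIso_galAct k X K σ
    have h2 := (Curv2.galAct k X K σ).homeomorph.image_closure {ξ'}
    rw [hξ'.def, Set.image_singleton] at h2
    have h3 : (Curv2.galAct k X K σ).homeomorph ξ' = ξ'' := h1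
    rw [h3, hξ''.def] at h2
    exact h2

end Groth.Agent.Lib.Helper50
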