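import Mathlib

/-!
# Locally Noetherian fibres under base change (helper50)

For a cartesian square of schemes with `g : Y' ⟶ Y` surjective and locally of finite type, `f` has
locally Noetherian fibres iff its base change `f'` has.
-/

set_option autoImplicit false
universe u
open AlgebraicGeometry CategoryTheory Limits TensorProduct

namespace Groth.Agent.Lib.Helper50.FibreNoeth

theorem isNoetherianRing_of_faithfullyFlat {R S : Type u} [CommRing R] [CommRing S] [Algebra R S]
    [Module.FaithfullyFlat R S] [IsNoetherianRing S] : IsNoetherianRing R := by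
  rw [isNoetherianRing_iff, isNoetherian_iff'] at *
  have hmono : StrictMono (Ideal.map (algebraMap R S)) :=
    Monotone.strictMono_of_injective (fun _ _ h => Ideal.map_mono h)
      Ideal.map_injective_of_faithfullyFlat
  exact hmono.wellFoundedGT

/-- Base change along an essentially finite type ring map preserves local Noetherianity. -/
theorem isLocallyNoetherian_pullback_of_essFiniteType {Z : Scheme.{u}} {k K : CommRingCat.{u}}
    (q : Z ⟶ Spec k) (φ : k ⟶ K) (hφ : φ.hom.EssFiniteType) [IsLocallyNoetherian Z] :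
    IsLocallyNoetherian (pullback q (Spec.map φ)) := by
  change id (IsLocallyNoetherian _)
  wlog hZ : ∃ S, Z = Spec S generalizing Z
  · exact (isLocallyNoetherian_iff_openCover
      (Scheme.Pullback.openCoverOfLeft Z.affineCover q (Spec.map φ))).mpr
      fun i => this (Z.affineCover.f i ≫ q) ⟨_, rfl⟩
  obtain ⟨S, rfl⟩ := hZ
  obtain ⟨ψ, rfl⟩ := Spec.map_surjective q
  algebraize [ψ.hom, φ.hom]
  have hS : IsNoetherianRing S := isLocallyNoetherian_Spec.mp ‹_›
  have : IsNoetherianRing (S ⊗[k] K) := Algebra.EssFiniteType.isNoetherianRing S (S ⊗[k] K)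
  exact isLocallyNoetherian_of_isOpenImmersion (pullbackSpecIso k S K).hom


theorem isNoetherianRing_of_pullback_Spec {S k K : CommRingCat.{u}} (ψ : k ⟶ S) (φ : k ⟶ K)
    (hφ : φ.hom.FaithfullyFlat)
    (h : IsLocallyNoetherian (pullback (Spec.map ψ) (Spec.map φ))) : IsNoetherianRing S := by
  algebraize [ψ.hom, φ.hom]
  have h1 : IsLocallyNoetherian (Spec (.of (S ⊗[k] K))) :=
    isLocallyNoetherian_of_isOpenImmersion (pullbackSpecIso k S K).inv
  have h2 : IsNoetherianRing (S ⊗[k] K) := isLocallyNoetherian_Spec.mp h1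
  haveI : Module.FaithfullyFlat k K := RingHom.faithfullyFlat_algebraMap_iff.mp hφ
  haveI : Module.FaithfullyFlat S (S ⊗[k] K) := inferInstance
  exact isNoetherianRing_of_faithfullyFlat (R := S) (S := S ⊗[k] K)

/-- Local Noetherianity descends along faithfully flat base change of the base ring. -/
theorem isLocallyNoetherian_of_pullback_of_faithfullyFlat {Z : Scheme.{u}} {k K : CommRingCat.{u}}
    (q : Z ⟶ Spec k) (φ : k ⟶ K) (hφ : φ.hom.FaithfullyFlat)
    (h : IsLocallyNoetherian (pullback q (Spec.map φ))) : IsLocallyNoetherian Z := by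
  rw [isLocallyNoetherian_iff_openCover Z.affineCover]
  intro i
  have h1 : IsLocallyNoetherian (pullback (Z.affineCover.f i ≫ q) (Spec.map φ)) :=
    (isLocallyNoetherian_iff_openCover
      (Scheme.Pullback.openCoverOfLeft Z.affineCover q (Spec.map φ))).mp h i
  obtain ⟨ψ, hψ⟩ := Spec.map_surjective (Z.affineCover.f i ≫ q)
  have h2 : IsLocallyNoetherian (pullback (Spec.map ψ) (Spec.map φ)) := by
    rw [hψ]
    exact h1
  exact isLocallyNoetherian_Spec.mpr (isNoetherianRing_of_pullback_Spec ψ φ hφ h2)


theorem faithfullyFlat_of_field {k K : Type u} [Field k] [CommRing K] [Nontrivial K]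
    (φ : k →+* K) : φ.FaithfullyFlat := by
  algebraize [φ]
  rw [← RingHom.algebraMap_toAlgebra φ, RingHom.faithfullyFlat_algebraMap_iff]
  infer_instance

theorem isLocallyNoetherian_fiber_iff {X Y X' Y' : Scheme.{u}} {f : X ⟶ Y} {f' : X' ⟶ Y'}
    {g' : X' ⟶ X} {g : Y' ⟶ Y} [LocallyOfFiniteType g] (hc : IsPullback g' f' f g) (y' : Y') :
    IsLocallyNoetherian (f'.fiber y') ↔ IsLocallyNoetherian (f.fiber (g y')) := by
  have hpb := isPullback_fiberToSpecResidueField_of_isPullback hc y'
  constructor
  · intro h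
    have h1 : IsLocallyNoetherian (pullback (f.fiberToSpecResidueField (g y'))
        (Spec.map (g.residueFieldMap y'))) :=
      @isLocallyNoetherian_of_isOpenImmersion _ (f'.fiber y') hpb.isoPullback.inv _ h
    exact isLocallyNoetherian_of_pullback_of_faithfullyFlat _ _
      (faithfullyFlat_of_field _) h1
  · intro h
    have h1 : IsLocallyNoetherian (pullback (f.fiberToSpecResidueField (g y'))
        (Spec.map (g.residueFieldMap y'))) :=
      @isLocallyNoetherian_pullback_of_essFiniteType (f.fiber (g y')) _ _ _ _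
        (RingHom.EssFiniteType.residueFieldMap (LocallyOfFiniteType.stalkMap g y')) h
    exact @isLocallyNoetherian_of_isOpenImmersion (f'.fiber y') _ hpb.isoPullback.hom _ h1

theorem forall_isLocallyNoetherian_fiber_iff {X Y X' Y' : Scheme.{u}} {f : X ⟶ Y} {f' : X' ⟶ Y'}
    {g' : X' ⟶ X} {g : Y' ⟶ Y} [LocallyOfFiniteType g] [Surjective g]
    (hc : IsPullback g' f' f g) :
    (∀ y : Y, IsLocallyNoetherian (f.fiber y)) ↔ (∀ y' : Y', IsLocallyNoetherian (f'.fiber y')) := by
  constructor
  · intro h y'
    exact (isLocallyNoetherian_fiber_iff hc y').mpr (h (g y'))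
  · intro h y
    obtain ⟨y', rfl⟩ := g.surjective y
    exact (isLocallyNoetherian_fiber_iff hc y').mp (h y')

end Groth.Agent.Lib.Helper50.FibreNoeth
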