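import Mathlib.Topology.Spectral.Basic
import Mathlib.Topology.Connected.Clopen
import Mathlib.Topology.QuasiSeparated
import Mathlib.Topology.Separation.Regular

/-!
# Connected components of (pre)spectral spaces are intersections of clopen sets
(Stacks 04PL)
-/

open Set Topology

namespace Groth.Agent.Lib.Helper50

variable {X : Type*} [TopologicalSpace X]

/-- In a quasi-compact, quasi-separated space with a basis of quasi-compact opens, the connected
component of a point is the intersection of its clopen neighbourhoods. -/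
theorem connectedComponent_eq_iInter_isClopen_of_prespectral
    [CompactSpace X] [QuasiSeparatedSpace X] [PrespectralSpace X] (x : X) :
    connectedComponent x = ⋂ s : { s : Set X // IsClopen s ∧ x ∈ s }, s := by
  apply Subset.antisymm connectedComponent_subset_iInter_isClopen
  refine IsPreconnected.subset_connectedComponent ?_ (mem_iInter.2 fun s => s.2.2)
  have hs : @IsClosed X _ (⋂ s : { s : Set X // IsClopen s ∧ x ∈ s }, s) :=
    isClosed_iInter fun s => s.2.1.1
  set S : Set X := ⋂ s : { s : Set X // IsClopen s ∧ x ∈ s }, s with hS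
  have hxS : x ∈ S := mem_iInter.2 fun s => s.2.2
  rw [isPreconnected_iff_subset_of_fully_disjoint_closed hs]
  intro a b ha hb hab ab_disj
  -- compact opens separating `S ∩ a` from `b` and `S ∩ b` from `a`
  obtain ⟨U, hUc, hUo, hBU, hUb⟩ := PrespectralSpace.exists_isCompact_and_isOpen_between
    (K := S ∩ a) (U := bᶜ) (hs.inter ha).isCompact hb.isOpen_compl
    (fun y hy => fun hyb => (Set.disjoint_left.mp ab_disj) hy.2 hyb)
  obtain ⟨V, hVc, hVo, hCV, hVa⟩ := PrespectralSpace.exists_isCompact_and_isOpen_between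
    (K := S ∩ b) (U := aᶜ) (hs.inter hb).isCompact ha.isOpen_compl
    (fun y hy => fun hya => (Set.disjoint_left.mp ab_disj) hya hy.2)
  have hSUV : S ⊆ U ∪ V := by
    intro y hy
    rcases hab hy with h | h
    · exact Or.inl (hBU ⟨hy, h⟩)
    · exact Or.inr (hCV ⟨hy, h⟩)
  have hUVS : U ∩ V ∩ S = ∅ := by
    ext y
    simp only [mem_inter_iff, mem_empty_iff_false, iff_false, not_and]
    rintro ⟨hyU, hyV⟩ hyS
    rcases hab hyS with h | h
    · exact hVa hyV h
    · exact hUb hyU h
  -- a clopen neighbourhood of `x` disjoint from `U ∩ V`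
  obtain ⟨Z1, hZ1, hxZ1, hZ1UV⟩ : ∃ Z : Set X, IsClopen Z ∧ x ∈ Z ∧ U ∩ V ∩ Z = ∅ := by
    have H1 := (QuasiSeparatedSpace.inter_isCompact U V hUo hUc hVo hVc).inter_iInter_nonempty
      (fun s : { s : Set X // IsClopen s ∧ x ∈ s } => s) fun s => s.2.1.1
    rw [← not_imp_not] at H1
    simp only [not_forall, not_nonempty_iff_eq_empty] at H1
    obtain ⟨si, H2⟩ := H1 hUVS
    exact ⟨⋂ U ∈ si, Subtype.val U, isClopen_biInter_finset fun s _ => s.2.1,
      mem_iInter₂.2 fun s _ => s.2.2, H2⟩
  -- a clopen neighbourhood of `x` contained in `U ∪ V`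
  obtain ⟨Z2, hZ2, hxZ2, hZ2UV⟩ : ∃ Z : Set X, IsClopen Z ∧ x ∈ Z ∧ Z ⊆ U ∪ V := by
    have H1 := (hUo.union hVo).isClosed_compl.isCompact.inter_iInter_nonempty
      (fun s : { s : Set X // IsClopen s ∧ x ∈ s } => s) fun s => s.2.1.1
    rw [← not_disjoint_iff_nonempty_inter, imp_not_comm, not_forall] at H1
    obtain ⟨si, H2⟩ := H1 (disjoint_compl_left_iff_subset.2 hSUV)
    refine ⟨⋂ U ∈ si, Subtype.val U, isClopen_biInter_finset fun s _ => s.2.1,
      mem_iInter₂.2 fun s _ => s.2.2, ?_⟩
    rwa [← disjoint_compl_left_iff_subset, disjoint_iff_inter_eq_empty,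
      ← not_nonempty_iff_eq_empty]
  set Z := Z1 ∩ Z2 with hZ
  have hZc : IsClopen Z := hZ1.inter hZ2
  have hxZ : x ∈ Z := ⟨hxZ1, hxZ2⟩
  have hcover : Z ⊆ (U ∩ Z) ∪ (V ∩ Z) := by
    intro y hy
    rcases hZ2UV hy.2 with h | h
    · exact Or.inl ⟨h, hy⟩
    · exact Or.inr ⟨h, hy⟩
  have hdisj : Disjoint (U ∩ Z) (V ∩ Z) := by
    rw [Set.disjoint_left]
    rintro y ⟨hyU, hyZ⟩ ⟨hyV, _⟩
    have : y ∈ U ∩ V ∩ Z1 := ⟨⟨hyU, hyV⟩, hyZ.1⟩
    rw [hZ1UV] at this
    exact this
  have H1 : IsClopen (Z ∩ (U ∩ Z)) :=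
    isClopen_inter_of_disjoint_cover_clopen hZc hcover (hUo.inter hZc.2) (hVo.inter hZc.2) hdisj
  have H2 : IsClopen (Z ∩ (V ∩ Z)) := by
    rw [union_comm] at hcover
    exact isClopen_inter_of_disjoint_cover_clopen hZc hcover (hVo.inter hZc.2) (hUo.inter hZc.2)
      hdisj.symm
  rcases hSUV hxS with hxU | hxV
  · left
    have hSU : S ⊆ U := by
      refine Subset.trans (iInter_subset (fun s : { s : Set X // IsClopen s ∧ x ∈ s } => s.1)
        ⟨Z ∩ (U ∩ Z), H1, ⟨hxZ, hxU, hxZ⟩⟩) ?_
      intro y hy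
      exact hy.2.1
    intro y hy
    rcases hab hy with h | h
    · exact h
    · exact absurd h (hUb (hSU hy))
  · right
    have hSV : S ⊆ V := by
      refine Subset.trans (iInter_subset (fun s : { s : Set X // IsClopen s ∧ x ∈ s } => s.1)
        ⟨Z ∩ (V ∩ Z), H2, ⟨hxZ, hxV, hxZ⟩⟩) ?_
      intro y hy
      exact hy.2.1
    intro y hy
    rcases hab hy with h | h
    · exact absurd h (hVa (hSV hy))
    · exact h

/-- In a quasi-compact, quasi-separated space with a basis of quasi-compact opens, a closed set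
which is a union of connected components is an intersection of clopen sets: any point outside
is separated from it by a clopen set. -/
theorem exists_isClopen_of_closed_union_connectedComponents
    [CompactSpace X] [QuasiSeparatedSpace X] [PrespectralSpace X] {T : Set X}
    (hT : IsClosed T) (hTc : ∀ x ∈ T, connectedComponent x ⊆ T) {y : X} (hy : y ∉ T) :
    ∃ Z : Set X, IsClopen Z ∧ T ⊆ Z ∧ y ∉ Z := by
  have hdisj : T ∩ connectedComponent y = ∅ := by
    ext z
    simp only [mem_inter_iff, mem_empty_iff_false, iff_false, not_and]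
    intro hzT hzy
    apply hy
    have : connectedComponent z = connectedComponent y := (connectedComponent_eq hzy).symm
    exact hTc z hzT (this ▸ mem_connectedComponent)
  rw [connectedComponent_eq_iInter_isClopen_of_prespectral y] at hdisj
  have H1 := hT.isCompact.inter_iInter_nonempty
    (fun s : { s : Set X // IsClopen s ∧ y ∈ s } => s) fun s => s.2.1.1
  rw [← not_imp_not] at H1
  simp only [not_forall, not_nonempty_iff_eq_empty] at H1
  obtain ⟨si, H2⟩ := H1 hdisj
  refine ⟨(⋂ U ∈ si, Subtype.val U)ᶜ, (isClopen_biInter_finset fun s _ => s.2.1).compl, ?_, ?_⟩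
  · intro z hz hz'
    have : z ∈ T ∩ ⋂ U ∈ si, Subtype.val U := ⟨hz, hz'⟩
    rw [H2] at this
    exact this
  · intro h
    exact h (mem_iInter₂.2 fun s _ => s.2.2)

end Groth.Agent.Lib.Helper50
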