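import Mathlib
import Groth.Agent.Lib.Helper55.KrullDimIntegral
import Groth.Agent.Lib.Helper55.DimTrdeg

/-! Morphisms from affine schemes to affine space over a field, and dimension (helper50). -/

set_option autoImplicit false
universe u
open AlgebraicGeometry CategoryTheory TopologicalSpace Topology

namespace Groth.Agent.Lib.Helper50.AffSpaceMaps

/-- dimension of an affine scheme -/
theorem topologicalKrullDim_eq_of_isAffine (Y : Scheme.{u}) [IsAffine Y] :
    topologicalKrullDim Y = ringKrullDim Γ(Y, ⊤) := by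
  rw [← PrimeSpectrum.topologicalKrullDim_eq_ringKrullDim]
  exact IsHomeomorph.topologicalKrullDim_eq _ (Scheme.homeoOfIso Y.isoSpec).isHomeomorph

variable {k : Type u} [Field k] (n : Type u)

/-- the structure ring map `k → Γ(Y, ⊤)` of a `k`-scheme -/
noncomputable def strMap {Y : Scheme.{u}} (h : Y ⟶ Spec (CommRingCat.of k)) :
    CommRingCat.of k ⟶ Γ(Y, ⊤) :=
  (Scheme.ΓSpecIso (CommRingCat.of k)).inv ≫ h.appTop

theorem toSpecΓ_strMap {Y : Scheme.{u}} (h : Y ⟶ Spec (CommRingCat.of k)) :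
    Y.toSpecΓ ≫ Spec.map (strMap h) = h := by
  rw [strMap, Spec.map_comp, ← Scheme.toSpecΓ_naturality_assoc]
  rw [← SpecMap_ΓSpecIso_hom, ← Spec.map_comp, Iso.inv_hom_id, Spec.map_id, Category.comp_id]

/-- the morphism to affine space attached to a ring map out of the polynomial ring -/
noncomputable def toAff {Y : Scheme.{u}} (φ : CommRingCat.of (MvPolynomial n k) ⟶ Γ(Y, ⊤)) :
    Y ⟶ 𝔸(n; Spec (CommRingCat.of k)) :=
  Y.toSpecΓ ≫ Spec.map φ ≫ (AffineSpace.SpecIso n (CommRingCat.of k)).inv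

theorem toAff_over {Y : Scheme.{u}} (h : Y ⟶ Spec (CommRingCat.of k))
    (φ : CommRingCat.of (MvPolynomial n k) ⟶ Γ(Y, ⊤))
    (hφ : CommRingCat.ofHom MvPolynomial.C ≫ φ = strMap h) :
    toAff n φ ≫ (𝔸(n; Spec (CommRingCat.of k)) ↘ Spec (CommRingCat.of k)) = h := by
  rw [toAff, Category.assoc, Category.assoc, AffineSpace.SpecIso_inv_over, ← Spec.map_comp, hφ,
    toSpecΓ_strMap]

theorem toAff_isFinite {Y : Scheme.{u}} [IsAffine Y]
    (φ : CommRingCat.of (MvPolynomial n k) ⟶ Γ(Y, ⊤)) (hφ : φ.hom.Finite) :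
    IsFinite (toAff n φ) := by
  have : IsFinite (Spec.map φ) := (IsFinite.SpecMap_iff φ).mpr hφ
  unfold toAff
  infer_instance

theorem toAff_surjective {Y : Scheme.{u}} [IsAffine Y]
    (φ : CommRingCat.of (MvPolynomial n k) ⟶ Γ(Y, ⊤))
    (hφ : Function.Surjective (PrimeSpectrum.comap φ.hom)) :
    Function.Surjective (toAff n φ).base := by
  have h1 : Function.Surjective (Spec.map φ).base := hφ
  have h2 : Function.Surjective Y.toSpecΓ.base :=
    (ConcreteCategory.bijective_of_isIso Y.toSpecΓ.base).2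
  have h3 : Function.Surjective (AffineSpace.SpecIso n (CommRingCat.of k)).inv.base :=
    (ConcreteCategory.bijective_of_isIso (AffineSpace.SpecIso n (CommRingCat.of k)).inv.base).2
  unfold toAff
  simp only [Scheme.Hom.comp_base, TopCat.coe_comp]
  exact h3.comp (h1.comp h2)


theorem toSpecΓ_specMap_appTop {Y : Scheme.{u}} (R : CommRingCat.{u}) (h : Y ⟶ Spec R) :
    Y.toSpecΓ ≫ Spec.map ((Scheme.ΓSpecIso R).inv ≫ h.appTop) = h := by
  rw [Spec.map_comp, ← Scheme.toSpecΓ_naturality_assoc]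
  rw [← SpecMap_ΓSpecIso_hom, ← Spec.map_comp, Iso.inv_hom_id, Spec.map_id, Category.comp_id]

theorem ringKrullDim_mvPolynomial [Finite n] :
    ringKrullDim (MvPolynomial n k) = (Nat.card n : WithBot ℕ∞) := by
  rw [MvPolynomial.ringKrullDim_of_isNoetherianRing, ringKrullDim_eq_zero_of_field, zero_add]

theorem topologicalKrullDim_affineSpace [Finite n] :
    topologicalKrullDim 𝔸(n; Spec (CommRingCat.of k)) = (Nat.card n : WithBot ℕ∞) := by
  rw [← ringKrullDim_mvPolynomial (k := k) n, ← PrimeSpectrum.topologicalKrullDim_eq_ringKrullDim]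
  exact IsHomeomorph.topologicalKrullDim_eq _
    (Scheme.homeoOfIso (AffineSpace.SpecIso n (CommRingCat.of k))).isHomeomorph

/-- A finite morphism to affine `n`-space has source of dimension at most `n`. -/
theorem dim_le_of_isFinite [Finite n] {Y : Scheme.{u}} (g : Y ⟶ 𝔸(n; Spec (CommRingCat.of k)))
    [IsFinite g] : topologicalKrullDim Y ≤ (Nat.card n : WithBot ℕ∞) := by
  have hY : IsAffine Y := isAffine_of_isAffineHom g
  rw [topologicalKrullDim_eq_of_isAffine Y, ← topologicalKrullDim_affineSpace (k := k) n,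
    topologicalKrullDim_eq_of_isAffine]
  have hfin : g.appTop.hom.Finite := Scheme.Hom.finite_appTop g
  let _ := g.appTop.hom.toAlgebra
  have : Algebra.IsIntegral Γ(𝔸(n; Spec (CommRingCat.of k)), ⊤) Γ(Y, ⊤) :=
    ⟨hfin.to_isIntegral⟩
  exact Groth.Agent.Lib.Helper55.ringKrullDim_le_of_isIntegral _ _


/-- A morphism of finite type `k`-schemes hitting the generic point of affine `n`-space has source of
dimension at least `n`. -/
theorem le_dim_of_surjective [Finite n] {Y : Scheme.{u}} (g : Y ⟶ 𝔸(n; Spec (CommRingCat.of k)))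
    [LocallyOfFiniteType (g ≫ (𝔸(n; Spec (CommRingCat.of k)) ↘ Spec (CommRingCat.of k)))]
    (hg : Function.Surjective g.base) : (Nat.card n : WithBot ℕ∞) ≤ topologicalKrullDim Y := by
  classical
  let A := MvPolynomial n k
  let e := AffineSpace.SpecIso n (CommRingCat.of k)
  let η₀ : Spec (CommRingCat.of A) := ⟨⊥, Ideal.isPrime_bot⟩
  obtain ⟨y, hy⟩ := hg (e.inv.base η₀)
  obtain ⟨W, hW, hyW, -⟩ := exists_isAffineOpen_mem_and_subset (x := y) (U := ⊤) trivial
  have hWa : IsAffine (W : Scheme.{u}) := hW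
  let q : (W : Scheme.{u}) ⟶ Spec (CommRingCat.of A) := W.ι ≫ g ≫ e.hom
  let ψ : CommRingCat.of A ⟶ Γ((W : Scheme.{u}), ⊤) := (Scheme.ΓSpecIso (CommRingCat.of A)).inv ≫ q.appTop
  have hq : (W : Scheme.{u}).toSpecΓ ≫ Spec.map ψ = q := toSpecΓ_specMap_appTop _ q
  -- the algebra structure on B
  let B := Γ((W : Scheme.{u}), ⊤)
  let _ : Algebra k B := (ψ.hom.comp MvPolynomial.C).toAlgebra
  let ψa : A →ₐ[k] B := { ψ.hom with commutes' := fun r => rfl }
  -- finite type
  have hover : e.hom ≫ Spec.map (CommRingCat.ofHom (MvPolynomial.C : k →+* A)) =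
      (𝔸(n; Spec (CommRingCat.of k)) ↘ Spec (CommRingCat.of k)) := by
    have := AffineSpace.SpecIso_inv_over (n := n) (CommRingCat.of k)
    rw [← this, Iso.hom_inv_id_assoc]
  have hlft : LocallyOfFiniteType (q ≫ Spec.map (CommRingCat.ofHom (MvPolynomial.C : k →+* A))) := by
    have : q ≫ Spec.map (CommRingCat.ofHom (MvPolynomial.C : k →+* A)) =
        W.ι ≫ (g ≫ (𝔸(n; Spec (CommRingCat.of k)) ↘ Spec (CommRingCat.of k))) := by
      simp only [q, Category.assoc, hover]
    rw [this]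
    infer_instance
  have hft1 : (q ≫ Spec.map (CommRingCat.ofHom (MvPolynomial.C : k →+* A))).appTop.hom.FiniteType :=
    (HasRingHomProperty.iff_of_isAffine (P := @LocallyOfFiniteType)).mp hlft
  have hstr : CommRingCat.ofHom (MvPolynomial.C : k →+* A) ≫ ψ =
      (Scheme.ΓSpecIso (CommRingCat.of k)).inv ≫
        (q ≫ Spec.map (CommRingCat.ofHom (MvPolynomial.C : k →+* A))).appTop := by
    simp only [ψ, Scheme.Hom.comp_appTop]
    rw [← Category.assoc, Scheme.ΓSpecIso_inv_naturality, Category.assoc]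
  have hftB : Algebra.FiniteType k B := by
    have h1 : (ψ.hom.comp (MvPolynomial.C : k →+* A)).FiniteType := by
      have h2 : ψ.hom.comp (MvPolynomial.C : k →+* A) =
          (CommRingCat.ofHom (MvPolynomial.C : k →+* A) ≫ ψ).hom := rfl
      rw [h2, hstr, CommRingCat.hom_comp]
      refine hft1.comp (RingHom.FiniteType.of_surjective _ ?_)
      exact (ConcreteCategory.bijective_of_isIso (Scheme.ΓSpecIso (CommRingCat.of k)).inv).2
    exact h1
  -- the prime
  let z : Spec (CommRingCat.of B) := (W : Scheme.{u}).toSpecΓ.base ⟨y, hyW⟩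
  have hz : (Spec.map ψ).base z = η₀ := by
    change ((W : Scheme.{u}).toSpecΓ ≫ Spec.map ψ).base ⟨y, hyW⟩ = η₀
    rw [hq]
    change e.hom.base (g.base y) = η₀
    rw [hy]
    change (e.inv ≫ e.hom).base η₀ = η₀
    rw [Iso.inv_hom_id]; rfl
  have hcomap : z.asIdeal.comap ψa = ⊥ := by
    have := congrArg PrimeSpectrum.asIdeal hz
    exact this
  have hle := Groth.Agent.Lib.Helper55.ringKrullDim_le_of_comap_le k ψa z.asIdeal
    (fun 𝔭' _ => by rw [hcomap]; exact bot_le)
  rw [ringKrullDim_mvPolynomial] at hle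
  refine hle.trans ?_
  rw [← topologicalKrullDim_eq_of_isAffine (W : Scheme.{u})]
  exact topologicalKrullDim_subspace_le Y (W : Set Y)

end Groth.Agent.Lib.Helper50.AffSpaceMaps
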