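import Mathlib
import Groth.Prelude.Def_FlatCA
import Groth.Agent.Lib.Helper50.FiberMod

/-!
# Associated primes and localization at the nonzero elements of a domain
-/

universe u

namespace Groth.Agent.Lib.Helper50

section

variable {R S : Type u} [CommRing R] [IsDomain R] [CommRing S] [Algebra R S]
  (N : Type u) [AddCommGroup N] [Module S N] [Module R N] [IsScalarTower R S N] [Module.Flat R N]

local notation "T" => Algebra.algebraMapSubmonoid S (nonZeroDivisors R)

lemma smul_eq_zero_iff_of_mem_algebraMapSubmonoid (t : T) (n : N) : t • n = 0 ↔ n = 0 := by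
  rw [Submonoid.smul_def]
  obtain ⟨r, hr, hrt⟩ := t.2
  rw [← hrt, algebraMap_smul]
  have := Module.Flat.isSMulRegular_of_nonZeroDivisors (M := N) hr
  constructor
  · intro h
    exact this (by simpa using h)
  · rintro rfl
    exact smul_zero _

lemma localizedModule_mk_eq_zero_iff (n : N) (t : T) :
    LocalizedModule.mk n t = 0 ↔ n = 0 := by
  rw [← LocalizedModule.zero_mk (1 : T), LocalizedModule.mk_eq]
  constructor
  · rintro ⟨u, hu⟩
    rw [smul_zero, smul_zero, one_smul, smul_eq_zero_iff_of_mem_algebraMapSubmonoid] at hu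
    exact hu
  · rintro rfl
    exact ⟨1, by simp⟩

lemma localization_mk_smul_mk_eq_zero_iff (s : S) (u : T) (n : N) (t : T) :
    (Localization.mk s u) • (LocalizedModule.mk n t) = 0 ↔ s • n = 0 := by
  rw [LocalizedModule.mk_smul_mk, localizedModule_mk_eq_zero_iff]

lemma smul_localizedModule_mk_eq_zero_iff (s : S) (n : N) (t : T) :
    s • (LocalizedModule.mk n t) = 0 ↔ s • n = 0 := by
  rw [LocalizedModule.smul'_mk, localizedModule_mk_eq_zero_iff]

end

end Groth.Agent.Lib.Helper50
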