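import Mathlib
import Groth.Prelude
import Groth.Agent.Lib.Helper23.NormalAffine

/-! `f_* O_X = O_Y` for proper dominant `f` with `R(Y)` algebraically closed in `R(X)`, `Y` normal
(helper50). -/

set_option autoImplicit false
universe u
open CategoryTheory AlgebraicGeometry TopologicalSpace Opposite Polynomial

namespace Groth.Agent.Lib.Helper50

/-- Pure algebra: an integral extension `g : B → C` of an integrally closed domain, sitting inside a
field extension `φ : KY → KX` with `KY = Frac B` algebraically closed in `KX`, is bijective. -/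
theorem bijective_of_isIntegral_of_algClosed {B C KY KX : Type*} [CommRing B] [CommRing C]
    [Field KY] [Field KX] [IsDomain B] [Algebra B KY] [IsFractionRing B KY] [IsIntegrallyClosed B]
    (g : B →+* C) (ιC : C →+* KX) (φ : KY →+* KX) (hιC : Function.Injective ιC)
    (hcomm : ∀ b, ιC (g b) = φ (algebraMap B KY b)) (hint : g.IsIntegral)
    (halg : ∀ x : KX, (∃ p : Polynomial KY, p ≠ 0 ∧ Polynomial.eval₂ φ x p = 0) →
      x ∈ Set.range φ) : Function.Bijective g := by
  constructor
  · intro b b' hbb'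
    have h1 : φ (algebraMap B KY b) = φ (algebraMap B KY b') := by
      rw [← hcomm, ← hcomm, hbb']
    exact IsFractionRing.injective B KY (φ.injective h1)
  · intro c
    obtain ⟨p, hp, hpc⟩ := hint c
    have h1 : Polynomial.eval₂ φ (ιC c) (p.map (algebraMap B KY)) = 0 := by
      rw [Polynomial.eval₂_map]
      have h2 : φ.comp (algebraMap B KY) = ιC.comp g := by
        ext b
        exact (hcomm b).symm
      rw [h2, ← Polynomial.hom_eval₂, hpc, map_zero]
    obtain ⟨r, hr⟩ := halg (ιC c) ⟨p.map (algebraMap B KY), (hp.map _).ne_zero, h1⟩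
    have h3 : Polynomial.eval₂ (algebraMap B KY) r p = 0 := by
      apply φ.injective
      rw [map_zero, Polynomial.hom_eval₂, hr, ← Polynomial.eval₂_map]
      exact h1
    have h4 : IsIntegral B r := ⟨p, hp, h3⟩
    obtain ⟨b, hb⟩ := IsIntegrallyClosed.isIntegral_iff.mp h4
    refine ⟨b, hιC ?_⟩
    rw [hcomm, hb, hr]

section Geom

variable {X Y : Scheme.{u}}

theorem isIntegral_app_of_isAffineOpen (f : X ⟶ Y) [UniversallyClosed f] {V : Y.Opens}
    (hV : IsAffineOpen V) : (f.app V).hom.IsIntegral := by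
  haveI : IsAffine V.toScheme := hV
  haveI : UniversallyClosed (f ∣_ V) := IsZariskiLocalAtTarget.restrict ‹UniversallyClosed f› V
  have h1 := isIntegral_appTop_of_universallyClosed (f ∣_ V)
  have h2 : (f ∣_ V).appTop = V.topIso.hom ≫ f.app V ≫ (f ⁻¹ᵁ V).topIso.inv := by
    have h3 := Scheme.Hom.resLE_app_top (f := f) (U := V) (V := f ⁻¹ᵁ V) (e := le_rfl)
    rw [Scheme.Hom.resLE_eq_morphismRestrict, Scheme.Hom.appLE_eq_app] at h3
    exact h3
  have h4 : f.app V = V.topIso.inv ≫ (f ∣_ V).appTop ≫ (f ⁻¹ᵁ V).topIso.hom := by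
    rw [h2, Category.assoc, Category.assoc, Iso.inv_hom_id, Category.comp_id,
      Iso.inv_hom_id_assoc]
  rw [h4]
  have e1 : (V.topIso.inv).hom.IsIntegral :=
    RingHom.isIntegral_of_surjective _
      (V.topIso.symm.commRingCatIsoToRingEquiv.surjective)
  have e2 : ((f ⁻¹ᵁ V).topIso.hom).hom.IsIntegral :=
    RingHom.isIntegral_of_surjective _
      ((f ⁻¹ᵁ V).topIso.commRingCatIsoToRingEquiv.surjective)
  exact (e1.trans _ _ h1).trans _ _ e2

theorem bijective_app_of_isAffineOpen [IsIntegral X] [IsIntegral Y] (hY : Pi1.IsNormalScheme Y)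
    (f : X ⟶ Y) [UniversallyClosed f] (hdom : f.base (genericPoint X) ⤳ genericPoint Y)
    (halg : ∀ x : X.functionField,
      (∃ p : Polynomial Y.functionField, p ≠ 0 ∧
        Polynomial.eval₂ (CohIII.stalkToFunctionField f (genericPoint Y) hdom) x p = 0) →
      x ∈ Set.range (CohIII.stalkToFunctionField f (genericPoint Y) hdom))
    {V : Y.Opens} (hV : IsAffineOpen V) [hne : Nonempty V] :
    Function.Bijective (f.app V).hom := by
  have hξY : genericPoint Y ∈ V :=
    ((genericPoint_spec Y).mem_open_set_iff V.isOpen).mpr (by simpa using hne)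
  have hfξ : f.base (genericPoint X) ∈ V := hdom.mem_open V.isOpen hξY
  haveI : Nonempty (f ⁻¹ᵁ V) := ⟨⟨genericPoint X, hfξ⟩⟩
  haveI := functionField_isFractionRing_of_isAffineOpen Y V hV
  haveI : IsIntegrallyClosed Γ(Y, V) :=
    Groth.Agent.Lib.Helper23.isIntegrallyClosed_of_isAffineOpen (fun y => (hY y).2) hV
  refine bijective_of_isIntegral_of_algClosed (f.app V).hom
    (X.germToFunctionField (f ⁻¹ᵁ V)).hom (CohIII.stalkToFunctionField f (genericPoint Y) hdom)
    (X.germToFunctionField_injective _) ?_ (isIntegral_app_of_isAffineOpen f hV) halg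
  intro b
  change X.presheaf.germ (f ⁻¹ᵁ V) (genericPoint X) _ (f.app V b) =
    (f.stalkMap (genericPoint X)).hom ((Y.presheaf.stalkSpecializes hdom).hom
      (Y.presheaf.germ V (genericPoint Y) _ b))
  have h1 := TopCat.Presheaf.germ_stalkSpecializes Y.presheaf hξY hdom
  have h2 := Scheme.Hom.germ_stalkMap f V (genericPoint X) hfξ
  have h3 : (Y.presheaf.stalkSpecializes hdom).hom (Y.presheaf.germ V (genericPoint Y) hξY b) =
      Y.presheaf.germ V (f.base (genericPoint X)) hfξ b := by
    have := congr($(h1) b)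
    exact this
  have h4 : (f.stalkMap (genericPoint X)).hom (Y.presheaf.germ V (f.base (genericPoint X)) hfξ b) =
      X.presheaf.germ (f ⁻¹ᵁ V) (genericPoint X) hfξ (f.app V b) := by
    have := congr($(h2) b)
    exact this
  rw [h3, h4]

theorem isBasis_nonempty_affineOpens (Y : Scheme.{u}) :
    Opens.IsBasis (Set.range (fun V : {V : Y.Opens // IsAffineOpen V ∧ Nonempty V} => V.1)) := by
  rw [Opens.isBasis_iff_nbhd]
  intro U x hx
  obtain ⟨V, hV, hxV, hVU⟩ := Opens.isBasis_iff_nbhd.mp Y.isBasis_affineOpens hx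
  exact ⟨V, ⟨⟨V, hV, ⟨⟨x, hxV⟩⟩⟩, rfl⟩, hxV, hVU⟩

/-- If `f.app V` is bijective for all nonempty affine opens `V`, then it is an isomorphism for all
opens. -/
theorem isIso_app_of_forall_affine (f : X ⟶ Y)
    (h : ∀ V : Y.Opens, IsAffineOpen V → Nonempty V → Function.Bijective (f.app V).hom)
    (V : Y.Opens) : IsIso (f.app V) := by
  let F : TopCat.Sheaf CommRingCat Y := Y.sheaf
  let G : TopCat.Sheaf CommRingCat Y := (TopCat.Sheaf.pushforward CommRingCat f.base).obj X.sheaf
  let φ : F ⟶ G := ⟨f.c⟩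
  have hφ : IsIso φ := by
    refine TopCat.Sheaf.isIso_iff_isIso_basis (φ := φ) (isBasis_nonempty_affineOpens Y)
      (fun W => ?_)
    have hb := h W.1 W.2.1 W.2.2
    exact (ConcreteCategory.isIso_iff_bijective (f.app W.1)).mpr hb
  have h2 : IsIso φ.hom := (inferInstance : IsIso ((TopCat.Sheaf.forget CommRingCat Y).map φ))
  exact (inferInstance : IsIso (φ.hom.app (op V)))

end Geom

end Groth.Agent.Lib.Helper50
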