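import Mathlib
import Groth.Agent.S2422
import Groth.Agent.Lib.Helper38.DomainStalkIrred

/-!
# `O_Y → φ_* O_X` is an isomorphism for proper birational `φ` onto a normal scheme (helper50)
-/

set_option autoImplicit false
universe u

namespace Groth.Agent.Lib.Helper50.BiratPush

open AlgebraicGeometry CategoryTheory Limits TopologicalSpace

/-- A connected Noetherian scheme with domain stalks is integral. -/
theorem isIntegral_of_connected_of_isNormalScheme (X : Scheme.{u}) [ConnectedSpace X]
    [IsNoetherian X] (hX : Pi1.IsNormalScheme X) : IsIntegral X := by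
  haveI : ∀ x, IsDomain (X.presheaf.stalk x) := fun x => (hX x).1
  haveI : IsReduced X := isReduced_of_isReduced_stalk X
  haveI : IrreducibleSpace X :=
    Groth.Agent.Lib.Helper38.irreducibleSpace_of_connected_of_isDomain_stalk X
      NoetherianSpace.finite_irreducibleComponents (fun x => (hX x).1)
  exact isIntegral_of_irreducibleSpace_of_isReduced X

section

variable {X Y : Scheme.{u}} [IsIntegral X] [IsIntegral Y] (φ : X ⟶ Y) (U : Y.Opens)

theorem genericPoint_mem_of_nonempty (hU : (U : Set Y).Nonempty) : genericPoint Y ∈ U := by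
  obtain ⟨y, hy⟩ := hU
  exact ((genericPoint_spec Y).specializes (Set.mem_univ y)).mem_open U.isOpen hy

omit [IsIntegral X] in
theorem exists_map_eq_genericPoint (hU : (U : Set Y).Nonempty) [IsIso (φ ∣_ U)] :
    ∃ x : X, x ∈ φ ⁻¹ᵁ U ∧ φ x = genericPoint Y := by
  have hη := genericPoint_mem_of_nonempty U hU
  have hsurj : Function.Surjective (φ ∣_ U) :=
    (Scheme.homeoOfIso (asIso (φ ∣_ U))).surjective
  obtain ⟨x', hx'⟩ := hsurj ⟨genericPoint Y, hη⟩
  refine ⟨x'.1, x'.2, ?_⟩
  have := morphismRestrict_base_coe φ U x'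
  rw [← this, hx']

theorem map_genericPoint_specializes (hU : (U : Set Y).Nonempty) [IsIso (φ ∣_ U)] :
    φ (genericPoint X) ⤳ genericPoint Y := by
  obtain ⟨x, -, hx⟩ := exists_map_eq_genericPoint φ U hU
  rw [← hx]
  exact ((genericPoint_spec X).specializes (Set.mem_univ x)).map φ.continuous

theorem stalkToFunctionField_bijective (hU : (U : Set Y).Nonempty) [IsIso (φ ∣_ U)]
    (hdom : φ (genericPoint X) ⤳ genericPoint Y) :
    Function.Bijective (CohIII.stalkToFunctionField φ (genericPoint Y) hdom) := by
  obtain ⟨x, hxU, hx⟩ := exists_map_eq_genericPoint φ U hU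
  have hηX : genericPoint X ∈ φ ⁻¹ᵁ U :=
    ((genericPoint_spec X).specializes (Set.mem_univ x)).mem_open (φ ⁻¹ᵁ U).isOpen hxU
  have h1 : IsIso (φ.stalkMap (genericPoint X)) := by
    have e := morphismRestrictStalkMap φ U ⟨genericPoint X, hηX⟩
    exact ((MorphismProperty.isomorphisms CommRingCat).arrow_mk_iso_iff e).mp
      (inferInstanceAs (IsIso ((φ ∣_ U).stalkMap ⟨genericPoint X, hηX⟩)))
  have hins : Inseparable (φ (genericPoint X)) (genericPoint Y) :=
    (hdom.antisymm ((genericPoint_spec Y).specializes (Set.mem_univ _)))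
  have h2 : IsIso (Y.presheaf.stalkSpecializes hdom) :=
    (Y.presheaf.stalkCongr hins.symm).isIso_hom
  unfold CohIII.stalkToFunctionField
  rw [RingHom.coe_comp]
  exact (ConcreteCategory.bijective_of_isIso (φ.stalkMap (genericPoint X))).comp
    (ConcreteCategory.bijective_of_isIso (Y.presheaf.stalkSpecializes hdom))

end

/-- Proper birational morphism of integral locally Noetherian schemes onto a normal scheme. -/
theorem isIso_app_of_birational {X Y : Scheme.{u}} [IsIntegral X] [IsIntegral Y]
    [IsLocallyNoetherian X] [IsLocallyNoetherian Y] (hY : Pi1.IsNormalScheme Y) (φ : X ⟶ Y)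
    [IsProper φ] (U : Y.Opens) (hU : (U : Set Y).Nonempty) [IsIso (φ ∣_ U)] (V : Y.Opens) :
    IsIso (φ.app V) := by
  have hdom := map_genericPoint_specializes φ U hU
  refine Groth.Agent.S2422.result hY φ hdom ?_ V
  intro x _
  exact (stalkToFunctionField_bijective φ U hU hdom).2 x

end Groth.Agent.Lib.Helper50.BiratPush
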