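import Mathlib
import Groth.Agent.Lib.Helper50.StalkBC

/-!
# Birational morphisms: the fibre over a maximal point (helper50)
-/

open CategoryTheory AlgebraicGeometry Limits TopologicalSpace

namespace Groth.Agent.Lib.Helper50

universe u

/-- If `x₁ ⤳ x` and the specialization map `O_{X,x} ⟶ O_{X,x₁}` is surjective, then `x = x₁`. -/
theorem eq_of_specializes_of_stalkSpecializes_surjective {X : Scheme.{u}} {x₁ x : X} (h : x₁ ⤳ x)
    (hs : Function.Surjective (X.presheaf.stalkSpecializes h)) : x = x₁ := by
  have hloc : IsLocalHom (X.presheaf.stalkSpecializes h).hom := by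
    constructor
    intro a ha
    by_contra hna
    have hmem : a ∈ IsLocalRing.maximalIdeal (X.presheaf.stalk x) :=
      (IsLocalRing.mem_maximalIdeal a).mpr hna
    obtain ⟨c, hc⟩ := hs (↑(ha.unit⁻¹) : X.presheaf.stalk x₁)
    have hunit : IsUnit (a * c - 1) := by
      have h1 : a * c ∈ IsLocalRing.maximalIdeal (X.presheaf.stalk x) :=
        Ideal.mul_mem_right _ _ hmem
      have h2 : ¬ IsUnit (a * c) := (IsLocalRing.mem_maximalIdeal _).mp h1
      have := IsLocalRing.isUnit_one_sub_self_of_mem_nonunits (a * c) h2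
      have h3 : a * c - 1 = -(1 - a * c) := by ring
      rw [h3]; exact this.neg
    have hzero : (X.presheaf.stalkSpecializes h).hom (a * c - 1) = 0 := by
      rw [map_sub, map_mul, map_one]
      have : (X.presheaf.stalkSpecializes h).hom c = ↑(ha.unit⁻¹) := hc
      rw [this]
      have h5 : (X.presheaf.stalkSpecializes h).hom a * ↑(ha.unit⁻¹) = 1 := ha.mul_val_inv
      rw [h5, sub_self]
    have := hunit.map (X.presheaf.stalkSpecializes h).hom
    rw [hzero] at this
    exact not_isUnit_zero this
  have h1 : Spec.map (X.presheaf.stalkSpecializes h) ≫ X.fromSpecStalk x = X.fromSpecStalk x₁ :=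
    Scheme.SpecMap_stalkSpecializes_fromSpecStalk h
  have h2 : (Spec.map (X.presheaf.stalkSpecializes h))
      (IsLocalRing.closedPoint (X.presheaf.stalk x₁)) =
      IsLocalRing.closedPoint (X.presheaf.stalk x) :=
    IsLocalRing.comap_closedPoint (X.presheaf.stalkSpecializes h).hom
  have h3 := congrArg (fun g => g (IsLocalRing.closedPoint (X.presheaf.stalk x₁))) h1
  simp only [Scheme.Hom.comp_apply] at h3
  rw [h2, Scheme.fromSpecStalk_closedPoint, Scheme.fromSpecStalk_closedPoint] at h3
  exact h3


/-- Under the birationality hypotheses, a point lying over a maximal point is a maximal point. -/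
theorem closure_mem_irreducibleComponents_of_map {X Y : Scheme.{u}} (f : X ⟶ Y)
    (hiso : ∀ x : X, closure {x} ∈ irreducibleComponents ↥X → IsIso (f.stalkMap x))
    (x : X) (hy : closure {f x} ∈ irreducibleComponents ↥Y) :
    closure {x} ∈ irreducibleComponents ↥X := by
  obtain ⟨T, hT, hxT⟩ := exists_mem_irreducibleComponents_subset_of_isIrreducible
    ({x} : Set ↥X) isIrreducible_singleton
  obtain ⟨x₁, hx₁⟩ := QuasiSober.sober hT.1 (isClosed_of_mem_irreducibleComponents T hT)
  have hx₁T : closure {x₁} ∈ irreducibleComponents ↥X := by rw [hx₁.def]; exact hT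
  have hsp : x₁ ⤳ x := by
    rw [specializes_iff_mem_closure, hx₁.def]; exact hxT rfl
  have hfsp : f x₁ ⤳ f x := f.base.hom.map_specializes hsp
  have hfeq : f x₁ = f x := by
    have h1 : closure {f x} ⊆ closure {f x₁} := specializes_iff_closure_subset.mp hfsp
    have h2 : closure {f x₁} ⊆ closure {f x} :=
      hy.2 (isIrreducible_singleton.closure) h1
    exact ((specializes_iff_closure_subset.mpr h1).antisymm
      (specializes_iff_closure_subset.mpr h2)).eq
  have hiso₁ : IsIso (f.stalkMap x₁) := hiso x₁ hx₁T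
  have hsq := Scheme.Hom.stalkSpecializes_stalkMap f x₁ x hsp
  have hA : IsIso (Y.presheaf.stalkSpecializes (f.base.hom.map_specializes hsp)) := by
    have : Y.presheaf.stalkSpecializes (f.base.hom.map_specializes hsp) =
        (Y.presheaf.stalkCongr (Inseparable.of_eq hfeq.symm)).hom := rfl
    rw [this]; infer_instance
  have hcomp : IsIso (f.stalkMap x ≫ X.presheaf.stalkSpecializes hsp) := by
    rw [← hsq]; infer_instance
  have hsurj : Function.Surjective (X.presheaf.stalkSpecializes hsp) := by
    intro b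
    have hbij' := (ConcreteCategory.isIso_iff_bijective _).mp hcomp
    obtain ⟨a, ha⟩ := hbij'.2 b
    exact ⟨f.stalkMap x a, ha⟩
  have := eq_of_specializes_of_stalkSpecializes_surjective hsp hsurj
  rw [this]; exact hx₁T


/-- The spectrum of the local ring at a maximal point is a single point. -/
theorem subsingleton_spec_stalk_of_maximal {Y : Scheme.{u}} (y : Y)
    (hy : closure {y} ∈ irreducibleComponents ↥Y) : Subsingleton ↥(Spec (Y.presheaf.stalk y)) := by
  have hinj : Function.Injective (Y.fromSpecStalk y) :=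
    (Y.fromSpecStalk y).isEmbedding.injective
  have hrange : ∀ z : ↥(Spec (Y.presheaf.stalk y)), Y.fromSpecStalk y z = y := by
    intro z
    have hz : Y.fromSpecStalk y z ∈ Set.range (Y.fromSpecStalk y) := ⟨z, rfl⟩
    rw [Scheme.range_fromSpecStalk] at hz
    have hz' : Y.fromSpecStalk y z ⤳ y := hz
    have h1 : closure {y} ⊆ closure {Y.fromSpecStalk y z} := specializes_iff_closure_subset.mp hz'
    have h2 : closure {Y.fromSpecStalk y z} ⊆ closure {y} :=
      hy.2 (isIrreducible_singleton.closure) h1
    exact ((specializes_iff_closure_subset.mpr h1).antisymm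
      (specializes_iff_closure_subset.mpr h2)).eq
  exact ⟨fun a b => hinj ((hrange a).trans (hrange b).symm)⟩

theorem isIso_pullback_snd_fromSpecStalk_of_birational {X Y : Scheme.{u}} (f : X ⟶ Y)
    (hbij : Set.BijOn (fun x : X => f.base x) {x : X | closure {x} ∈ irreducibleComponents ↥X}
      {y : Y | closure {y} ∈ irreducibleComponents ↥Y})
    (hiso : ∀ x : X, closure {x} ∈ irreducibleComponents ↥X → IsIso (f.stalkMap x))
    (y : Y) (hy : closure {y} ∈ irreducibleComponents ↥Y) :
    IsIso (pullback.snd f (Y.fromSpecStalk y)) := by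
  let i := Y.fromSpecStalk y
  let pr₁ := pullback.fst f i
  let pr₂ := pullback.snd f i
  have hS : Subsingleton ↥(Spec (Y.presheaf.stalk y)) := subsingleton_spec_stalk_of_maximal y hy
  have hi : ∀ z : ↥(Spec (Y.presheaf.stalk y)), i z = y := by
    intro z
    rw [Subsingleton.elim z (IsLocalRing.closedPoint (Y.presheaf.stalk y))]
    exact Scheme.fromSpecStalk_closedPoint
  have hpre : IsPreimmersion pr₁ := MorphismProperty.pullback_fst _ _ inferInstance
  have hflat : Flat pr₁ := MorphismProperty.pullback_fst _ _ inferInstance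
  have hcond : pr₁ ≫ f = pr₂ ≫ i := pullback.condition
  -- all points of `P` map to maximal points lying over `y`
  have hfy : ∀ w : ↥(pullback f i), f (pr₁ w) = y := by
    intro w
    have := congrArg (fun g => g w) hcond
    simp only [Scheme.Hom.comp_apply] at this
    rw [this, hi]
  have hmax : ∀ w : ↥(pullback f i), closure {pr₁ w} ∈ irreducibleComponents ↥X := by
    intro w
    apply closure_mem_irreducibleComponents_of_map f hiso
    rw [hfy w]; exact hy
  -- `P` is a single point
  obtain ⟨x₀, hx₀, hfx₀⟩ := hbij.surjOn hy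
  have hfx₀' : f x₀ = y := hfx₀
  have hPsub : Subsingleton ↥(pullback f i) := by
    refine ⟨fun a b => pr₁.isEmbedding.injective ?_⟩
    exact hbij.injOn (hmax a) (hmax b) ((hfy a).trans (hfy b).symm)
  have hPne : Nonempty ↥(pullback f i) := by
    have : x₀ ∈ Set.range pr₁ := by
      rw [Scheme.Pullback.range_fst]
      exact ⟨IsLocalRing.closedPoint _, (hi _).trans hfx₀'.symm⟩
    obtain ⟨w, -⟩ := this
    exact ⟨w⟩
  -- open embedding
  have hopen : Topology.IsOpenEmbedding pr₂ := by
    haveI : Unique ↥(pullback f i) := uniqueOfSubsingleton hPne.some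
    haveI : Unique ↥(Spec (Y.presheaf.stalk y)) := uniqueOfSubsingleton (pr₂ hPne.some)
    have : ⇑pr₂ = ⇑(Homeomorph.homeomorphOfUnique ↥(pullback f i) ↥(Spec (Y.presheaf.stalk y))) := by
      funext w; exact Subsingleton.elim _ _
    rw [this]
    exact (Homeomorph.homeomorphOfUnique _ _).isOpenEmbedding
  -- stalk isomorphisms
  have hstalk : ∀ w : ↥(pullback f i), IsIso (pr₂.stalkMap w) := by
    intro w
    have h1 : Function.Bijective (pr₁.stalkMap w) :=
      stalkMap_bijective_of_flat_of_isPreimmersion pr₁ w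
    have h2 : Function.Bijective (i.stalkMap (pr₂ w)) :=
      stalkMap_bijective_of_flat_of_isPreimmersion i (pr₂ w)
    have h3 : IsIso (f.stalkMap (pr₁ w)) := hiso _ (hmax w)
    have e1 := Scheme.Hom.stalkMap_comp pr₁ f w
    have e2 := Scheme.Hom.stalkMap_comp pr₂ i w
    have e3 := Scheme.Hom.stalkMap_congr_hom (pr₁ ≫ f) (pr₂ ≫ i) hcond w
    rw [e1, e2] at e3
    -- `f.stalkMap ≫ pr₁.stalkMap = iso ≫ i.stalkMap ≫ pr₂.stalkMap`
    have hL : Function.Bijective (f.stalkMap (pr₁ w) ≫ pr₁.stalkMap w) := by
      have : Function.Bijective (f.stalkMap (pr₁ w)) :=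
        (ConcreteCategory.isIso_iff_bijective _).mp h3
      simpa using h1.comp this
    rw [e3] at hL
    have hL' : IsIso ((Y.presheaf.stalkCongr (Inseparable.of_eq
        (congrArg (fun g : pullback f i ⟶ Y => g w) hcond))).hom ≫
        i.stalkMap (pr₂ w) ≫ pr₂.stalkMap w) :=
      (ConcreteCategory.isIso_iff_bijective _).mpr hL
    have hB : IsIso (i.stalkMap (pr₂ w)) := (ConcreteCategory.isIso_iff_bijective _).mpr h2
    have hBC : IsIso (i.stalkMap (pr₂ w) ≫ pr₂.stalkMap w) :=
      IsIso.of_isIso_comp_left (Y.presheaf.stalkCongr (Inseparable.of_eq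
        (congrArg (fun g : pullback f i ⟶ Y => g w) hcond))).hom _
    exact IsIso.of_isIso_comp_left (i.stalkMap (pr₂ w)) _
  have hoi : IsOpenImmersion pr₂ := IsOpenImmersion.of_isIso_stalkMap pr₂ hopen
  have hsurj : Surjective pr₂ := ⟨fun z => ⟨hPne.some, Subsingleton.elim _ _⟩⟩
  exact (isIso_iff_isOpenImmersion_and_surjective _).mpr ⟨hoi, hsurj⟩

end Groth.Agent.Lib.Helper50
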