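import Mathlib
import Groth.Prelude
import Groth.Agent.Lib.Helper50.StalkBC
import Groth.Agent.Lib.Helper50.NormalAt
import Groth.Agent.Lib.Helper50.RedBC
import Groth.Agent.Lib.Helper50.GeomReduced
import Groth.Agent.Lib.Helper50.GeomReducedScheme

/-!
# Closed subsets of `Y_K` defined over `K'`, for `K/K'` separable (helper50)
-/

open CategoryTheory AlgebraicGeometry Limits TensorProduct TopologicalSpace

universe u

namespace Groth.Agent.Lib.Helper50

/-- An ideal sheaf whose closed subscheme is reduced is radical. -/
theorem radical_eq_of_isReduced_subscheme {X : Scheme.{u}} (I : X.IdealSheafData)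
    [IsReduced I.subscheme] : I.radical = I := by
  apply le_antisymm _ (Scheme.IdealSheafData.le_radical I)
  conv_rhs => rw [← Scheme.IdealSheafData.ker_subschemeι I]
  rw [Scheme.Hom.ker, Scheme.IdealSheafData.le_ofIdeals_iff]
  intro U s hs
  have hs' : s ∈ (I.ideal U).radical := by
    simpa [Scheme.IdealSheafData.radical_ideal] using hs
  obtain ⟨n, hn⟩ := hs'
  rw [RingHom.mem_ker]
  have h0 : (I.subschemeι.app U.1).hom (s ^ n) = 0 := by
    rw [← RingHom.mem_ker, Scheme.IdealSheafData.ker_subschemeι_app]
    exact hn
  have h1 : IsNilpotent ((I.subschemeι.app U.1).hom s) := ⟨n, by rw [← map_pow, h0]⟩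
  exact h1.eq_zero

/-- The tensor product of a reduced algebra with a geometrically reduced field extension is
reduced. -/
theorem isReduced_tensor_of_isGeometricallyReduced_right {k T K : Type*} [Field k] [CommRing T]
    [IsReduced T] [Algebra k T] [Field K] [Algebra k K] [Algebra.IsGeometricallyReduced k K] :
    IsReduced (T ⊗[k] K) := by
  apply isReduced_tensor_of_fibers
  intro p
  exact isReduced_tensor_of_isGeometricallyReduced

/-- The base change of a reduced `k`-scheme to a separable (geometrically reduced) extension field
is reduced. -/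
theorem isReduced_pullback_of_isGeometricallyReduced {k K : Type u} [Field k] [Field K]
    [Algebra k K] [Algebra.IsGeometricallyReduced k K] {W : Scheme.{u}}
    (g : W ⟶ Spec (CommRingCat.of k)) [IsReduced W] :
    IsReduced (pullback g (Spec.map (CommRingCat.ofHom (algebraMap k K)))) := by
  apply +allowSynthFailures isReduced_of_isReduced_stalk
  intro y'
  obtain ⟨φ, hφ⟩ := exists_ringHom_stalk g
    (pullback.fst g (Spec.map (CommRingCat.ofHom (algebraMap k K))) y')
  letI := φ.toAlgebra
  obtain ⟨q, ⟨e⟩⟩ := (exists_stalk_bc (K := K) g _ φ hφ).1 y' rfl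
  haveI : _root_.IsReduced ((W.presheaf.stalk
      (pullback.fst g (Spec.map (CommRingCat.ofHom (algebraMap k K))) y')) ⊗[k] K) :=
    isReduced_tensor_of_isGeometricallyReduced_right
  haveI : _root_.IsReduced (Localization.AtPrime q.asIdeal) := inferInstance
  exact isReduced_of_injective e.toRingHom e.injective

end Groth.Agent.Lib.Helper50

namespace Groth.Agent.Lib.Helper50

theorem support_vanishingIdeal' {X : Scheme.{u}} (Z : Closeds X) :
    (Scheme.IdealSheafData.vanishingIdeal Z).support = Z :=
  Closeds.ext (Scheme.IdealSheafData.coe_support_vanishingIdeal Z)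

theorem isReduced_subscheme_vanishingIdeal {X : Scheme.{u}} (Z : Closeds X) :
    IsReduced (Scheme.IdealSheafData.vanishingIdeal Z).subscheme := by
  have h : (Scheme.IdealSheafData.vanishingIdeal Z).radical =
      Scheme.IdealSheafData.vanishingIdeal Z := by
    rw [← Scheme.IdealSheafData.vanishingIdeal_support, support_vanishingIdeal']
  rw [← h]
  exact isReduced_subscheme_radical' _

/-- A closed subset `T` of `Y_K` (with `K/K'` separable) is the preimage of a closed subset of `Y`
iff its vanishing ideal sheaf is the pullback of an ideal sheaf on `Y`. -/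
theorem exists_preimage_eq_iff_exists_comap_eq {K' K : Type u} [Field K'] [Field K] [Algebra K' K]
    [Algebra.IsGeometricallyReduced K' K] {Y : Scheme.{u}} (fY : Y ⟶ Spec (CommRingCat.of K'))
    (s : Spec (CommRingCat.of K) ⟶ Spec (CommRingCat.of K'))
    (hs : s = Spec.map (CommRingCat.ofHom (algebraMap K' K)))
    (T : Closeds ↥(pullback fY s)) :
    (∃ T' : Closeds ↥Y, (T : Set ↥(pullback fY s)) = ⇑(pullback.fst fY s) ⁻¹' (T' : Set ↥Y)) ↔
      ∃ J : Y.IdealSheafData,
        J.comap (pullback.fst fY s) = Scheme.IdealSheafData.vanishingIdeal T := by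
  subst hs
  constructor
  · rintro ⟨T', hT'⟩
    set J := Scheme.IdealSheafData.vanishingIdeal T' with hJ
    refine ⟨J, ?_⟩
    have hsupp : (J.comap (pullback.fst fY _)).support = T := by
      apply Closeds.ext
      rw [Scheme.IdealSheafData.support_comap, Closeds.coe_preimage, hJ, support_vanishingIdeal',
        hT']
    haveI hJred : IsReduced J.subscheme := isReduced_subscheme_vanishingIdeal T'
    haveI hred1 : IsReduced (pullback (J.subschemeι ≫ fY)
        (Spec.map (CommRingCat.ofHom (algebraMap K' K)))) :=
      isReduced_pullback_of_isGeometricallyReduced _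
    haveI hred2 : IsReduced (pullback J.subschemeι (pullback.fst fY
        (Spec.map (CommRingCat.ofHom (algebraMap K' K))))) :=
      isReduced_of_isOpenImmersion (pullbackRightPullbackFstIso fY _ J.subschemeι).hom
    haveI hred3 : IsReduced (pullback (pullback.fst fY
        (Spec.map (CommRingCat.ofHom (algebraMap K' K)))) J.subschemeι) :=
      isReduced_of_isOpenImmersion (pullbackSymmetry _ J.subschemeι).hom
    haveI hred : IsReduced (J.comap (pullback.fst fY
        (Spec.map (CommRingCat.ofHom (algebraMap K' K))))).subscheme :=
      isReduced_of_isOpenImmersion (J.comapIso _).hom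
    rw [← radical_eq_of_isReduced_subscheme (J.comap _),
      ← Scheme.IdealSheafData.vanishingIdeal_support, hsupp]
  · rintro ⟨J, hJ⟩
    refine ⟨J.support, ?_⟩
    rw [← Closeds.coe_preimage J.support (pullback.fst fY _).continuous,
      ← Scheme.IdealSheafData.support_comap, hJ, support_vanishingIdeal']

end Groth.Agent.Lib.Helper50
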