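import Mathlib
import Groth.Prelude
import Groth.Agent.Lib.Helper47.ComplMapFinite

/-!
# Completing a linear retraction (helper50)

Let `C` be a `B`-algebra, `I` an ideal of `B`, `J = I C`, and `ρ : C → B` a `B`-linear map.  Then `ρ`
induces a map `ρ̂ : Ĉ → B̂` on adic completions (`Ĉ` the `J`-adic completion of the ring `C`) which is
semilinear for the ring map `B̂ → Ĉ`.
-/

open Submodule

universe u

namespace Groth.Agent.Lib.Helper50

section

variable {B C : Type u} [CommRing B] [CommRing C] [Algebra B C] (I : Ideal B) (ρ : C →ₗ[B] B)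

/-- `ρ` maps `(I C)^n` into `I^n`. -/
theorem map_mem_pow_of_mem_map_pow (n : ℕ) {c : C} (hc : c ∈ (I.map (algebraMap B C)) ^ n) :
    ρ c ∈ I ^ n := by
  rw [← Ideal.map_pow] at hc
  have h1 : c ∈ ((I ^ n) • (⊤ : Submodule B C)) := by
    rw [Ideal.smul_top_eq_map]; exact hc
  have h2 : ρ c ∈ (I ^ n • (⊤ : Submodule B C)).map ρ := Submodule.mem_map_of_mem h1
  rw [Submodule.map_smul''] at h2
  have h3 : (I ^ n • (Submodule.map ρ ⊤) : Submodule B B) ≤ I ^ n :=
    Submodule.smul_le.mpr fun r hr m _ => by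
      rw [smul_eq_mul]; exact Ideal.mul_mem_right m _ hr
  exact h3 h2

/-- The map induced by `ρ` on the quotients `C / (I C)^n → B / I^n`. -/
noncomputable def quotRetr (n : ℕ) :
    (C ⧸ (I.map (algebraMap B C)) ^ n) →ₗ[B] (B ⧸ (I ^ n • ⊤ : Submodule B B)) :=
  (Submodule.liftQ (((I.map (algebraMap B C)) ^ n).restrictScalars B)
    ((I ^ n • ⊤ : Submodule B B).mkQ ∘ₗ ρ) (by
      intro c hc
      rw [LinearMap.mem_ker, LinearMap.comp_apply, mkQ_apply, Submodule.Quotient.mk_eq_zero]
      simp only [smul_eq_mul, Ideal.mul_top]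
      exact map_mem_pow_of_mem_map_pow I ρ n hc)) ∘ₗ
  (Submodule.Quotient.restrictScalarsEquiv B ((I.map (algebraMap B C)) ^ n)).symm.toLinearMap

theorem quotRetr_mk (n : ℕ) (c : C) :
    quotRetr I ρ n (Ideal.Quotient.mk _ c) = Submodule.Quotient.mk (ρ c) := by
  unfold quotRetr
  rw [LinearMap.comp_apply]
  erw [Submodule.Quotient.restrictScalarsEquiv_symm_mk]
  rw [Submodule.liftQ_apply]
  rfl

/-- The levelwise maps `Ĉ → B / I^n`. -/
noncomputable def complRetrAux (n : ℕ) :
    AdicCompletion (I.map (algebraMap B C)) C →ₗ[B] (B ⧸ (I ^ n • ⊤ : Submodule B B)) :=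
  quotRetr I ρ n ∘ₗ
    ((AdicCompletion.evalₐ (I.map (algebraMap B C)) n).toLinearMap.restrictScalars B)

theorem complRetrAux_mk (n : ℕ) (γ : AdicCompletion.AdicCauchySequence (I.map (algebraMap B C)) C) :
    complRetrAux I ρ n (AdicCompletion.mk _ _ γ) = Submodule.Quotient.mk (ρ (γ n)) := by
  unfold complRetrAux
  rw [LinearMap.comp_apply, LinearMap.restrictScalars_apply, AlgHom.toLinearMap_apply,
    AdicCompletion.evalₐ_mk, quotRetr_mk]

theorem complRetrAux_compat {m n : ℕ} (hle : m ≤ n) :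
    AdicCompletion.transitionMap I B hle ∘ₗ complRetrAux I ρ n = complRetrAux I ρ m := by
  apply LinearMap.ext
  intro y
  obtain ⟨γ, rfl⟩ := AdicCompletion.mk_surjective _ _ y
  rw [LinearMap.comp_apply, complRetrAux_mk, complRetrAux_mk, ← Submodule.mkQ_apply,
    Submodule.factor_mk, Submodule.mkQ_apply, Submodule.Quotient.eq, ← map_sub]
  have hy := γ.2 hle
  rw [SModEq.sub_mem] at hy
  simp only [smul_eq_mul, Ideal.mul_top] at hy ⊢
  have hy' : γ n - γ m ∈ (I.map (algebraMap B C)) ^ m := by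
    rw [← neg_sub]; exact Ideal.neg_mem_iff _ |>.mpr hy
  exact map_mem_pow_of_mem_map_pow I ρ m hy'

/-- The completed map `ρ̂ : Ĉ → B̂`, as a `B`-linear map. -/
noncomputable def complRetr₀ :
    AdicCompletion (I.map (algebraMap B C)) C →ₗ[B] AdicCompletion I B :=
  AdicCompletion.lift I (complRetrAux I ρ) (complRetrAux_compat I ρ)

theorem complRetr₀_val (n : ℕ) (y : AdicCompletion (I.map (algebraMap B C)) C) :
    (complRetr₀ I ρ y).val n = complRetrAux I ρ n y :=
  AdicCompletion.eval_lift_apply I _ _ n y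

/-- The ring map `B̂ → Ĉ`. -/
noncomputable abbrev complAlgMap :
    AdicCompletion I B →+* AdicCompletion (I.map (algebraMap B C)) C :=
  FSch.complMap I (I.map (algebraMap B C)) (algebraMap B C) le_rfl

theorem complRetr₀_mul (x : AdicCompletion I B) (y : AdicCompletion (I.map (algebraMap B C)) C) :
    complRetr₀ I ρ (complAlgMap I x * y) = x * complRetr₀ I ρ y := by
  apply AdicCompletion.ext
  intro n
  rw [AdicCompletion.val_mul, complRetr₀_val, complRetr₀_val]
  obtain ⟨β, rfl⟩ := AdicCompletion.mk_surjective _ _ x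
  obtain ⟨γ, rfl⟩ := AdicCompletion.mk_surjective _ _ y
  rw [complRetrAux_mk]
  unfold complRetrAux
  rw [LinearMap.comp_apply, LinearMap.restrictScalars_apply, AlgHom.toLinearMap_apply, map_mul,
    AdicCompletion.evalₐ_mk, Groth.Agent.Lib.Helper47.ComplMap.evalₐ_complMap_mk, ← map_mul, quotRetr_mk,
    ← Algebra.smul_def, map_smul, AdicCompletion.mk_apply_coe, Submodule.mkQ_apply]
  rfl

theorem complRetr₀_one :
    complRetr₀ I ρ 1 = algebraMap B (AdicCompletion I B) (ρ 1) := by
  apply AdicCompletion.ext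
  intro n
  rw [complRetr₀_val]
  unfold complRetrAux
  rw [LinearMap.comp_apply, LinearMap.restrictScalars_apply, AlgHom.toLinearMap_apply, map_one,
    ← map_one (Ideal.Quotient.mk _), quotRetr_mk, AdicCompletion.algebraMap_apply,
    AdicCompletion.of_apply, Submodule.mkQ_apply]
  rfl

end

end Groth.Agent.Lib.Helper50
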