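import Mathlib
import Groth.Prelude

/-!
# Retractions of finite injective algebras over a local PID (helper50)

If `R` is a local principal ideal domain and `S` a finite `R`-algebra with `R → S` injective, then
`R → S` has an `R`-linear retraction.  Globalized: if `B` is Noetherian, `p` a prime with `B_p` an
integrally closed domain of dimension `≤ 1`, and `C` a finite `B`-algebra with `B → C` injective,
then there is a `B`-linear map `ρ : C → B` with `ρ 1 ∉ p`.
-/

open Submodule IsLocalRing

universe u

namespace Groth.Agent.Lib.Helper50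

/-- Over a local PID, an injective finite algebra admits a linear retraction. -/
theorem exists_linearMap_one_eq_one {R S : Type*} [CommRing R] [IsDomain R]
    [IsPrincipalIdealRing R] [IsLocalRing R] [CommRing S] [Algebra R S] [Module.Finite R S]
    (hinj : Function.Injective (algebraMap R S)) : ∃ l : S →ₗ[R] R, l 1 = 1 := by
  classical
  haveI : Algebra.IsIntegral R S := Algebra.IsIntegral.of_finite R S
  set T := torsion R S with hT
  set F := S ⧸ T with hF
  haveI : Module.Free R F := inferInstance
  set v : F := T.mkQ 1 with hv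
  have hvm : v ∉ (maximalIdeal R • (⊤ : Submodule R F)) := by
    intro hmem
    obtain ⟨π, hπ⟩ := (IsPrincipalIdealRing.principal (maximalIdeal R)).principal
    rw [hπ, ← Ideal.span, ideal_span_singleton_smul, mem_smul_pointwise_iff_exists] at hmem
    obtain ⟨w, -, hw⟩ := hmem
    obtain ⟨s, rfl⟩ := T.mkQ_surjective w
    have h1 : (1 : S) - π • s ∈ T := by
      rw [← Submodule.Quotient.mk_eq_zero, Submodule.Quotient.mk_sub, Submodule.Quotient.mk_smul]
      rw [hv, mkQ_apply] at hw
      rw [mkQ_apply] at hw
      rw [hw, sub_self]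
    rw [hT, mem_torsion_iff] at h1
    obtain ⟨r, hr⟩ := h1
    have hπm : π ∈ maximalIdeal R := by rw [hπ]; exact Submodule.mem_span_singleton_self π
    have hjac : algebraMap R S π * s ∈ (⊥ : Ideal S).jacobson := by
      rw [Ideal.jacobson, Ideal.mem_sInf]
      rintro 𝔫 ⟨-, h𝔫⟩
      have hmax := Ideal.isMaximal_comap_of_isIntegral_of_isMaximal (R := R) 𝔫
      have heq := IsLocalRing.eq_maximalIdeal hmax
      have : π ∈ 𝔫.comap (algebraMap R S) := by rw [heq]; exact hπm
      exact 𝔫.mul_mem_right _ this
    have hunit : IsUnit ((1 : S) - π • s) := by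
      have := Ideal.mem_jacobson_bot.mp hjac (-1)
      rw [Algebra.smul_def]
      convert this using 1
      ring
    have hr0 : algebraMap R S (r : R) = 0 := by
      have h2 : algebraMap R S (r : R) * ((1 : S) - π • s) = 0 := by
        rw [← Algebra.smul_def]; exact hr
      exact hunit.mul_left_eq_zero.mp h2
    have : (r : R) = 0 := hinj (by rw [hr0, map_zero])
    exact nonZeroDivisors.coe_ne_zero r this
  -- a coordinate of `v` is a unit
  let b := Module.Free.chooseBasis R F
  haveI : Fintype (Module.Free.ChooseBasisIndex R F) := Fintype.ofFinite _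
  have hex : ∃ i, b.repr v i ∉ maximalIdeal R := by
    by_contra hall
    push Not at hall
    apply hvm
    rw [← b.sum_repr v]
    exact Submodule.sum_mem _ fun i _ => Submodule.smul_mem_smul (hall i) Submodule.mem_top
  obtain ⟨i, hi⟩ := hex
  have hu : IsUnit (b.repr v i) := by
    by_contra hnu
    exact hi ((IsLocalRing.mem_maximalIdeal _).mpr hnu)
  refine ⟨(hu.unit⁻¹ : Rˣ).1 • ((b.coord i).comp T.mkQ), ?_⟩
  rw [LinearMap.smul_apply, LinearMap.comp_apply, Module.Basis.coord_apply, smul_eq_mul]
  exact hu.val_inv_mul


/-- A Noetherian local integrally closed domain of dimension `≤ 1` is a PID. -/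
theorem isPrincipalIdealRing_of_isIntegrallyClosed_of_dim_le_one (R : Type*) [CommRing R]
    [IsDomain R] [IsNoetherianRing R] [IsLocalRing R] [IsIntegrallyClosed R]
    (hdim : ringKrullDim R ≤ 1) : IsPrincipalIdealRing R := by
  haveI : Ring.KrullDimLE 1 R := Ring.krullDimLE_iff.mpr (by exact_mod_cast hdim)
  haveI : Ring.DimensionLEOne R :=
    ⟨fun {q} hq hqp => Ring.krullDimLE_one_iff_of_noZeroDivisors.mp inferInstance q hq hqp⟩
  haveI : IsDedekindDomain R := { }
  apply IsPrincipalIdealRing.of_finite_primes
  refine Set.Finite.subset (Set.toFinite {⊥, maximalIdeal R}) ?_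
  intro I hI
  have hI' : I.IsPrime := hI
  by_cases h0 : I = ⊥
  · left; exact h0
  · right
    have hmax : I.IsMaximal := Ring.DimensionLEOne.maximalOfPrime h0 hI'
    exact IsLocalRing.eq_maximalIdeal hmax

/-- Globalized retraction: a `B`-linear map `C → B` sending `1` outside `p`. -/
theorem exists_linearMap_one_notMem {B C : Type u} [CommRing B] [IsNoetherianRing B] [CommRing C]
    [Algebra B C] [Module.Finite B C] (hinj : Function.Injective (algebraMap B C))
    (p : Ideal B) [p.IsPrime] [IsDomain (Localization.AtPrime p)]
    [IsIntegrallyClosed (Localization.AtPrime p)] (hht : p.height ≤ 1) :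
    ∃ ρ : C →ₗ[B] B, ρ 1 ∉ p := by
  set R := Localization.AtPrime p with hR
  haveI : IsNoetherianRing R := IsLocalization.isNoetherianRing p.primeCompl _ inferInstance
  haveI : IsPrincipalIdealRing R := by
    apply isPrincipalIdealRing_of_isIntegrallyClosed_of_dim_le_one
    rw [IsLocalization.AtPrime.ringKrullDim_eq_height p]
    exact_mod_cast hht
  set Cp := Localization (Algebra.algebraMapSubmonoid C p.primeCompl) with hCp
  haveI : Module.Finite R Cp := Module.Finite.of_isLocalization B C p.primeCompl
  have hinj' : Function.Injective (algebraMap R Cp) := by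
    rw [IsLocalization.algebraMap_eq_map_map_submonoid p.primeCompl C R Cp]
    haveI : IsLocalization (Submonoid.map (algebraMap B C) p.primeCompl) Cp :=
      (inferInstance : IsLocalization (Algebra.algebraMapSubmonoid C p.primeCompl) Cp)
    exact IsLocalization.map_injective_of_injective p.primeCompl R Cp hinj
  obtain ⟨l, hl⟩ := exists_linearMap_one_eq_one hinj'
  let f : C →ₗ[B] Cp := (IsScalarTower.toAlgHom B C Cp).toLinearMap
  haveI : IsLocalizedModule p.primeCompl f := inferInstance
  let g : B →ₗ[B] R := Algebra.linearMap B R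
  haveI : IsLocalizedModule p.primeCompl g := inferInstance
  haveI : Module.FinitePresentation B C := Module.finitePresentation_of_finite B C
  haveI : IsLocalizedModule p.primeCompl (IsLocalizedModule.mapExtendScalars p.primeCompl f g R) :=
    Module.FinitePresentation.isLocalizedModule_mapExtendScalars p.primeCompl f g R
  obtain ⟨⟨ρ, s⟩, hρs⟩ := IsLocalizedModule.surj p.primeCompl
    (IsLocalizedModule.mapExtendScalars p.primeCompl f g R) l
  refine ⟨ρ, fun hmem => ?_⟩
  have h1 := LinearMap.congr_fun hρs (1 : Cp)
  simp only at h1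
  rw [LinearMap.smul_apply, hl, IsLocalizedModule.mapExtendScalars_apply_apply] at h1
  have hf1 : (1 : Cp) = f 1 := by simp [f]
  rw [hf1, IsLocalizedModule.map_apply] at h1
  have h2 : algebraMap B R (ρ 1) = algebraMap B R (s : B) := by
    have : (s : B) • (1 : R) = algebraMap B R (s : B) := by
      rw [Algebra.smul_def, mul_one]
    rw [← this]
    exact h1.symm
  have hunit : IsUnit (algebraMap B R (s : B)) := IsLocalization.map_units R s
  rw [← h2] at hunit
  exact (IsLocalization.AtPrime.isUnit_to_map_iff R p (ρ 1)).mp hunit hmem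

end Groth.Agent.Lib.Helper50
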