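import Mathlib
import Groth.Prelude

/-!
# Normality descends along ring maps with a linear retraction (helper50)

If `S` is a normal ring, `R → S` a ring map with an `R`-linear retraction `ρ : S → R`
(`ρ 1 = 1`) and `R` is local, then `R` is an integrally closed domain.
-/

open Polynomial

universe u

namespace Groth.Agent.Lib.Helper50

/-- In an integrally closed domain, a homogeneous integral equation for `a` over `b` forces
`b ∣ a`. -/
theorem dvd_of_scaleRoots_eval_eq_zero {D : Type*} [CommRing D] [IsDomain D]
    [IsIntegrallyClosed D] (a b : D) (p : D[X]) (hp : p.Monic)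
    (h : (p.scaleRoots b).eval a = 0) : b ∣ a := by
  by_cases hb : b = 0
  · subst hb
    rw [scaleRoots_zero, hp.leadingCoeff, one_smul, eval_pow, eval_X] at h
    have ha : a = 0 := (show IsNilpotent a from ⟨_, h⟩).eq_zero
    rw [ha]
  · let K := FractionRing D
    have hfb : algebraMap D K b ≠ 0 := by
      rwa [Ne, map_eq_zero_iff _ (IsFractionRing.injective D K)]
    have h1 := scaleRoots_eval₂_mul (p := p) (algebraMap D K)
      (algebraMap D K a / algebraMap D K b) b
    rw [mul_div_cancel₀ _ hfb, eval₂_at_apply, h, map_zero] at h1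
    have h2 : eval₂ (algebraMap D K) (algebraMap D K a / algebraMap D K b) p = 0 := by
      rcases mul_eq_zero.mp h1.symm with h3 | h3
      · exact absurd (show IsNilpotent (algebraMap D K b) from ⟨_, h3⟩).eq_zero hfb
      · exact h3
    have hint : IsIntegral D (algebraMap D K a / algebraMap D K b) := ⟨p, hp, h2⟩
    obtain ⟨d, hd⟩ := IsIntegrallyClosed.algebraMap_eq_of_integral hint
    refine ⟨d, ?_⟩
    apply IsFractionRing.injective D K
    rw [map_mul, hd, mul_div_cancel₀ _ hfb]


/-- In a normal ring, a homogeneous integral equation for `a` over `b` forces `a ∈ (b)`. -/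
theorem mem_span_of_scaleRoots_eval_eq_zero {S : Type u} [CommRing S] (hS : EGA4.IsNormalRing S)
    (a b : S) (p : S[X]) (hp : p.Monic) (h : (p.scaleRoots b).eval a = 0) :
    a ∈ Ideal.span {b} := by
  apply Ideal.mem_of_localization_maximal
  intro P hP
  obtain ⟨hdom, hic⟩ := hS P
  set f := algebraMap S (Localization.AtPrime P) with hf
  have h' : ((p.map f).scaleRoots (f b)).eval (f a) = 0 := by
    rw [← map_scaleRoots p b f (by rw [hp.leadingCoeff, map_one]; exact one_ne_zero), eval_map,
      eval₂_at_apply, h, map_zero]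
  have hdvd := dvd_of_scaleRoots_eval_eq_zero (f a) (f b) (p.map f) (hp.map f) h'
  rw [Ideal.map_span, Set.image_singleton, Ideal.mem_span_singleton]
  exact hdvd

/-- **Normality descends along pure (split) ring maps to a local ring.** -/
theorem isDomain_and_isIntegrallyClosed_of_retraction {R S : Type u} [CommRing R] [IsLocalRing R]
    [CommRing S] [Algebra R S] (hS : EGA4.IsNormalRing S) (ρ : S →ₗ[R] R) (hρ : ρ 1 = 1) :
    IsDomain R ∧ IsIntegrallyClosed R := by
  have hρalg : ∀ a : R, ρ (algebraMap R S a) = a := fun a => by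
    rw [Algebra.algebraMap_eq_smul_one, map_smul, hρ, smul_eq_mul, mul_one]
  haveI : Nontrivial S := by
    refine ⟨⟨0, 1, fun h => ?_⟩⟩
    have := congrArg ρ h
    rw [map_zero, hρ] at this
    exact zero_ne_one this
  -- the key divisibility
  have key : ∀ (a b : R) (p : R[X]), p.Monic → (p.scaleRoots b).eval a = 0 → b ∣ a := by
    intro a b p hp h
    set f := algebraMap R S with hf
    have h' : ((p.map f).scaleRoots (f b)).eval (f a) = 0 := by
      rw [← map_scaleRoots p b f (by rw [hp.leadingCoeff, map_one]; exact one_ne_zero), eval_map,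
        eval₂_at_apply, h, map_zero]
    have hmem := mem_span_of_scaleRoots_eval_eq_zero hS (f a) (f b) (p.map f) (hp.map f) h'
    obtain ⟨y, hy⟩ := Ideal.mem_span_singleton.mp hmem
    refine ⟨ρ y, ?_⟩
    have := congrArg ρ hy
    rw [hρalg, hf, Algebra.algebraMap_eq_smul_one, smul_mul_assoc, one_mul, map_smul,
      smul_eq_mul] at this
    exact this
  -- `R` is reduced
  have hred : ∀ a : R, IsNilpotent a → a = 0 := by
    rintro a ⟨n, hn⟩
    have h0 : ((X ^ n : R[X]).scaleRoots 0).eval a = 0 := by
      rw [scaleRoots_zero, (monic_X_pow n).leadingCoeff, one_smul, natDegree_X_pow, eval_pow,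
        eval_X, hn]
    exact zero_dvd_iff.mp (key a 0 (X ^ n) (monic_X_pow n) h0)
  -- `R` is a domain
  have hdom : IsDomain R := by
    have hnz : NoZeroDivisors R := by
      refine ⟨fun {x y} hxy => ?_⟩
      have hp : (X ^ 2 - X : R[X]).Monic := by
        apply Polynomial.monic_X_pow_sub
        rw [degree_X]; norm_num
      have hnd : (X ^ 2 - X : R[X]).natDegree = 2 := by
        rw [natDegree_sub_eq_left_of_natDegree_lt] <;> simp
      have hev : ∀ a b : R, ((X ^ 2 - X : R[X]).scaleRoots b).eval a = a ^ 2 - b * a := by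
        intro a b
        rw [eval_eq_sum_range' (n := 3) (by rw [natDegree_scaleRoots, hnd]; norm_num)]
        simp only [Finset.sum_range_succ, Finset.sum_range_zero, coeff_scaleRoots, hnd, coeff_sub,
          coeff_X_pow, coeff_X]
        norm_num
        ring
      have h1 : (x + y) ∣ x := key x (x + y) _ hp (by rw [hev]; linear_combination -hxy)
      obtain ⟨r, hr⟩ := h1
      -- x (1 - r) = y r
      have h2 : x * (1 - r) = y * r := by linear_combination hr
      rcases IsLocalRing.isUnit_or_isUnit_one_sub_self r with hu | hu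
      · right
        have : y ^ 2 * r = 0 := by linear_combination y * h2.symm + (1 - r) * hxy
        have h3 : y ^ 2 = 0 := by
          have := congrArg (· * (hu.unit⁻¹ : Rˣ).1) this
          simpa [mul_assoc] using this
        exact hred y ⟨2, h3⟩
      · left
        have : x ^ 2 * (1 - r) = 0 := by linear_combination x * h2 + r * hxy
        have h3 : x ^ 2 = 0 := by
          have := congrArg (· * (hu.unit⁻¹ : Rˣ).1) this
          simpa [mul_assoc] using this
        exact hred x ⟨2, h3⟩
    exact NoZeroDivisors.to_isDomain R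
  refine ⟨hdom, ?_⟩
  rw [isIntegrallyClosed_iff (FractionRing R)]
  intro x hx
  obtain ⟨a, b, hb, rfl⟩ := IsFractionRing.div_surjective (A := R) x
  obtain ⟨p, hp, hpx⟩ := hx
  have h1 := scaleRoots_eval₂_eq_zero_of_eval₂_div_eq_zero
    (IsFractionRing.injective R (FractionRing R)) hpx hb
  rw [eval₂_at_apply, map_eq_zero_iff _ (IsFractionRing.injective R (FractionRing R))] at h1
  obtain ⟨r, hr⟩ := key a b p hp h1
  refine ⟨r, ?_⟩
  have hb0 : algebraMap R (FractionRing R) b ≠ 0 :=
    map_ne_zero_of_mem_nonZeroDivisors _ (IsFractionRing.injective R (FractionRing R)) hb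
  rw [hr, map_mul, mul_div_cancel_left₀ _ hb0]

end Groth.Agent.Lib.Helper50
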