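import Mathlib
import Groth.Prelude
import Groth.Agent.Lib.Helper50.ComplRetraction
import Groth.Agent.Lib.Helper50.DvrRetraction
import Groth.Agent.Lib.Helper50.PureNormal
import Groth.Agent.Lib.Helper24.SmoothNormal

/-!
# Normality of localizations of `B̂` at primes over codimension `≤ 1` points of `B` (helper50)
-/

open TensorProduct

universe u

namespace Groth.Agent.Lib.Helper50

section

variable {B C : Type u} [CommRing B] [CommRing C] [Algebra B C] (I : Ideal B)

/-- The completed retraction as a `B̂`-linear map (for the `B̂`-algebra structure on `Ĉ` given by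
`complAlgMap`). -/
noncomputable def complRetr (ρ : C →ₗ[B] B) :
    letI := (complAlgMap (C := C) I).toAlgebra
    AdicCompletion (I.map (algebraMap B C)) C →ₗ[AdicCompletion I B] AdicCompletion I B :=
  letI := (complAlgMap (C := C) I).toAlgebra
  { toFun := complRetr₀ I ρ
    map_add' := map_add _
    map_smul' := fun x y => by
      rw [Algebra.smul_def, RingHom.algebraMap_toAlgebra, complRetr₀_mul]
      rfl }

end

/-- Let `B` be Noetherian, `C` a finite `B`-algebra containing `B` whose `I C`-adic completion is
normal, `q` a prime of `B̂` over a prime `p` of `B` with `B_p` an integrally closed domain of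
dimension `≤ 1`.  Then `B̂_q` is an integrally closed domain. -/
theorem isDomain_isIntegrallyClosed_localization_adicCompletion {B C : Type u} [CommRing B]
    [IsNoetherianRing B] [CommRing C] [Algebra B C] [Module.Finite B C]
    (hinj : Function.Injective (algebraMap B C)) (I : Ideal B)
    (hC : EGA4.IsNormalRing (AdicCompletion (I.map (algebraMap B C)) C))
    (q : Ideal (AdicCompletion I B)) [q.IsPrime]
    (hp : IsDomain (Localization.AtPrime (q.comap (algebraMap B (AdicCompletion I B)))) ∧
      IsIntegrallyClosed (Localization.AtPrime (q.comap (algebraMap B (AdicCompletion I B)))))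
    (hht : (q.comap (algebraMap B (AdicCompletion I B))).height ≤ 1) :
    IsDomain (Localization.AtPrime q) ∧ IsIntegrallyClosed (Localization.AtPrime q) := by
  obtain ⟨hdom, hic⟩ := hp
  obtain ⟨ρ, hρ⟩ := exists_linearMap_one_notMem hinj
    (q.comap (algebraMap B (AdicCompletion I B))) hht
  letI : Algebra (AdicCompletion I B) (AdicCompletion (I.map (algebraMap B C)) C) :=
    (complAlgMap (C := C) I).toAlgebra
  let ρh : AdicCompletion (I.map (algebraMap B C)) C →ₗ[AdicCompletion I B] AdicCompletion I B :=
    complRetr I ρ
  have h1 : ρh 1 = algebraMap B (AdicCompletion I B) (ρ 1) := complRetr₀_one I ρ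
  have hnq : algebraMap B (AdicCompletion I B) (ρ 1) ∉ q := hρ
  have hu : IsUnit (algebraMap (AdicCompletion I B) (Localization.AtPrime q)
      (algebraMap B (AdicCompletion I B) (ρ 1))) :=
    IsLocalization.map_units (Localization.AtPrime q) (⟨_, hnq⟩ : q.primeCompl)
  let ρq : AdicCompletion (I.map (algebraMap B C)) C →ₗ[AdicCompletion I B]
      Localization.AtPrime q :=
    (hu.unit⁻¹ : (Localization.AtPrime q)ˣ).1 •
      ((Algebra.linearMap (AdicCompletion I B) (Localization.AtPrime q)) ∘ₗ ρh)
  let ρ'' : Localization.AtPrime q ⊗[AdicCompletion I B]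
      AdicCompletion (I.map (algebraMap B C)) C →ₗ[Localization.AtPrime q] Localization.AtPrime q :=
    LinearMap.liftBaseChange (Localization.AtPrime q) ρq
  have hρ'' : ρ'' 1 = 1 := by
    rw [Algebra.TensorProduct.one_def, LinearMap.liftBaseChange_tmul, one_smul]
    show (hu.unit⁻¹ : (Localization.AtPrime q)ˣ).1 *
      algebraMap (AdicCompletion I B) (Localization.AtPrime q) (ρh 1) = 1
    rw [h1]
    exact hu.val_inv_mul
  have hnorm : EGA4.IsNormalRing (Localization.AtPrime q ⊗[AdicCompletion I B]
      AdicCompletion (I.map (algebraMap B C)) C) := by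
    letI : Algebra (AdicCompletion (I.map (algebraMap B C)) C)
        (Localization.AtPrime q ⊗[AdicCompletion I B]
          AdicCompletion (I.map (algebraMap B C)) C) := Algebra.TensorProduct.rightAlgebra
    haveI : IsLocalization (Algebra.algebraMapSubmonoid
        (AdicCompletion (I.map (algebraMap B C)) C) q.primeCompl)
        (Localization.AtPrime q ⊗[AdicCompletion I B]
          AdicCompletion (I.map (algebraMap B C)) C) :=
      IsLocalization.tensorRight (Localization.AtPrime q) q.primeCompl
    exact Groth.Agent.Lib.Helper24.isNormalRing_of_isLocalization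
      (Algebra.algebraMapSubmonoid (AdicCompletion (I.map (algebraMap B C)) C) q.primeCompl) hC
  exact isDomain_and_isIntegrallyClosed_of_retraction hnorm ρ'' hρ''

end Groth.Agent.Lib.Helper50
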