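import Mathlib
import Groth.Prelude
import Groth.Agent.Lib.Helper50.ComplNormal
import Groth.Agent.Lib.Helper29.NormalLocus
import Groth.Agent.Lib.Helper29.SerreNormal
import Groth.Agent.Lib.Helper29.DepthFlat2
import Groth.Agent.S0543

/-!
# The completion of a normal ring sitting in a finite algebra with normal completion (helper50)
-/

open IsLocalRing

universe u

namespace Groth.Agent.Lib.Helper50

/-- Let `B` be a Noetherian normal ring, `I` an ideal, `C ⊇ B` a finite `B`-algebra whose
`I C`-adic completion is normal.  Then the `I`-adic completion of `B` is normal. -/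
theorem isNormalRing_adicCompletion_of_finite_injective {B C : Type u} [CommRing B]
    [IsNoetherianRing B] [CommRing C] [Algebra B C] [Module.Finite B C]
    (hinj : Function.Injective (algebraMap B C)) (I : Ideal B) (hB : EGA4.IsNormalRing B)
    (hC : EGA4.IsNormalRing (AdicCompletion (I.map (algebraMap B C)) C)) :
    EGA4.IsNormalRing (AdicCompletion I B) := by
  haveI hN : IsNoetherianRing (AdicCompletion I B) := Groth.Agent.S0543.result B I
  haveI hflat : Module.Flat B (AdicCompletion I B) := inferInstance
  -- primes over points of codimension ≤ 1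
  have key : ∀ (Q : Ideal (AdicCompletion I B)) [Q.IsPrime],
      (Q.comap (algebraMap B (AdicCompletion I B))).height ≤ 1 →
      IsDomain (Localization.AtPrime Q) ∧ IsIntegrallyClosed (Localization.AtPrime Q) := by
    intro Q hQ hht
    exact isDomain_isIntegrallyClosed_localization_adicCompletion hinj I hC Q
      (hB (Q.comap (algebraMap B (AdicCompletion I B)))) hht
  have hheight : ∀ (Q : Ideal (AdicCompletion I B)) [Q.IsPrime],
      (Q.comap (algebraMap B (AdicCompletion I B))).height ≤ Q.height := by
    intro Q hQ
    haveI : Q.LiesOver (Q.comap (algebraMap B (AdicCompletion I B))) := ⟨rfl⟩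
    rw [Ideal.height_eq_height_add_of_liesOver_of_hasGoingDown
      (Q.comap (algebraMap B (AdicCompletion I B))) Q]
    exact le_self_add
  apply Groth.Agent.Lib.Helper29.isNormalRing_of_hasRk_one_of_hasSk_two
  · -- (R₁)
    intro Q hQ hht
    obtain ⟨hd, hic⟩ := key Q ((hheight Q).trans hht)
    exact Groth.Agent.Lib.Helper29.isRegularLocalRing_of_mem_norLocus_of_height_le_one
      (A := AdicCompletion I B) (q := ⟨Q, hQ⟩) ⟨hd, hic⟩ hht
  · -- (S₂)
    rw [Groth.Agent.Lib.Helper29.hasSk_self_iff]
    intro Q hQ
    by_cases hp : (Q.comap (algebraMap B (AdicCompletion I B))).height ≤ 1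
    · exact Groth.Agent.Lib.Helper29.min_two_le_depth_of_mem_norLocus
        (A := AdicCompletion I B) (q := ⟨Q, hQ⟩) (key Q hp)
    · -- depth argument
      set p := Q.comap (algebraMap B (AdicCompletion I B)) with hpdef
      haveI : Q.LiesOver p := ⟨rfl⟩
      have h2 : (2 : ℕ∞) ≤ p.height := by
        rw [not_le] at hp
        have : (1 : ℕ∞) + 1 ≤ p.height := Order.add_one_le_of_lt hp
        rwa [one_add_one_eq_two] at this
      have hBp := Groth.Agent.Lib.Helper29.min_two_le_depth_of_mem_norLocus
        (A := B) (q := ⟨p, inferInstance⟩) (hB p)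
      have hBp' : (2 : ℕ∞) ≤ LocCoh.depth (Localization.AtPrime p) (Localization.AtPrime p) := by
        refine le_trans ?_ hBp
        simp only [Nat.cast_ofNat]
        exact le_min le_rfl h2
      let _ := Localization.AtPrime.algebraOfLiesOver p Q
      have hNp : IsNoetherianRing (Localization.AtPrime p) :=
        IsLocalization.isNoetherianRing p.primeCompl _ inferInstance
      have hNq : IsNoetherianRing (Localization.AtPrime Q) :=
        IsLocalization.isNoetherianRing Q.primeCompl _ inferInstance
      have hflat' : Module.Flat (Localization.AtPrime p) (Localization.AtPrime Q) := inferInstance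
      have hloc : IsLocalHom (algebraMap (Localization.AtPrime p) (Localization.AtPrime Q)) := by
        rw [Localization.AtPrime.IsLiesOverAlgebra.algebraMap_eq]
        exact Localization.isLocalHom_localRingHom _ _ _ _
      have hle := Groth.Agent.Lib.Helper29.depth_self_le_of_flat (Localization.AtPrime p)
        (Localization.AtPrime Q)
      exact (min_le_left _ _).trans (by
        simp only [Nat.cast_ofNat]
        exact hBp'.trans hle)

end Groth.Agent.Lib.Helper50
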