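import Mathlib

set_option autoImplicit false
universe u
open TensorProduct IsLocalRing KaehlerDifferential

namespace Groth.Agent.Lib.Helper50

/-- Tower criterion: if `T` is formally smooth over `R` and `T ⊗[S] Ω[S/R] → Ω[T/R]` is a split
injection, then `T` is formally smooth over `S`. -/
theorem formallySmooth_of_split_mapBaseChange {R S T : Type u} [CommRing R] [CommRing S]
    [CommRing T] [Algebra R S] [Algebra R T] [Algebra S T] [IsScalarTower R S T]
    [Algebra.FormallySmooth R T]
    (h : ∃ l', l' ∘ₗ (KaehlerDifferential.mapBaseChange R S T) = LinearMap.id) :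
    Algebra.FormallySmooth S T := by
  have hex := KaehlerDifferential.exact_mapBaseChange_map R S T
  have hsurj : Function.Surjective (KaehlerDifferential.map R S T T) :=
    KaehlerDifferential.map_surjective R S T
  obtain ⟨hinj, l, hl⟩ := ((hex.split_tfae').out 1 0 rfl rfl).mp ⟨hsurj, h⟩
  haveI : Module.Projective T Ω[T⁄S] := Module.Projective.of_split l _ hl
  refine ⟨inferInstance, ⟨fun x y => ?_⟩⟩
  have key : ∀ z : Algebra.H1Cotangent S T, z = 0 := by
    intro z
    have h1 : Algebra.H1Cotangent.δ R S T z = 0 := by
      apply hinj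
      rw [map_zero]
      exact (Algebra.H1Cotangent.exact_δ_mapBaseChange R S T _).mpr ⟨z, rfl⟩
    obtain ⟨w, hw⟩ := (Algebra.H1Cotangent.exact_map_δ R S T _).mp h1
    rw [← hw, Subsingleton.elim w 0, map_zero]
  rw [key x, key y]

/-- Converse: formally smooth implies that `T ⊗[S] Ω[S/R] → Ω[T/R]` is injective. -/
theorem mapBaseChange_injective_of_formallySmooth {R S T : Type u} [CommRing R] [CommRing S]
    [CommRing T] [Algebra R S] [Algebra R T] [Algebra S T] [IsScalarTower R S T]
    [Algebra.FormallySmooth S T] :
    Function.Injective (KaehlerDifferential.mapBaseChange R S T) := by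
  rw [injective_iff_map_eq_zero]
  intro x hx
  obtain ⟨z, rfl⟩ := (Algebra.H1Cotangent.exact_δ_mapBaseChange R S T x).mp hx
  rw [Subsingleton.elim z 0, map_zero]

end Groth.Agent.Lib.Helper50
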