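import Mathlib
import Groth.Agent.Lib.Helper50.CotangentSmooth

set_option autoImplicit false
universe u
open TensorProduct IsLocalRing KaehlerDifferential

namespace Groth.Agent.Lib.Helper50

section
variable {R S T : Type u} [CommRing R] [CommRing S] [CommRing T] [IsLocalRing S] [IsLocalRing T]
  [Algebra R S] [Algebra R T] [Algebra S T] [IsScalarTower R S T]

/-- with `R → κ_T` surjective, every element of `S` is congruent to a scalar mod `m_S`. -/
theorem exists_sub_algebraMap_mem_maximalIdeal
    (hb : Function.Surjective (algebraMap R (ResidueField T))) (z : S) :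
    ∃ r : R, z - algebraMap R S r ∈ maximalIdeal S := by
  obtain ⟨r, hr⟩ := hb (residue T (algebraMap S T z))
  refine ⟨r, ?_⟩
  by_contra hnot
  have hu : IsUnit (z - algebraMap R S r) := by
    by_contra h'
    exact hnot ((IsLocalRing.mem_maximalIdeal _).mpr h')
  have hu' : IsUnit (algebraMap S T (z - algebraMap R S r)) := hu.map _
  have h0 : residue T (algebraMap S T (z - algebraMap R S r)) = 0 := by
    rw [map_sub, map_sub, ← hr, ← IsScalarTower.algebraMap_apply R S T,
      IsScalarTower.algebraMap_apply R T (ResidueField T)]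
    exact sub_self _
  have : algebraMap S T (z - algebraMap R S r) ∈ maximalIdeal T := by
    rwa [← IsLocalRing.residue_eq_zero_iff]
  exact ((IsLocalRing.mem_maximalIdeal _).mp this) hu'

omit [IsLocalRing S] [Algebra R S] [Algebra S T] [IsScalarTower R S T] in
theorem exists_sub_algebraMap_mem_maximalIdeal_self
    (hb : Function.Surjective (algebraMap R (ResidueField T))) (t : T) :
    ∃ r : R, t - algebraMap R T r ∈ maximalIdeal T := by
  obtain ⟨r, hr⟩ := hb (residue T t)
  refine ⟨r, ?_⟩
  rw [← IsLocalRing.residue_eq_zero_iff, map_sub, ← hr,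
    IsScalarTower.algebraMap_apply R T (ResidueField T)]
  exact sub_self _

/-- (a): every element of `κ_T ⊗ (T ⊗ Ω[S/R])` is of the form `1 ⊗ (1 ⊗ D z)` with `z ∈ m_S`. -/
theorem exists_eq_one_tmul_one_tmul_D
    (hb : Function.Surjective (algebraMap R (ResidueField T)))
    (x : ResidueField T ⊗[T] (T ⊗[S] Ω[S⁄R])) :
    ∃ z ∈ maximalIdeal S, x = (1 : ResidueField T) ⊗ₜ[T] ((1 : T) ⊗ₜ[S] D R S z) := by
  -- first x = 1 ⊗ n
  have h1 : ∃ n : T ⊗[S] Ω[S⁄R], x = (1 : ResidueField T) ⊗ₜ[T] n := by
    induction x using TensorProduct.induction_on with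
    | zero => exact ⟨0, (TensorProduct.tmul_zero _ _).symm⟩
    | tmul a n =>
      obtain ⟨t, rfl⟩ := IsLocalRing.residue_surjective a
      refine ⟨t • n, ?_⟩
      rw [← TensorProduct.smul_tmul, Algebra.smul_def, mul_one]
      rfl
    | add x y hx hy =>
      obtain ⟨n, rfl⟩ := hx
      obtain ⟨n', rfl⟩ := hy
      exact ⟨n + n', (TensorProduct.tmul_add _ _ _).symm⟩
  obtain ⟨n, rfl⟩ := h1
  have hspan : Submodule.span T (TensorProduct.mk S T Ω[S⁄R] 1 '' Set.range (D R S)) = ⊤ := by
    rw [← Submodule.baseChange_span, KaehlerDifferential.span_range_derivation,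
      Submodule.baseChange_top]
  have hn : n ∈ Submodule.span T (TensorProduct.mk S T Ω[S⁄R] 1 '' Set.range (D R S)) := by
    rw [hspan]; trivial
  induction hn using Submodule.span_induction with
  | mem n hn =>
    obtain ⟨_, ⟨z₀, rfl⟩, rfl⟩ := hn
    obtain ⟨r, hr⟩ := exists_sub_algebraMap_mem_maximalIdeal (T := T) hb z₀
    refine ⟨_, hr, ?_⟩
    rw [map_sub, Derivation.map_algebraMap, sub_zero]
    rfl
  | zero => exact ⟨0, zero_mem _, by simp⟩
  | add n n' _ _ hn hn' =>
    obtain ⟨z, hz, e⟩ := hn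
    obtain ⟨z', hz', e'⟩ := hn'
    refine ⟨z + z', add_mem hz hz', ?_⟩
    rw [TensorProduct.tmul_add, e, e', map_add, TensorProduct.tmul_add, TensorProduct.tmul_add]
  | smul t n _ hn =>
    obtain ⟨z, hz, e⟩ := hn
    obtain ⟨r, hr⟩ := exists_sub_algebraMap_mem_maximalIdeal_self (R := R) hb t
    refine ⟨algebraMap R S r * z, Ideal.mul_mem_left _ _ hz, ?_⟩
    have e1 : (1 : ResidueField T) ⊗ₜ[T] (t • n) = t • ((1 : ResidueField T) ⊗ₜ[T] n) := by
      rw [TensorProduct.tmul_smul]
    have e2 : ∀ m : T ⊗[S] Ω[S⁄R], t • ((1 : ResidueField T) ⊗ₜ[T] m) =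
        (algebraMap R T r) • ((1 : ResidueField T) ⊗ₜ[T] m) := by
      intro m
      rw [TensorProduct.smul_tmul', TensorProduct.smul_tmul']
      congr 1
      rw [Algebra.smul_def, Algebra.smul_def, mul_one, mul_one]
      have := (IsLocalRing.residue_eq_zero_iff _).mpr hr
      rw [map_sub, sub_eq_zero] at this
      exact this
    rw [e1, e, e2, ← TensorProduct.tmul_smul, TensorProduct.smul_tmul', smul_eq_mul, mul_one,
      Derivation.leibniz, Derivation.map_algebraMap, smul_zero, add_zero,
      IsScalarTower.algebraMap_apply R S T, ← TensorProduct.smul_tmul, Algebra.smul_def, mul_one]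

omit [Algebra R T] [IsScalarTower R S T] in
/-- (b): `z ∈ m_S²` gives `1 ⊗ (1 ⊗ D z) = 0`. -/
theorem one_tmul_one_tmul_D_eq_zero [IsLocalHom (algebraMap S T)]
    (z : S) (hz : z ∈ maximalIdeal S ^ 2) :
    (1 : ResidueField T) ⊗ₜ[T] ((1 : T) ⊗ₜ[S] D R S z) = 0 := by
  rw [pow_two] at hz
  have key : ∀ a b : S, a ∈ maximalIdeal S →
      (1 : ResidueField T) ⊗ₜ[T] ((1 : T) ⊗ₜ[S] (a • D R S b)) = 0 := by
    intro a b ha
    have hmem : algebraMap S T a ∈ maximalIdeal T := by
      rw [IsLocalRing.mem_maximalIdeal, mem_nonunits_iff]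
      intro hunit
      exact ((IsLocalRing.mem_maximalIdeal _).mp ha) (isUnit_of_map_unit (algebraMap S T) a hunit)
    rw [← TensorProduct.smul_tmul, Algebra.smul_def, mul_one]
    have : (algebraMap S T a) ⊗ₜ[S] D R S b = (algebraMap S T a) • ((1 : T) ⊗ₜ[S] D R S b) := by
      rw [TensorProduct.smul_tmul', smul_eq_mul, mul_one]
    rw [this, ← TensorProduct.smul_tmul, Algebra.smul_def, mul_one]
    have h0 : algebraMap T (ResidueField T) (algebraMap S T a) = 0 :=
      (IsLocalRing.residue_eq_zero_iff _).mpr hmem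
    rw [h0, TensorProduct.zero_tmul]
  refine Submodule.mul_induction_on (C := fun z =>
    (1 : ResidueField T) ⊗ₜ[T] ((1 : T) ⊗ₜ[S] D R S z) = 0) hz ?_ ?_
  · intro u hu v hv
    show (1 : ResidueField T) ⊗ₜ[T] ((1 : T) ⊗ₜ[S] D R S (u * v)) = 0
    rw [Derivation.leibniz, TensorProduct.tmul_add, TensorProduct.tmul_add, key u v hu,
      key v u hv, add_zero]
  · intro x y hx hy
    show (1 : ResidueField T) ⊗ₜ[T] ((1 : T) ⊗ₜ[S] D R S (x + y)) = 0
    rw [map_add, TensorProduct.tmul_add, TensorProduct.tmul_add, hx, hy, add_zero]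

omit [IsLocalRing S] [Algebra R S] [Algebra S T] [IsScalarTower R S T] in
/-- (c): for `T` formally smooth over `R` with `κ_T` formally smooth over `R`,
`1 ⊗ D z = 0` in `κ_T ⊗ Ω[T/R]` and `z ∈ m_T` imply `z ∈ m_T²`. -/
theorem mem_sq_of_one_tmul_D_eq_zero [Algebra.FormallySmooth R T]
    [Algebra.FormallySmooth R (ResidueField T)]
    (z : T) (hz : z ∈ maximalIdeal T)
    (h : (1 : ResidueField T) ⊗ₜ[T] D R T z = 0) : z ∈ maximalIdeal T ^ 2 := by
  have hsurj : Function.Surjective (algebraMap T (ResidueField T)) := IsLocalRing.residue_surjective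
  have hinj := (Algebra.FormallySmooth.kerCotangentToTensor_injective_iff (R := R) (P := T)
    (A := ResidueField T) hsurj).mpr inferInstance
  have hker : RingHom.ker (algebraMap T (ResidueField T)) = maximalIdeal T :=
    IsLocalRing.ker_residue
  have hz' : z ∈ RingHom.ker (algebraMap T (ResidueField T)) := hker ▸ hz
  have h1 : kerCotangentToTensor R T (ResidueField T) (Ideal.toCotangent _ ⟨z, hz'⟩) = 0 := by
    rw [kerCotangentToTensor_toCotangent]
    exact h
  have h2 := hinj (h1.trans (map_zero _).symm)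
  rw [Ideal.toCotangent_eq_zero] at h2
  rw [← hker]
  exact h2

/-- (B): injectivity of the cotangent map implies formal smoothness. -/
theorem formallySmooth_of_cotangent_injective [IsLocalHom (algebraMap S T)]
    [Algebra.FormallySmooth R T] [Algebra.FormallySmooth R (ResidueField T)]
    [Module.Finite S Ω[S⁄R]] [Module.Finite T Ω[T⁄R]]
    (hb : Function.Surjective (algebraMap R (ResidueField T)))
    (hc : ∀ z ∈ maximalIdeal S, algebraMap S T z ∈ maximalIdeal T ^ 2 → z ∈ maximalIdeal S ^ 2) :
    Algebra.FormallySmooth S T := by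
  haveI : Module.Free T Ω[T⁄R] := Module.free_of_flat_of_isLocalRing
  apply formallySmooth_of_split_mapBaseChange (R := R)
  rw [IsLocalRing.split_injective_iff_lTensor_residueField_injective]
  rw [injective_iff_map_eq_zero]
  intro x hx
  obtain ⟨z, hz, rfl⟩ := exists_eq_one_tmul_one_tmul_D (R := R) hb x
  have hmem : algebraMap S T z ∈ maximalIdeal T := by
    rw [IsLocalRing.mem_maximalIdeal, mem_nonunits_iff]
    intro hunit
    exact ((IsLocalRing.mem_maximalIdeal _).mp hz) (isUnit_of_map_unit (algebraMap S T) z hunit)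
  have h1 : (KaehlerDifferential.mapBaseChange R S T).lTensor (ResidueField T)
      ((1 : ResidueField T) ⊗ₜ[T] ((1 : T) ⊗ₜ[S] D R S z)) =
      (1 : ResidueField T) ⊗ₜ[T] D R T (algebraMap S T z) := by
    rw [LinearMap.lTensor_tmul, KaehlerDifferential.mapBaseChange_tmul, one_smul,
      KaehlerDifferential.map_D]
  rw [h1] at hx
  exact one_tmul_one_tmul_D_eq_zero z (hc z hz (mem_sq_of_one_tmul_D_eq_zero (R := R) _ hmem hx))

/-- (C): formal smoothness implies injectivity of the cotangent map (rational residue field). -/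
theorem mem_sq_of_formallySmooth [IsLocalHom (algebraMap S T)] [Algebra.FormallySmooth S T]
    (hb : Function.Bijective (algebraMap R (ResidueField T)))
    (z : S) (h : algebraMap S T z ∈ maximalIdeal T ^ 2) : z ∈ maximalIdeal S ^ 2 := by
  let B := S ⧸ (maximalIdeal S ^ 2)
  let I : Ideal B := (maximalIdeal S).map (Ideal.Quotient.mk (maximalIdeal S ^ 2))
  have hI : I ^ 2 = ⊥ := by
    rw [← Ideal.map_pow, Ideal.map_quotient_self]
  let e : R ≃+* ResidueField T := RingEquiv.ofBijective (algebraMap R (ResidueField T)) hb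
  let g₀ : T →+* B ⧸ I :=
    ((algebraMap R (B ⧸ I)).comp e.symm.toRingHom).comp (residue T)
  have hkill : ∀ a ∈ maximalIdeal S, algebraMap S (B ⧸ I) a = 0 := by
    intro a ha
    rw [IsScalarTower.algebraMap_apply S B (B ⧸ I)]
    exact Ideal.Quotient.eq_zero_iff_mem.mpr (Ideal.mem_map_of_mem _ ha)
  have hcomm : ∀ a : S, g₀ (algebraMap S T a) = algebraMap S (B ⧸ I) a := by
    intro a
    obtain ⟨r, hr⟩ := exists_sub_algebraMap_mem_maximalIdeal (T := T) hb.surjective a
    have h1 : residue T (algebraMap S T a) = e r := by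
      have hmem : algebraMap S T (a - algebraMap R S r) ∈ maximalIdeal T := by
        rw [IsLocalRing.mem_maximalIdeal, mem_nonunits_iff]
        intro hunit
        exact ((IsLocalRing.mem_maximalIdeal _).mp hr) (isUnit_of_map_unit (algebraMap S T) _ hunit)
      have := (IsLocalRing.residue_eq_zero_iff _).mpr hmem
      rw [map_sub, map_sub, sub_eq_zero, ← IsScalarTower.algebraMap_apply R S T] at this
      rw [this]
      rfl
    have h2 : g₀ (algebraMap S T a) = algebraMap R (B ⧸ I) r := by
      show algebraMap R (B ⧸ I) (e.symm (residue T (algebraMap S T a))) = _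
      rw [h1, RingEquiv.symm_apply_apply]
    rw [h2]
    have h3 := hkill _ hr
    rw [map_sub, sub_eq_zero, ← IsScalarTower.algebraMap_apply R S (B ⧸ I)] at h3
    exact h3.symm
  let g : T →ₐ[S] B ⧸ I := { g₀ with commutes' := hcomm }
  let ψ : T →ₐ[S] B := Algebra.FormallySmooth.lift I ⟨2, hI⟩ g
  have hψ : ∀ t, Ideal.Quotient.mk I (ψ t) = g t := Algebra.FormallySmooth.mk_lift I ⟨2, hI⟩ g
  have hψm : ∀ t ∈ maximalIdeal T, ψ t ∈ I := by
    intro t ht
    rw [← Ideal.Quotient.eq_zero_iff_mem, hψ]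
    show algebraMap R (B ⧸ I) (e.symm (residue T t)) = 0
    rw [(IsLocalRing.residue_eq_zero_iff _).mpr ht, map_zero, map_zero]
  have hψ2 : ∀ t ∈ maximalIdeal T ^ 2, ψ t = 0 := by
    intro t ht
    rw [pow_two] at ht
    refine Submodule.mul_induction_on (C := fun t => ψ t = 0) ht ?_ ?_
    · intro u hu v hv
      show ψ (u * v) = 0
      have : ψ u * ψ v ∈ I ^ 2 := by
        rw [pow_two I]; exact Ideal.mul_mem_mul (hψm u hu) (hψm v hv)
      rw [hI] at this
      rw [map_mul]
      exact this
    · intro x y hx hy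
      show ψ (x + y) = 0
      rw [map_add, hx, hy, add_zero]
  have h0 := hψ2 _ h
  rw [AlgHom.commutes] at h0
  exact Ideal.Quotient.eq_zero_iff_mem.mp h0

end

end Groth.Agent.Lib.Helper50
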