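import Mathlib
import Groth.Agent.Lib.Helper50.CotangentSmooth

set_option autoImplicit false
universe u
open TensorProduct KaehlerDifferential

namespace Groth.Agent.Lib.Helper50

/-- Rank additivity for a formally smooth tower with free differentials. -/
theorem rank_eq_of_formallySmooth_tower {R A B : Type u} [CommRing R] [CommRing A] [CommRing B]
    [Nontrivial B] [Algebra R A] [Algebra R B] [Algebra A B] [IsScalarTower R A B]
    [Algebra.FormallySmooth A B] (a b m : ℕ)
    (eA : Ω[A⁄R] ≃ₗ[A] (Fin a → A)) (eB : Ω[B⁄R] ≃ₗ[B] (Fin b → B))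
    (eBA : Ω[B⁄A] ≃ₗ[B] (Fin m → B)) : b = a + m := by
  have hinj := mapBaseChange_injective_of_formallySmooth (R := R) (S := A) (T := B)
  have hex := KaehlerDifferential.exact_mapBaseChange_map R A B
  have hsurj : Function.Surjective (KaehlerDifferential.map R A B B) :=
    KaehlerDifferential.map_surjective R A B
  haveI : Module.Free B Ω[B⁄A] := Module.Free.of_equiv eBA.symm
  obtain ⟨s, hs⟩ := Module.projective_lifting_property (KaehlerDifferential.map R A B B)
    (LinearMap.id : Ω[B⁄A] →ₗ[B] Ω[B⁄A]) hsurj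
  obtain ⟨e, -, -⟩ := ((hex.split_tfae').out 0 2 rfl rfl).mp ⟨hinj, s, hs⟩
  let e1 : B ⊗[A] Ω[A⁄R] ≃ₗ[B] (Fin a → B) :=
    (LinearEquiv.baseChange A B _ _ eA).trans (TensorProduct.piScalarRight A B B (Fin a))
  let E : (Fin b → B) ≃ₗ[B] ((Fin a → B) × (Fin m → B)) :=
    (eB.symm.trans e).trans (LinearEquiv.prodCongr e1 eBA)
  have h := E.finrank_eq
  rw [Module.finrank_prod] at h
  simpa using h

end Groth.Agent.Lib.Helper50
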