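import Mathlib
import Groth.Agent.Lib.Helper50.CotangentSmooth2
import Groth.Agent.Lib.Helper54.ZeroDim
import Groth.Prelude.Def_FixPt

set_option autoImplicit false
universe u
open CategoryTheory CategoryTheory.Limits AlgebraicGeometry TensorProduct IsLocalRing

namespace Groth.Agent.Lib.Helper50

/-- The residue field of a closed point of a scheme locally of finite type over an algebraically
closed field `k` is `k`: stated for the stalk of `Spec k`. -/
theorem bijective_stalkMap_residue_of_isClosed (k : Type u) [Field k] [IsAlgClosed k]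
    {X : Scheme.{u}} (qX : X ⟶ Spec (CommRingCat.of k)) [LocallyOfFiniteType qX] (x : X)
    (hx : IsClosed ({x} : Set X)) :
    Function.Bijective ((qX.stalkMap x ≫ X.residue x).hom) := by
  have hci : IsClosedImmersion (X.fromSpecResidueField x) :=
    isClosed_singleton_iff_isClosedImmersion.mp hx
  have hfin : IsFinite (X.fromSpecResidueField x ≫ qX) := by
    rw [isFinite_iff_locallyOfFiniteType_of_jacobsonSpace]
    infer_instance
  let φ : CommRingCat.of k ⟶ X.residueField x :=
    Spec.preimage (X.fromSpecResidueField x ≫ qX)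
  have hφ : Spec.map φ = X.fromSpecResidueField x ≫ qX := Spec.map_preimage _
  have hφfin : φ.hom.Finite := by
    rw [← IsFinite.SpecMap_iff, hφ]
    exact hfin
  have hsurj : Function.Surjective φ.hom := by
    algebraize [φ.hom]
    have : Algebra.IsIntegral k (X.residueField x) := Algebra.IsIntegral.of_finite _ _
    exact (IsAlgClosed.algebraMap_bijective_of_isIntegral (k := k) (K := X.residueField x)).2
  have hfac : φ = ((Scheme.ΓSpecIso (CommRingCat.of k)).inv ≫
      (Spec (CommRingCat.of k)).presheaf.germ ⊤ (qX x) trivial) ≫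
      (qX.stalkMap x ≫ X.residue x) := by
    apply Spec.map_injective
    rw [hφ, Spec.map_comp, Spec.map_comp, ← Spec.fromSpecStalk_eq, Category.assoc,
      Scheme.SpecMap_stalkMap_fromSpecStalk]
    rfl
  have hsurj2 : Function.Surjective ((qX.stalkMap x ≫ X.residue x).hom) := by
    have : φ.hom = (qX.stalkMap x ≫ X.residue x).hom.comp
        ((Scheme.ΓSpecIso (CommRingCat.of k)).inv ≫
          (Spec (CommRingCat.of k)).presheaf.germ ⊤ (qX x) trivial).hom := by
      rw [← CommRingCat.hom_comp, ← hfac]
    rw [this] at hsurj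
    exact Function.Surjective.of_comp hsurj
  refine ⟨?_, hsurj2⟩
  -- injectivity: the stalk of Spec k is a field
  have hsub : Subsingleton ↥(Spec (CommRingCat.of k)) :=
    (inferInstance : Subsingleton (PrimeSpectrum k))
  have hF : IsField ((Spec (CommRingCat.of k)).presheaf.stalk (qX x)) :=
    Groth.Agent.Lib.Helper54.isField_stalk_of_forall_specializes_eq _ _
      (fun y _ => Subsingleton.elim _ _)
  rw [injective_iff_map_eq_zero]
  intro a ha
  by_contra hne
  obtain ⟨b, hab⟩ := hF.mul_inv_cancel hne
  have h1 : (qX.stalkMap x ≫ X.residue x).hom (a * b) = 1 := by rw [hab, map_one]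
  rw [map_mul, ha, zero_mul] at h1
  exact zero_ne_one h1

end Groth.Agent.Lib.Helper50

namespace Groth.Agent.Lib.Helper50

/-- Injectivity of the cotangent map in terms of elements. -/
theorem injective_cotangentMapAt_iff {X Y : Scheme.{u}} (f : X ⟶ Y) (x : X) :
    Function.Injective (FixPt.cotangentMapAt f x (f.base x) rfl) ↔
      ∀ z ∈ maximalIdeal (Y.presheaf.stalk (f x)),
        (f.stalkMap x).hom z ∈ maximalIdeal (X.presheaf.stalk x) ^ 2 →
          z ∈ maximalIdeal (Y.presheaf.stalk (f x)) ^ 2 := by
  have hst : ∀ z, FixPt.stalkMapAt f x (f.base x) rfl z = (f.stalkMap x).hom z := by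
    intro z
    unfold FixPt.stalkMapAt
    simp [TopCat.Presheaf.stalkCongr]
  constructor
  · intro hinj z hz hz2
    have h1 : FixPt.cotangentMapAt f x (f.base x) rfl
        (Ideal.toCotangent _ ⟨z, hz⟩) = 0 := by
      unfold FixPt.cotangentMapAt
      rw [Ideal.mapCotangent_toCotangent, Ideal.toCotangent_eq_zero]
      show FixPt.stalkMapAt f x (f.base x) rfl z ∈ _
      rw [hst]
      exact hz2
    have h2 := hinj (h1.trans (map_zero _).symm)
    rwa [Ideal.toCotangent_eq_zero] at h2
  · intro h
    rw [injective_iff_map_eq_zero]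
    intro ζ hζ
    obtain ⟨⟨z, hz⟩, rfl⟩ := Ideal.toCotangent_surjective _ ζ
    unfold FixPt.cotangentMapAt at hζ
    rw [Ideal.mapCotangent_toCotangent, Ideal.toCotangent_eq_zero] at hζ
    rw [Ideal.toCotangent_eq_zero]
    apply h z hz
    have : FixPt.stalkMapAt f x (f.base x) rfl z ∈ maximalIdeal (X.presheaf.stalk x) ^ 2 := hζ
    rwa [hst] at this

end Groth.Agent.Lib.Helper50

namespace Groth.Agent.Lib.Helper50

/-- At a closed point of a smooth variety mapping to a variety over an algebraically closed field,
smoothness of `f` is equivalent to injectivity of the cotangent map. -/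
theorem mem_smoothLocus_iff_injective_cotangentMapAt (k : Type u) [Field k] [IsAlgClosed k]
    {X Y : Scheme.{u}} (qY : Y ⟶ Spec (CommRingCat.of k)) (f : X ⟶ Y)
    [LocallyOfFiniteType qY] [LocallyOfFiniteType (f ≫ qY)] [Smooth (f ≫ qY)]
    [LocallyOfFinitePresentation f] (x : X) (hx : IsClosed ({x} : Set X)) :
    x ∈ f.smoothLocus ↔ Function.Injective (FixPt.cotangentMapAt f x (f.base x) rfl) := by
  rw [injective_cotangentMapAt_iff, Scheme.Hom.mem_smoothLocus]
  let R := (Spec (CommRingCat.of k)).presheaf.stalk ((f ≫ qY) x)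
  let S := Y.presheaf.stalk (f x)
  let T := X.presheaf.stalk x
  letI a1 : Algebra R S := (qY.stalkMap (f x)).hom.toAlgebra
  letI a2 : Algebra S T := (f.stalkMap x).hom.toAlgebra
  letI a3 : Algebra R T := ((f ≫ qY).stalkMap x).hom.toAlgebra
  haveI : IsScalarTower R S T := IsScalarTower.of_algebraMap_eq' (by
    simp only [RingHom.algebraMap_toAlgebra]
    rw [Scheme.Hom.stalkMap_comp]
    rfl)
  haveI : IsLocalHom (algebraMap S T) := inferInstanceAs (IsLocalHom (f.stalkMap x).hom)
  haveI hsm : Algebra.FormallySmooth R T := by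
    have : x ∈ (f ≫ qY).smoothLocus := by rw [Scheme.Hom.smoothLocus_eq_top]; trivial
    exact this
  haveI : Algebra.EssFiniteType R S := LocallyOfFiniteType.stalkMap qY (f x)
  haveI : Algebra.EssFiniteType R T := LocallyOfFiniteType.stalkMap (f ≫ qY) x
  have hb : Function.Bijective (algebraMap R (ResidueField T)) :=
    bijective_stalkMap_residue_of_isClosed k (f ≫ qY) x hx
  haveI : Algebra.FormallySmooth R (ResidueField T) := by
    let e : R ≃ₐ[R] ResidueField T := AlgEquiv.ofBijective (Algebra.ofId R _) hb
    exact Algebra.FormallySmooth.of_equiv e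
  show Algebra.FormallySmooth S T ↔ _
  constructor
  · intro h z _ hz2
    exact mem_sq_of_formallySmooth (R := R) hb z hz2
  · intro h
    exact formallySmooth_of_cotangent_injective (R := R) hb.surjective h

end Groth.Agent.Lib.Helper50
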