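import Mathlib

set_option autoImplicit false
universe u
open TensorProduct

namespace Groth.Agent.Lib.Helper50

/-- Tower `R → A → B` with `B` formally smooth over `R` and `Ω[A/R]`, `Ω[B/R]`, `Ω[B/A]` free of
ranks `a`, `a + n`, `n`: then the first fundamental sequence is left exact. -/
theorem mapBaseChange_injective_of_free_ranks {R A B : Type u} [CommRing R] [CommRing A]
    [CommRing B] [Algebra R A] [Algebra R B] [Algebra A B] [IsScalarTower R A B] (a n : ℕ)
    (eA : Ω[A⁄R] ≃ₗ[A] (Fin a → A)) (eB : Ω[B⁄R] ≃ₗ[B] (Fin (a + n) → B))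
    (eBA : Ω[B⁄A] ≃ₗ[B] (Fin n → B)) :
    Function.Injective (KaehlerDifferential.mapBaseChange R A B) := by
  haveI : Module.Free B Ω[B⁄A] := Module.Free.of_equiv eBA.symm
  haveI : Module.Finite B Ω[B⁄R] := Module.Finite.equiv eB.symm
  have hex := KaehlerDifferential.exact_mapBaseChange_map R A B
  have hsurj : Function.Surjective (KaehlerDifferential.map R A B B) :=
    KaehlerDifferential.map_surjective R A B
  obtain ⟨s, hs⟩ := Module.projective_lifting_property (KaehlerDifferential.map R A B B)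
    (LinearMap.id : Ω[B⁄A] →ₗ[B] Ω[B⁄A]) hsurj
  let φ : (B ⊗[A] Ω[A⁄R]) × Ω[B⁄A] →ₗ[B] Ω[B⁄R] :=
    (KaehlerDifferential.mapBaseChange R A B).coprod s
  have hφ : Function.Surjective φ := by
    intro y
    have h1 : KaehlerDifferential.map R A B B (y - s (KaehlerDifferential.map R A B B y)) = 0 := by
      have := LinearMap.congr_fun hs (KaehlerDifferential.map R A B B y)
      simp only [LinearMap.comp_apply, LinearMap.id_apply] at this
      rw [map_sub, this, sub_self]
    obtain ⟨z, hz⟩ := (hex _).mp h1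
    refine ⟨(z, KaehlerDifferential.map R A B B y), ?_⟩
    simp only [φ, LinearMap.coprod_apply, hz]
    abel
  -- the source is free of rank a + n
  let e1 : B ⊗[A] Ω[A⁄R] ≃ₗ[B] (Fin a → B) :=
    (LinearEquiv.baseChange A B _ _ eA).trans (TensorProduct.piScalarRight A B B (Fin a))
  let e2 : ((B ⊗[A] Ω[A⁄R]) × Ω[B⁄A]) ≃ₗ[B] ((Fin a → B) × (Fin n → B)) :=
    LinearEquiv.prodCongr e1 eBA
  let e3 : ((Fin a → B) × (Fin n → B)) ≃ₗ[B] (Fin (a + n) → B) :=
    (LinearEquiv.sumArrowLequivProdArrow (Fin a) (Fin n) B B).symm.trans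
      (LinearEquiv.funCongrLeft B B finSumFinEquiv.symm)
  let ψ : ((B ⊗[A] Ω[A⁄R]) × Ω[B⁄A]) ≃ₗ[B] Ω[B⁄R] := (e2.trans e3).trans eB.symm
  have hinj : Function.Injective φ :=
    OrzechProperty.injective_of_surjective_of_injective ψ.toLinearMap φ ψ.injective hφ
  intro x y hxy
  have : φ (x, 0) = φ (y, 0) := by simp [φ, hxy]
  exact (Prod.ext_iff.mp (hinj this)).1

theorem formallySmooth_of_free_ranks {R A B : Type u} [CommRing R] [CommRing A]
    [CommRing B] [Algebra R A] [Algebra R B] [Algebra A B] [IsScalarTower R A B]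
    [Algebra.FormallySmooth R B] (a n : ℕ)
    (eA : Ω[A⁄R] ≃ₗ[A] (Fin a → A)) (eB : Ω[B⁄R] ≃ₗ[B] (Fin (a + n) → B))
    (eBA : Ω[B⁄A] ≃ₗ[B] (Fin n → B)) : Algebra.FormallySmooth A B := by
  have hinj := mapBaseChange_injective_of_free_ranks (R := R) a n eA eB eBA
  haveI : Module.Free B Ω[B⁄A] := Module.Free.of_equiv eBA.symm
  refine ⟨inferInstance, ⟨fun x y => ?_⟩⟩
  have key : ∀ z : Algebra.H1Cotangent A B, z = 0 := by
    intro z
    have h1 : Algebra.H1Cotangent.δ R A B z = 0 := by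
      apply hinj
      rw [map_zero]
      exact (Algebra.H1Cotangent.exact_δ_mapBaseChange R A B _).mpr ⟨z, rfl⟩
    obtain ⟨w, hw⟩ := (Algebra.H1Cotangent.exact_map_δ R A B _).mp h1
    rw [← hw, Subsingleton.elim w 0, map_zero]
  rw [key x, key y]

end Groth.Agent.Lib.Helper50
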