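import Mathlib
import Groth.Agent.Lib.Helper50.SmoothTower
import Groth.Agent.Lib.Helper24.SmoothAtOmega
import Groth.Agent.Lib.Helper80.OmegaUniversal

set_option autoImplicit false
universe u
open CategoryTheory CategoryTheory.Limits AlgebraicGeometry TopologicalSpace TensorProduct

namespace Groth.Agent.Lib.Helper50

/-- Tower `X → Y → S` with `X/S` smooth and the three sheaves of differentials free of ranks
`n`, `a + n`, `a` near `x`: then `f` is smooth at `x`. -/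
theorem mem_smoothLocus_of_restrict_iso_freeMod_tower {X Y S : Scheme.{u}} (qY : Y ⟶ S)
    (f : X ⟶ Y) [Smooth (f ≫ qY)] [LocallyOfFinitePresentation f]
    (ΩX : X.Modules) (dX : OmegaSh.Der (f ≫ qY) ΩX) (hdX : OmegaSh.IsUniversal dX)
    (ΩY : Y.Modules) (dY : OmegaSh.Der qY ΩY) (hdY : OmegaSh.IsUniversal dY)
    (Ωf : X.Modules) (df : OmegaSh.Der f Ωf) (hdf : OmegaSh.IsUniversal df)
    (x : X) (a n : ℕ)
    (U₁ : X.Opens) (hx₁ : x ∈ U₁) (iso₁ : Ωf.restrict U₁.ι ≅ FlatMod.freeMod (↑U₁) n)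
    (U₂ : X.Opens) (hx₂ : x ∈ U₂) (iso₂ : ΩX.restrict U₂.ι ≅ FlatMod.freeMod (↑U₂) (a + n))
    (W₀ : Y.Opens) (hy : f x ∈ W₀) (iso₃ : ΩY.restrict W₀.ι ≅ FlatMod.freeMod (↑W₀) a) :
    x ∈ f.smoothLocus := by
  obtain ⟨T, hT, hxT, -⟩ := exists_isAffineOpen_mem_and_subset (x := qY (f x)) (U := ⊤) trivial
  obtain ⟨W, hW, hxW, hWle⟩ := exists_isAffineOpen_mem_and_subset (x := f x)
    (U := W₀ ⊓ qY ⁻¹ᵁ T) ⟨hy, hxT⟩
  obtain ⟨V, hV, hxV, hVle⟩ := exists_isAffineOpen_mem_and_subset (x := x)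
    (U := U₁ ⊓ U₂ ⊓ f ⁻¹ᵁ W) ⟨⟨hx₁, hx₂⟩, hxW⟩
  have hWT : W ≤ qY ⁻¹ᵁ T := hWle.trans inf_le_right
  have hWW₀ : W ≤ W₀ := hWle.trans inf_le_left
  have hVW : V ≤ f ⁻¹ᵁ W := hVle.trans inf_le_right
  have hVU₁ : V ≤ U₁ := hVle.trans (inf_le_left.trans inf_le_left)
  have hVU₂ : V ≤ U₂ := hVle.trans (inf_le_left.trans inf_le_right)
  have hVT : V ≤ (f ≫ qY) ⁻¹ᵁ T := hVW.trans (f.preimage_mono hWT)
  letI i1 : Algebra Γ(S, T) Γ(Y, W) := (qY.appLE T W hWT).hom.toAlgebra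
  letI i2 : Algebra Γ(Y, W) Γ(X, V) := (f.appLE W V hVW).hom.toAlgebra
  letI i3 : Algebra Γ(S, T) Γ(X, V) := ((f ≫ qY).appLE T V hVT).hom.toAlgebra
  haveI : IsScalarTower Γ(S, T) Γ(Y, W) Γ(X, V) := IsScalarTower.of_algebraMap_eq' (by
    simp only [RingHom.algebraMap_toAlgebra]
    rw [← CommRingCat.hom_comp, Scheme.Hom.appLE_comp_appLE])
  obtain ⟨E₁, -⟩ := Groth.Agent.Lib.Helper51.OmegaUniv.exists_sections_equiv f hdf hV hW hVW
  obtain ⟨E₂, -⟩ := Groth.Agent.Lib.Helper51.OmegaUniv.exists_sections_equiv (f ≫ qY) hdX hV hT hVT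
  obtain ⟨E₃, -⟩ := Groth.Agent.Lib.Helper51.OmegaUniv.exists_sections_equiv qY hdY hW hT hWT
  let eBA : Ω[Γ(X, V)⁄Γ(Y, W)] ≃ₗ[Γ(X, V)] (Fin n → Γ(X, V)) := E₁.trans
    (Groth.Agent.Lib.Helper49.sectionsEquivOfIsoFree Ωf n
      (Groth.Agent.Lib.Helper49.isoFreeOfLE hVU₁ Ωf n iso₁))
  let eB : Ω[Γ(X, V)⁄Γ(S, T)] ≃ₗ[Γ(X, V)] (Fin (a + n) → Γ(X, V)) := E₂.trans
    (Groth.Agent.Lib.Helper49.sectionsEquivOfIsoFree ΩX (a + n)
      (Groth.Agent.Lib.Helper49.isoFreeOfLE hVU₂ ΩX (a + n) iso₂))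
  let eA : Ω[Γ(Y, W)⁄Γ(S, T)] ≃ₗ[Γ(Y, W)] (Fin a → Γ(Y, W)) := E₃.trans
    (Groth.Agent.Lib.Helper49.sectionsEquivOfIsoFree ΩY a
      (Groth.Agent.Lib.Helper49.isoFreeOfLE hWW₀ ΩY a iso₃))
  have hsm : ((f ≫ qY).appLE T V hVT).hom.Smooth := (f ≫ qY).smooth_appLE hT hV hVT
  haveI : Algebra.Smooth Γ(S, T) Γ(X, V) := hsm
  haveI : Algebra.FormallySmooth Γ(S, T) Γ(X, V) := inferInstance
  haveI hfs : Algebra.FormallySmooth Γ(Y, W) Γ(X, V) :=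
    formallySmooth_of_free_ranks (R := Γ(S, T)) a n eA eB eBA
  have hfp : (f.appLE W V hVW).hom.FinitePresentation := f.finitePresentation_appLE hW hV hVW
  haveI : Algebra.FinitePresentation Γ(Y, W) Γ(X, V) := hfp
  haveI : Algebra.Smooth Γ(Y, W) Γ(X, V) := ⟨inferInstance, inferInstance⟩
  rw [Scheme.Hom.mem_smoothLocus, formallySmooth_stalkMap_iff W hW V hV hVW hxV]
  exact inferInstanceAs (Algebra.IsSmoothAt _ _)



/-- The rank of a locally free sheaf at a point is well defined. -/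
theorem eq_of_restrict_iso_freeMod {X : Scheme.{u}} (F : X.Modules) (x : X) (m n : ℕ)
    (U₁ U₂ : X.Opens) (h₁ : x ∈ U₁) (h₂ : x ∈ U₂)
    (i₁ : F.restrict U₁.ι ≅ FlatMod.freeMod (↑U₁) m)
    (i₂ : F.restrict U₂.ι ≅ FlatMod.freeMod (↑U₂) n) : m = n := by
  obtain ⟨V, hV, hxV, hVle⟩ := exists_isAffineOpen_mem_and_subset (x := x) (U := U₁ ⊓ U₂) ⟨h₁, h₂⟩
  have e₁ := Groth.Agent.Lib.Helper49.sectionsEquivOfIsoFree F m
    (Groth.Agent.Lib.Helper49.isoFreeOfLE (hVle.trans inf_le_left) F m i₁)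
  have e₂ := Groth.Agent.Lib.Helper49.sectionsEquivOfIsoFree F n
    (Groth.Agent.Lib.Helper49.isoFreeOfLE (hVle.trans inf_le_right) F n i₂)
  have hnt : Nontrivial Γ(X, V) := by
    have hp := (hV.primeIdealOf ⟨x, hxV⟩).isPrime
    exact ⟨⟨0, 1, fun h => hp.ne_top ((Ideal.eq_top_iff_one _).mpr (h ▸ Ideal.zero_mem _))⟩⟩
  have := (e₁.symm.trans e₂).finrank_eq
  simpa using this

/-- If `f` is smooth at every point and its sheaf of differentials is locally free of rank `n`,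
then `f` is smooth of relative dimension `n`. -/
theorem smoothOfRelativeDimension_of_smoothLocus_of_finLocFreeOfRank {X Y : Scheme.{u}} (f : X ⟶ Y)
    [LocallyOfFinitePresentation f] (n : ℕ)
    (Ω' : X.Modules) (d : OmegaSh.Der f Ω') (hd : OmegaSh.IsUniversal d)
    (hΩ : FlatMod.IsFinLocFreeOfRank n Ω') (hmem : ∀ x : X, x ∈ f.smoothLocus) :
    SmoothOfRelativeDimension n f := by
  refine ⟨fun x => ?_⟩
  obtain ⟨U, hU, V', hV', hVU, hxV', hss⟩ :=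
    Groth.Agent.Lib.Helper24.exists_chart_isStandardSmooth_of_mem_smoothLocus f x (hmem x)
  obtain ⟨m, hm⟩ := Groth.Agent.H52.exists_relDim_of_isStandardSmooth _ hss
  obtain ⟨iso_m⟩ := Groth.Agent.Lib.Helper24.nonempty_restrict_iso_freeMod_of_chart f Ω' d hd hU hV'
    hVU m hm x hxV'
  obtain ⟨U₁, hx₁, ⟨iso₁⟩⟩ := hΩ x
  have hmn : m = n := eq_of_restrict_iso_freeMod Ω' x m n V' U₁ hxV' hx₁ iso_m iso₁
  subst hmn
  exact ⟨U, hU, V', hV', hxV', hVU, hm⟩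

end Groth.Agent.Lib.Helper50
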