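import Mathlib
import Groth.Agent.Lib.Helper50.SmoothOmegaRel
import Groth.Agent.Lib.Helper50.CotangentSmooth3
import Groth.Agent.Lib.Helper50.CotangentSmooth4

set_option autoImplicit false
universe u
open CategoryTheory CategoryTheory.Limits AlgebraicGeometry TopologicalSpace TensorProduct

namespace Groth.Agent.Lib.Helper50

/-- Rank additivity of differentials for a smooth morphism in a tower `X → Y → S`. -/
theorem rank_eq_of_smooth_tower {X Y S : Scheme.{u}} (qY : Y ⟶ S)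
    (f : X ⟶ Y) [Smooth f]
    (ΩX : X.Modules) (dX : OmegaSh.Der (f ≫ qY) ΩX) (hdX : OmegaSh.IsUniversal dX)
    (ΩY : Y.Modules) (dY : OmegaSh.Der qY ΩY) (hdY : OmegaSh.IsUniversal dY)
    (Ωf : X.Modules) (df : OmegaSh.Der f Ωf) (hdf : OmegaSh.IsUniversal df)
    (x : X) (a b m : ℕ)
    (U₁ : X.Opens) (hx₁ : x ∈ U₁) (iso₁ : Ωf.restrict U₁.ι ≅ FlatMod.freeMod (↑U₁) m)
    (U₂ : X.Opens) (hx₂ : x ∈ U₂) (iso₂ : ΩX.restrict U₂.ι ≅ FlatMod.freeMod (↑U₂) b)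
    (W₀ : Y.Opens) (hy : f x ∈ W₀) (iso₃ : ΩY.restrict W₀.ι ≅ FlatMod.freeMod (↑W₀) a) :
    b = a + m := by
  obtain ⟨T, hT, hxT, -⟩ := exists_isAffineOpen_mem_and_subset (x := qY (f x)) (U := ⊤) trivial
  obtain ⟨W, hW, hxW, hWle⟩ := exists_isAffineOpen_mem_and_subset (x := f x)
    (U := W₀ ⊓ qY ⁻¹ᵁ T) ⟨hy, hxT⟩
  obtain ⟨V, hV, hxV, hVle⟩ := exists_isAffineOpen_mem_and_subset (x := x)
    (U := U₁ ⊓ U₂ ⊓ f ⁻¹ᵁ W) ⟨⟨hx₁, hx₂⟩, hxW⟩
  have hWT : W ≤ qY ⁻¹ᵁ T := hWle.trans inf_le_right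
  have hWW₀ : W ≤ W₀ := hWle.trans inf_le_left
  have hVW : V ≤ f ⁻¹ᵁ W := hVle.trans inf_le_right
  have hVU₁ : V ≤ U₁ := hVle.trans (inf_le_left.trans inf_le_left)
  have hVU₂ : V ≤ U₂ := hVle.trans (inf_le_left.trans inf_le_right)
  have hVT : V ≤ (f ≫ qY) ⁻¹ᵁ T := hVW.trans (f.preimage_mono hWT)
  letI i1 : Algebra Γ(S, T) Γ(Y, W) := (qY.appLE T W hWT).hom.toAlgebra
  letI i2 : Algebra Γ(Y, W) Γ(X, V) := (f.appLE W V hVW).hom.toAlgebra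
  letI i3 : Algebra Γ(S, T) Γ(X, V) := ((f ≫ qY).appLE T V hVT).hom.toAlgebra
  haveI : IsScalarTower Γ(S, T) Γ(Y, W) Γ(X, V) := IsScalarTower.of_algebraMap_eq' (by
    simp only [RingHom.algebraMap_toAlgebra]
    rw [← CommRingCat.hom_comp, Scheme.Hom.appLE_comp_appLE])
  obtain ⟨E₁, -⟩ := Groth.Agent.Lib.Helper51.OmegaUniv.exists_sections_equiv f hdf hV hW hVW
  obtain ⟨E₂, -⟩ := Groth.Agent.Lib.Helper51.OmegaUniv.exists_sections_equiv (f ≫ qY) hdX hV hT hVT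
  obtain ⟨E₃, -⟩ := Groth.Agent.Lib.Helper51.OmegaUniv.exists_sections_equiv qY hdY hW hT hWT
  let eBA : Ω[Γ(X, V)⁄Γ(Y, W)] ≃ₗ[Γ(X, V)] (Fin m → Γ(X, V)) := E₁.trans
    (Groth.Agent.Lib.Helper49.sectionsEquivOfIsoFree Ωf m
      (Groth.Agent.Lib.Helper49.isoFreeOfLE hVU₁ Ωf m iso₁))
  let eB : Ω[Γ(X, V)⁄Γ(S, T)] ≃ₗ[Γ(X, V)] (Fin b → Γ(X, V)) := E₂.trans
    (Groth.Agent.Lib.Helper49.sectionsEquivOfIsoFree ΩX b
      (Groth.Agent.Lib.Helper49.isoFreeOfLE hVU₂ ΩX b iso₂))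
  let eA : Ω[Γ(Y, W)⁄Γ(S, T)] ≃ₗ[Γ(Y, W)] (Fin a → Γ(Y, W)) := E₃.trans
    (Groth.Agent.Lib.Helper49.sectionsEquivOfIsoFree ΩY a
      (Groth.Agent.Lib.Helper49.isoFreeOfLE hWW₀ ΩY a iso₃))
  have hsm : (f.appLE W V hVW).hom.Smooth := f.smooth_appLE hW hV hVW
  haveI : Algebra.Smooth Γ(Y, W) Γ(X, V) := hsm
  haveI : Algebra.FormallySmooth Γ(Y, W) Γ(X, V) := inferInstance
  haveI hnt : Nontrivial Γ(X, V) := by
    have hp := (hV.primeIdealOf ⟨x, hxV⟩).isPrime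
    exact ⟨⟨0, 1, fun h => hp.ne_top ((Ideal.eq_top_iff_one _).mpr (h ▸ Ideal.zero_mem _))⟩⟩
  exact rank_eq_of_formallySmooth_tower (R := Γ(S, T)) a b m eA eB eBA

/-- In a Jacobson space, an open set containing all closed points is everything. -/
theorem eq_top_of_closedPoints_subset {X : Type*} [TopologicalSpace X] [JacobsonSpace X]
    (U : Set X) (hU : IsOpen U) (h : ∀ x, IsClosed ({x} : Set X) → x ∈ U) : U = Set.univ := by
  by_contra hne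
  have hZ : IsClosed Uᶜ := hU.isClosed_compl
  have h1 := JacobsonSpace.closure_inter_closedPoints hZ
  have h2 : Uᶜ ∩ closedPoints X = ∅ := by
    ext y
    simp only [Set.mem_inter_iff, Set.mem_compl_iff, mem_closedPoints_iff, Set.mem_empty_iff_false,
      iff_false, not_and]
    intro hy hcl
    exact hy (h y hcl)
  rw [h2, closure_empty] at h1
  apply hne
  rw [← Set.compl_empty_iff, ← h1]

end Groth.Agent.Lib.Helper50
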