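import Mathlib
import Groth.Agent.Lib.Helper29.FlatAscent4

/-!
# Normality of the total space of a flat family with reduced fibres of dimension `≤ 1` (helper50)

Ring-level statement: `R → S` flat map of Noetherian rings, `R` normal, all fibre rings reduced of
dimension `≤ 1`, fibres over the minimal primes `(R_1)`. Then `S` is normal.
-/

set_option autoImplicit false
universe u

namespace Groth.Agent.Lib.Helper50.CurveFamNormal

open IsLocalRing TensorProduct Groth.Agent.Lib.Helper29

/-- A reduced Noetherian ring of dimension `≤ 1` is `(S_2)`. -/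
theorem hasSk_two_of_isReduced_of_dim_le_one (F : Type u) [CommRing F] [IsNoetherianRing F]
    [IsReduced F] (hdim : ringKrullDim F ≤ 1) : LocCoh.HasSk 2 F F := by
  have h1 := ((Groth.Agent.S0602.result F).mp inferInstance).2
  rw [hasSk_self_iff] at h1 ⊢
  intro p hp
  have hht : p.height ≤ 1 := by
    have := (Ideal.height_le_ringKrullDim_of_ne_top (I := p) hp.ne_top).trans hdim
    exact_mod_cast this
  have h := h1 p
  rw [min_eq_right (by exact_mod_cast hht)] at h
  rw [min_eq_right (hht.trans (by norm_num))]
  exact h

variable {R S : Type u} [CommRing R] [CommRing S] [Algebra R S] [IsNoetherianRing R]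
  [IsNoetherianRing S] [Module.Flat R S]

theorem isNormalRing_of_flat_of_reduced_fibers (hR : EGA4.IsNormalRing R)
    (hfib : ∀ (p : Ideal R) [p.IsPrime], IsReduced (p.Fiber S) ∧ ringKrullDim (p.Fiber S) ≤ 1)
    (hgen : ∀ (p : Ideal R) [p.IsPrime], p.height = 0 → LocCoh.HasRk 1 (p.Fiber S)) :
    EGA4.IsNormalRing S := by
  rw [isNormalRing_iff_hasRk_one_and_hasSk_two] at hR ⊢
  refine ⟨?_, hasSk_of_flat_of_fibers 2 hR.2 (fun p _ => ?_)⟩
  · intro Q hQ hht
    have hlies : Q.LiesOver (Q.under R) := ⟨rfl⟩
    have hnt : Nontrivial (EGA4.FibLocRing R S Q) := nontrivial_fibLoc (Q.under R) Q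
    have hh := height_eq_add_of_flat (Q.under R) Q
    have hp1 : (Q.under R).height ≤ 1 := by
      refine le_trans ?_ hht
      rw [hh]; exact le_self_add
    have h1 : IsRegularLocalRing (Localization.AtPrime (Q.under R)) := hR.1 _ hp1
    obtain ⟨q', hq', ⟨e⟩⟩ := exists_fiber_prime_equiv_fibLocRing R S Q
    have hNF : IsNoetherianRing ((Q.under R).Fiber S) := isNoetherianRing_fiber R S (Q.under R)
    have hNq' : IsNoetherianRing (Localization.AtPrime q') :=
      IsLocalization.isNoetherianRing q'.primeCompl _ inferInstance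
    have hNQ : IsNoetherianRing (Localization.AtPrime Q) :=
      IsLocalization.isNoetherianRing Q.primeCompl _ inferInstance
    have hNFL : IsNoetherianRing (EGA4.FibLocRing R S Q) := inferInstance
    have h2 : IsRegularLocalRing (EGA4.FibLocRing R S Q) := by
      by_cases hp0 : (Q.under R).height = 0
      · have hk : LocCoh.HasRk 1 (EGA4.FibLocRing R S Q) :=
          hasRk_of_ringEquiv e.symm 1 (hasRk_localization_atPrime 1 (hgen _ hp0) q')
        refine isRegularLocalRing_of_hasRk _ 1 hk ?_
        refine le_trans ?_ hht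
        rw [hh]; exact le_add_self
      · have := (hfib (Q.under R)).1
        have hk0 : LocCoh.HasRk 0 ((Q.under R).Fiber S) :=
          ((Groth.Agent.S0602.result _).mp inferInstance).1
        have hk : LocCoh.HasRk 0 (EGA4.FibLocRing R S Q) :=
          hasRk_of_ringEquiv e.symm 0 (hasRk_localization_atPrime 0 hk0 q')
        refine isRegularLocalRing_of_hasRk _ 0 hk ?_
        have hp1' : 1 ≤ (Q.under R).height := Order.one_le_iff_pos.mpr (pos_iff_ne_zero.mpr hp0)
        rw [hh] at hht
        by_contra hcon
        have hm : 1 ≤ (maximalIdeal (EGA4.FibLocRing R S Q)).height := by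
          rw [Order.one_le_iff_pos]
          exact pos_iff_ne_zero.mpr (fun h0 => hcon (by rw [h0]; exact le_rfl))
        have : (2 : ℕ∞) ≤ 1 := le_trans (by
          calc (2 : ℕ∞) = 1 + 1 := by norm_num
            _ ≤ _ := add_le_add hp1' hm) hht
        exact absurd this (by norm_num)
    exact isRegularLocalRing_of_flat_of_fibLoc (Q.under R) Q h1 h2
  · have := (hfib p).1
    have hNF : IsNoetherianRing (p.Fiber S) := isNoetherianRing_fiber R S p
    exact hasSk_two_of_isReduced_of_dim_le_one _ (hfib p).2

end Groth.Agent.Lib.Helper50.CurveFamNormal
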