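import Mathlib
import Groth.Agent.Lib.Helper50.CurveFamNormal
import Groth.Agent.Lib.Helper47.RegularMorFibres
import Groth.Agent.Lib.Helper24.SmoothNormalStalk

/-!
# Normality of the total space of a flat family of reduced curves with smooth generic fibre
(helper50), scheme level.
-/

set_option autoImplicit false
universe u

namespace Groth.Agent.Lib.Helper50.CurveFamNormal

open AlgebraicGeometry CategoryTheory Limits TopologicalSpace
open Groth.Agent.Lib.Helper29 Groth.Agent.Lib.Helper24 Groth.Agent.Lib.Helper47.RegularMorFibres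

theorem ringKrullDim_le_topologicalKrullDim {X : Scheme.{u}} {W : X.Opens} (hW : IsAffineOpen W) :
    ringKrullDim Γ(X, W) ≤ topologicalKrullDim X := by
  rw [← PrimeSpectrum.topologicalKrullDim_eq_ringKrullDim]
  have h1 : topologicalKrullDim (PrimeSpectrum Γ(X, W)) = topologicalKrullDim W :=
    (IsHomeomorph.topologicalKrullDim_eq _ (Scheme.homeoOfIso hW.isoSpec).isHomeomorph).symm
  rw [h1]
  exact topologicalKrullDim_subspace_le X W

/-- Affine opens of a scheme smooth over a field have normal coordinate rings. -/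
theorem isNormalRing_of_smooth_over_field {X : Scheme.{u}} (K : CommRingCat.{u}) (hK : IsField K)
    (g : X ⟶ Spec K) [Smooth g] {W : X.Opens} (hW : IsAffineOpen W) :
    EGA4.IsNormalRing Γ(X, W) := by
  have h := HasRingHomProperty.appLE (P := @Smooth) g inferInstance
    ⟨⊤, isAffineOpen_top _⟩ ⟨W, hW⟩ le_top
  algebraize [(g.appLE ⊤ W le_top).hom]
  have e : Γ(Spec K, ⊤) ≃+* K := (Scheme.ΓSpecIso K).commRingCatIsoToRingEquiv
  letI := hK.toField
  obtain ⟨h1, h2⟩ := isDomain_and_isIntegrallyClosed_of_ringEquiv e.symm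
    ⟨inferInstance, inferInstance⟩
  have : Algebra.Smooth Γ(Spec K, ⊤) Γ(X, W) := h
  exact isNormalRing_of_smooth_of_isIntegrallyClosed Γ(Spec K, ⊤) Γ(X, W)

theorem fromSpec_bot_eq_genericPoint {S : Scheme.{u}} [IsIntegral S] {V : S.Opens}
    (hV : IsAffineOpen V) [Nonempty V] (z : Spec Γ(S, V)) (hz : z.asIdeal = ⊥) :
    hV.fromSpec z = genericPoint S := by
  have h1 := genericPoint_eq_of_isOpenImmersion hV.fromSpec
  rw [genericPoint_eq_bot_of_affine] at h1
  rw [← h1]
  congr 1
  exact PrimeSpectrum.ext hz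

theorem fromSpec_mem {S : Scheme.{u}} {V : S.Opens} (hV : IsAffineOpen V) (z : Spec Γ(S, V)) :
    hV.fromSpec z ∈ V := by
  have : hV.fromSpec z ∈ Set.range hV.fromSpec := ⟨z, rfl⟩
  rw [hV.range_fromSpec] at this
  exact this

theorem nonempty_atPrime_equiv_stalk {S : Scheme.{u}} {V : S.Opens} (hV : IsAffineOpen V)
    (z : Spec Γ(S, V)) :
    Nonempty (Localization.AtPrime z.asIdeal ≃+* S.presheaf.stalk (hV.fromSpec z)) := by
  let := TopCat.Presheaf.algebra_section_stalk S.presheaf ⟨hV.fromSpec z, fromSpec_mem hV z⟩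
  have h := hV.isLocalization_stalk' z (fromSpec_mem hV z)
  exact ⟨(@IsLocalization.algEquiv _ _ z.asIdeal.primeCompl (Localization.AtPrime z.asIdeal) _ _
    _ (S.presheaf.stalk (hV.fromSpec z)) _ _ h).toRingEquiv⟩

theorem isNormalRing_of_isNormalScheme {S : Scheme.{u}} (hS : Pi1.IsNormalScheme S) {V : S.Opens}
    (hV : IsAffineOpen V) : EGA4.IsNormalRing Γ(S, V) := by
  intro p hp
  obtain ⟨e⟩ := nonempty_atPrime_equiv_stalk hV ⟨p, hp⟩
  exact isDomain_and_isIntegrallyClosed_of_ringEquiv e.symm (hS _)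

theorem isNormalScheme_of_isNormalRing {C : Scheme.{u}}
    (h : ∀ x : C, ∃ U : C.Opens, IsAffineOpen U ∧ x ∈ U ∧ EGA4.IsNormalRing Γ(C, U)) :
    Pi1.IsNormalScheme C := by
  intro x
  obtain ⟨U, hU, hxU, hN⟩ := h x
  obtain ⟨e⟩ := stalk_ringEquiv_atPrime hU x hxU
  exact isDomain_and_isIntegrallyClosed_of_ringEquiv e.symm (hN _)

theorem isNormalScheme_of_flat_of_reduced_fibres {S C : Scheme.{u}} [IsIntegral S]
    [IsLocallyNoetherian S] (hS : Pi1.IsNormalScheme S) (f : C ⟶ S) [Flat f]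
    [LocallyOfFiniteType f] (hred : ∀ s : S, IsReduced (f.fiber s))
    (hdim : ∀ s : S, topologicalKrullDim (f.fiber s) ≤ 1)
    (hsm : Smooth (f.fiberToSpecResidueField (genericPoint S))) : Pi1.IsNormalScheme C := by
  apply isNormalScheme_of_isNormalRing
  intro x
  obtain ⟨V, hV, hxV, -⟩ := exists_affine_nhd S ⊤ (f x) trivial
  obtain ⟨U, hU, hxU, hUV⟩ := exists_affine_nhd C (f ⁻¹ᵁ V) x hxV
  refine ⟨U, hU, hxU, ?_⟩
  letI : Algebra Γ(S, V) Γ(C, U) := (f.appLE V U hUV).hom.toAlgebra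
  have hflat : Module.Flat Γ(S, V) Γ(C, U) := Flat.flat_appLE (f := f) hV hU hUV
  have hNR : IsNoetherianRing Γ(S, V) := IsLocallyNoetherian.component_noetherian ⟨V, hV⟩
  have hNC : IsLocallyNoetherian C := LocallyOfFiniteType.isLocallyNoetherian f
  have hNS : IsNoetherianRing Γ(C, U) := IsLocallyNoetherian.component_noetherian ⟨U, hU⟩
  have : Nonempty V := ⟨⟨f x, hxV⟩⟩
  have hdom : IsDomain Γ(S, V) := inferInstance
  refine isNormalRing_of_flat_of_reduced_fibers (isNormalRing_of_isNormalScheme hS hV) ?_ ?_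
  · intro p hp
    let z : Spec Γ(S, V) := ⟨p, hp⟩
    have e := θ f hV hU hUV z
    have hW := isAffineOpen_chart f hV hU hUV z
    have := hred (hV.fromSpec z)
    refine ⟨isReduced_of_injective e.symm.toRingHom e.symm.injective, ?_⟩
    rw [← ringKrullDim_eq_of_ringEquiv e]
    exact (ringKrullDim_le_topologicalKrullDim hW).trans (hdim _)
  · intro p hp hht
    let z : Spec Γ(S, V) := ⟨p, hp⟩
    have hz : z.asIdeal = ⊥ := Ideal.height_eq_zero_iff_eq_bot.mp hht
    have hy := fromSpec_bot_eq_genericPoint hV z hz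
    have hsm' : Smooth (f.fiberToSpecResidueField (hV.fromSpec z)) := hy ▸ hsm
    have e := θ f hV hU hUV z
    have hW := isAffineOpen_chart f hV hU hUV z
    have hN := isNormalRing_of_smooth_over_field _ (Field.toIsField _)
      (f.fiberToSpecResidueField (hV.fromSpec z)) hW
    have hNF : IsNoetherianRing (z.asIdeal.Fiber Γ(C, U)) := isNoetherianRing_fiber _ _ _
    have hNW : IsNoetherianRing Γ(f.fiber (hV.fromSpec z), (f.fiberι (hV.fromSpec z)) ⁻¹ᵁ U) :=
      isNoetherianRing_of_ringEquiv _ e.symm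
    exact hasRk_of_ringEquiv e.symm 1 (hasRk_one_of_isNormalRing _ hN)

end Groth.Agent.Lib.Helper50.CurveFamNormal
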