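import Mathlib
import Groth.Prelude
import Groth.Agent.Lib.Helper73.RegularRing
import Groth.Agent.Lib.Helper50.GeomRegAt
import Groth.Agent.Lib.Helper50.GeomReduced

/-!
# A local domain with principal maximal ideal and separable residue field is geometrically
regular (helper50)
-/

open TensorProduct

universe u

namespace Groth.Agent.Lib.Helper50

/-- If `s` is a nonzerodivisor of the Noetherian ring `S` with `S ⧸ (s)` reduced and Artinian, then
`S` is regular at every prime containing `s`. -/
theorem isRegularLocalRing_atPrime_of_quotient_reduced_artinian {S : Type u} [CommRing S]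
    [IsNoetherianRing S] (s : S) (hs : s ∈ nonZeroDivisors S)
    [IsReduced (S ⧸ Ideal.span {s})] [IsArtinianRing (S ⧸ Ideal.span {s})]
    (m : Ideal S) [m.IsPrime] (hsm : s ∈ m) :
    IsRegularLocalRing (Localization.AtPrime m) := by
  have hle : RingHom.ker (Ideal.Quotient.mk (Ideal.span {s})) ≤ m := by
    rw [Ideal.mk_ker, Ideal.span_singleton_le_iff_mem]; exact hsm
  haveI hP : (m.map (Ideal.Quotient.mk (Ideal.span {s}))).IsPrime :=
    Ideal.map_isPrime_of_surjective Ideal.Quotient.mk_surjective hle
  set L := Localization.AtPrime (m.map (Ideal.Quotient.mk (Ideal.span {s}))) with hL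
  haveI : IsReduced L := inferInstance
  haveI : IsArtinianRing L := inferInstance
  have hfield : IsField L := IsArtinianRing.isField_of_isReduced_of_isLocalRing L
  letI := hfield.toField
  haveI : IsRegularLocalRing L := inferInstance
  exact Groth.Agent.Lib.Helper73.RegularRing.isRegularLocalRing_atPrime_of_quotient s m hsm hs

section

variable (k : Type u) [Field k] (R : Type u) [CommRing R] [IsDomain R] [IsLocalRing R]
  [IsNoetherianRing R] [Algebra k R]

/-- A Noetherian local domain `R` over `k` whose maximal ideal is principal and whose residue field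
is geometrically reduced (separable) over `k` is geometrically regular over `k`. -/
theorem isGeometricallyRegular_of_maximalIdeal_eq_span_singleton (t : R)
    (ht : IsLocalRing.maximalIdeal R = Ideal.span {t}) (ht0 : t ≠ 0)
    [Algebra.IsGeometricallyReduced k (IsLocalRing.ResidueField R)] :
    CAlg.IsGeometricallyRegular k R := by
  intro k' _ _ hfin
  haveI := hfin
  haveI hN : IsNoetherianRing (R ⊗[k] k') := Algebra.FiniteType.isNoetherianRing R _
  suffices hreg : IsRegularRing (R ⊗[k] k') from
    IsRegularRing.of_ringEquiv (Algebra.TensorProduct.comm k R k').toRingEquiv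
  set s : R ⊗[k] k' := algebraMap R (R ⊗[k] k') t with hsdef
  have hs : s ∈ nonZeroDivisors (R ⊗[k] k') := by
    have hreg' : IsRegular t := IsRegular.of_ne_zero ht0
    have hN : IsSMulRegular (R ⊗[k] k') t := Module.Flat.isSMulRegular_of_isRegular hreg'
    rw [mem_nonZeroDivisors_iff_right]
    intro y hy
    apply hN
    change t • y = t • 0
    rw [smul_zero, Algebra.smul_def, mul_comm]
    exact hy
  have hmap : (IsLocalRing.maximalIdeal R).map (algebraMap R (R ⊗[k] k')) = Ideal.span {s} := by
    rw [ht, Ideal.map_span, Set.image_singleton]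
  let e : (IsLocalRing.ResidueField R) ⊗[k] k' ≃+* (R ⊗[k] k') ⧸ Ideal.span {s} :=
    (Algebra.TensorProduct.quotientTensorEquiv (R := k) R k' R
      (IsLocalRing.maximalIdeal R)).toRingEquiv.trans (Ideal.quotEquivOfEq hmap)
  haveI hred0 : IsReduced (k' ⊗[k] IsLocalRing.ResidueField R) :=
    isReduced_tensor_of_isGeometricallyReduced
  haveI hred1 : IsReduced ((IsLocalRing.ResidueField R) ⊗[k] k') :=
    isReduced_of_injective (Algebra.TensorProduct.comm k (IsLocalRing.ResidueField R) k')
      (Algebra.TensorProduct.comm k (IsLocalRing.ResidueField R) k').injective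
  haveI : IsReduced ((R ⊗[k] k') ⧸ Ideal.span {s}) :=
    isReduced_of_injective e.symm e.symm.injective
  haveI : IsArtinianRing ((IsLocalRing.ResidueField R) ⊗[k] k') :=
    IsArtinianRing.of_finite (IsLocalRing.ResidueField R) _
  haveI : IsArtinianRing ((R ⊗[k] k') ⧸ Ideal.span {s}) :=
    e.surjective.isArtinianRing
  apply isRegularRing_of_forall_isMaximal
  intro m hm
  have hsm : s ∈ m := by
    have hint : Algebra.IsIntegral R (R ⊗[k] k') := inferInstance
    have hmax : (m.comap (algebraMap R (R ⊗[k] k'))).IsMaximal :=
      Ideal.isMaximal_comap_of_isIntegral_of_isMaximal m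
    have h1 : m.comap (algebraMap R (R ⊗[k] k')) = IsLocalRing.maximalIdeal R :=
      IsLocalRing.eq_maximalIdeal hmax
    have h2 : t ∈ m.comap (algebraMap R (R ⊗[k] k')) := by
      rw [h1, ht]; exact Ideal.mem_span_singleton_self t
    exact h2
  exact isRegularLocalRing_atPrime_of_quotient_reduced_artinian s hs m hsm

end

end Groth.Agent.Lib.Helper50
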