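import Mathlib
import Groth.Prelude

/-!
# The δ-invariant does not decrease along flat local homomorphisms (helper50)
-/

open TensorProduct nonZeroDivisors

universe u

namespace Groth.Agent.Lib.Helper50

section

variable (A B : Type u) [CommRing A] [CommRing B] [Algebra A B] [Module.Flat A B]

/-- A flat ring map sends nonzerodivisors to nonzerodivisors. -/
theorem nonZeroDivisors_le_comap_of_flat :
    A⁰ ≤ (B⁰).comap (algebraMap A B) := by
  intro s hs
  rw [Submonoid.mem_comap]
  have h1 : IsSMulRegular A s :=
    (isRegular_iff_mem_nonZeroDivisors.mpr hs).left.isSMulRegular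
  have h2 : IsSMulRegular B (algebraMap A B s) := IsSMulRegular.of_flat h1
  rw [← isRegular_iff_mem_nonZeroDivisors]
  have h3 : IsLeftRegular (algebraMap A B s) := h2
  exact (Commute.isRegular_iff (fun b => Commute.all _ b)).mpr h3

/-- The induced map of total rings of fractions. -/
noncomputable def fracMap : FractionRing A →+* FractionRing B :=
  IsLocalization.map (FractionRing B) (algebraMap A B) (nonZeroDivisors_le_comap_of_flat A B)

theorem fracMap_algebraMap (a : A) :
    fracMap A B (algebraMap A (FractionRing A) a) = algebraMap B (FractionRing B) (algebraMap A B a) :=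
  IsLocalization.map_eq _ a

theorem fracMap_algebraMap' (a : A) :
    fracMap A B (algebraMap A (FractionRing A) a) = algebraMap A (FractionRing B) a := by
  rw [fracMap_algebraMap, ← IsScalarTower.algebraMap_apply]

/-- The map of total rings of fractions as an `A`-linear map. -/
noncomputable def fracMapₗ : FractionRing A →ₗ[A] FractionRing B :=
  { (fracMap A B : FractionRing A →+ FractionRing B) with
    map_smul' := fun a q => by
      simp only [AddMonoidHom.toFun_eq_coe, AddMonoidHom.coe_coe, RingHom.id_apply]
      rw [Algebra.smul_def, map_mul, fracMap_algebraMap', ← Algebra.smul_def] }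

@[simp] theorem fracMapₗ_apply (q : FractionRing A) : fracMapₗ A B q = fracMap A B q := rfl

/-- `B ⊗_A Q(A) → Q(B)`. -/
noncomputable def tensorFracMap : B ⊗[A] FractionRing A →ₗ[B] FractionRing B :=
  LinearMap.liftBaseChange B (fracMapₗ A B)

@[simp] theorem tensorFracMap_tmul (b : B) (q : FractionRing A) :
    tensorFracMap A B (b ⊗ₜ q) = b • fracMap A B q := by
  simp [tensorFracMap]

theorem tensorFracMap_injective : Function.Injective (tensorFracMap A B) := by
  rw [injective_iff_map_eq_zero]
  -- every element of `B ⊗ Q(A)` has the form `b ⊗ (1/s)`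
  have key : ∀ z : B ⊗[A] FractionRing A,
      ∃ (b : B) (s : A⁰), z = b ⊗ₜ[A] (IsLocalization.mk' (FractionRing A) 1 s) := by
    intro z
    induction z using TensorProduct.induction_on with
    | zero => exact ⟨0, 1, by simp⟩
    | tmul b q =>
      obtain ⟨a, s, rfl⟩ := IsLocalization.exists_mk'_eq A⁰ q
      refine ⟨a • b, s, ?_⟩
      rw [TensorProduct.smul_tmul]
      congr 1
      rw [Algebra.smul_def, ← IsLocalization.mk'_eq_mul_mk'_one]
    | add x y hx hy =>
      obtain ⟨b₁, s₁, rfl⟩ := hx
      obtain ⟨b₂, s₂, rfl⟩ := hy
      refine ⟨(s₂ : A) • b₁ + (s₁ : A) • b₂, s₁ * s₂, ?_⟩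
      rw [TensorProduct.add_tmul, TensorProduct.smul_tmul, TensorProduct.smul_tmul]
      congr 2
      · rw [Algebra.smul_def, IsLocalization.mk'_eq_iff_eq_mul,
          mul_comm (algebraMap A (FractionRing A) s₂), mul_assoc, ← map_mul, mul_comm (s₂ : A),
          ← Submonoid.coe_mul, IsLocalization.mk'_spec]
      · rw [Algebra.smul_def, IsLocalization.mk'_eq_iff_eq_mul,
          mul_comm (algebraMap A (FractionRing A) s₁), mul_assoc, ← map_mul,
          ← Submonoid.coe_mul, IsLocalization.mk'_spec]
  intro z hz
  obtain ⟨b, s, rfl⟩ := key z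
  rw [tensorFracMap_tmul] at hz
  have hs : algebraMap A B s ∈ B⁰ := nonZeroDivisors_le_comap_of_flat A B s.2
  have h1 : fracMap A B (IsLocalization.mk' (FractionRing A) 1 s) * algebraMap B (FractionRing B) (algebraMap A B s) = 1 := by
    rw [← fracMap_algebraMap, ← map_mul, IsLocalization.mk'_spec, map_one, map_one]
  have h2 : algebraMap B (FractionRing B) b = 0 := by
    have : b • fracMap A B (IsLocalization.mk' (FractionRing A) 1 s) * algebraMap B (FractionRing B) (algebraMap A B s) = 0 := by
      rw [hz, zero_mul]
    rwa [smul_mul_assoc, h1, Algebra.smul_def, mul_one] at this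
  have h3 : b = 0 := IsFractionRing.injective B (FractionRing B) (by rw [h2, map_zero])
  rw [h3, TensorProduct.zero_tmul]

/-- The map of total rings of fractions as an `A`-algebra map. -/
noncomputable def fracMapₐ : FractionRing A →ₐ[A] FractionRing B :=
  { fracMap A B with commutes' := fracMap_algebraMap' A B }

/-- The image of an integral element is integral. -/
theorem fracMap_mem_integralClosure (x : FractionRing A)
    (hx : x ∈ integralClosure A (FractionRing A)) :
    fracMap A B x ∈ integralClosure B (FractionRing B) := by
  have h1 : IsIntegral A (fracMapₐ A B x) := IsIntegral.map (fracMapₐ A B) hx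
  exact h1.tower_top

/-- `A' → B'` for the integral closures in the total rings of fractions. -/
noncomputable def closureMap :
    ↥(integralClosure A (FractionRing A)) →ₗ[A] ↥(integralClosure B (FractionRing B)) where
  toFun x := ⟨fracMap A B x, fracMap_mem_integralClosure A B x x.2⟩
  map_add' x y := Subtype.ext (by simp)
  map_smul' a x := Subtype.ext (by
    simp only [RingHom.id_apply]
    change fracMap A B ((a • x : ↥(integralClosure A (FractionRing A))) : FractionRing A) =
      a • fracMap A B x
    rw [Algebra.smul_def a (fracMap A B x), ← fracMap_algebraMap', ← map_mul, ← Algebra.smul_def]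
    rfl)

@[simp] theorem coe_closureMap (x : ↥(integralClosure A (FractionRing A))) :
    ((closureMap A B x : ↥(integralClosure B (FractionRing B))) : FractionRing B) =
      fracMap A B x := rfl

/-- `B ⊗_A A' → B'`. -/
noncomputable def tensorClosureMap :
    B ⊗[A] ↥(integralClosure A (FractionRing A)) →ₗ[B] ↥(integralClosure B (FractionRing B)) :=
  LinearMap.liftBaseChange B (closureMap A B)

@[simp] theorem tensorClosureMap_tmul (b : B) (x : ↥(integralClosure A (FractionRing A))) :
    tensorClosureMap A B (b ⊗ₜ x) = b • closureMap A B x := by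
  simp [tensorClosureMap]

theorem coe_tensorClosureMap (z : B ⊗[A] ↥(integralClosure A (FractionRing A))) :
    ((tensorClosureMap A B z : ↥(integralClosure B (FractionRing B))) : FractionRing B) =
      tensorFracMap A B ((integralClosure A (FractionRing A)).val.toLinearMap.lTensor B z) := by
  induction z using TensorProduct.induction_on with
  | zero => simp
  | tmul b x => simp
  | add x y hx hy => simp only [map_add, Subalgebra.coe_add, hx, hy]

theorem tensorClosureMap_injective : Function.Injective (tensorClosureMap A B) := by
  intro z w hzw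
  have h := congrArg (Subtype.val : ↥(integralClosure B (FractionRing B)) → FractionRing B) hzw
  rw [coe_tensorClosureMap, coe_tensorClosureMap] at h
  exact Module.Flat.lTensor_preserves_injective_linearMap (M := B)
    (integralClosure A (FractionRing A)).val.toLinearMap Subtype.val_injective
    (tensorFracMap_injective A B h)

open IsLocalRing in
/-- The δ-invariant does not decrease along a flat local homomorphism of local rings. -/
theorem deltaInv_le_of_flat [IsLocalRing A] [IsLocalRing B] [IsLocalHom (algebraMap A B)] :
    Curv2.deltaInv A ≤ Curv2.deltaInv B := by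
  unfold Curv2.deltaInv
  set A' := integralClosure A (FractionRing A) with hA'
  set B' := integralClosure B (FractionRing B) with hB'
  set NA := LinearMap.range (Algebra.linearMap A A') with hNA
  set NB := LinearMap.range (Algebra.linearMap B B') with hNB
  -- step 1
  have h1 : Module.length A (A' ⧸ NA) ≤ Module.length B (B ⊗[A] (A' ⧸ NA)) := by
    rw [IsLocalRing.length_baseChange]
    have hpos : 1 ≤ Module.length B (B ⧸ (maximalIdeal A).map (algebraMap A B)) := by
      rw [Order.one_le_iff_pos, Module.length_pos_iff]
      exact Ideal.Quotient.nontrivial_iff.mpr (map_maximalIdeal_lt_top (algebraMap A B)).ne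
    calc Module.length A (A' ⧸ NA) = Module.length A (A' ⧸ NA) * 1 := (mul_one _).symm
      _ ≤ _ := mul_le_mul_right hpos _
  -- step 2
  let g₀ : A' →ₗ[A] B' ⧸ NB := (NB.mkQ.restrictScalars A) ∘ₗ closureMap A B
  have hg₀ : NA ≤ LinearMap.ker g₀ := by
    rintro _ ⟨a, rfl⟩
    rw [LinearMap.mem_ker]
    change NB.mkQ (closureMap A B (algebraMap A A' a)) = 0
    rw [Submodule.mkQ_apply, Submodule.Quotient.mk_eq_zero]
    refine ⟨algebraMap A B a, Subtype.ext ?_⟩
    change algebraMap B (FractionRing B) (algebraMap A B a) =
      fracMap A B (algebraMap A (FractionRing A) a)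
    rw [fracMap_algebraMap]
  let g : A' ⧸ NA →ₗ[A] B' ⧸ NB := NA.liftQ g₀ hg₀
  let Θ : B ⊗[A] (A' ⧸ NA) →ₗ[B] B' ⧸ NB := LinearMap.liftBaseChange B g
  have hΘ : Function.Injective Θ := by
    rw [injective_iff_map_eq_zero]
    intro t ht
    obtain ⟨z, rfl⟩ := LinearMap.lTensor_surjective B NA.mkQ_surjective t
    have hcomp : ∀ z, Θ (NA.mkQ.lTensor B z) = NB.mkQ (tensorClosureMap A B z) := by
      intro z
      induction z using TensorProduct.induction_on with
      | zero => simp
      | tmul b x =>
        simp only [Θ, g, g₀, LinearMap.lTensor_tmul, LinearMap.liftBaseChange_tmul,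
          Submodule.mkQ_apply, Submodule.liftQ_apply, LinearMap.coe_comp,
          LinearMap.coe_restrictScalars, Function.comp_apply]
        rw [tensorClosureMap_tmul, Submodule.Quotient.mk_smul]
      | add x y hx hy => simp only [map_add, hx, hy]
    rw [hcomp, Submodule.mkQ_apply, Submodule.Quotient.mk_eq_zero] at ht
    obtain ⟨b, hb⟩ := ht
    have hz : z = b ⊗ₜ[A] (1 : A') := by
      apply tensorClosureMap_injective A B
      rw [← hb, tensorClosureMap_tmul]
      apply Subtype.ext
      change algebraMap B (FractionRing B) b = b • fracMap A B (1 : FractionRing A)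
      rw [map_one, Algebra.smul_def, mul_one]
    rw [hz, LinearMap.lTensor_tmul]
    have h0 : NA.mkQ (1 : A') = 0 := by
      rw [Submodule.mkQ_apply, Submodule.Quotient.mk_eq_zero]
      exact ⟨1, by simp⟩
    rw [h0, TensorProduct.tmul_zero]
  exact h1.trans (Module.length_le_of_injective Θ hΘ)

end

end Groth.Agent.Lib.Helper50


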