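import Mathlib
import Groth.Agent.Lib.Helper50.CotangentSmooth

set_option autoImplicit false
universe u
open TensorProduct KaehlerDifferential

namespace Groth.Agent.Lib.Helper50

/-- If `Ω[A/R]` is flat, `B ↪ L` and `L` is formally smooth over `A`, then
`B ⊗[A] Ω[A/R] → Ω[B/R]` is injective. -/
theorem mapBaseChange_injective_of_injective_of_formallySmooth_comp {R A B L : Type u}
    [CommRing R] [CommRing A] [CommRing B] [CommRing L]
    [Algebra R A] [Algebra R B] [Algebra A B] [IsScalarTower R A B] [Module.Flat A Ω[A⁄R]]
    (g : B →+* L) (hg : Function.Injective g)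
    (hsm : (g.comp (algebraMap A B)).FormallySmooth) :
    Function.Injective (KaehlerDifferential.mapBaseChange R A B) := by
  letI : Algebra B L := g.toAlgebra
  letI : Algebra A L := (g.comp (algebraMap A B)).toAlgebra
  haveI : IsScalarTower A B L := IsScalarTower.of_algebraMap_eq' rfl
  letI : Algebra R L := (g.comp (algebraMap R B)).toAlgebra
  haveI : IsScalarTower R B L := IsScalarTower.of_algebraMap_eq' rfl
  haveI : IsScalarTower R A L := IsScalarTower.of_algebraMap_eq' (by
    ext r
    simp [RingHom.algebraMap_toAlgebra, IsScalarTower.algebraMap_apply R A B])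
  haveI : Algebra.FormallySmooth A L := hsm
  have h1 : Function.Injective (mapBaseChange R A L) :=
    mapBaseChange_injective_of_formallySmooth
  let ι : B →ₗ[A] L := (IsScalarTower.toAlgHom A B L).toLinearMap
  have hι : Function.Injective ι := hg
  have h2 : Function.Injective (ι.rTensor Ω[A⁄R]) :=
    Module.Flat.rTensor_preserves_injective_linearMap ι hι
  have hmm : ∀ ω : Ω[A⁄R], KaehlerDifferential.map R R B L (KaehlerDifferential.map R R A B ω) =
      KaehlerDifferential.map R R A L ω := by
    intro ω
    have hω : ω ∈ Submodule.span A (Set.range (D R A)) := by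
      rw [KaehlerDifferential.span_range_derivation]; trivial
    induction hω using Submodule.span_induction with
    | mem ω h =>
      obtain ⟨a, rfl⟩ := h
      rw [KaehlerDifferential.map_D, KaehlerDifferential.map_D, KaehlerDifferential.map_D,
        ← IsScalarTower.algebraMap_apply A B L]
    | zero => simp
    | add x y _ _ hx hy => rw [map_add, map_add, map_add, hx, hy]
    | smul a x _ hx =>
      have e1 : KaehlerDifferential.map R R A B (a • x) =
          (algebraMap A B a) • KaehlerDifferential.map R R A B x := by
        rw [map_smul, algebraMap_smul]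
      have e2 : KaehlerDifferential.map R R A L (a • x) = a • KaehlerDifferential.map R R A L x :=
        map_smul _ _ _
      rw [e1, map_smul, e2, hx, algebraMap_smul]
  have hsq : ∀ x, mapBaseChange R A L (ι.rTensor _ x) =
      KaehlerDifferential.map R R B L (mapBaseChange R A B x) := by
    intro x
    induction x using TensorProduct.induction_on with
    | zero => simp
    | tmul b ω =>
      rw [LinearMap.rTensor_tmul, mapBaseChange_tmul, mapBaseChange_tmul, map_smul, hmm]
      show algebraMap B L b • _ = b • _
      rw [algebraMap_smul]
    | add x y hx hy => rw [map_add, map_add, map_add, map_add, hx, hy]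
  intro x y hxy
  apply h2
  apply h1
  rw [hsq, hsq, hxy]

end Groth.Agent.Lib.Helper50
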