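import Mathlib
import Groth.Agent.Lib.Helper50.DiffMonoSep
import Groth.Agent.Lib.Helper54.ZeroDim

set_option autoImplicit false
universe u
open CategoryTheory CategoryTheory.Limits AlgebraicGeometry TopologicalSpace

namespace Groth.Agent.Lib.Helper50

/-- residue map of a local ring which is a field is bijective -/
theorem residue_bijective_of_isField {K : Type*} [CommRing K] [IsLocalRing K] (hK : IsField K) :
    Function.Bijective (IsLocalRing.residue K) := by
  refine ⟨?_, IsLocalRing.residue_surjective⟩
  rw [injective_iff_map_eq_zero]
  intro a ha
  rw [IsLocalRing.residue_eq_zero_iff, IsLocalRing.isField_iff_maximalIdeal_eq.mp hK] at ha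
  exact ha

/-- A dominant morphism of integral schemes sends the generic point to the generic point. -/
theorem map_genericPoint_of_denseRange {X Y : Scheme.{u}} [IrreducibleSpace X] [IrreducibleSpace Y]
    (φ : X ⟶ Y) (hdom : DenseRange φ.base) : φ.base (genericPoint X) = genericPoint Y := by
  have h1 : IsGenericPoint (φ.base (genericPoint X)) (closure (Set.range φ.base)) := by
    have := (genericPoint_spec X).image φ.continuous
    rwa [Set.image_univ] at this
  rw [hdom.closure_range] at h1
  exact h1.eq (genericPoint_spec Y)

/-- The evaluation at the generic point of an integral scheme is injective on sections. -/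
theorem evaluation_genericPoint_injective {X : Scheme.{u}} [IsIntegral X] (U : X.Opens)
    (hU : genericPoint X ∈ U) :
    Function.Injective (X.evaluation U (genericPoint X) hU).hom := by
  have h1 : Function.Injective (X.presheaf.germ U (genericPoint X) hU).hom :=
    germ_injective_of_isIntegral X (genericPoint X) hU
  have h2 : Function.Injective (X.residue (genericPoint X)).hom :=
    (residue_bijective_of_isField (Field.toIsField X.functionField)).1
  exact h2.comp h1

/-- The evaluation map to the residue field at a generic point of a reduced scheme is formally smooth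
(a localization followed by a bijection). -/
theorem formallySmooth_evaluation_of_generic {Y : Scheme.{u}} [IsReduced Y] (W : Y.Opens)
    (hW : IsAffineOpen W) (y : Y) (hy : y ∈ W) (hgen : ∀ y' : Y, y' ⤳ y → y' = y) :
    (Y.evaluation W y hy).hom.FormallySmooth := by
  have hF : IsField (Y.presheaf.stalk y) :=
    Groth.Agent.Lib.Helper54.isField_stalk_of_forall_specializes_eq Y y hgen
  have h1 : (Y.presheaf.germ W y hy).hom.FormallySmooth := by
    letI := Y.presheaf.algebra_section_stalk ⟨y, hy⟩
    haveI := hW.isLocalization_stalk ⟨y, hy⟩
    haveI : Algebra.FormallyEtale Γ(Y, W) (Y.presheaf.stalk y) :=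
      Algebra.FormallyEtale.of_isLocalization (hW.primeIdealOf ⟨y, hy⟩).asIdeal.primeCompl
    have : Algebra.FormallySmooth Γ(Y, W) (Y.presheaf.stalk y) := inferInstance
    exact RingHom.formallySmooth_algebraMap.mpr this
  have h2 : (Y.residue y).hom.FormallySmooth :=
    RingHom.FormallySmooth.of_bijective (residue_bijective_of_isField hF)
  exact h1.comp h2

end Groth.Agent.Lib.Helper50
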