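import Mathlib
import Groth.Agent.Lib.Helper50.GeomReducedScheme
import Groth.Agent.Lib.Helper47.SeparableSmooth

/-!
# Geometrically reduced fibre at a point with field local ring ⇒ formally smooth residue extension
-/

open CategoryTheory AlgebraicGeometry Limits

namespace Groth.Agent.Lib.Helper50

universe u

theorem isField_of_surjective_of_isLocalRing {A B : Type*} [CommRing A] [CommRing B]
    [IsLocalRing B] (hA : IsField A) (s : A →+* B) (hs : Function.Surjective s) : IsField B := by
  rw [IsLocalRing.isField_iff_maximalIdeal_eq, eq_bot_iff]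
  intro b hb
  obtain ⟨a, rfl⟩ := hs b
  by_cases ha : a = 0
  · rw [ha, map_zero]; exact Ideal.zero_mem _
  · exfalso
    obtain ⟨a', ha'⟩ := hA.mul_inv_cancel ha
    have : IsUnit (s a) := IsUnit.of_mul_eq_one (s a') (by rw [← map_mul, ha', map_one])
    exact (IsLocalRing.mem_maximalIdeal _).mp hb this

/-- If the local ring of `X` at `x` is a field and the fibre of `f` through `x` is geometrically
reduced, then `κ(f x) → κ(x)` is formally smooth. -/
theorem formallySmooth_residueFieldMap_of_geometricallyReduced {X Z : Scheme.{u}} (f : X ⟶ Z)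
    (x : X) (hx : IsField (X.presheaf.stalk x))
    (hsep : GeometricallyReduced (f.fiberToSpecResidueField (f x))) :
    (f.residueFieldMap x).hom.FormallySmooth := by
  let α := f.asFiberHom x
  let t : ↥(f.fiber (f x)) := α (IsLocalRing.closedPoint (X.residueField x))
  have ht : f.fiberι (f x) t = x := by
    change (α ≫ f.fiberι (f x)) _ = x
    rw [f.asFiberHom_fiberι]
    exact Scheme.fromSpecResidueField_apply ..
  have hs : Function.Surjective ((f.fiberι (f x)).stalkMap t) :=
    (f.fiberι (f x)).stalkMap_surjective t
  have hfield' : IsField (X.presheaf.stalk (f.fiberι (f x) t)) := by rw [ht]; exact hx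
  have hFt : IsField ((f.fiber (f x)).presheaf.stalk t) :=
    isField_of_surjective_of_isLocalRing hfield' ((f.fiberι (f x)).stalkMap t).hom hs
  obtain ⟨φ, hφ⟩ := exists_ringHom_stalk (k := Z.residueField (f x))
    (f.fiberToSpecResidueField (f x)) t
  haveI := hsep
  have hgr := isGeometricallyReduced_stalk_of_geometricallyReduced
    (k := Z.residueField (f x)) (f.fiberToSpecResidueField (f x)) t φ hφ
  letI := φ.toAlgebra
  letI : Field ((f.fiber (f x)).presheaf.stalk t) := hFt.toField
  have hsm : Algebra.FormallySmooth (Z.residueField (f x)) ((f.fiber (f x)).presheaf.stalk t) :=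
    Groth.Agent.Lib.Helper47.formallySmooth_of_isGeometricallyReduced _ _
  have hφsm : φ.FormallySmooth := RingHom.formallySmooth_algebraMap.mpr hsm
  let β := Scheme.stalkClosedPointTo α
  have hβ : Spec.map β ≫ (f.fiber (f x)).fromSpecStalk t = α :=
    Scheme.Spec_stalkClosedPointTo_fromSpecStalk α
  have hcomp : f.residueFieldMap x = CommRingCat.ofHom φ ≫ β := by
    apply Spec.map_injective
    rw [Spec.map_comp, hφ, ← Category.assoc, hβ, f.asFiberHom_fiberToSpecResidueField]
  have hβbij : Function.Bijective β.hom := by
    refine ⟨RingHom.injective _, ?_⟩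
    have h1 : Function.Surjective (α.stalkMap (IsLocalRing.closedPoint (X.residueField x))) :=
      α.stalkMap_surjective _
    exact (ConcreteCategory.bijective_of_isIso (stalkClosedPointIso (X.residueField x)).hom).2.comp h1
  rw [hcomp, CommRingCat.hom_comp]
  exact RingHom.FormallySmooth.comp hφsm (RingHom.FormallySmooth.of_bijective hβbij)

end Groth.Agent.Lib.Helper50
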