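import Mathlib
import Groth.Agent.Lib.Helper50.DiffMonoSep2
import Groth.Agent.Lib.Helper50.DiffMonoSep3
import Groth.Agent.Lib.Helper51.OmegaUniv.DiffCompatIso
import Groth.Agent.Lib.Helper51.OmegaUniv.KaehlerAlg2

set_option autoImplicit false
universe u
open CategoryTheory CategoryTheory.Limits AlgebraicGeometry

namespace Groth.Agent.Lib.Helper50

/-- the chart argument of S13458 with the separability hypothesis replaced by formal smoothness of
the extension of function fields. -/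
theorem mono_of_formallySmooth_residueFieldMap (k : Type u) [Field k] {X Y : Scheme.{u}}
    (pX : X ⟶ Spec (CommRingCat.of k)) (pY : Y ⟶ Spec (CommRingCat.of k)) (φ : X ⟶ Y) (w : φ ≫ pY = pX)
    [IsIntegral X] [IsIntegral Y] [Smooth pY]
    (hgen : φ.base (genericPoint X) = genericPoint Y)
    (hsm : (φ.residueFieldMap (genericPoint X)).hom.FormallySmooth)
    (ΩY : Y.Modules) (dY : OmegaSh.Der pY ΩY) (hY : OmegaSh.IsUniversal dY)
    (ΩX : X.Modules) (dX : OmegaSh.Der pX ΩX) (hX : OmegaSh.IsUniversal dX)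
    (c : (Scheme.Modules.pullback φ).obj ΩY ⟶ ΩX) (hc : OmegaSh.IsDiffCompat φ dY dX c) :
    Mono c := by
      classical
      subst w
      have hq₂ : ΩX.IsQuasicoherent :=
        Groth.Agent.Lib.Helper51.OmegaUniv.isQuasicoherent_of_isUniversal (φ ≫ pY) hX
      have hq₁ : ΩY.IsQuasicoherent :=
        Groth.Agent.Lib.Helper51.OmegaUniv.isQuasicoherent_of_isUniversal pY hY
      have hq₃ : ((Scheme.Modules.pullback φ).obj ΩY).IsQuasicoherent :=
        Groth.Agent.Lib.Helper16.FlatPull.isQuasicoherent_pullback φ ΩY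
      apply Groth.Agent.Lib.Helper51.OmegaUniv.mono_of_app_injective_of_cover
      intro x
      obtain ⟨V, hV, hxV, -⟩ := exists_isAffineOpen_mem_and_subset
        (x := pY (φ x)) (U := ⊤) trivial
      obtain ⟨U₁, hU₁, hxU₁, h₁'⟩ := exists_isAffineOpen_mem_and_subset
        (x := φ x) (U := pY ⁻¹ᵁ V) hxV
      obtain ⟨U₂, hU₂, hxU₂, hh'⟩ := exists_isAffineOpen_mem_and_subset
        (x := x) (U := φ ⁻¹ᵁ U₁) hxU₁
      have h₁ : U₁ ≤ pY ⁻¹ᵁ V := h₁'
      have hh : U₂ ≤ φ ⁻¹ᵁ U₁ := hh'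
      have h₂ : U₂ ≤ (φ ≫ pY) ⁻¹ᵁ V := fun y hy => h₁ (hh hy)
      obtain ⟨e, e₂, L, hL, -, hsqL⟩ := Groth.Agent.Lib.Helper51.OmegaUniv.exists_chart_square
        φ hY hX hc hU₁ hV h₁ hU₂ hV h₂ hh
      refine ⟨U₂, hU₂, hxU₂, Groth.Agent.Lib.Helper51.OmegaUniv.app_injective_of_chart_square
        φ e.toEquiv e₂.toEquiv L hsqL ?_⟩
      letI i1 : Algebra Γ(Spec (CommRingCat.of k), V) Γ(Y, U₁) := (pY.appLE V U₁ h₁).hom.toAlgebra
      letI i3 : Algebra Γ(Spec (CommRingCat.of k), V) Γ(X, U₂) := ((φ ≫ pY).appLE V U₂ h₂).hom.toAlgebra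
      letI i2 : Algebra Γ(Y, U₁) Γ(X, U₂) := (φ.appLE U₁ U₂ hh).hom.toAlgebra
      haveI t₁ : IsScalarTower Γ(Spec (CommRingCat.of k), V) Γ(Y, U₁) Γ(X, U₂) := by
        refine IsScalarTower.of_algebraMap_eq' ?_
        change ((φ ≫ pY).appLE V U₂ h₂).hom = (pY.appLE V U₁ h₁ ≫ φ.appLE U₁ U₂ hh).hom
        rw [Scheme.Hom.appLE_comp_appLE]
      rw [Groth.Agent.Lib.Helper51.OmegaUniv.KAlg.eq_mapBaseChange L hL]
      have hsmA : (pY.appLE V U₁ h₁).hom.Smooth := pY.smooth_appLE hV hU₁ h₁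
      haveI : Algebra.Smooth Γ(Spec (CommRingCat.of k), V) Γ(Y, U₁) := hsmA
      haveI : Module.Flat Γ(Y, U₁) Ω[Γ(Y, U₁)⁄Γ(Spec (CommRingCat.of k), V)] := inferInstance
      have hηU₂ : genericPoint X ∈ U₂ :=
        ((genericPoint_spec X).mem_open_set_iff U₂.2).mpr ⟨x, trivial, hxU₂⟩
      have hφη : φ.base (genericPoint X) ∈ U₁ := hh hηU₂
      refine Groth.Agent.Lib.Helper50.mapBaseChange_injective_of_injective_of_formallySmooth_comp
        (X.evaluation U₂ (genericPoint X) hηU₂).hom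
        (Groth.Agent.Lib.Helper50.evaluation_genericPoint_injective U₂ hηU₂) ?_
      have hcomp : (X.evaluation U₂ (genericPoint X) hηU₂).hom.comp (algebraMap Γ(Y, U₁) Γ(X, U₂)) =
          (Y.evaluation U₁ (φ.base (genericPoint X)) hφη ≫ φ.residueFieldMap (genericPoint X)).hom := by
        change (φ.appLE U₁ U₂ hh ≫ X.evaluation U₂ (genericPoint X) hηU₂).hom = _
        congr 1
        rw [Scheme.evaluation_naturality]
        simp only [Scheme.Hom.appLE, Category.assoc, Scheme.evaluation]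
        rw [TopCat.Presheaf.germ_res_assoc]
      rw [hcomp, CommRingCat.hom_comp]
      refine RingHom.FormallySmooth.comp ?_ ?_
      · apply Groth.Agent.Lib.Helper50.formallySmooth_evaluation_of_generic U₁ hU₁
        intro y' hy'
        rw [hgen] at hy' ⊢
        exact (((genericPoint_spec Y).specializes (Set.mem_univ y')).antisymm hy').eq.symm
      · exact hsm

end Groth.Agent.Lib.Helper50
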