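import Mathlib
import Groth.Agent.Lib.Helper55.DimSup
import Groth.Agent.Lib.Helper55.DimPoint

/-! Dimension of a dense open subscheme of a scheme of finite type over a field (helper50). -/

set_option autoImplicit false
universe u
open AlgebraicGeometry CategoryTheory TopologicalSpace Topology

namespace Groth.Agent.Lib.Helper50.DimDense

/-- In a Noetherian quasi-sober space, every point is a specialization of a point of any given dense open. -/
theorem exists_mem_specializes_of_dense {X : Type*} [TopologicalSpace X] [NoetherianSpace X]
    [QuasiSober X] (U : Set X) (hUo : IsOpen U) (hU : Dense U) (x : X) :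
    ∃ η ∈ U, η ⤳ x := by
  obtain ⟨Z, hZ, hxZ⟩ := exists_mem_irreducibleComponents_subset_of_isIrreducible
    ({x} : Set X) isIrreducible_singleton
  have hZc : IsClosed Z := isClosed_of_mem_irreducibleComponents Z hZ
  obtain ⟨η, hη⟩ := QuasiSober.sober hZ.1 hZc
  obtain ⟨o, ho, hone, hoZ⟩ :=
    NoetherianSpace.exists_isOpen_nonempty_subset_irreducibleComponent Z hZ
  obtain ⟨y, hyo, hyU⟩ := hU.inter_open_nonempty o ho hone
  have hηy : η ⤳ y := by
    rw [specializes_iff_mem_closure, hη.def]
    exact hoZ hyo
  refine ⟨η, hηy.mem_open hUo hyU, ?_⟩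
  rw [specializes_iff_mem_closure, hη.def]
  exact hxZ rfl

variable {k : Type u} [Field k] {X : Scheme.{u}} (f : X ⟶ Spec (CommRingCat.of k))
  [LocallyOfFiniteType f] [QuasiCompact f]

include f in
theorem noetherianSpace : NoetherianSpace X := by
  have h1 : IsLocallyNoetherian X := LocallyOfFiniteType.isLocallyNoetherian f
  have h2 : CompactSpace X := QuasiCompact.compactSpace_of_compactSpace f
  have : IsNoetherian X := {}
  infer_instance

include f in
/-- A dense open subscheme of a scheme of finite type over a field has the same dimension. -/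
theorem topologicalKrullDim_opens_eq_of_dense (U : X.Opens) (hU : Dense (U : Set X)) :
    topologicalKrullDim ↥U = topologicalKrullDim X := by
  have hN : NoetherianSpace X := noetherianSpace f
  refine le_antisymm (topologicalKrullDim_subspace_le X (U : Set X)) ?_
  rw [Groth.Agent.Lib.Helper55.topologicalKrullDim_eq_iSup_closure (X := X)]
  refine iSup_le fun x => ?_
  obtain ⟨η, hηU, hηx⟩ := exists_mem_specializes_of_dense (U : Set X) U.2 hU x
  have h1 : topologicalKrullDim ↥(closure ({x} : Set X)) ≤
      topologicalKrullDim ↥(closure ({η} : Set X)) := by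
    apply Groth.Agent.Lib.Helper55.topologicalKrullDim_mono_set
    exact closure_minimal (Set.singleton_subset_iff.mpr (specializes_iff_mem_closure.mp hηx))
      isClosed_closure
  refine h1.trans ?_
  rw [← Groth.Agent.Lib.Helper55.topologicalKrullDim_closure_inter_opens_eq f η U hηU]
  exact Groth.Agent.Lib.Helper55.topologicalKrullDim_mono_set Set.inter_subset_right

end Groth.Agent.Lib.Helper50.DimDense
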