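import Mathlib
import Groth.Agent.Lib.Helper55.KrullDimIntegral

/-! Noether normalization: maps from polynomial rings in a prescribed number of variables (helper50). -/

set_option autoImplicit false
universe u v
open MvPolynomial

namespace Groth.Agent.Lib.Helper50.NoetherMaps

variable (k : Type u) [Field k]

/-- inclusion of polynomial rings in fewer variables -/
noncomputable def inclPoly {m s : ℕ} (h : m ≤ s) :
    MvPolynomial (ULift.{v} (Fin m)) k →ₐ[k] MvPolynomial (Fin s) k :=
  rename (fun i : ULift.{v} (Fin m) => Fin.castLE h i.down)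

/-- retraction of `inclPoly` -/
noncomputable def retrPoly (m s : ℕ) :
    MvPolynomial (Fin s) k →ₐ[k] MvPolynomial (ULift.{v} (Fin m)) k :=
  aeval (fun j : Fin s => if h : j.val < m then X (ULift.up ⟨j.val, h⟩) else 0)

theorem retrPoly_comp_inclPoly {m s : ℕ} (h : m ≤ s) :
    (retrPoly.{u, v} k m s).comp (inclPoly k h) = AlgHom.id k _ := by
  apply MvPolynomial.algHom_ext
  intro i
  simp only [inclPoly, retrPoly, AlgHom.comp_apply, rename_X, aeval_X, AlgHom.id_apply]
  have : (Fin.castLE h i.down).val < m := by simp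
  rw [dif_pos this]
  rfl

theorem comap_inclPoly_surjective {m s : ℕ} (h : m ≤ s) :
    Function.Surjective (PrimeSpectrum.comap (inclPoly.{u, v} k h).toRingHom) := by
  intro p
  refine ⟨PrimeSpectrum.comap (retrPoly.{u, v} k m s).toRingHom p, ?_⟩
  rw [← PrimeSpectrum.comap_comp_apply]
  have : (retrPoly.{u, v} k m s).toRingHom.comp (inclPoly k h).toRingHom = RingHom.id _ := by
    have := retrPoly_comp_inclPoly.{u, v} k h
    exact congrArg AlgHom.toRingHom this
  rw [this]
  rfl

/-- projection of polynomial rings onto fewer variables -/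
noncomputable def projPoly (m s : ℕ) :
    MvPolynomial (ULift.{v} (Fin m)) k →ₐ[k] MvPolynomial (Fin s) k :=
  aeval (fun i : ULift.{v} (Fin m) => if h : i.down.val < s then X ⟨i.down.val, h⟩ else 0)

theorem projPoly_surjective {m s : ℕ} (h : s ≤ m) :
    Function.Surjective (projPoly.{u, v} k m s) := by
  intro p
  induction p using MvPolynomial.induction_on with
  | C a => exact ⟨C a, by simp [projPoly]⟩
  | add p q hp hq =>
    obtain ⟨a, rfl⟩ := hp
    obtain ⟨b, rfl⟩ := hq
    exact ⟨a + b, map_add _ _ _⟩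
  | mul_X p i hp =>
    obtain ⟨a, rfl⟩ := hp
    refine ⟨a * X (ULift.up ⟨i.val, lt_of_lt_of_le i.2 h⟩), ?_⟩
    rw [map_mul]
    congr 1
    simp only [projPoly, aeval_X]
    rw [dif_pos i.2]

variable {k} {R : Type v} [CommRing R] [Algebra k R] [Algebra.FiniteType k R] [Nontrivial R]

/-- Noether normalization with the dimension. -/
theorem exists_noether :
    ∃ (s : ℕ) (g : MvPolynomial (Fin s) k →ₐ[k] R), Function.Injective g ∧ g.Finite ∧
      ringKrullDim R = s := by
  obtain ⟨s, g, hinj, hfin⟩ := exists_finite_inj_algHom_of_fg k R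
  refine ⟨s, g, hinj, hfin, ?_⟩
  have hint : g.toRingHom.IsIntegral := RingHom.Finite.to_isIntegral hfin
  rw [Groth.Agent.Lib.Helper55.ringKrullDim_eq_of_ringHom_isIntegral_of_injective g.toRingHom hint hinj,
    MvPolynomial.ringKrullDim_of_isNoetherianRing, ringKrullDim_eq_zero_of_field, zero_add,
    Nat.card_eq_fintype_card, Fintype.card_fin]

theorem exists_algHom_comap_surjective (m : ℕ) (h : (m : WithBot ℕ∞) ≤ ringKrullDim R) :
    ∃ φ : MvPolynomial (ULift.{v} (Fin m)) k →ₐ[k] R,
      Function.Surjective (PrimeSpectrum.comap φ.toRingHom) := by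
  obtain ⟨s, g, hinj, hfin, hs⟩ := exists_noether (k := k) (R := R)
  have hms : m ≤ s := by
    rw [hs] at h
    exact_mod_cast h
  refine ⟨g.comp (inclPoly k hms), ?_⟩
  have hint : g.toRingHom.IsIntegral := RingHom.Finite.to_isIntegral hfin
  have h1 : Function.Surjective (PrimeSpectrum.comap g.toRingHom) := hint.comap_surjective hinj
  have h2 := comap_inclPoly_surjective.{u, v} k hms
  intro p
  obtain ⟨q, rfl⟩ := h2 p
  obtain ⟨r, rfl⟩ := h1 q
  exact ⟨r, rfl⟩

theorem exists_algHom_finite (m : ℕ) (h : ringKrullDim R ≤ (m : WithBot ℕ∞)) :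
    ∃ φ : MvPolynomial (ULift.{v} (Fin m)) k →ₐ[k] R, φ.Finite := by
  obtain ⟨s, g, hinj, hfin, hs⟩ := exists_noether (k := k) (R := R)
  have hsm : s ≤ m := by
    rw [hs] at h
    exact_mod_cast h
  refine ⟨g.comp (projPoly k m s), ?_⟩
  exact RingHom.Finite.comp hfin (RingHom.Finite.of_surjective _ (projPoly_surjective k hsm))

theorem exists_algHom_finite_comap_surjective (m : ℕ) (h : ringKrullDim R = (m : WithBot ℕ∞)) :
    ∃ φ : MvPolynomial (ULift.{v} (Fin m)) k →ₐ[k] R, φ.Finite ∧
      Function.Surjective (PrimeSpectrum.comap φ.toRingHom) := by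
  obtain ⟨s, g, hinj, hfin, hs⟩ := exists_noether (k := k) (R := R)
  have hsm : s = m := by
    rw [hs] at h
    exact_mod_cast h
  subst hsm
  refine ⟨g.comp (inclPoly k le_rfl), ?_, ?_⟩
  · refine RingHom.Finite.comp hfin (RingHom.Finite.of_surjective _ ?_)
    intro p
    refine ⟨retrPoly k s s p, ?_⟩
    have h3 : (inclPoly.{u, v} k (le_refl s)).comp (retrPoly k s s) = AlgHom.id k _ := by
      apply MvPolynomial.algHom_ext
      intro j
      simp only [inclPoly, retrPoly, AlgHom.comp_apply, aeval_X, AlgHom.id_apply]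
      rw [dif_pos j.2]
      simp
    exact congrArg (fun f : MvPolynomial (Fin s) k →ₐ[k] MvPolynomial (Fin s) k => f p) h3
  · have hint : g.toRingHom.IsIntegral := RingHom.Finite.to_isIntegral hfin
    have h1 : Function.Surjective (PrimeSpectrum.comap g.toRingHom) := hint.comap_surjective hinj
    have h2 := comap_inclPoly_surjective.{u, v} k (le_refl s)
    intro p
    obtain ⟨q, rfl⟩ := h2 p
    obtain ⟨r, rfl⟩ := h1 q
    exact ⟨r, rfl⟩

end Groth.Agent.Lib.Helper50.NoetherMaps
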