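import Mathlib
import Groth.Agent.Lib.Helper20.DenseAffine
import Groth.Agent.Lib.Helper50.DimDense
import Groth.Agent.Lib.Helper50.AffSpaceMaps
import Groth.Agent.Lib.Helper50.NoetherMaps

/-! Dimension of a finite type scheme over a field via maps of dense opens to affine space (helper50). -/

set_option autoImplicit false
universe u
open AlgebraicGeometry CategoryTheory TopologicalSpace Topology

namespace Groth.Agent.Lib.Helper50.DimAffMain

open Groth.Agent.Lib.Helper50.AffSpaceMaps Groth.Agent.Lib.Helper50.NoetherMaps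
  Groth.Agent.Lib.Helper50.DimDense

variable {k : Type u} [Field k] {X : Scheme.{u}} (f : X ⟶ Spec (CommRingCat.of k))
  [LocallyOfFiniteType f] [QuasiCompact f]

include f in
theorem exists_dense_affine : ∃ U : X.Opens, IsAffineOpen U ∧ Dense (U : Set X) := by
  have hN : NoetherianSpace X := noetherianSpace f
  by_cases hX : Nonempty X
  · obtain ⟨x⟩ := hX
    obtain ⟨U, -, hU, hd⟩ := Groth.Agent.Lib.Helper20.DenseAffine.exists_dense_isAffineOpen X x
    exact ⟨U, hU, hd⟩
  · rw [not_nonempty_iff] at hX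
    exact ⟨⊥, isAffineOpen_bot X, fun x => (hX.false x).elim⟩

/-- the `k`-algebra of functions on an open subscheme -/
noncomputable abbrev algOf (U : X.Opens) : Algebra k Γ((U : Scheme.{u}), ⊤) :=
  (strMap (U.ι ≫ f)).hom.toAlgebra

omit [QuasiCompact f] in
theorem finiteType_algOf (U : X.Opens) (hU : IsAffineOpen U) :
    @Algebra.FiniteType k Γ((U : Scheme.{u}), ⊤) _ _ (algOf f U) := by
  have hWa : IsAffine (U : Scheme.{u}) := hU
  have hlft : LocallyOfFiniteType (U.ι ≫ f) := inferInstance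
  have hft1 : (U.ι ≫ f).appTop.hom.FiniteType :=
    (HasRingHomProperty.iff_of_isAffine (P := @LocallyOfFiniteType)).mp hlft
  have h1 : (strMap (U.ι ≫ f)).hom.FiniteType := by
    rw [strMap, CommRingCat.hom_comp]
    refine hft1.comp (RingHom.FiniteType.of_surjective _ ?_)
    exact (ConcreteCategory.bijective_of_isIso (Scheme.ΓSpecIso (CommRingCat.of k)).inv).2
  exact h1

omit [LocallyOfFiniteType f] [QuasiCompact f] in
/-- the morphism attached to an algebra map -/
theorem exists_hom_of_ringHom (U : X.Opens) (hU : IsAffineOpen U) (n : Type u)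
    (φ : MvPolynomial n k →+* Γ((U : Scheme.{u}), ⊤))
    (hφ : ∀ a : k, φ (MvPolynomial.C a) = (strMap (U.ι ≫ f)).hom a) :
    ∃ g : (U : Scheme.{u}) ⟶ 𝔸(n; Spec (CommRingCat.of k)),
      g ≫ (𝔸(n; Spec (CommRingCat.of k)) ↘ Spec (CommRingCat.of k)) = U.ι ≫ f ∧
      (φ.Finite → IsFinite g) ∧
      (Function.Surjective (PrimeSpectrum.comap φ) → Function.Surjective g.base) := by
  have hWa : IsAffine (U : Scheme.{u}) := hU
  let φ' : CommRingCat.of (MvPolynomial n k) ⟶ Γ((U : Scheme.{u}), ⊤) :=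
    CommRingCat.ofHom φ
  have hφ' : CommRingCat.ofHom MvPolynomial.C ≫ φ' = strMap (U.ι ≫ f) := by
    ext a
    exact hφ a
  refine ⟨toAff n φ', toAff_over n (U.ι ≫ f) φ' hφ', fun h => toAff_isFinite n φ' h,
    fun h => toAff_surjective n φ' h⟩

include f in
theorem dim_eq_ringKrullDim (U : X.Opens) (hU : IsAffineOpen U) (hd : Dense (U : Set X)) :
    ringKrullDim Γ((U : Scheme.{u}), ⊤) = topologicalKrullDim X := by
  have hWa : IsAffine (U : Scheme.{u}) := hU
  rw [← topologicalKrullDim_eq_of_isAffine (U : Scheme.{u})]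
  exact topologicalKrullDim_opens_eq_of_dense f U hd

theorem part_surj (n : ℕ) :
    ((n : WithBot ℕ∞) ≤ topologicalKrullDim (X : Type u) ↔
      ∃ (U : X.Opens) (g : (U : Scheme.{u}) ⟶ 𝔸(ULift.{u} (Fin n); Spec (CommRingCat.of k))),
        Dense (U : Set X) ∧ g ≫ (𝔸(ULift.{u} (Fin n); Spec (CommRingCat.of k)) ↘ Spec (CommRingCat.of k)) = U.ι ≫ f ∧ Function.Surjective g.base) := by
  constructor
  · intro h
    obtain ⟨U, hU, hd⟩ := exists_dense_affine f
    letI := algOf f U
    have hft := finiteType_algOf f U hU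
    rw [← dim_eq_ringKrullDim f U hU hd] at h
    rcases subsingleton_or_nontrivial Γ((U : Scheme.{u}), ⊤) with hs | hnt
    · rw [ringKrullDim_eq_bot_of_subsingleton] at h
      simp at h
    · obtain ⟨φ, hφ⟩ := exists_algHom_comap_surjective (k := k) (R := Γ((U : Scheme.{u}), ⊤)) n h
      obtain ⟨g, hg1, -, hg3⟩ := exists_hom_of_ringHom f U hU (ULift.{u} (Fin n)) φ.toRingHom φ.commutes
      exact ⟨U, g, hd, hg1, hg3 hφ⟩
  · rintro ⟨U, g, hd, hg1, hg2⟩
    have hlft : LocallyOfFiniteType (g ≫ (𝔸(ULift.{u} (Fin n); Spec (CommRingCat.of k)) ↘ Spec (CommRingCat.of k))) := by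
      rw [hg1]; infer_instance
    have := le_dim_of_surjective (ULift.{u} (Fin n)) g hg2
    rw [Nat.card_eq_fintype_card, Fintype.card_ulift, Fintype.card_fin] at this
    exact this.trans (topologicalKrullDim_subspace_le X (U : Set X))

theorem part_fin (n : ℕ) :
    (topologicalKrullDim (X : Type u) ≤ n ↔
      ∃ (U : X.Opens) (g : (U : Scheme.{u}) ⟶ 𝔸(ULift.{u} (Fin n); Spec (CommRingCat.of k))),
        Dense (U : Set X) ∧ g ≫ (𝔸(ULift.{u} (Fin n); Spec (CommRingCat.of k)) ↘ Spec (CommRingCat.of k)) = U.ι ≫ f ∧ IsFinite g) := by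
  constructor
  · intro h
    obtain ⟨U, hU, hd⟩ := exists_dense_affine f
    letI := algOf f U
    have hft := finiteType_algOf f U hU
    rw [← dim_eq_ringKrullDim f U hU hd] at h
    rcases subsingleton_or_nontrivial Γ((U : Scheme.{u}), ⊤) with hs | hnt
    · let φ : MvPolynomial (ULift.{u} (Fin n)) k →ₐ[k] Γ((U : Scheme.{u}), ⊤) :=
        MvPolynomial.aeval (fun _ => 0)
      obtain ⟨g, hg1, hg2, -⟩ := exists_hom_of_ringHom f U hU (ULift.{u} (Fin n)) φ.toRingHom φ.commutes
      refine ⟨U, g, hd, hg1, hg2 ?_⟩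
      letI := φ.toRingHom.toAlgebra
      exact Module.Finite.of_finite
    · obtain ⟨φ, hφ⟩ := exists_algHom_finite (k := k) (R := Γ((U : Scheme.{u}), ⊤)) n h
      obtain ⟨g, hg1, hg2, -⟩ := exists_hom_of_ringHom f U hU (ULift.{u} (Fin n)) φ.toRingHom φ.commutes
      exact ⟨U, g, hd, hg1, hg2 hφ⟩
  · rintro ⟨U, g, hd, hg1, hg2⟩
    have := dim_le_of_isFinite (ULift.{u} (Fin n)) g
    rw [Nat.card_eq_fintype_card, Fintype.card_ulift, Fintype.card_fin] at this
    rw [← topologicalKrullDim_opens_eq_of_dense f U hd]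
    exact this

theorem part_eq (n : ℕ) :
    (topologicalKrullDim (X : Type u) = n ↔
      ∃ (U : X.Opens) (g : (U : Scheme.{u}) ⟶ 𝔸(ULift.{u} (Fin n); Spec (CommRingCat.of k))),
        Dense (U : Set X) ∧ g ≫ (𝔸(ULift.{u} (Fin n); Spec (CommRingCat.of k)) ↘ Spec (CommRingCat.of k)) = U.ι ≫ f ∧ IsFinite g ∧ Function.Surjective g.base) := by
  constructor
  · intro h
    obtain ⟨U, hU, hd⟩ := exists_dense_affine f
    letI := algOf f U
    have hft := finiteType_algOf f U hU
    rw [← dim_eq_ringKrullDim f U hU hd] at h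
    rcases subsingleton_or_nontrivial Γ((U : Scheme.{u}), ⊤) with hs | hnt
    · rw [ringKrullDim_eq_bot_of_subsingleton] at h
      simp at h
    · obtain ⟨φ, hφ1, hφ2⟩ :=
        exists_algHom_finite_comap_surjective (k := k) (R := Γ((U : Scheme.{u}), ⊤)) n h
      obtain ⟨g, hg1, hg2, hg3⟩ := exists_hom_of_ringHom f U hU (ULift.{u} (Fin n)) φ.toRingHom φ.commutes
      exact ⟨U, g, hd, hg1, hg2 hφ1, hg3 hφ2⟩
  · rintro ⟨U, g, hd, hg1, hg2, hg3⟩
    exact le_antisymm ((part_fin f n).mpr ⟨U, g, hd, hg1, hg2⟩)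
      ((part_surj f n).mpr ⟨U, g, hd, hg1, hg3⟩)

end Groth.Agent.Lib.Helper50.DimAffMain
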