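import Mathlib
import Groth.Prelude
import Groth.Agent.Lib.Helper50.PushO

/-! Flat base change of fibrations (`O_Y → f_* O_X` an isomorphism) (helper50). -/

set_option autoImplicit false
universe u
open CategoryTheory CategoryTheory.Limits AlgebraicGeometry TopologicalSpace Opposite

namespace Groth.Agent.Lib.Helper50

/-- If `f.app V` is an isomorphism for all `V` in a basis of opens, it is an isomorphism for all
opens. -/
theorem isIso_app_of_isBasis {X Y : Scheme.{u}} (f : X ⟶ Y) (B : Set Y.Opens)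
    (hB : Opens.IsBasis B) (h : ∀ V ∈ B, IsIso (f.app V)) (V : Y.Opens) : IsIso (f.app V) := by
  let F : TopCat.Sheaf CommRingCat Y := Y.sheaf
  let G : TopCat.Sheaf CommRingCat Y := (TopCat.Sheaf.pushforward CommRingCat f.base).obj X.sheaf
  let φ : F ⟶ G := ⟨f.c⟩
  have hB' : Opens.IsBasis (Set.range (fun W : B => (W : Y.Opens))) := by
    rwa [Subtype.range_coe]
  have hφ : IsIso φ := by
    refine TopCat.Sheaf.isIso_iff_isIso_basis (φ := φ) hB' (fun W => ?_)
    exact h W.1 W.2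
  have h2 : IsIso φ.hom := (inferInstance : IsIso ((TopCat.Sheaf.forget CommRingCat Y).map φ))
  exact (inferInstance : IsIso (φ.hom.app (op V)))

/-- **Flat base change of fibrations.** -/
theorem isIso_app_of_isPullback_of_flat {X Y X' Y' : Scheme.{u}} {f : X ⟶ Y} {f' : X' ⟶ Y'}
    {g : X' ⟶ X} {p : Y' ⟶ Y} (H : IsPullback g f' f p) [Flat p] [QuasiCompact f]
    [QuasiSeparated f] (hfib : ∀ V : Y.Opens, IsIso (f.app V)) (W : Y'.Opens) :
    IsIso (f'.app W) := by
  let B : Set Y'.Opens := {W | IsAffineOpen W ∧ ∃ V : Y.Opens, IsAffineOpen V ∧ W ≤ p ⁻¹ᵁ V}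
  have hB : Opens.IsBasis B := by
    rw [Opens.isBasis_iff_nbhd]
    intro U y hy
    obtain ⟨V, hV, hyV, -⟩ := exists_isAffineOpen_mem_and_subset (x := p.base y) (U := ⊤) trivial
    obtain ⟨W, hW, hyW, hWU⟩ := exists_isAffineOpen_mem_and_subset (x := y) (U := U ⊓ p ⁻¹ᵁ V)
      ⟨hy, hyV⟩
    exact ⟨W, ⟨hW, V, hV, hWU.trans inf_le_right⟩, hyW, hWU.trans inf_le_left⟩
  refine isIso_app_of_isBasis f' B hB ?_ W
  rintro W ⟨hW, V, hV, hWV⟩
  have hUY : f' ⁻¹ᵁ W = g ⁻¹ᵁ (f ⁻¹ᵁ V) ⊓ f' ⁻¹ᵁ W := by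
    refine (inf_eq_right.mpr ?_).symm
    intro x hx
    have h1 : f'.base x ∈ p ⁻¹ᵁ V := hWV hx
    change f.base (g.base x) ∈ V
    have h2 : p.base (f'.base x) = f.base (g.base x) := by
      rw [← Scheme.Hom.comp_apply, ← Scheme.Hom.comp_apply, H.w]
    rw [← h2]
    exact h1
  have hc : IsCompact (X := X) (f ⁻¹ᵁ V) := QuasiCompact.isCompact_preimage (f := f) _ V.isOpen hV.isCompact
  have hqs : IsQuasiSeparated (α := X) (f ⁻¹ᵁ V) :=
    Scheme.Hom.isQuasiSeparated_preimage f hV.isQuasiSeparated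
  have hiso := isIso_pushoutSection_of_isQuasiSeparated_of_flat_right H hWV le_rfl hUY hV hW hc hqs
  have hleft : IsIso (f.appLE V (f ⁻¹ᵁ V) le_rfl) := by
    rw [Scheme.Hom.appLE_eq_app]; exact hfib V
  have hinr : IsIso (pushout.inr (f.appLE V (f ⁻¹ᵁ V) le_rfl) (p.appLE V W hWV)) := inferInstance
  have hcomp : f'.appLE W (f' ⁻¹ᵁ W) le_rfl =
      pushout.inr (f.appLE V (f ⁻¹ᵁ V) le_rfl) (p.appLE V W hWV) ≫
        pushoutSection H hWV le_rfl hUY := by
    exact (pushout.inr_desc _ _ _).symm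
  have h3 : IsIso (f'.appLE W (f' ⁻¹ᵁ W) le_rfl) := by
    rw [hcomp]; infer_instance
  rwa [Scheme.Hom.appLE_eq_app] at h3


/-- Base change of a fibration `f : X ⟶ Y` over `S` along a flat morphism `T ⟶ S`: the induced
morphism `X ×_S T ⟶ Z = Y ×_S T` is again a fibration. -/
theorem exists_fibration_baseChange {S T X Y Z : Scheme.{u}} (qX : X ⟶ S) (qY : Y ⟶ S)
    (f : X ⟶ Y) (hf : f ≫ qY = qX) (y : T ⟶ S) [Flat y] [QuasiCompact f] [QuasiSeparated f]
    (hfib : ∀ V : Y.Opens, IsIso (f.app V)) (fst : Z ⟶ Y) (snd : Z ⟶ T)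
    (hZ : IsPullback fst snd qY y) :
    ∃ fK : pullback qX y ⟶ Z, fK ≫ snd = pullback.snd qX y ∧
      fK ≫ fst = pullback.fst qX y ≫ f ∧ ∀ W : Z.Opens, IsIso (fK.app W) := by
  let fK : pullback qX y ⟶ Z := hZ.lift (pullback.fst qX y ≫ f) (pullback.snd qX y)
    (by rw [Category.assoc, hf, pullback.condition])
  have h1 : fK ≫ fst = pullback.fst qX y ≫ f := hZ.lift_fst _ _ _
  have h2 : fK ≫ snd = pullback.snd qX y := hZ.lift_snd _ _ _
  have hbig : IsPullback (pullback.fst qX y) (fK ≫ snd) (f ≫ qY) y := by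
    rw [h2, hf]; exact IsPullback.of_hasPullback qX y
  have hsq : IsPullback (pullback.fst qX y) fK f fst := IsPullback.of_bot hbig h1.symm hZ
  haveI : Flat fst := MorphismProperty.of_isPullback (P := @Flat) hZ.flip ‹Flat y›
  exact ⟨fK, h2, h1, isIso_app_of_isPullback_of_flat hsq hfib⟩

end Groth.Agent.Lib.Helper50
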