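import Mathlib
import Groth.Prelude
import Groth.Agent.Lib.Helper55.ChevalleyBound
import Groth.Agent.Lib.Helper55.FlatDim
import Groth.Agent.Lib.Helper55.FibreDimFormula
import Groth.Agent.Lib.Helper55.DimFormulaIrred

/-! Dimension of the irreducible components of the fibres over a one-dimensional base (helper50). -/

set_option autoImplicit false
universe u
open CategoryTheory AlgebraicGeometry TopologicalSpace

namespace Groth.Agent.Lib.Helper50

open Groth.Agent.Lib.Helper55

variable {X Y : Scheme.{u}} [IrreducibleSpace X] [IrreducibleSpace Y] [IsLocallyNoetherian Y]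
  (f : X ⟶ Y) [LocallyOfFiniteType f]

/-- For a dominant morphism of irreducible schemes with `dim Y ≤ 1`: `dim O_{Y,f x} ≤ dim O_{X,x}`. -/
theorem ringKrullDim_stalk_map_le_of_dim_le_one (hY : topologicalKrullDim Y ≤ 1)
    (hf : DenseRange f.base) (x : X) :
    ringKrullDim (Y.presheaf.stalk (f.base x)) ≤ ringKrullDim (X.presheaf.stalk x) := by
  have hX : IsLocallyNoetherian X := LocallyOfFiniteType.isLocallyNoetherian f
  have h0 : (0 : WithBot ℕ∞) ≤ ringKrullDim (X.presheaf.stalk x) :=
    ringKrullDim_nonneg_of_nontrivial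
  by_cases hη : f.base x = genericPoint Y
  · rw [hη, ringKrullDim_stalk_eq_zero_of_closure_mem_irreducibleComponents (genericPoint Y)]
    · exact h0
    · rw [(genericPoint_spec Y), irreducibleComponents_eq_singleton]
      exact Set.mem_singleton _
  · have h1 : ringKrullDim (Y.presheaf.stalk (f.base x)) ≤ 1 :=
      (ringKrullDim_stalk_le_topologicalKrullDim Y _).trans hY
    refine h1.trans ?_
    obtain ⟨a, ha⟩ := exists_nat_ringKrullDim_stalk x
    rw [ha]
    have ha0 : a ≠ 0 := by
      rintro rfl
      have hξx : genericPoint X ⤳ x := (genericPoint_spec X).specializes (Set.mem_univ _)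
      have := eq_of_specializes_of_ringKrullDim_stalk_eq_zero x (genericPoint X)
        (by rw [ha]; rfl) hξx
      apply hη
      rw [← this]
      exact map_genericPoint_eq_of_denseRange f hf
    have : 1 ≤ a := Nat.one_le_iff_ne_zero.mpr ha0
    exact_mod_cast this

/-- Key step: the closure in its fibre of a maximal point of the fibre has the dimension of the
generic fibre, if `dim Y ≤ 1`. -/
theorem dim_closure_asFiber_eq_of_dim_le_one (hY : topologicalKrullDim Y ≤ 1)
    (hf : DenseRange f.base) (x : X)
    (hx : closure ({f.asFiber x} : Set ↥(f.fiber (f.base x))) ∈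
      irreducibleComponents ↥(f.fiber (f.base x))) :
    topologicalKrullDim ↥(closure ({f.asFiber x} : Set ↥(f.fiber (f.base x)))) =
      topologicalKrullDim ↥(f.fiber (genericPoint Y)) := by
  have hX : IsLocallyNoetherian X := LocallyOfFiniteType.isLocallyNoetherian f
  obtain ⟨n, hn1, hn2⟩ := exists_dim_closure_asFiber_eq_trdeg f x
  obtain ⟨m, hm1, hm2⟩ := exists_dim_genericFiber_eq_trdeg f hf
  rw [hn1, hm1]
  have hξx : genericPoint X ⤳ x := (genericPoint_spec X).specializes (Set.mem_univ _)
  -- Chevalley's bound: m ≤ n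
  have hmn : m ≤ n := by
    have h1 := trdeg_le_fibreDimAt_of_specializes f (genericPoint X) x hξx m hm2
    obtain ⟨n', hn', hfd⟩ := fibreDimAt_eq_stalk_fiber_add_trdeg f x
    have hnn : n' = n := by
      have := hn'.symm.trans hn2
      exact_mod_cast this
    rw [hfd, hnn, ringKrullDim_stalk_eq_zero_of_closure_mem_irreducibleComponents _ hx,
      zero_add] at h1
    exact_mod_cast h1
  -- dimension inequality: n ≤ m
  have hnm : n ≤ m := by
    have h1 := ringKrullDim_stalk_add_trdeg_le_of_irreducible f x n m hn2 hm2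
    have h2 := ringKrullDim_stalk_map_le_of_dim_le_one f hY hf x
    obtain ⟨a, ha⟩ := exists_nat_ringKrullDim_stalk x
    obtain ⟨b, hb⟩ := exists_nat_ringKrullDim_stalk (f.base x)
    rw [ha, hb] at h1
    rw [ha, hb] at h2
    have h1' : a + n ≤ b + m := by exact_mod_cast h1
    have h2' : b ≤ a := by exact_mod_cast h2
    omega
  rw [le_antisymm hnm hmn]

/-- Every irreducible component of a nonempty fibre has the dimension of the generic fibre, if
`dim Y ≤ 1`. -/
theorem dim_irreducibleComponent_fiber_eq_of_dim_le_one (hY : topologicalKrullDim Y ≤ 1)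
    (hf : DenseRange f.base) (y : Y) (Z : Set ↥(f.fiber y))
    (hZ : Z ∈ irreducibleComponents ↥(f.fiber y)) :
    topologicalKrullDim Z = topologicalKrullDim ↥(f.fiber (genericPoint Y)) := by
  obtain ⟨z, hz⟩ := QuasiSober.sober hZ.1 (isClosed_of_mem_irreducibleComponents Z hZ)
  obtain ⟨x, hx⟩ : ∃ x : X, f.fiberι y z = x := ⟨_, rfl⟩
  have hs : f.base x = y := by
    have : x ∈ Set.range (f.fiberι y) := ⟨z, hx⟩
    rw [f.range_fiberι y] at this
    exact this
  subst hs
  have hz' : z = f.asFiber x := by
    apply (f.fiberι (f.base x)).isEmbedding.injective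
    rw [hx, f.fiberι_asFiber]
  subst hz'
  have hcl : closure ({f.asFiber x} : Set ↥(f.fiber (f.base x))) = Z := hz.def
  subst hcl
  exact dim_closure_asFiber_eq_of_dim_le_one f hY hf x hZ

end Groth.Agent.Lib.Helper50
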