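import Mathlib
import Groth.Agent.S9293

/-!
# Ring maps with fibres satisfying a local property (helper50)

Generic machinery: for a predicate `𝓕 k F` on algebras over fields which is invariant under
semilinear isomorphism, stable under localization away from an element and local for finite
covers by basic opens, the property of ring maps `A → B` "all fibres `κ(p) ⊗ B` satisfy `𝓕`"
is local in the sense of `RingHom.PropertyIsLocal` (given stability under base change along
localizations).
-/

set_option autoImplicit false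
universe u
open TensorProduct

namespace Groth.Agent.Lib.Helper50.FibHom

/-- Predicates on algebras over fields. -/
abbrev FibPred := ∀ (k : Type u) [Field k] (F : Type u) [CommRing F] [Algebra k F], Prop

/-- Locality axioms for a fibre predicate. -/
structure IsLocalPred (𝓕 : FibPred.{u}) : Prop where
  iso : ∀ {k k' F F' : Type u} [Field k] [Field k'] [CommRing F] [CommRing F'] [Algebra k F]
    [Algebra k' F'] (σ : k ≃+* k') (e : F ≃+* F'),
    (∀ c, e (algebraMap k F c) = algebraMap k' F' (σ c)) → 𝓕 k F → 𝓕 k' F'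
  loc : ∀ {k F : Type u} [Field k] [CommRing F] [Algebra k F] (s : F),
    𝓕 k F → 𝓕 k (Localization.Away s)
  cov : ∀ {k F : Type u} [Field k] [CommRing F] [Algebra k F] (s : Set F), Ideal.span s = ⊤ →
    (∀ r : s, 𝓕 k (Localization.Away (r : F))) → 𝓕 k F

variable {𝓕 : FibPred.{u}}

/-- All fibres of `A → B` satisfy `𝓕`. -/
def Qfib (𝓕 : FibPred.{u}) (A B : Type u) [CommRing A] [CommRing B] [Algebra A B] : Prop :=
  ∀ (p : Ideal A) [p.IsPrime], 𝓕 p.ResidueField (p.Fiber B)

theorem IsLocalPred.of_algEquiv (h𝓕 : IsLocalPred 𝓕) {k F F' : Type u} [Field k] [CommRing F]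
    [CommRing F'] [Algebra k F] [Algebra k F'] (e : F ≃ₐ[k] F') (h : 𝓕 k F) : 𝓕 k F' :=
  h𝓕.iso (RingEquiv.refl k) e.toRingEquiv (fun c => e.commutes c) h

theorem IsLocalPred.of_subsingleton (h𝓕 : IsLocalPred 𝓕) {k F : Type u} [Field k] [CommRing F]
    [Algebra k F] [Subsingleton F] : 𝓕 k F := by
  apply h𝓕.cov (∅ : Set F) (Subsingleton.elim _ _)
  rintro ⟨r, hr⟩
  exact absurd hr (Set.notMem_empty r)

/-- Descent along a trivial field extension. -/
theorem IsLocalPred.of_bijective (h𝓕 : IsLocalPred 𝓕) {k k' F : Type u} [Field k] [Field k']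
    [Algebra k k'] [CommRing F] [Algebra k F] (hb : Function.Bijective (algebraMap k k'))
    (h : 𝓕 k' (k' ⊗[k] F)) : 𝓕 k F := by
  let σ : k ≃ₐ[k] k' := AlgEquiv.ofBijective (Algebra.ofId k k') hb
  let e : k' ⊗[k] F ≃ₐ[k] F :=
    (Algebra.TensorProduct.congr σ.symm (AlgEquiv.refl (R := k) (A₁ := F))).trans
      (Algebra.TensorProduct.lid k F)
  refine h𝓕.iso σ.symm.toRingEquiv e.toRingEquiv ?_ h
  intro c
  simp [e, Algebra.TensorProduct.algebraMap_apply, Algebra.smul_def]

theorem Qfib.of_algEquiv (h𝓕 : IsLocalPred 𝓕) {A B B' : Type u} [CommRing A] [CommRing B]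
    [CommRing B'] [Algebra A B] [Algebra A B'] (e : B ≃ₐ[A] B') (h : Qfib 𝓕 A B) :
    Qfib 𝓕 A B' := by
  intro p _
  refine h𝓕.of_algEquiv ?_ (h p)
  exact Algebra.TensorProduct.congr (AlgEquiv.refl (R := p.ResidueField)) e


theorem Qfib.of_isLocalizationAway (h𝓕 : IsLocalPred 𝓕) {A B B' : Type u} [CommRing A]
    [CommRing B] [CommRing B'] [Algebra A B] [Algebra A B'] [Algebra B B'] [IsScalarTower A B B']
    (s : B) [IsLocalization.Away s B'] (h : Qfib 𝓕 A B) : Qfib 𝓕 A B' := by
  intro p _
  have h1 := h𝓕.loc ((1 : p.ResidueField) ⊗ₜ[A] s) (h p)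
  exact h𝓕.of_algEquiv
    (IsLocalization.Away.tensorProductEquivTMulRight A p.ResidueField s B').symm h1

theorem Qfib.of_span_target (h𝓕 : IsLocalPred 𝓕) {A B : Type u} [CommRing A] [CommRing B]
    [Algebra A B] (s : Set B) (hs : Ideal.span s = ⊤)
    (h : ∀ r : s, Qfib 𝓕 A (Localization.Away (r : B))) : Qfib 𝓕 A B := by
  intro p _
  let ι : B →+* p.Fiber B := Algebra.TensorProduct.includeRight.toRingHom
  apply h𝓕.cov (ι '' s)
  · rw [← Ideal.map_span, hs, Ideal.map_top]
  · rintro ⟨_, r, hr, rfl⟩
    have h1 := h ⟨r, hr⟩ p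
    exact h𝓕.of_algEquiv
      (IsLocalization.Away.tensorProductEquivTMulRight A p.ResidueField r (Localization.Away r)) h1


theorem bijective_algebraMap_residueField_of_isLocalization {A A' : Type*} [CommRing A]
    [CommRing A'] [Algebra A A'] (M : Submonoid A) [IsLocalization M A'] (p' : Ideal A')
    [p'.IsPrime] :
    letI := Localization.AtPrime.algebraOfLiesOver (p'.under A) p'
    Function.Bijective (algebraMap (p'.under A).ResidueField p'.ResidueField) := by
  letI := Localization.AtPrime.algebraOfLiesOver (p'.under A) p'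
  have H := RingHom.surjectiveOnStalks_of_isLocalization (M := M) A'
  have h1 := H.residueFieldMap_bijective (p'.under A) p' rfl
  have e : algebraMap (p'.under A).ResidueField p'.ResidueField =
      Ideal.ResidueField.map (p'.under A) p' (algebraMap A A') rfl := by
    apply RingHom.ext
    intro x
    obtain ⟨y, rfl⟩ := IsLocalRing.residue_surjective x
    rfl
  rw [e]
  exact h1

theorem Qfib.of_comp_localizationAway_source (h𝓕 : IsLocalPred 𝓕) {A A' T : Type u} [CommRing A]
    [CommRing A'] [CommRing T] [Algebra A A'] [Algebra A' T] [Algebra A T] [IsScalarTower A A' T]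
    (r : A) [IsLocalization.Away r A'] (h : Qfib 𝓕 A' T) : Qfib 𝓕 A T := by
  intro p hp
  by_cases hr : r ∈ p
  · haveI : Subsingleton (p.Fiber T) := by
      refine subsingleton_of_zero_eq_one ?_
      have hu : IsUnit (algebraMap A T r) := by
        rw [IsScalarTower.algebraMap_apply A A' T]
        exact (IsLocalization.Away.algebraMap_isUnit r).map _
      obtain ⟨t, ht⟩ := hu.exists_right_inv
      have h0 : algebraMap A p.ResidueField r = 0 :=
        Ideal.algebraMap_residueField_eq_zero.mpr hr
      calc (0 : p.Fiber T) = (algebraMap A p.ResidueField r) ⊗ₜ[A] t := by rw [h0, zero_tmul]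
        _ = (r • (1 : p.ResidueField)) ⊗ₜ[A] t := by rw [Algebra.smul_def, mul_one]
        _ = 1 ⊗ₜ[A] (r • t) := by rw [smul_tmul]
        _ = 1 ⊗ₜ[A] (1 : T) := by rw [Algebra.smul_def, ht]
        _ = 1 := rfl
    exact h𝓕.of_subsingleton
  · obtain ⟨p', hp', rfl⟩ : ∃ p' : Ideal A', p'.IsPrime ∧ p'.under A = p := by
      have hdisj : Disjoint (Submonoid.powers r : Set A) (p : Set A) :=
        (Ideal.disjoint_powers_iff_notMem_of_isPrime _).mpr hr
      exact ⟨p.map (algebraMap A A'),
        IsLocalization.isPrime_of_isPrime_disjoint (.powers r) _ _ hp hdisj,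
        IsLocalization.under_map_of_isPrime_disjoint (.powers r) _ hp hdisj⟩
    letI := Localization.AtPrime.algebraOfLiesOver (p'.under A) p'
    haveI : IsLocalization (Algebra.algebraMapSubmonoid T (Submonoid.powers r)) T := by
      apply IsLocalization.of_le_isUnit
      rintro _ ⟨x, ⟨n, rfl⟩, rfl⟩
      rw [map_pow, IsScalarTower.algebraMap_apply A A' T]
      exact ((IsLocalization.Away.algebraMap_isUnit r).map _).pow n
    haveI : Algebra.IsPushout A T A' T :=
      Algebra.isPushout_of_isLocalization (Submonoid.powers r) A' T T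
    haveI : Algebra.IsPushout A A' T T := Algebra.IsPushout.symm inferInstance
    have h1 : 𝓕 p'.ResidueField (p'.Fiber (A' ⊗[A] T)) :=
      (Qfib.of_algEquiv h𝓕 (Algebra.IsPushout.equiv A A' T T).symm h) p'
    have h2 : 𝓕 p'.ResidueField
        (p'.ResidueField ⊗[(p'.under A).ResidueField] (p'.under A).Fiber T) :=
      h𝓕.of_algEquiv (Groth.Agent.S9293.Aux.fiberBaseChangeAlgEquiv A A' T p') h1
    exact h𝓕.of_bijective
      (bijective_algebraMap_residueField_of_isLocalization (Submonoid.powers r) p') h2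


/-- The ring hom property: all fibres satisfy `𝓕`. -/
def QfibHom (𝓕 : FibPred.{u}) : ∀ {R S : Type u} [CommRing R] [CommRing S], (R →+* S) → Prop :=
  fun {R S} _ _ φ => letI := φ.toAlgebra; Qfib 𝓕 R S

theorem qfibHom_algebraMap_iff {R S : Type u} [CommRing R] [CommRing S] [Algebra R S] :
    QfibHom 𝓕 (algebraMap R S) ↔ Qfib 𝓕 R S := by
  have : (algebraMap R S).toAlgebra = ‹Algebra R S› := Algebra.algebra_ext _ _ (fun _ => rfl)
  unfold QfibHom
  rw [this]

/-- Hypothesis: stability under base change along localizations away from an element. -/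
def BCAway (𝓕 : FibPred.{u}) : Prop :=
  ∀ {A B A' : Type u} [CommRing A] [CommRing B] [CommRing A'] [Algebra A B] [Algebra A A']
    (r : A) [IsLocalization.Away r A'], Qfib 𝓕 A B → Qfib 𝓕 A' (A' ⊗[A] B)

theorem localizationAwayPreserves_qfibHom (h𝓕 : IsLocalPred 𝓕) (hbc : BCAway 𝓕) :
    RingHom.LocalizationAwayPreserves (QfibHom 𝓕) := by
  intro R S _ _ f r R' S' _ _ _ _ _ _ hf
  algebraize [f, IsLocalization.Away.map R' S' f r,
    (IsLocalization.Away.map R' S' f r).comp (algebraMap R R')]
  have : IsScalarTower R S S' := IsScalarTower.of_algebraMap_eq' (IsLocalization.map_comp _)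
  have : IsLocalization (Algebra.algebraMapSubmonoid S (Submonoid.powers r)) S' := by
    rw [Algebra.algebraMapSubmonoid_powers]
    assumption
  letI : Algebra.IsPushout R S R' S' :=
    Algebra.isPushout_of_isLocalization (Submonoid.powers r) R' S S'
  haveI : Algebra.IsPushout R R' S S' := Algebra.IsPushout.symm inferInstance
  change Qfib 𝓕 R' S'
  exact Qfib.of_algEquiv h𝓕 (Algebra.IsPushout.equiv R R' S S') (hbc r hf)

theorem ofLocalizationSpanTarget_qfibHom (h𝓕 : IsLocalPred 𝓕) :
    RingHom.OfLocalizationSpanTarget (QfibHom 𝓕) := by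
  intro R S _ _ f s hs h
  letI := f.toAlgebra
  change Qfib 𝓕 R S
  apply Qfib.of_span_target h𝓕 s hs
  intro r
  have h1 : @Qfib 𝓕 R (Localization.Away (r : S)) _ _
      ((algebraMap S (Localization.Away (r : S))).comp f).toAlgebra := h r
  have e : ((algebraMap S (Localization.Away (r : S))).comp f).toAlgebra =
      (inferInstance : Algebra R (Localization.Away (r : S))) :=
    Algebra.algebra_ext _ _ (fun x => rfl)
  rw [e] at h1
  exact h1

theorem stableUnderCompositionWithLocalizationAwayTarget_qfibHom (h𝓕 : IsLocalPred 𝓕) :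
    RingHom.StableUnderCompositionWithLocalizationAwayTarget (QfibHom 𝓕) := by
  intro R S T _ _ _ _ s _ f hf
  letI := f.toAlgebra
  letI : Algebra R T := ((algebraMap S T).comp f).toAlgebra
  haveI : IsScalarTower R S T := IsScalarTower.of_algebraMap_eq' rfl
  change Qfib 𝓕 R T
  exact Qfib.of_isLocalizationAway h𝓕 s hf

theorem stableUnderCompositionWithLocalizationAwaySource_qfibHom (h𝓕 : IsLocalPred 𝓕) :
    RingHom.StableUnderCompositionWithLocalizationAwaySource (QfibHom 𝓕) := by
  intro R S T _ _ _ _ r _ f hf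
  letI := f.toAlgebra
  letI : Algebra R T := (f.comp (algebraMap R S)).toAlgebra
  haveI : IsScalarTower R S T := IsScalarTower.of_algebraMap_eq' rfl
  change Qfib 𝓕 R T
  exact Qfib.of_comp_localizationAway_source h𝓕 r hf

theorem propertyIsLocal_qfibHom (h𝓕 : IsLocalPred 𝓕) (hbc : BCAway 𝓕) :
    RingHom.PropertyIsLocal (QfibHom 𝓕) where
  localizationAwayPreserves := localizationAwayPreserves_qfibHom h𝓕 hbc
  ofLocalizationSpanTarget := ofLocalizationSpanTarget_qfibHom h𝓕
  ofLocalizationSpan := (ofLocalizationSpanTarget_qfibHom h𝓕).ofLocalizationSpan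
    (stableUnderCompositionWithLocalizationAwaySource_qfibHom h𝓕)
  StableUnderCompositionWithLocalizationAwayTarget :=
    stableUnderCompositionWithLocalizationAwayTarget_qfibHom h𝓕

end Groth.Agent.Lib.Helper50.FibHom
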