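import Mathlib
import Groth.Prelude.Def_FSch2

/-!
# Systems over the completion along an ideal sheaf coming from an algebra over an affine chart
-/

set_option autoImplicit false
universe u
open CategoryTheory CategoryTheory.Limits AlgebraicGeometry TensorProduct

namespace Groth.Agent.Lib.Helper50.FormalLift

variable (S : Scheme.{u}) (𝒥 : S.IdealSheafData) (W : S.affineOpens)

/-- The ideal of `𝒥^(n+1)` on the chart `W`. -/
abbrev Jn (n : ℕ) : Ideal Γ(S, W.1) := (𝒥 ^ (n + 1)).ideal W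

theorem Jn_succ_le (n : ℕ) : Jn S 𝒥 W (n + 1) ≤ Jn S 𝒥 W n :=
  (FSch.pow_succ_le S 𝒥 n) W

variable (B : Type u) [CommRing B] [Algebra Γ(S, W.1) B]

/-- The `n`-th level ring. -/
abbrev Lvl (n : ℕ) : Type u := (Γ(S, W.1) ⧸ Jn S 𝒥 W n) ⊗[Γ(S, W.1)] B

/-- transition maps of level rings -/
noncomputable def trans (n : ℕ) : Lvl S 𝒥 W B (n + 1) →ₐ[Γ(S, W.1)] Lvl S 𝒥 W B n :=
  Algebra.TensorProduct.map (Ideal.Quotient.factorₐ Γ(S, W.1) (Jn_succ_le S 𝒥 W n)) (AlgHom.id _ B)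

theorem trans_tmul (n : ℕ) (r : Γ(S, W.1) ⧸ Jn S 𝒥 W (n + 1)) (b : B) :
    trans S 𝒥 W B n (r ⊗ₜ b) =
      (Ideal.Quotient.factor (Jn_succ_le S 𝒥 W n) r) ⊗ₜ b := rfl

/-- the system of schemes attached to `B` -/
noncomputable def sysOf : FSch.Sys.{u} where
  X n := Spec (CommRingCat.of (Lvl S 𝒥 W B n))
  ι n := Spec.map (CommRingCat.ofHom (trans S 𝒥 W B n).toRingHom)

/-- structure map of a level -/
noncomputable def lvlStr (n : ℕ) :
    Spec (CommRingCat.of (Lvl S 𝒥 W B n)) ⟶ Spec (CommRingCat.of (Γ(S, W.1) ⧸ Jn S 𝒥 W n)) :=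
  Spec.map (CommRingCat.ofHom (algebraMap (Γ(S, W.1) ⧸ Jn S 𝒥 W n) (Lvl S 𝒥 W B n)))

theorem trans_comp_algebraMap (n : ℕ) :
    (trans S 𝒥 W B n).toRingHom.comp
        (algebraMap (Γ(S, W.1) ⧸ Jn S 𝒥 W (n + 1)) (Lvl S 𝒥 W B (n + 1))) =
      (algebraMap (Γ(S, W.1) ⧸ Jn S 𝒥 W n) (Lvl S 𝒥 W B n)).comp
        (Ideal.Quotient.factor (Jn_succ_le S 𝒥 W n)) := by
  ext r
  simp only [RingHom.comp_apply, AlgHom.toRingHom_eq_coe, RingHom.coe_coe,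
    Algebra.TensorProduct.algebraMap_apply, Algebra.algebraMap_self, RingHom.id_apply]
  rfl

theorem lvlStr_comm (n : ℕ) :
    (sysOf S 𝒥 W B).ι n ≫ lvlStr S 𝒥 W B (n + 1) =
      lvlStr S 𝒥 W B n ≫
        Spec.map (CommRingCat.ofHom (Ideal.Quotient.factor (Jn_succ_le S 𝒥 W n))) := by
  simp only [sysOf, lvlStr, ← Spec.map_comp, ← CommRingCat.ofHom_comp]
  rw [trans_comp_algebraMap]

/-- the morphism to the completion -/
noncomputable def toCompl : sysOf S 𝒥 W B ⟶ FSch.completionAlong S 𝒥 where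
  app n := lvlStr S 𝒥 W B n ≫ (𝒥 ^ (n + 1)).subschemeCover.f W
  comm n := by
    change (lvlStr S 𝒥 W B n ≫ (𝒥 ^ (n + 1)).subschemeCover.f W) ≫
        Scheme.IdealSheafData.inclusion (FSch.pow_succ_le S 𝒥 n) =
      (sysOf S 𝒥 W B).ι n ≫ lvlStr S 𝒥 W B (n + 1) ≫ (𝒥 ^ (n + 1 + 1)).subschemeCover.f W
    have h1 : (𝒥 ^ (n + 1)).subschemeCover.f W ≫
          Scheme.IdealSheafData.inclusion (FSch.pow_succ_le S 𝒥 n) =
        Scheme.IdealSheafData.glueDataObjHom (FSch.pow_succ_le S 𝒥 n) W ≫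
          (𝒥 ^ (n + 1 + 1)).subschemeCover.f W :=
      Scheme.IdealSheafData.subSchemeCover_map_inclusion _ W
    have h2 : (sysOf S 𝒥 W B).ι n ≫ lvlStr S 𝒥 W B (n + 1) =
        lvlStr S 𝒥 W B n ≫ Scheme.IdealSheafData.glueDataObjHom (FSch.pow_succ_le S 𝒥 n) W :=
      lvlStr_comm S 𝒥 W B n
    calc (lvlStr S 𝒥 W B n ≫ (𝒥 ^ (n + 1)).subschemeCover.f W) ≫
          Scheme.IdealSheafData.inclusion (FSch.pow_succ_le S 𝒥 n)
        = lvlStr S 𝒥 W B n ≫ ((𝒥 ^ (n + 1)).subschemeCover.f W ≫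
          Scheme.IdealSheafData.inclusion (FSch.pow_succ_le S 𝒥 n)) := Category.assoc _ _ _
      _ = lvlStr S 𝒥 W B n ≫ (Scheme.IdealSheafData.glueDataObjHom (FSch.pow_succ_le S 𝒥 n) W ≫
          (𝒥 ^ (n + 1 + 1)).subschemeCover.f W) := congrArg (lvlStr S 𝒥 W B n ≫ ·) h1
      _ = (lvlStr S 𝒥 W B n ≫ Scheme.IdealSheafData.glueDataObjHom (FSch.pow_succ_le S 𝒥 n) W) ≫
          (𝒥 ^ (n + 1 + 1)).subschemeCover.f W := (Category.assoc _ _ _).symm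
      _ = ((sysOf S 𝒥 W B).ι n ≫ lvlStr S 𝒥 W B (n + 1)) ≫
          (𝒥 ^ (n + 1 + 1)).subschemeCover.f W :=
            congrArg (· ≫ (𝒥 ^ (n + 1 + 1)).subschemeCover.f W) h2.symm
      _ = _ := Category.assoc _ _ _

end Groth.Agent.Lib.Helper50.FormalLift
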