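import Mathlib
import Groth.Agent.Lib.Helper50.FormalLift1

/-!
# The system attached to an algebra is adic over the completion, and smooth if the algebra is
-/

set_option autoImplicit false
universe u
open CategoryTheory CategoryTheory.Limits AlgebraicGeometry TensorProduct

namespace Groth.Agent.Lib.Helper50.FormalLift

variable (S : Scheme.{u}) (𝒥 : S.IdealSheafData) (W : S.affineOpens)
variable (B : Type u) [CommRing B] [Algebra Γ(S, W.1) B]

/-- The ring-level pushout square between consecutive levels. -/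
theorem isPushout_lvl (n : ℕ) :
    IsPushout
      (CommRingCat.ofHom (Ideal.Quotient.factor (Jn_succ_le S 𝒥 W n)))
      (CommRingCat.ofHom (algebraMap (Γ(S, W.1) ⧸ Jn S 𝒥 W (n + 1)) (Lvl S 𝒥 W B (n + 1))))
      (CommRingCat.ofHom (algebraMap (Γ(S, W.1) ⧸ Jn S 𝒥 W n) (Lvl S 𝒥 W B n)))
      (CommRingCat.ofHom (trans S 𝒥 W B n).toRingHom) := by
  have big := CommRingCat.isPushout_tensorProduct Γ(S, W.1) (Γ(S, W.1) ⧸ Jn S 𝒥 W n) B
  have left := CommRingCat.isPushout_tensorProduct Γ(S, W.1) (Γ(S, W.1) ⧸ Jn S 𝒥 W (n + 1)) B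
  have e1 : CommRingCat.ofHom (algebraMap Γ(S, W.1) (Γ(S, W.1) ⧸ Jn S 𝒥 W n)) =
      CommRingCat.ofHom (algebraMap Γ(S, W.1) (Γ(S, W.1) ⧸ Jn S 𝒥 W (n + 1))) ≫
        CommRingCat.ofHom (Ideal.Quotient.factor (Jn_succ_le S 𝒥 W n)) := by
    ext r
    rfl
  have e2 : CommRingCat.ofHom (S := Lvl S 𝒥 W B n)
        (Algebra.TensorProduct.includeRight (R := Γ(S, W.1))
          (A := Γ(S, W.1) ⧸ Jn S 𝒥 W n) (B := B)).toRingHom =
      CommRingCat.ofHom (S := Lvl S 𝒥 W B (n + 1))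
        (Algebra.TensorProduct.includeRight (R := Γ(S, W.1))
          (A := Γ(S, W.1) ⧸ Jn S 𝒥 W (n + 1)) (B := B)).toRingHom ≫
        CommRingCat.ofHom (trans S 𝒥 W B n).toRingHom := by
    ext b
    change (1 : Γ(S, W.1) ⧸ Jn S 𝒥 W n) ⊗ₜ[Γ(S, W.1)] b =
      trans S 𝒥 W B n ((1 : Γ(S, W.1) ⧸ Jn S 𝒥 W (n + 1)) ⊗ₜ[Γ(S, W.1)] b)
    rw [trans_tmul, map_one]
  rw [e1, e2] at big
  refine IsPushout.of_left big ?_ left
  rw [← CommRingCat.ofHom_comp, ← CommRingCat.ofHom_comp]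
  congr 1

theorem isPullback_lvl (n : ℕ) :
    IsPullback ((sysOf S 𝒥 W B).ι n) (lvlStr S 𝒥 W B n) (lvlStr S 𝒥 W B (n + 1))
      (Spec.map (CommRingCat.ofHom (Ideal.Quotient.factor (Jn_succ_le S 𝒥 W n)))) :=
  isPullback_SpecMap_of_isPushout _ _ _ _ (isPushout_lvl S 𝒥 W B n).flip

/-- The square of charts of the completion is cartesian. -/
theorem isPullback_cover (n : ℕ) :
    IsPullback (Spec.map (CommRingCat.ofHom (Ideal.Quotient.factor (Jn_succ_le S 𝒥 W n))))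
      ((𝒥 ^ (n + 1)).subschemeCover.f W) ((𝒥 ^ (n + 1 + 1)).subschemeCover.f W)
      ((FSch.completionAlong S 𝒥).ι n) := by
  have i1 : IsOpenImmersion ((𝒥 ^ (n + 1)).subschemeCover.f W) :=
    (𝒥 ^ (n + 1)).subschemeCover.map_prop W
  have i2 : IsOpenImmersion ((𝒥 ^ (n + 1 + 1)).subschemeCover.f W) :=
    (𝒥 ^ (n + 1 + 1)).subschemeCover.map_prop W
  have H : (𝒥 ^ (n + 1)).subschemeCover.f W ≫ (FSch.completionAlong S 𝒥).ι n =
      Spec.map (CommRingCat.ofHom (Ideal.Quotient.factor (Jn_succ_le S 𝒥 W n))) ≫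
        (𝒥 ^ (n + 1 + 1)).subschemeCover.f W :=
    Scheme.IdealSheafData.subSchemeCover_map_inclusion (FSch.pow_succ_le S 𝒥 n) W
  have H' : ((FSch.completionAlong S 𝒥).ι n) ⁻¹ᵁ
      ((𝒥 ^ (n + 1 + 1)).subschemeCover.f W).opensRange =
      ((𝒥 ^ (n + 1)).subschemeCover.f W).opensRange := by
    have h1 : ((𝒥 ^ (n + 1 + 1)).subschemeCover.f W).opensRange =
        (𝒥 ^ (n + 1 + 1)).subschemeι ⁻¹ᵁ W :=
      Scheme.IdealSheafData.opensRange_subschemeCover_map _ W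
    have h2 : ((𝒥 ^ (n + 1)).subschemeCover.f W).opensRange = (𝒥 ^ (n + 1)).subschemeι ⁻¹ᵁ W :=
      Scheme.IdealSheafData.opensRange_subschemeCover_map _ W
    rw [h1, h2]
    change (Scheme.IdealSheafData.inclusion (FSch.pow_succ_le S 𝒥 n)) ⁻¹ᵁ
      ((𝒥 ^ (n + 1 + 1)).subschemeι ⁻¹ᵁ W) = _
    rw [← Scheme.Hom.comp_preimage, Scheme.IdealSheafData.inclusion_subschemeι]
  exact @IsOpenImmersion.isPullback _ _ _ _ _ _ _ _ i1 i2 H H'

theorem isAdicHom_toCompl : FSch.IsAdicHom (toCompl S 𝒥 W B) := fun n =>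
  (isPullback_lvl S 𝒥 W B n).paste_vert (isPullback_cover S 𝒥 W n)

theorem smooth_toCompl_app [Algebra.Smooth Γ(S, W.1) B] (n : ℕ) :
    Smooth ((toCompl S 𝒥 W B : FSch.Hom _ _).app n) := by
  have h1 : Smooth (lvlStr S 𝒥 W B n) := by
    rw [lvlStr, HasRingHomProperty.Spec_iff (P := @Smooth), CommRingCat.hom_ofHom,
      RingHom.smooth_algebraMap]
    infer_instance
  have i1 : IsOpenImmersion ((𝒥 ^ (n + 1)).subschemeCover.f W) :=
    (𝒥 ^ (n + 1)).subschemeCover.map_prop W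
  have h2 : Smooth ((𝒥 ^ (n + 1)).subschemeCover.f W) := inferInstance
  exact @smooth_comp _ _ _ _ _ h1 h2

end Groth.Agent.Lib.Helper50.FormalLift
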