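import Mathlib
import Groth.Agent.Lib.Helper50.FormalLift2

/-!
# Morphisms between the systems attached to algebras, and lifting by formal smoothness
-/

set_option autoImplicit false
universe u
open CategoryTheory CategoryTheory.Limits AlgebraicGeometry TensorProduct

namespace Groth.Agent.Lib.Helper50.FormalLift

variable (S : Scheme.{u}) (𝒥 : S.IdealSheafData) (W : S.affineOpens)
variable (A B : Type u) [CommRing A] [CommRing B] [Algebra Γ(S, W.1) A] [Algebra Γ(S, W.1) B]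

/-- the level map induced by `θ : B → Lvl A n` -/
noncomputable def lvlMap (n : ℕ) (θ : B →ₐ[Γ(S, W.1)] Lvl S 𝒥 W A n) :
    Lvl S 𝒥 W B n →ₐ[Γ(S, W.1) ⧸ Jn S 𝒥 W n] Lvl S 𝒥 W A n :=
  Algebra.TensorProduct.lift (Algebra.ofId _ _) θ (fun _ _ => Commute.all _ _)

theorem lvlMap_tmul (n : ℕ) (θ : B →ₐ[Γ(S, W.1)] Lvl S 𝒥 W A n)
    (r : Γ(S, W.1) ⧸ Jn S 𝒥 W n) (b : B) :
    lvlMap S 𝒥 W A B n θ (r ⊗ₜ b) = algebraMap _ (Lvl S 𝒥 W A n) r * θ b :=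
  Algebra.TensorProduct.lift_tmul _ _ _ _ _

theorem trans_surjective (n : ℕ) : Function.Surjective (trans S 𝒥 W A n) :=
  Algebra.TensorProduct.map_surjective _ _
    (Ideal.Quotient.factor_surjective (Jn_succ_le S 𝒥 W n)) Function.surjective_id

theorem Jn_sq_le (n : ℕ) : Jn S 𝒥 W n ^ 2 ≤ Jn S 𝒥 W (n + 1) := by
  change ((𝒥 ^ (n + 1)).ideal W) ^ 2 ≤ (𝒥 ^ (n + 1 + 1)).ideal W
  have h1 : ((𝒥 ^ (n + 1)).ideal W) ^ 2 = ((𝒥 ^ (n + 1)) ^ 2).ideal W := rfl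
  rw [h1, ← pow_mul]
  exact (pow_le_pow_of_le_one bot_le le_top (by omega) : 𝒥 ^ ((n + 1) * 2) ≤ 𝒥 ^ (n + 1 + 1)) W

theorem trans_ker_nilpotent (n : ℕ) :
    IsNilpotent (RingHom.ker ((trans S 𝒥 W A n : Lvl S 𝒥 W A (n + 1) →ₐ[Γ(S, W.1)] Lvl S 𝒥 W A n) :
      Lvl S 𝒥 W A (n + 1) →+* Lvl S 𝒥 W A n)) := by
  refine ⟨2, ?_⟩
  have h1 : RingHom.ker (trans S 𝒥 W A n : Lvl S 𝒥 W A (n + 1) →+* Lvl S 𝒥 W A n) =
      (RingHom.ker (Ideal.Quotient.factorₐ Γ(S, W.1) (Jn_succ_le S 𝒥 W n))).map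
        (Algebra.TensorProduct.includeLeft :
          (Γ(S, W.1) ⧸ Jn S 𝒥 W (n + 1)) →ₐ[Γ(S, W.1)] Lvl S 𝒥 W A (n + 1)) :=
    Algebra.TensorProduct.rTensor_ker (Ideal.Quotient.factorₐ Γ(S, W.1) (Jn_succ_le S 𝒥 W n))
      (Ideal.Quotient.factor_surjective (Jn_succ_le S 𝒥 W n))
  rw [h1]
  have h2 : RingHom.ker (Ideal.Quotient.factorₐ Γ(S, W.1) (Jn_succ_le S 𝒥 W n)) =
      (Jn S 𝒥 W n).map (Ideal.Quotient.mk (Jn S 𝒥 W (n + 1))) :=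
    Ideal.Quotient.factor_ker (Jn_succ_le S 𝒥 W n)
  rw [h2, AlgHom.coe_ideal_map, ← Ideal.map_pow, ← Ideal.map_pow]
  have h3 : (Jn S 𝒥 W n ^ 2).map (Ideal.Quotient.mk (Jn S 𝒥 W (n + 1))) = ⊥ := by
    rw [Ideal.map_eq_bot_iff_le_ker, Ideal.mk_ker]
    exact Jn_sq_le S 𝒥 W n
  rw [h3, Ideal.map_bot]
  rfl

theorem lvlMap_comp_trans (n : ℕ) (θ : B →ₐ[Γ(S, W.1)] Lvl S 𝒥 W A n)
    (θ' : B →ₐ[Γ(S, W.1)] Lvl S 𝒥 W A (n + 1)) (h : (trans S 𝒥 W A n).comp θ' = θ) :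
    (lvlMap S 𝒥 W A B n θ).toRingHom.comp (trans S 𝒥 W B n).toRingHom =
      (trans S 𝒥 W A n).toRingHom.comp (lvlMap S 𝒥 W A B (n + 1) θ').toRingHom := by
  refine RingHom.ext fun z => ?_
  simp only [AlgHom.toRingHom_eq_coe, RingHom.coe_comp, RingHom.coe_coe, Function.comp_apply]
  induction z using TensorProduct.induction_on with
  | zero => simp
  | add x y hx hy => simp only [map_add, hx, hy]
  | tmul r b =>
    rw [trans_tmul, lvlMap_tmul, lvlMap_tmul, map_mul]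
    congr 1
    rw [← h]
    rfl

/-- the morphism of systems induced by a compatible family -/
noncomputable def mapSys (θ : ∀ n, B →ₐ[Γ(S, W.1)] Lvl S 𝒥 W A n)
    (hθ : ∀ n, (trans S 𝒥 W A n).comp (θ (n + 1)) = θ n) :
    sysOf S 𝒥 W A ⟶ sysOf S 𝒥 W B where
  app n := Spec.map (CommRingCat.ofHom (lvlMap S 𝒥 W A B n (θ n)).toRingHom)
  comm n := by
    change Spec.map (CommRingCat.ofHom (lvlMap S 𝒥 W A B n (θ n)).toRingHom) ≫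
        Spec.map (CommRingCat.ofHom (trans S 𝒥 W B n).toRingHom) =
      Spec.map (CommRingCat.ofHom (trans S 𝒥 W A n).toRingHom) ≫
        Spec.map (CommRingCat.ofHom (lvlMap S 𝒥 W A B (n + 1) (θ (n + 1))).toRingHom)
    rw [← Spec.map_comp, ← Spec.map_comp, ← CommRingCat.ofHom_comp, ← CommRingCat.ofHom_comp,
      lvlMap_comp_trans S 𝒥 W A B n (θ n) (θ (n + 1)) (hθ n)]

theorem mapSys_app (θ : ∀ n, B →ₐ[Γ(S, W.1)] Lvl S 𝒥 W A n)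
    (hθ : ∀ n, (trans S 𝒥 W A n).comp (θ (n + 1)) = θ n) (n : ℕ) :
    (mapSys S 𝒥 W A B θ hθ : FSch.Hom _ _).app n =
      Spec.map (CommRingCat.ofHom (lvlMap S 𝒥 W A B n (θ n)).toRingHom) := rfl

theorem mapSys_comp_toCompl (θ : ∀ n, B →ₐ[Γ(S, W.1)] Lvl S 𝒥 W A n)
    (hθ : ∀ n, (trans S 𝒥 W A n).comp (θ (n + 1)) = θ n) :
    mapSys S 𝒥 W A B θ hθ ≫ toCompl S 𝒥 W B = toCompl S 𝒥 W A := by
  apply FSch.Hom.ext
  funext n
  change Spec.map (CommRingCat.ofHom (lvlMap S 𝒥 W A B n (θ n)).toRingHom) ≫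
      (lvlStr S 𝒥 W B n ≫ (𝒥 ^ (n + 1)).subschemeCover.f W) =
    lvlStr S 𝒥 W A n ≫ (𝒥 ^ (n + 1)).subschemeCover.f W
  rw [← Category.assoc]
  congr 1
  rw [lvlStr, lvlStr, ← Spec.map_comp, ← CommRingCat.ofHom_comp]
  congr 2
  exact (lvlMap S 𝒥 W A B n (θ n)).comp_algebraMap

section lift

variable [Algebra.FormallySmooth Γ(S, W.1) B]

/-- a compatible family of lifts of `θ₀` by formal smoothness -/
noncomputable def liftFam (θ₀ : B →ₐ[Γ(S, W.1)] Lvl S 𝒥 W A 0) :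
    ∀ n, B →ₐ[Γ(S, W.1)] Lvl S 𝒥 W A n
  | 0 => θ₀
  | n + 1 => Algebra.FormallySmooth.liftOfSurjective (liftFam θ₀ n) (trans S 𝒥 W A n)
      (trans_surjective S 𝒥 W A n) (trans_ker_nilpotent S 𝒥 W A n)

theorem liftFam_zero (θ₀ : B →ₐ[Γ(S, W.1)] Lvl S 𝒥 W A 0) : liftFam S 𝒥 W A B θ₀ 0 = θ₀ := rfl

theorem liftFam_comp (θ₀ : B →ₐ[Γ(S, W.1)] Lvl S 𝒥 W A 0) (n : ℕ) :
    (trans S 𝒥 W A n).comp (liftFam S 𝒥 W A B θ₀ (n + 1)) = liftFam S 𝒥 W A B θ₀ n :=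
  Algebra.FormallySmooth.comp_liftOfSurjective _ _ _ _

end lift

end Groth.Agent.Lib.Helper50.FormalLift
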