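import Mathlib
import Groth.Agent.Lib.Helper50.FormalLift3

/-!
# Standard smooth charts of a smooth morphism over an affine chart of the target
-/

set_option autoImplicit false
universe u
open CategoryTheory CategoryTheory.Limits AlgebraicGeometry TensorProduct

namespace Groth.Agent.Lib.Helper50.FormalLift

/-- A smooth morphism `g : Y ⟶ Z`, an affine chart `c : Spec R₀ ⟶ Z` containing `g y`:
there is an affine open neighbourhood `V` of `y` inside a given open `O`, identified with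
`Spec B₀` for a standard smooth `R₀`-algebra `B₀`, compatibly with the maps to `Z`. -/
theorem exists_chart {Y Z : Scheme.{u}} (g : Y ⟶ Z) [Smooth g] {R₀ : Type u} [CommRing R₀]
    (c : Spec (CommRingCat.of R₀) ⟶ Z) [IsOpenImmersion c] (y : Y) (hy : g y ∈ c.opensRange)
    (O : Y.Opens) (hO : y ∈ O) :
    ∃ (V : Y.Opens) (_ : IsAffineOpen V) (_ : y ∈ V) (_ : V ≤ O) (B₀ : Type u) (_ : CommRing B₀)
      (_ : Algebra R₀ B₀) (e : Spec (CommRingCat.of B₀) ≅ V.toScheme),
        Algebra.IsStandardSmooth R₀ B₀ ∧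
        e.hom ≫ V.ι ≫ g = Spec.map (CommRingCat.ofHom (algebraMap R₀ B₀)) ≫ c := by
  have hU : IsAffineOpen c.opensRange := isAffineOpen_opensRange c
  obtain ⟨V₁, hV₁, hyV₁, hV₁le⟩ := TopologicalSpace.Opens.isBasis_iff_nbhd.mp Y.isBasis_affineOpens
    (show y ∈ O ⊓ g ⁻¹ᵁ c.opensRange from ⟨hO, hy⟩)
  have e₁ : V₁ ≤ g ⁻¹ᵁ c.opensRange := hV₁le.trans inf_le_right
  have hsm := g.smooth_appLE hU hV₁ e₁
  rw [RingHom.smooth_iff_locally_isStandardSmooth,
    RingHom.locally_iff_isLocalization RingHom.isStandardSmooth_respectsIso] at hsm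
  obtain ⟨s, hs, hfs⟩ := hsm
  apply iSup_basicOpen_of_span_eq_top at hs
  have h1 : y ∈ (⨆ i ∈ (s : Set Γ(Y, V₁)), Y.basicOpen i) := hs.symm ▸ hyV₁
  have h2 : ∃ r ∈ s, y ∈ Y.basicOpen r := by simpa using h1
  obtain ⟨r, hr, hyr⟩ := h2
  have hV : IsAffineOpen (Y.basicOpen r) := hV₁.basicOpen r
  have eV : Y.basicOpen r ≤ g ⁻¹ᵁ c.opensRange := (Y.basicOpen_le r).trans e₁
  have hss : (g.appLE c.opensRange (Y.basicOpen r) eV).hom.IsStandardSmooth := by
    rw [← g.appLE_map e₁ (homOfLE (Y.basicOpen_le r)).op]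
    have : IsLocalization.Away r Γ(Y, Y.basicOpen r) := hV₁.isLocalization_basicOpen r
    exact hfs r hr _
  -- the identification of `R₀` with sections over the range of the chart
  let κ : Spec Γ(Z, c.opensRange) ≅ Spec (CommRingCat.of R₀) :=
    IsOpenImmersion.isoOfRangeEq hU.fromSpec c (by rw [hU.range_fromSpec]; rfl)
  let κr : CommRingCat.of R₀ ⟶ Γ(Z, c.opensRange) := Spec.preimage κ.hom
  let κr' : Γ(Z, c.opensRange) ⟶ CommRingCat.of R₀ := Spec.preimage κ.inv
  have hκ : Spec.map κr = κ.hom := Spec.map_preimage _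
  have hκ' : Spec.map κr' = κ.inv := Spec.map_preimage _
  have hiso : IsIso κr := by
    refine ⟨κr', ?_, ?_⟩
    · apply Spec.map_injective
      rw [Spec.map_comp, hκ, hκ', Iso.inv_hom_id, Spec.map_id]
    · apply Spec.map_injective
      rw [Spec.map_comp, hκ, hκ', Iso.hom_inv_id, Spec.map_id]
  let ψ : CommRingCat.of R₀ ⟶ Γ(Y, Y.basicOpen r) :=
    κr ≫ g.appLE c.opensRange (Y.basicOpen r) eV
  have hψ : ψ.hom.IsStandardSmooth :=
    (RingHom.isStandardSmooth_respectsIso.cancel_left_isIso κr _).mpr hss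
  letI : Algebra R₀ Γ(Y, Y.basicOpen r) := ψ.hom.toAlgebra
  refine ⟨Y.basicOpen r, hV, hyr, (Y.basicOpen_le r).trans (hV₁le.trans inf_le_left),
    Γ(Y, Y.basicOpen r), inferInstance, ψ.hom.toAlgebra, hV.isoSpec.symm, hψ, ?_⟩
  change hV.isoSpec.inv ≫ (Y.basicOpen r).ι ≫ g = Spec.map ψ ≫ c
  rw [← Category.assoc, hV.isoSpec_inv_ι, ← hU.SpecMap_appLE_fromSpec g hV eV, Spec.map_comp,
    Category.assoc, hκ, IsOpenImmersion.isoOfRangeEq_hom_fac]

end Groth.Agent.Lib.Helper50.FormalLift
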