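import Mathlib

/-!
# Lifting a standard smooth algebra along a surjection of base rings
-/

set_option autoImplicit false
universe u
open TensorProduct MvPolynomial

namespace Groth.Agent.Lib.Helper50

open Algebra

/-- A standard smooth algebra `B₀` over a quotient `R₀` of `R` lifts to a standard smooth
algebra `B` over `R` with `R₀ ⊗[R] B ≃ B₀`. -/
theorem exists_lift_isStandardSmooth {R R₀ B₀ : Type u} [CommRing R] [CommRing R₀] [CommRing B₀]
    [Algebra R R₀] [Algebra R₀ B₀] [Algebra R B₀] [IsScalarTower R R₀ B₀]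
    (hsurj : Function.Surjective (algebraMap R R₀)) [Algebra.IsStandardSmooth R₀ B₀] :
    ∃ (B : Type u) (_ : CommRing B) (_ : Algebra R B), Algebra.IsStandardSmooth R B ∧
      Nonempty (R₀ ⊗[R] B ≃ₐ[R₀] B₀) := by
  classical
  obtain ⟨ι, σ, hσ, hι, ⟨P₀⟩⟩ := Algebra.IsStandardSmooth.out (R := R₀) (S := B₀)
  cases nonempty_fintype σ
  -- lift the relations
  have hπ : Function.Surjective (MvPolynomial.map (σ := ι) (algebraMap R R₀)) :=
    MvPolynomial.map_surjective _ hsurj
  choose v hv using fun j : σ => hπ (P₀.relation j)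
  let I : Ideal (MvPolynomial ι R) := Ideal.span (Set.range v)
  let B' := MvPolynomial ι R ⧸ I
  let Pn : PreSubmersivePresentation R B' ι σ :=
    PreSubmersivePresentation.naive (v := v) P₀.map P₀.map_inj
  let Δ : B' := Pn.jacobian
  let B := Localization.Away Δ
  let Q : SubmersivePresentation B' B Unit Unit := SubmersivePresentation.localizationAway B Δ
  let PB : PreSubmersivePresentation R B (Unit ⊕ ι) (Unit ⊕ σ) :=
    Q.toPreSubmersivePresentation.comp Pn
  have hΔ : IsUnit (algebraMap B' B Δ) :=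
    IsLocalization.map_units B (⟨Δ, 1, by simp⟩ : Submonoid.powers Δ)
  have hjac : IsUnit PB.jacobian := by
    rw [PreSubmersivePresentation.comp_jacobian_eq_jacobian_smul_jacobian]
    rw [Algebra.smul_def]
    exact hΔ.mul Q.jacobian_isUnit
  let PS : SubmersivePresentation R B (Unit ⊕ ι) (Unit ⊕ σ) := ⟨PB, hjac⟩
  have hss : Algebra.IsStandardSmooth R B := PS.isStandardSmooth
  refine ⟨B, inferInstance, inferInstance, hss, ?_⟩
  -- the map `B' → B₀`
  let g : MvPolynomial ι R →ₐ[R] B₀ := MvPolynomial.aeval P₀.val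
  have hg_map : ∀ p : MvPolynomial ι R,
      g p = MvPolynomial.aeval P₀.val (MvPolynomial.map (algebraMap R R₀) p) := fun p =>
    (MvPolynomial.aeval_map_algebraMap R₀ P₀.val p).symm
  have hgv : ∀ j, g (v j) = 0 := fun j => by
    rw [hg_map, hv j]; exact P₀.aeval_val_relation j
  have hI : ∀ a ∈ I, g a = 0 := by
    intro a ha
    have : I ≤ RingHom.ker g.toRingHom := by
      rw [Ideal.span_le]
      rintro _ ⟨j, rfl⟩
      exact hgv j
    exact this ha
  let φ' : B' →ₐ[R] B₀ := Ideal.Quotient.liftₐ I g hI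
  have hφ'mk : ∀ p, φ' (Ideal.Quotient.mk I p) = g p := fun p => rfl
  -- image of the Jacobian
  have hφ'Δ : φ' Δ = P₀.jacobian := by
    change φ' Pn.jacobian = _
    rw [PreSubmersivePresentation.jacobian_eq_jacobiMatrix_det,
      PreSubmersivePresentation.jacobian_eq_jacobiMatrix_det]
    change φ' (Ideal.Quotient.mk I Pn.jacobiMatrix.det) = _
    rw [hφ'mk, P₀.algebraMap_eq]
    change g.toRingHom _ = (MvPolynomial.aeval P₀.val).toRingHom _
    rw [RingHom.map_det, RingHom.map_det]
    congr 1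
    ext i j
    simp only [RingHom.mapMatrix_apply, Matrix.map_apply]
    change g (Pn.jacobiMatrix i j) = MvPolynomial.aeval P₀.val (P₀.jacobiMatrix i j)
    rw [PreSubmersivePresentation.jacobiMatrix_naive, PreSubmersivePresentation.jacobiMatrix_apply,
      hg_map, ← hv j, MvPolynomial.pderiv_map]
  have hφ'unit : ∀ y : Submonoid.powers Δ, IsUnit (φ' y) := by
    rintro ⟨_, n, rfl⟩
    change IsUnit (φ' (Δ ^ n))
    rw [map_pow, hφ'Δ]
    exact P₀.jacobian_isUnit.pow n
  let φ : B →ₐ[R] B₀ := IsLocalization.liftAlgHom (M := Submonoid.powers Δ) (f := φ') hφ'unit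
  have hφ_alg : ∀ b' : B', φ (algebraMap B' B b') = φ' b' := fun b' =>
    IsLocalization.lift_eq _ _
  let φbar : R₀ ⊗[R] B →ₐ[R₀] B₀ :=
    Algebra.TensorProduct.lift (Algebra.ofId R₀ B₀) φ (fun _ _ => Commute.all _ _)
  -- the inverse
  let xi : ι → R₀ ⊗[R] B := fun i => 1 ⊗ₜ[R] (algebraMap B' B (Ideal.Quotient.mk I (X i)))
  let h : MvPolynomial ι R₀ →ₐ[R₀] R₀ ⊗[R] B := MvPolynomial.aeval xi
  have hh_map : ∀ p : MvPolynomial ι R, h (MvPolynomial.map (algebraMap R R₀) p) =
      1 ⊗ₜ[R] (algebraMap B' B (Ideal.Quotient.mk I p)) := by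
    intro p
    let f1 : MvPolynomial ι R →ₐ[R] R₀ ⊗[R] B :=
      (h.restrictScalars R).comp (MvPolynomial.mapAlgHom (Algebra.ofId R R₀))
    let f2 : MvPolynomial ι R →ₐ[R] R₀ ⊗[R] B :=
      (Algebra.TensorProduct.includeRight (R := R) (A := R₀) (B := B)).comp
        ((IsScalarTower.toAlgHom R B' B).comp (Ideal.Quotient.mkₐ R I))
    have h12 : f1 = f2 := by
      apply MvPolynomial.algHom_ext
      intro i
      simp [f1, f2, h, xi]
      rfl
    exact congrArg (fun f => f p) h12
  have hker : RingHom.ker (MvPolynomial.aeval (R := R₀) P₀.val).toRingHom ≤ RingHom.ker h.toRingHom := by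
    have h1 : RingHom.ker (MvPolynomial.aeval (R := R₀) P₀.val).toRingHom = P₀.ker := by
      rw [Algebra.Generators.ker_eq_ker_aeval_val]; rfl
    rw [h1, ← P₀.span_range_relation_eq_ker, Ideal.span_le]
    rintro _ ⟨j, rfl⟩
    change h (P₀.relation j) = 0
    rw [← hv j, hh_map]
    have : Ideal.Quotient.mk I (v j) = 0 :=
      Ideal.Quotient.eq_zero_iff_mem.mpr (Ideal.subset_span ⟨j, rfl⟩)
    rw [this, map_zero, TensorProduct.tmul_zero]
  have haev_surj : Function.Surjective (MvPolynomial.aeval (R := R₀) P₀.val) := by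
    have := P₀.algebraMap_surjective
    rwa [P₀.algebraMap_eq] at this
  let ψr : B₀ →+* R₀ ⊗[R] B :=
    RingHom.liftOfSurjective (MvPolynomial.aeval (R := R₀) P₀.val).toRingHom haev_surj
      ⟨h.toRingHom, hker⟩
  have hψr : ∀ p, ψr (MvPolynomial.aeval P₀.val p) = h p := fun p =>
    RingHom.liftOfSurjective_comp_apply _ haev_surj ⟨h.toRingHom, hker⟩ p
  let ψ : B₀ →ₐ[R₀] R₀ ⊗[R] B :=
    { ψr with
      commutes' := fun r => by
        have h1 : algebraMap R₀ B₀ r = MvPolynomial.aeval P₀.val (MvPolynomial.C r) := by simp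
        change ψr (algebraMap R₀ B₀ r) = _
        rw [h1, hψr]
        simp [h] }
  have hψ : ∀ p, ψ (MvPolynomial.aeval P₀.val p) = h p := hψr
  -- φbar ∘ h = aeval P₀.val
  have hφh : φbar.comp h = MvPolynomial.aeval P₀.val := by
    apply MvPolynomial.algHom_ext
    intro i
    simp only [AlgHom.comp_apply, h, MvPolynomial.aeval_X, xi, φbar,
      Algebra.TensorProduct.lift_tmul, map_one, one_mul]
    rw [hφ_alg, hφ'mk]
    simp [g]
  have h1 : φbar.comp ψ = AlgHom.id R₀ B₀ := by
    ext b
    obtain ⟨p, rfl⟩ := haev_surj b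
    change φbar (ψ _) = _
    rw [hψ]
    exact congrArg (fun f => f p) hφh
  have h2 : ψ.comp φbar = AlgHom.id R₀ (R₀ ⊗[R] B) := by
    apply Algebra.TensorProduct.ext
    · ext
    · apply AlgHom.coe_ringHom_injective
      apply IsLocalization.ringHom_ext (Submonoid.powers Δ)
      apply Ideal.Quotient.ringHom_ext
      apply MvPolynomial.ringHom_ext
      · intro r
        simp only [RingHom.comp_apply, AlgHom.coe_toRingHom, AlgHom.comp_apply,
          AlgHom.restrictScalars_apply, Algebra.TensorProduct.includeRight_apply, AlgHom.id_apply]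
        have e1 : algebraMap B' B (Ideal.Quotient.mk I (C r)) = algebraMap R B r := by
          rw [IsScalarTower.algebraMap_apply R B' B]; rfl
        change ψ (φbar (1 ⊗ₜ[R] (algebraMap B' B (Ideal.Quotient.mk I (C r))))) =
          1 ⊗ₜ[R] (algebraMap B' B (Ideal.Quotient.mk I (C r)))
        have e2 : (1 : R₀) ⊗ₜ[R] (algebraMap R B r) = algebraMap R₀ (R₀ ⊗[R] B) (algebraMap R R₀ r) := by
          rw [Algebra.TensorProduct.algebraMap_apply, Algebra.algebraMap_eq_smul_one r,
            Algebra.algebraMap_eq_smul_one (A := R₀) r, Algebra.algebraMap_self, RingHom.id_apply,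
            TensorProduct.smul_tmul]
        rw [e1, e2, AlgHom.commutes, AlgHom.commutes]
      · intro i
        simp only [RingHom.comp_apply, AlgHom.coe_toRingHom, AlgHom.comp_apply,
          AlgHom.restrictScalars_apply, Algebra.TensorProduct.includeRight_apply, AlgHom.id_apply]
        change ψ (φbar (1 ⊗ₜ[R] (algebraMap B' B (Ideal.Quotient.mk I (X i))))) = _
        have : φbar (1 ⊗ₜ[R] (algebraMap B' B (Ideal.Quotient.mk I (X i)))) =
            MvPolynomial.aeval P₀.val (X i : MvPolynomial ι R₀) := by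
          simp only [φbar, Algebra.TensorProduct.lift_tmul, map_one, one_mul]
          rw [hφ_alg, hφ'mk]
          simp [g]
        rw [this, hψ]
        simp [h, xi]
  exact ⟨AlgEquiv.ofAlgHom φbar ψ h1 h2⟩

end Groth.Agent.Lib.Helper50
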