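import Mathlib
import Groth.Agent.Lib.Helper50.FormalLift4
import Groth.Agent.Lib.Helper50.LiftSmooth

/-!
# Local smooth formal lifting over an affine chart of the base
-/

set_option autoImplicit false
universe u
open CategoryTheory CategoryTheory.Limits AlgebraicGeometry TensorProduct

namespace Groth.Agent.Lib.Helper50.FormalLift

/-- The isomorphism of spectra induced by an algebra equivalence. -/
noncomputable def specIso {A₁ A₂ : Type u} [CommRing A₁] [CommRing A₂] (α : A₁ ≃+* A₂) :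
    Spec (CommRingCat.of A₁) ≅ Spec (CommRingCat.of A₂) where
  hom := Spec.map (CommRingCat.ofHom (α.symm : A₂ →+* A₁))
  inv := Spec.map (CommRingCat.ofHom (α : A₁ →+* A₂))
  hom_inv_id := by
    rw [← Spec.map_comp, ← CommRingCat.ofHom_comp]
    have : (α.symm : A₂ →+* A₁).comp (α : A₁ →+* A₂) = RingHom.id A₁ := by
      ext z; simp
    rw [this]
    exact Spec.map_id _
  inv_hom_id := by
    rw [← Spec.map_comp, ← CommRingCat.ofHom_comp]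
    have : (α : A₁ →+* A₂).comp (α.symm : A₂ →+* A₁) = RingHom.id A₂ := by
      ext z; simp
    rw [this]
    exact Spec.map_id _

variable (S : Scheme.{u}) (𝒥 : S.IdealSheafData) (W : S.affineOpens)

/-- The bottom ring of the chart. -/
abbrev R0 : Type u := Γ(S, W.1) ⧸ Jn S 𝒥 W 0

/-- The chart of the bottom level of the completion. -/
noncomputable def chart0 :
    Spec (CommRingCat.of (R0 S 𝒥 W)) ⟶ (FSch.completionAlong S 𝒥).X 0 :=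
  (𝒥 ^ (0 + 1)).subschemeCover.f W

instance : IsOpenImmersion (chart0 S 𝒥 W) := (𝒥 ^ (0 + 1)).subschemeCover.map_prop W

theorem opensRange_chart0 :
    (chart0 S 𝒥 W).opensRange = (𝒥 ^ (0 + 1)).subschemeι ⁻¹ᵁ W.1 :=
  Scheme.IdealSheafData.opensRange_subschemeCover_map _ W

theorem toCompl_app_zero (A : Type u) [CommRing A] [Algebra Γ(S, W.1) A] :
    (toCompl S 𝒥 W A : FSch.Hom _ _).app 0 = lvlStr S 𝒥 W A 0 ≫ chart0 S 𝒥 W := rfl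

theorem lvlMap_eq_of_comp_includeRight (A B : Type u) [CommRing A] [CommRing B]
    [Algebra Γ(S, W.1) A] [Algebra Γ(S, W.1) B]
    (Ψ : Lvl S 𝒥 W B 0 →ₐ[R0 S 𝒥 W] Lvl S 𝒥 W A 0) :
    lvlMap S 𝒥 W A B 0
      ((Ψ.restrictScalars Γ(S, W.1)).comp Algebra.TensorProduct.includeRight) = Ψ := by
  apply Algebra.TensorProduct.ext
  · refine AlgHom.ext fun r => ?_
    have h1 : ∀ (g : Lvl S 𝒥 W B 0 →ₐ[R0 S 𝒥 W] Lvl S 𝒥 W A 0),
        (g.comp Algebra.TensorProduct.includeLeft) r = algebraMap _ _ r :=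
      fun g => (g.comp _).commutes r
    rw [h1, h1]
  · exact Algebra.TensorProduct.lift_comp_includeRight _ _ _

theorem exists_formal_lift_of_charts
    {X₀ Y₀ : Scheme.{u}} (a : X₀ ⟶ (FSch.completionAlong S 𝒥).X 0)
    (b : Y₀ ⟶ (FSch.completionAlong S 𝒥).X 0) (f : X₀ ⟶ Y₀) (w : f ≫ b = a)
    (U₀ : X₀.Opens) (V₀ : Y₀.Opens) (hUV : U₀ ≤ f ⁻¹ᵁ V₀)
    (A₀ : Type u) [CommRing A₀] [Algebra (R0 S 𝒥 W) A₀] [Algebra.IsStandardSmooth (R0 S 𝒥 W) A₀]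
    (B₀ : Type u) [CommRing B₀] [Algebra (R0 S 𝒥 W) B₀] [Algebra.IsStandardSmooth (R0 S 𝒥 W) B₀]
    (eU : Spec (CommRingCat.of A₀) ≅ U₀.toScheme) (eV : Spec (CommRingCat.of B₀) ≅ V₀.toScheme)
    (hU : eU.hom ≫ U₀.ι ≫ a =
      Spec.map (CommRingCat.ofHom (algebraMap (R0 S 𝒥 W) A₀)) ≫ chart0 S 𝒥 W)
    (hV : eV.hom ≫ V₀.ι ≫ b =
      Spec.map (CommRingCat.ofHom (algebraMap (R0 S 𝒥 W) B₀)) ≫ chart0 S 𝒥 W) :
    ∃ (𝔘 𝔙 : FSch.Sys.{u}) (p : 𝔘 ⟶ FSch.completionAlong S 𝒥)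
      (q : 𝔙 ⟶ FSch.completionAlong S 𝒥)
      (Φ : 𝔘 ⟶ 𝔙) (eU' : 𝔘.X 0 ≅ U₀.toScheme) (eV' : 𝔙.X 0 ≅ V₀.toScheme),
      Φ ≫ q = p ∧ FSch.IsAdicHom p ∧ FSch.IsAdicHom q ∧
      (∀ n : ℕ, Smooth ((p : FSch.Hom 𝔘 _).app n)) ∧
      (∀ n : ℕ, Smooth ((q : FSch.Hom 𝔙 _).app n)) ∧
      eU'.hom ≫ U₀.ι ≫ a = (p : FSch.Hom 𝔘 _).app 0 ∧
      eV'.hom ≫ V₀.ι ≫ b = (q : FSch.Hom 𝔙 _).app 0 ∧
      (Φ : FSch.Hom 𝔘 𝔙).app 0 ≫ eV'.hom = eU'.hom ≫ f.resLE V₀ U₀ hUV := by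
  -- Step 1: the algebra map induced by `f`
  let φr : CommRingCat.of B₀ ⟶ CommRingCat.of A₀ :=
    Spec.preimage (eU.hom ≫ f.resLE V₀ U₀ hUV ≫ eV.inv)
  have hφr : Spec.map φr = eU.hom ≫ f.resLE V₀ U₀ hUV ≫ eV.inv := Spec.map_preimage _
  have hφalg : CommRingCat.ofHom (algebraMap (R0 S 𝒥 W) B₀) ≫ φr =
      CommRingCat.ofHom (algebraMap (R0 S 𝒥 W) A₀) := by
    apply Spec.map_injective
    rw [← cancel_mono (chart0 S 𝒥 W), Spec.map_comp, hφr, Category.assoc, Category.assoc,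
      Category.assoc, ← hV, Iso.inv_hom_id_assoc, ← hU, Scheme.Hom.resLE_comp_ι_assoc, w]
  let φ : B₀ →ₐ[R0 S 𝒥 W] A₀ :=
    { φr.hom with
      commutes' := fun r => congrArg (fun h => h.hom r) hφalg }
  -- Step 2: lift the algebras
  letI algA : Algebra Γ(S, W.1) A₀ :=
    ((algebraMap (R0 S 𝒥 W) A₀).comp (algebraMap Γ(S, W.1) (R0 S 𝒥 W))).toAlgebra
  haveI : IsScalarTower Γ(S, W.1) (R0 S 𝒥 W) A₀ := IsScalarTower.of_algebraMap_eq' rfl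
  letI algB : Algebra Γ(S, W.1) B₀ :=
    ((algebraMap (R0 S 𝒥 W) B₀).comp (algebraMap Γ(S, W.1) (R0 S 𝒥 W))).toAlgebra
  haveI : IsScalarTower Γ(S, W.1) (R0 S 𝒥 W) B₀ := IsScalarTower.of_algebraMap_eq' rfl
  obtain ⟨A, iA1, iA2, hA, ⟨α⟩⟩ := exists_lift_isStandardSmooth (R := Γ(S, W.1))
    (R₀ := R0 S 𝒥 W) (B₀ := A₀) Ideal.Quotient.mk_surjective
  obtain ⟨B, iB1, iB2, hB, ⟨β⟩⟩ := exists_lift_isStandardSmooth (R := Γ(S, W.1))
    (R₀ := R0 S 𝒥 W) (B₀ := B₀) Ideal.Quotient.mk_surjective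
  -- Step 3: the bottom map
  let Ψ : Lvl S 𝒥 W B 0 →ₐ[R0 S 𝒥 W] Lvl S 𝒥 W A 0 :=
    (α.symm.toAlgHom.comp φ).comp β.toAlgHom
  let θ₀ : B →ₐ[Γ(S, W.1)] Lvl S 𝒥 W A 0 :=
    (Ψ.restrictScalars Γ(S, W.1)).comp Algebra.TensorProduct.includeRight
  have hθ₀ : lvlMap S 𝒥 W A B 0 θ₀ = Ψ := lvlMap_eq_of_comp_includeRight S 𝒥 W A B Ψ
  refine ⟨sysOf S 𝒥 W A, sysOf S 𝒥 W B, toCompl S 𝒥 W A, toCompl S 𝒥 W B,
    mapSys S 𝒥 W A B (liftFam S 𝒥 W A B θ₀) (liftFam_comp S 𝒥 W A B θ₀),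
    specIso α.toRingEquiv ≪≫ eU, specIso β.toRingEquiv ≪≫ eV,
    mapSys_comp_toCompl S 𝒥 W A B _ _, isAdicHom_toCompl S 𝒥 W A, isAdicHom_toCompl S 𝒥 W B,
    fun n => smooth_toCompl_app S 𝒥 W A n, fun n => smooth_toCompl_app S 𝒥 W B n, ?_, ?_, ?_⟩
  · rw [toCompl_app_zero, Iso.trans_hom, Category.assoc, hU, ← Category.assoc]
    congr 1
    change Spec.map (CommRingCat.ofHom ((α.toRingEquiv.symm : A₀ →+* Lvl S 𝒥 W A 0))) ≫ Spec.map _ =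
      lvlStr S 𝒥 W A 0
    rw [lvlStr, ← Spec.map_comp, ← CommRingCat.ofHom_comp]
    congr 2
    ext r
    exact α.symm.commutes r
  · rw [toCompl_app_zero, Iso.trans_hom, Category.assoc, hV, ← Category.assoc]
    congr 1
    change Spec.map (CommRingCat.ofHom ((β.toRingEquiv.symm : B₀ →+* Lvl S 𝒥 W B 0))) ≫ Spec.map _ =
      lvlStr S 𝒥 W B 0
    rw [lvlStr, ← Spec.map_comp, ← CommRingCat.ofHom_comp]
    congr 2
    ext r
    exact β.symm.commutes r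
  · have h1 : eU.hom ≫ f.resLE V₀ U₀ hUV = Spec.map φr ≫ eV.hom := by
      rw [hφr, Category.assoc, Category.assoc, Iso.inv_hom_id, Category.comp_id]
    rw [mapSys_app, Iso.trans_hom, Iso.trans_hom, Category.assoc, h1, ← Category.assoc,
      ← Category.assoc]
    congr 1
    change Spec.map _ ≫ Spec.map (CommRingCat.ofHom (β.toRingEquiv.symm : B₀ →+* Lvl S 𝒥 W B 0)) =
      Spec.map (CommRingCat.ofHom (α.toRingEquiv.symm : A₀ →+* Lvl S 𝒥 W A 0)) ≫ Spec.map φr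
    rw [← Spec.map_comp, ← Spec.map_comp]
    congr 1
    rw [liftFam_zero, hθ₀]
    ext z
    simp [Ψ, φ]

end Groth.Agent.Lib.Helper50.FormalLift
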