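import Mathlib
import Groth.Prelude.Def_Curv2
import Groth.Agent.Lib.Helper50.GaloisComp
import Groth.Agent.Lib.Helper50.GeomConnScheme

/-!
# Connectedness and Galois base change (helper50)
-/

open CategoryTheory AlgebraicGeometry Limits TopologicalSpace

namespace Groth.Agent.Lib.Helper50

universe u

theorem galAct_fst (k : Type u) [Field k] (X : Scheme.{u})
    [X.Over (Spec (CommRingCat.of k))] (K : Type u) [Field K] [Algebra k K] (τ : K ≃ₐ[k] K) :
    Curv2.galAct k X K τ ≫ pullback.fst _ _ = pullback.fst _ _ := by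
  unfold Curv2.galAct
  rw [pullback.lift_fst, Category.comp_id]

theorem galAct_snd (k : Type u) [Field k] (X : Scheme.{u})
    [X.Over (Spec (CommRingCat.of k))] (K : Type u) [Field K] [Algebra k K] (τ : K ≃ₐ[k] K) :
    Curv2.galAct k X K τ ≫ pullback.snd _ _ =
      pullback.snd _ _ ≫ Spec.map (CommRingCat.ofHom (τ : K →ₐ[k] K).toRingHom) := by
  unfold Curv2.galAct
  rw [pullback.lift_snd]

/-- Let `K/k` be Galois and `f : T ⟶ X` a morphism of `k`-schemes. If `T_K` is connected and
`X_K` is not, then `X` is not connected. -/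
theorem not_connectedSpace_of_baseChange_galois (k : Type u) [Field k] (K : Type u) [Field K]
    [Algebra k K] [IsGalois k K]
    (T X : Scheme.{u}) [T.Over (Spec (CommRingCat.of k))] [X.Over (Spec (CommRingCat.of k))]
    (f : T ⟶ X) [f.IsOver (Spec (CommRingCat.of k))]
    [ConnectedSpace ↥(Curv2.bc k T K)] (hX : ¬ ConnectedSpace ↥(Curv2.bc k X K)) :
    ¬ ConnectedSpace ↥X := by
  intro hconn
  let g := Spec.map (CommRingCat.ofHom (algebraMap k K))
  let sX := X ↘ Spec (CommRingCat.of k)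
  let sT := T ↘ Spec (CommRingCat.of k)
  have hfs : f ≫ sX = sT := (Scheme.Hom.isOver_iff (S := Spec (CommRingCat.of k)) (f := f)).mp inferInstance
  let pX : Curv2.bc k X K ⟶ X := pullback.fst sX g
  let fK : Curv2.bc k T K ⟶ Curv2.bc k X K :=
    pullback.map sT g sX g f (𝟙 _) (𝟙 _) (by rw [Category.comp_id, hfs]) (by simp)
  have hfK1 : fK ≫ pullback.fst sX g = pullback.fst sT g ≫ f := pullback.lift_fst _ _ _
  have hfK2 : fK ≫ pullback.snd sX g = pullback.snd sT g :=
    (pullback.lift_snd _ _ _).trans (Category.comp_id _)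
  haveI : Algebra.IsAlgebraic k K := IsGalois.to_normal.toIsAlgebraic
  have hint : IsIntegralHom pX :=
    MorphismProperty.pullback_fst _ _ (isIntegralHom_specMap_of_isAlgebraic k K)
  have hclosed : IsClosedMap pX := Scheme.Hom.isClosedMap pX
  have huo : UniversallyOpen pX := inferInstance
  have hopen : IsOpenMap pX := pX.isOpenMap
  obtain ⟨t'⟩ := (inferInstance : Nonempty ↥(Curv2.bc k T K))
  -- a clopen set `S ≠ univ` containing the image of `T_K`
  have hne : Nonempty ↥(Curv2.bc k X K) := ⟨fK t'⟩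
  have hnp : ¬ PreconnectedSpace ↥(Curv2.bc k X K) := fun h => hX { toPreconnectedSpace := h, toNonempty := hne }
  rw [preconnectedSpace_iff_clopen] at hnp
  push Not at hnp
  obtain ⟨U, hU, hU0, hU1⟩ := hnp
  have himg : _root_.IsPreconnected (Set.range fK) := by
    rw [← Set.image_univ]
    exact (isPreconnected_univ).image _ fK.continuous.continuousOn
  obtain ⟨S, hS, hS1, hSimg⟩ : ∃ S : Set ↥(Curv2.bc k X K), IsClopen S ∧ S ≠ Set.univ ∧
      Set.range fK ⊆ S := by
    by_cases h : fK t' ∈ U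
    · exact ⟨U, hU, hU1, himg.subset_isClopen hU ⟨fK t', ⟨t', rfl⟩, h⟩⟩
    · refine ⟨Uᶜ, hU.compl, ?_, himg.subset_isClopen hU.compl ⟨fK t', ⟨t', rfl⟩, h⟩⟩
      intro hc
      rw [Set.compl_univ_iff] at hc
      exact hU0.ne_empty hc
  have hVne : (Sᶜ).Nonempty := Set.nonempty_compl.mpr hS1
  have hVimg : pX '' Sᶜ = Set.univ :=
    IsClopen.eq_univ ⟨hclosed _ hS.compl.1, hopen _ hS.compl.2⟩ (hVne.image _)
  let y := fK t'
  obtain ⟨v, hv, hvy⟩ : pX y ∈ pX '' Sᶜ := hVimg ▸ Set.mem_univ _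
  obtain ⟨σ, hσ⟩ := exists_galAct_eq sX y v hvy.symm
  have h1 := hσ (Curv2.galAct k X K σ) (galAct_fst k X K σ) (galAct_snd k X K σ)
  have hcomm : fK ≫ Curv2.galAct k X K σ = Curv2.galAct k T K σ ≫ fK := by
    apply pullback.hom_ext
    · rw [Category.assoc, galAct_fst, Category.assoc, hfK1, ← Category.assoc, galAct_fst]
    · rw [Category.assoc, galAct_snd, ← Category.assoc, hfK2, Category.assoc, hfK2, galAct_snd]
  have h2 : v = fK (Curv2.galAct k T K σ t') := by
    rw [← h1, ← Scheme.Hom.comp_apply, ← Scheme.Hom.comp_apply, hcomm]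
  exact hv (hSimg ⟨_, h2.symm⟩)

end Groth.Agent.Lib.Helper50
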