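import Mathlib

/-!
# Kähler differentials of field extensions in characteristic zero and relative dimension
-/

namespace Groth.Agent.Lib.Helper50

open KaehlerDifferential TensorProduct

universe u

/-- rank of Kähler differentials after a formally étale extension. -/
theorem rank_kaehler_of_formallyEtale (R S T : Type u) [CommRing R] [CommRing S] [CommRing T]
    [Algebra R S] [Algebra S T] [Algebra R T] [IsScalarTower R S T] [Algebra.FormallyEtale S T]
    [Module.Free S Ω[S⁄R]] [Nontrivial S] [Nontrivial T] :
    Module.rank T Ω[T⁄R] = Module.rank S Ω[S⁄R] := by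
  rw [← (tensorKaehlerEquivOfFormallyEtale R S T).rank_eq, Module.rank_baseChange,
    Cardinal.lift_id]

/-- In characteristic zero the dimension of the Kähler differentials of a field extension is the
transcendence degree. -/
theorem rank_kaehler_eq_trdeg (K L : Type u) [Field K] [Field L] [Algebra K L] [CharZero K] :
    Module.rank L Ω[L⁄K] = Algebra.trdeg K L := by
  classical
  obtain ⟨s, hs⟩ := exists_isTranscendenceBasis K L
  have hind : AlgebraicIndependent K ((↑) : s → L) := hs.1
  have hinj : Function.Injective (MvPolynomial.aeval ((↑) : s → L) : MvPolynomial s K →ₐ[K] L) :=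
    algebraicIndependent_iff_injective_aeval.1 hind
  set P := MvPolynomial s K with hP
  letI algPL : Algebra P L := (MvPolynomial.aeval ((↑) : s → L) : P →ₐ[K] L).toRingHom.toAlgebra
  haveI : IsScalarTower K P L := IsScalarTower.of_algebraMap_eq fun r =>
    ((MvPolynomial.aeval ((↑) : s → L) : P →ₐ[K] L).commutes r).symm
  haveI : FaithfulSMul P L := (faithfulSMul_iff_algebraMap_injective P L).mpr hinj
  set F := FractionRing P with hF
  letI algFL : Algebra F L := FractionRing.liftAlgebra P L
  haveI : IsScalarTower P F L := FractionRing.isScalarTower_liftAlgebra P L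
  haveI : Algebra.FormallyEtale P F := Algebra.FormallyEtale.of_isLocalization (nonZeroDivisors P)
  -- L algebraic over P, hence over F
  haveI halgP : Algebra.IsAlgebraic P L := by
    haveI := hs.isAlgebraic
    refine Algebra.IsAlgebraic.of_ringHom_of_comp_eq
      (R := P) (S := Algebra.adjoin K (Set.range ((↑) : s → L))) (A := L) (B := L)
      (hind.aevalEquiv : P →+* _) (RingHom.id L) hind.aevalEquiv.surjective
      Function.injective_id ?_
    ext x
    · simp [RingHom.algebraMap_toAlgebra]
    · simp [RingHom.algebraMap_toAlgebra]
  haveI : Algebra.IsAlgebraic F L :=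
    Algebra.IsAlgebraic.extendScalars (R := P) (IsFractionRing.injective P F)
  haveI : CharZero F := charZero_of_injective_algebraMap
    ((algebraMap P F).comp (algebraMap K P)).injective
  haveI : Algebra.IsSeparable F L := inferInstance
  haveI : Algebra.FormallyEtale F L := Algebra.FormallyEtale.of_isSeparable F L
  haveI : Algebra.FormallyEtale P L := Algebra.FormallyEtale.comp P F L
  haveI : Module.Free P Ω[P⁄K] := Module.Free.of_basis (KaehlerDifferential.mvPolynomialBasis K s)
  rw [rank_kaehler_of_formallyEtale K P L, ← (KaehlerDifferential.mvPolynomialBasis K s).mk_eq_rank'',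
    hs.cardinalMk_eq_trdeg]


/-- Changing the base by a localization does not change the rank of Kähler differentials. -/
theorem rank_kaehler_base_localization (A K L : Type u) [CommRing A] [CommRing K] [CommRing L]
    [Algebra A K] [Algebra K L] [Algebra A L] [IsScalarTower A K L]
    [Algebra.FormallyUnramified A K] :
    Module.rank L Ω[L⁄A] = Module.rank L Ω[L⁄K] := by
  have hsurj : Function.Surjective (KaehlerDifferential.map A K L L) :=
    KaehlerDifferential.map_surjective A K L
  have hinj : Function.Injective (KaehlerDifferential.map A K L L) := by
    rw [injective_iff_map_eq_zero]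
    intro x hx
    obtain ⟨y, rfl⟩ := (KaehlerDifferential.exact_mapBaseChange_map A K L x).mp hx
    have : y = 0 := Subsingleton.elim _ _
    rw [this, map_zero]
  exact (LinearEquiv.ofBijective (KaehlerDifferential.map A K L L) ⟨hinj, hsurj⟩).rank_eq

/-- A standard smooth extension of domains in characteristic zero has relative dimension the
transcendence degree of the fraction field extension. -/
theorem isStandardSmoothOfRelativeDimension_of_trdeg (A B K L : Type u) [CommRing A] [CommRing B]
    [IsDomain A] [IsDomain B] [Algebra A B] [Field K] [Field L] [Algebra A K] [IsFractionRing A K]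
    [Algebra B L] [IsFractionRing B L] [Algebra K L] [Algebra A L] [IsScalarTower A K L]
    [IsScalarTower A B L] [CharZero K] [Algebra.IsStandardSmooth A B] (n : ℕ)
    (hn : Algebra.trdeg K L = n) : Algebra.IsStandardSmoothOfRelativeDimension n A B := by
  rw [Algebra.IsStandardSmoothOfRelativeDimension.iff_of_isStandardSmooth]
  haveI : Algebra.FormallyEtale B L := Algebra.FormallyEtale.of_isLocalization (nonZeroDivisors B)
  haveI : Algebra.FormallyUnramified A K :=
    Algebra.FormallyUnramified.of_isLocalization (nonZeroDivisors A)
  rw [← rank_kaehler_of_formallyEtale A B L, rank_kaehler_base_localization A K L,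
    rank_kaehler_eq_trdeg K L, hn]

end Groth.Agent.Lib.Helper50
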