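import Mathlib
import Groth.Agent.Lib.Helper50.GenSmoothAlg

/-!
# Generic smoothness (on the source) in characteristic zero
-/

namespace Groth.Agent.Lib.Helper50

open CategoryTheory AlgebraicGeometry Opposite

universe u

set_option maxHeartbeats 1600000 in
theorem exists_open_smoothOfRelativeDimension_trdeg
    (X Y : Scheme.{u}) [IsIntegral X] [IsIntegral Y] [IsLocallyNoetherian Y]
    (π : X ⟶ Y) [LocallyOfFiniteType π]
    (hdom : π.base (genericPoint X) = genericPoint Y) [CharZero Y.functionField]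
    (n : ℕ) (hn : @Algebra.trdeg (Y.presheaf.stalk (π.base (genericPoint X))) X.functionField _ _
      (π.stalkMap (genericPoint X)).hom.toAlgebra = n) :
    ∃ U : X.Opens, (U : Set X).Nonempty ∧ SmoothOfRelativeDimension n (U.ι ≫ π) := by
  classical
  set η := genericPoint X with hη
  set K := Y.presheaf.stalk (π.base η) with hK
  set L := X.functionField with hL
  have hfield : ∀ y : Y, y = genericPoint Y → IsField (Y.presheaf.stalk y) := by
    rintro y rfl
    exact Field.toIsField Y.functionField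
  have hchar : ∀ y : Y, y = genericPoint Y → CharZero (Y.presheaf.stalk y) := by
    rintro y rfl
    infer_instance
  letI fieldK : Field K := (hfield _ hdom).toField
  haveI : CharZero K := hchar _ hdom
  letI algKL : Algebra K L := (π.stalkMap η).hom.toAlgebra
  haveI : Algebra.EssFiniteType K L := LocallyOfFiniteType.stalkMap π η
  have H : (π.stalkMap η).hom.FormallySmooth := by
    change Algebra.FormallySmooth K L
    infer_instance
  obtain ⟨U, hU, V, hV, hVU, hηV, hsm⟩ := exists_smooth_of_formallySmooth_stalk π η H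
  have hπηU : π.base η ∈ U := hVU hηV
  haveI : Nonempty U := ⟨⟨_, hπηU⟩⟩
  haveI : Nonempty V := ⟨⟨_, hηV⟩⟩
  haveI : Nonempty (U : Scheme.{u}) := ‹Nonempty U›
  haveI : Nonempty (V : Scheme.{u}) := ‹Nonempty V›
  haveI domA : IsDomain Γ(Y, U) := inferInstance
  haveI domB : IsDomain Γ(X, V) := inferInstance
  letI algAB : Algebra Γ(Y, U) Γ(X, V) := (π.appLE U V hVU).hom.toAlgebra
  haveI : Algebra.Smooth Γ(Y, U) Γ(X, V) := hsm
  obtain ⟨s, hs, hstd⟩ := Algebra.Smooth.exists_span_eq_top_isStandardSmooth Γ(Y, U) Γ(X, V)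
  obtain ⟨g, hgs, hg0⟩ : ∃ g ∈ s, g ≠ 0 := by
    by_contra hcon
    push Not at hcon
    have : Ideal.span s = ⊥ := by
      rw [Ideal.span_eq_bot]
      exact hcon
    rw [this] at hs
    exact bot_ne_top hs
  haveI hstdg : Algebra.IsStandardSmooth Γ(Y, U) (Localization.Away g) := hstd g hgs
  set V' : X.Opens := X.basicOpen g with hV'def
  have hV' : IsAffineOpen V' := hV.basicOpen g
  have hV'V : V' ≤ V := X.basicOpen_le g
  have hV'U : V' ≤ π ⁻¹ᵁ U := hV'V.trans hVU
  have hV'ne : V' ≠ ⊥ := fun h => hg0 ((basicOpen_eq_bot_iff g).mp h)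
  have hηV' : η ∈ V' := by
    change η ∈ (V' : Set X)
    rw [(genericPoint_spec X).mem_open_set_iff V'.isOpen]
    obtain ⟨x, hx⟩ := (TopologicalSpace.Opens.ne_bot_iff_nonempty V').mp hV'ne
    exact ⟨x, Set.mem_univ _, hx⟩
  haveI : Nonempty V' := ⟨⟨_, hηV'⟩⟩
  haveI : Nonempty (V' : Scheme.{u}) := ‹Nonempty V'›
  haveI domB' : IsDomain Γ(X, V') := inferInstance
  haveI locB' : IsLocalization.Away g Γ(X, V') := hV.isLocalization_basicOpen g
  letI algAB' : Algebra Γ(Y, U) Γ(X, V') := (π.appLE U V' hV'U).hom.toAlgebra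
  haveI towerABB' : IsScalarTower Γ(Y, U) Γ(X, V) Γ(X, V') := IsScalarTower.of_algebraMap_eq fun r => by
    change (π.appLE U V' hV'U).hom r = (X.presheaf.map (homOfLE hV'V).op).hom ((π.appLE U V hVU).hom r)
    rw [← π.appLE_map hVU (homOfLE hV'V).op]
    rfl
  haveI hstdB' : Algebra.IsStandardSmooth Γ(Y, U) Γ(X, V') :=
    Algebra.IsStandardSmooth.of_algEquiv
      ((IsLocalization.algEquiv (Submonoid.powers g) (Localization.Away g) Γ(X, V')).restrictScalars
        Γ(Y, U))
  -- fraction field structures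
  letI algAK : Algebra Γ(Y, U) K := (Y.presheaf.germ U (π.base η) hπηU).hom.toAlgebra
  have hfrac : ∀ (y : Y) (hy : y = genericPoint Y) (hyU : y ∈ U),
      @IsFractionRing Γ(Y, U) _ (Y.presheaf.stalk y) _
        (Y.presheaf.germ U y hyU).hom.toAlgebra := by
    rintro y rfl hyU
    exact functionField_isFractionRing_of_isAffineOpen Y U hU
  haveI fracAK : IsFractionRing Γ(Y, U) K := hfrac _ hdom hπηU
  haveI fracB'L : IsFractionRing Γ(X, V') L := functionField_isFractionRing_of_isAffineOpen X V' hV'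
  letI algAL : Algebra Γ(Y, U) L := ((algebraMap K L).comp (algebraMap Γ(Y, U) K)).toAlgebra
  haveI : IsScalarTower Γ(Y, U) K L := IsScalarTower.of_algebraMap_eq fun r => rfl
  haveI : IsScalarTower Γ(Y, U) Γ(X, V') L := IsScalarTower.of_algebraMap_eq fun r => by
    change (π.stalkMap η).hom ((Y.presheaf.germ U (π.base η) hπηU).hom r) =
      (X.presheaf.germ V' η hηV').hom ((π.appLE U V' hV'U).hom r)
    rw [Scheme.Hom.germ_stalkMap_apply]
    rw [Scheme.Hom.appLE]
    simp only [CommRingCat.hom_comp, RingHom.comp_apply]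
    exact (TopCat.Presheaf.germ_res_apply X.presheaf (homOfLE hV'U) η hηV' _).symm
  have hrel : Algebra.IsStandardSmoothOfRelativeDimension n Γ(Y, U) Γ(X, V') :=
    isStandardSmoothOfRelativeDimension_of_trdeg Γ(Y, U) Γ(X, V') K L n hn
  have hrel' : (π.appLE U V' hV'U).hom.IsStandardSmoothOfRelativeDimension n := hrel
  refine ⟨V', ⟨η, hηV'⟩, ?_⟩
  have h1 : SmoothOfRelativeDimension n (π.resLE U V' hV'U) := by
    haveI : IsAffine (U : Scheme.{u}) := hU
    haveI : IsAffine (V' : Scheme.{u}) := hV'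
    rw [HasRingHomProperty.iff_of_isAffine (P := @SmoothOfRelativeDimension n)]
    have hQi := RingHom.isStandardSmoothOfRelativeDimension_respectsIso (n := n)
    have : (RingHom.toMorphismProperty
        (RingHom.Locally (RingHom.IsStandardSmoothOfRelativeDimension n))).RespectsIso :=
      RingHom.toMorphismProperty_respectsIso_iff.mp (RingHom.locally_respectsIso hQi)
    exact (MorphismProperty.arrow_mk_iso_iff (RingHom.toMorphismProperty
        (RingHom.Locally (RingHom.IsStandardSmoothOfRelativeDimension n)))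
      (arrowResLEAppIso π U V' hV'U)).mpr (RingHom.locally_of hQi _ hrel')
  have h2 : SmoothOfRelativeDimension (n + 0) (π.resLE U V' hV'U ≫ U.ι) := inferInstance
  rw [Scheme.Hom.resLE_comp_ι] at h2
  exact h2

end Groth.Agent.Lib.Helper50
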