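import Mathlib
import Groth.Prelude
import Groth.Agent.Lib.Helper50.TopoFiber
import Groth.Agent.Lib.Helper50.FiberBC
import Groth.Agent.Lib.Helper50.SepClosedIn2

/-!
# Irreducibility of base changes via the generic fibre (helper50)
-/

open CategoryTheory AlgebraicGeometry Limits TensorProduct MorphismProperty

namespace Groth.Agent.Lib.Helper50

universe u

/-- For an irreducible `k`-scheme `X` with generic point `ξ` and a field extension `K/k`, the base
change `X_K` is irreducible iff `Spec (κ(ξ) ⊗[k] K)` is. -/
theorem irreducibleSpace_bc_iff {X : Scheme.{u}} {k K : Type u} [Field k] [Field K]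
    [Algebra k K] (f : X ⟶ Spec (CommRingCat.of k)) [IrreducibleSpace X]
    (φ : k →+* X.residueField (genericPoint X))
    (hφ : Spec.map (CommRingCat.ofHom φ) = X.fromSpecResidueField (genericPoint X) ≫ f) :
    letI := φ.toAlgebra
    IrreducibleSpace ↥(pullback f (Spec.map (CommRingCat.ofHom (algebraMap k K)))) ↔
      IrreducibleSpace (PrimeSpectrum (X.residueField (genericPoint X) ⊗[k] K)) := by
  letI := φ.toAlgebra
  obtain ⟨e⟩ := nonempty_homeomorph_fiber_bc (K := K) f (genericPoint X) φ hφ
  rw [irreducibleSpace_iff_isIrreducible_preimage_genericPoint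
    (Scheme.Hom.isOpenMap (pullback.fst f (Spec.map (CommRingCat.ofHom (algebraMap k K)))))
    (genericPoint_closure (α := X)), isIrreducible_iff_irreducibleSpace]
  exact e.irreducibleSpace_iff

/-- An irreducible `k`-scheme is geometrically irreducible as soon as `k` is separably closed in
the residue field of the generic point. -/
theorem geometricallyIrreducible_of_sepClosedIn {X : Scheme.{u}} {k : Type u} [Field k]
    (f : X ⟶ Spec (CommRingCat.of k)) [IrreducibleSpace X]
    (φ : k →+* X.residueField (genericPoint X))
    (hφ : Spec.map (CommRingCat.ofHom φ) = X.fromSpecResidueField (genericPoint X) ≫ f)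
    (h : ∀ α : X.residueField (genericPoint X),
      (letI := φ.toAlgebra; IsSeparable k α) → α ∈ Set.range φ) :
    GeometricallyIrreducible f := by
  refine ⟨geometrically_iff_of_commRing_of_isClosedUnderIsomorphisms.mpr fun K _ _ => ?_⟩
  letI := φ.toAlgebra
  rw [irreducibleSpace_bc_iff f φ hφ]
  exact irreducibleSpace_tensor_of_sepClosedIn' h K

/-- Conversely, for a geometrically irreducible scheme, `k` is separably closed in the residue
field of the generic point. -/
theorem mem_range_of_geometricallyIrreducible {X : Scheme.{u}} {k : Type u} [Field k]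
    (f : X ⟶ Spec (CommRingCat.of k)) [IrreducibleSpace X] [hf : GeometricallyIrreducible f]
    (φ : k →+* X.residueField (genericPoint X))
    (hφ : Spec.map (CommRingCat.ofHom φ) = X.fromSpecResidueField (genericPoint X) ≫ f)
    (α : X.residueField (genericPoint X))
    (hα : letI := φ.toAlgebra; IsSeparable k α) : α ∈ Set.range φ := by
  letI := φ.toAlgebra
  apply mem_range_algebraMap_of_irreducibleSpace_tensor α hα
  have h1 : IrreducibleSpace (PrimeSpectrum
      (X.residueField (genericPoint X) ⊗[k] (IntermediateField.adjoin k {α}))) := by
    rw [← irreducibleSpace_bc_iff f φ hφ]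
    exact pullback_of_geometrically hf.1 _ _
  exact ((PrimeSpectrum.homeomorphOfRingEquiv
    (Algebra.TensorProduct.comm k (X.residueField (genericPoint X))
      (IntermediateField.adjoin k {α})).toRingEquiv).irreducibleSpace_iff).mp h1

end Groth.Agent.Lib.Helper50
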