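import Mathlib
import Groth.Prelude
import Groth.Agent.Lib.Helper50.DomainLocus
import Groth.Agent.Lib.Helper50.GeomReducedPerfect
import Groth.Agent.Lib.Helper50.GeomIntegralBC

/-!
# Pointwise integrality versus counting components (helper50)
-/

open CategoryTheory AlgebraicGeometry TopologicalSpace Limits

universe u

namespace Groth.Agent.Lib.Helper50

section Topology

variable {Y : Type*} [TopologicalSpace Y]

/-- The connected component containing an irreducible component. -/
noncomputable def compOfIrred (Z : irreducibleComponents Y) : ConnectedComponents Y :=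
  ConnectedComponents.mk Z.2.1.1.some

theorem compOfIrred_eq (Z : irreducibleComponents Y) {y : Y} (hy : y ∈ Z.1) :
    compOfIrred Z = ConnectedComponents.mk y := by
  unfold compOfIrred
  rw [ConnectedComponents.coe_eq_coe']
  exact (IsPreirreducible.isPreconnected Z.2.1.2).subset_connectedComponent hy Z.2.1.1.some_mem

theorem compOfIrred_surjective : Function.Surjective (compOfIrred (Y := Y)) := by
  intro q
  obtain ⟨y, rfl⟩ := ConnectedComponents.surjective_coe q
  exact ⟨⟨irreducibleComponent y, irreducibleComponent_mem_irreducibleComponents y⟩,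
    compOfIrred_eq _ mem_irreducibleComponent⟩

/-- In a space with finitely many irreducible components, the numbers of irreducible and of
connected components agree iff the irreducible components are pairwise disjoint. -/
theorem natCard_irreducibleComponents_eq_iff (hfin : (irreducibleComponents Y).Finite) :
    Nat.card ↥(irreducibleComponents Y) = Nat.card (ConnectedComponents Y) ↔
      ∀ Z₁ ∈ irreducibleComponents Y, ∀ Z₂ ∈ irreducibleComponents Y, ∀ y : Y,
        y ∈ Z₁ → y ∈ Z₂ → Z₁ = Z₂ := by
  haveI : Finite ↥(irreducibleComponents Y) := hfin.to_subtype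
  haveI : Finite (ConnectedComponents Y) := Finite.of_surjective _ compOfIrred_surjective
  constructor
  · intro hcard Z₁ hZ₁ Z₂ hZ₂ y hy₁ hy₂
    have hinj : Function.Injective (compOfIrred (Y := Y)) :=
      (Function.Surjective.bijective_of_nat_card_le compOfIrred_surjective hcard.le).1
    have := hinj ((compOfIrred_eq ⟨Z₁, hZ₁⟩ hy₁).trans (compOfIrred_eq ⟨Z₂, hZ₂⟩ hy₂).symm)
    exact congrArg Subtype.val this
  · intro hdisj
    refine Nat.card_eq_of_bijective _ ⟨?_, compOfIrred_surjective⟩
    rintro ⟨Z₁, hZ₁⟩ ⟨Z₂, hZ₂⟩ h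
    have hclosed : IsClosed Z₁ := isClosed_of_mem_irreducibleComponents Z₁ hZ₁
    have hopen : IsOpen Z₁ := by
      have hcompl : Z₁ᶜ = ⋃₀ (irreducibleComponents Y \ {Z₁}) := by
        ext y
        constructor
        · intro hy
          refine ⟨irreducibleComponent y, ⟨irreducibleComponent_mem_irreducibleComponents y, ?_⟩,
            mem_irreducibleComponent⟩
          intro hEq
          rw [Set.mem_singleton_iff] at hEq
          exact hy (hEq ▸ mem_irreducibleComponent)
        · rintro ⟨Z, ⟨hZ, hne⟩, hyZ⟩ hy₁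
          exact hne (hdisj Z hZ Z₁ hZ₁ y hyZ hy₁)
      rw [← isClosed_compl_iff, hcompl]
      rw [Set.sUnion_eq_biUnion]
      exact Set.Finite.isClosed_biUnion (hfin.subset Set.sdiff_subset)
        fun Z hZ => isClosed_of_mem_irreducibleComponents Z hZ.1
    have hclopen : IsClopen Z₁ := ⟨hclosed, hopen⟩
    obtain ⟨z₁, hz₁⟩ := hZ₁.1.1
    obtain ⟨z₂, hz₂⟩ := hZ₂.1.1
    have h' : ConnectedComponents.mk z₁ = ConnectedComponents.mk z₂ := by
      rw [← compOfIrred_eq ⟨Z₁, hZ₁⟩ hz₁, ← compOfIrred_eq ⟨Z₂, hZ₂⟩ hz₂, h]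
    have hz₂' : z₂ ∈ Z₁ := by
      have h1 : z₂ ∈ connectedComponent z₁ := by
        rw [ConnectedComponents.coe_eq_coe'] at h'
        rw [← connectedComponent_eq h']
        exact mem_connectedComponent
      exact hclopen.connectedComponent_subset hz₁ h1
    exact Subtype.ext (hdisj Z₁ hZ₁ Z₂ hZ₂ z₂ hz₂' hz₂)

end Topology

section Scheme

variable {Y : Scheme.{u}}

/-- A point whose local ring is a domain lies on exactly one irreducible component. -/
theorem irreducibleComponents_unique_of_isDomain_stalk (y : Y) [IsDomain (Y.presheaf.stalk y)]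
    {Z₁ Z₂ : Set Y} (hZ₁ : Z₁ ∈ irreducibleComponents (Y : Type u))
    (hZ₂ : Z₂ ∈ irreducibleComponents (Y : Type u)) (hy₁ : y ∈ Z₁) (hy₂ : y ∈ Z₂) : Z₁ = Z₂ := by
  obtain ⟨η₁, hη₁⟩ := QuasiSober.sober hZ₁.1 (isClosed_of_mem_irreducibleComponents Z₁ hZ₁)
  obtain ⟨η₂, hη₂⟩ := QuasiSober.sober hZ₂.1 (isClosed_of_mem_irreducibleComponents Z₂ hZ₂)
  have h1 : η₁ ⤳ y := specializes_iff_mem_closure.mpr (hη₁.def ▸ hy₁)
  have h2 : η₂ ⤳ y := specializes_iff_mem_closure.mpr (hη₂.def ▸ hy₂)
  have e1 := eq_of_isDomain_stalk y η₁ h1 (hη₁.def ▸ hZ₁)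
  have e2 := eq_of_isDomain_stalk y η₂ h2 (hη₂.def ▸ hZ₂)
  rw [← hη₁.def, ← hη₂.def, e1, e2]

/-- A point with reduced local ring lying on exactly one irreducible component has a local ring
which is a domain. -/
theorem isDomain_stalk_of_irreducibleComponents_unique (y : Y) [IsReduced (Y.presheaf.stalk y)]
    (h : ∀ Z₁ ∈ irreducibleComponents (Y : Type u), ∀ Z₂ ∈ irreducibleComponents (Y : Type u),
      y ∈ Z₁ → y ∈ Z₂ → Z₁ = Z₂) : IsDomain (Y.presheaf.stalk y) := by
  have hZ := irreducibleComponent_mem_irreducibleComponents (y : (Y : Type u))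
  obtain ⟨η₀, hη₀⟩ := QuasiSober.sober hZ.1 (isClosed_of_mem_irreducibleComponents _ hZ)
  apply isDomain_stalk_of_forall_eq y η₀
  intro η hηy hη
  have hEq : closure {η} = irreducibleComponent (y : (Y : Type u)) :=
    h _ hη _ hZ (specializes_iff_mem_closure.mp hηy) mem_irreducibleComponent
  have hgen : IsGenericPoint η (irreducibleComponent (y : (Y : Type u))) := hEq
  exact hgen.eq hη₀

end Scheme

end Groth.Agent.Lib.Helper50
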