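import Mathlib
import Groth.Prelude
import Groth.Agent.Lib.Helper50.GeomReducedAt

/-!
# Geometric reducedness at a point via finite purely inseparable extensions (helper50)
-/

open CategoryTheory AlgebraicGeometry Limits TensorProduct MorphismProperty

namespace Groth.Agent.Lib.Helper50

universe u

section

variable {X : Scheme.{u}} {k : Type u} [Field k]
  (f : X ⟶ Spec (CommRingCat.of k)) (x : X) (φ : k →+* X.presheaf.stalk x)
  (hφ : Spec.map (CommRingCat.ofHom φ) = X.fromSpecStalk x ≫ f)

include hφ in
/-- It suffices to test geometric reducedness at `x` on finite purely inseparable extensions. -/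
theorem isGeometricallyReduced_stalk_of_forall_finite_isPurelyInseparable
    (h : ∀ (K : Type u) [Field K] [Algebra k K] [FiniteDimensional k K] [IsPurelyInseparable k K]
      (x' : ↥(pullback f (Spec.map (CommRingCat.ofHom (algebraMap k K))))),
      pullback.fst f (Spec.map (CommRingCat.ofHom (algebraMap k K))) x' = x →
      IsReduced ((pullback f (Spec.map (CommRingCat.ofHom (algebraMap k K)))).presheaf.stalk x')) :
    letI := φ.toAlgebra
    Algebra.IsGeometricallyReduced k (X.presheaf.stalk x) := by
  letI := φ.toAlgebra
  apply isGeometricallyReduced_of_forall_finite_isPurelyInseparable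
  intro k' _ _ _ _
  suffices hred : IsReduced (X.presheaf.stalk x ⊗[k] k') from
    isReduced_of_injective (Algebra.TensorProduct.comm k k' (X.presheaf.stalk x))
      (Algebra.TensorProduct.comm k k' (X.presheaf.stalk x)).injective
  apply isReduced_ofLocalizationMaximal
  intro m hm
  have hq : m.comap (Algebra.TensorProduct.includeLeftRingHom :
      X.presheaf.stalk x →+* X.presheaf.stalk x ⊗[k] k') =
      IsLocalRing.maximalIdeal (X.presheaf.stalk x) := by
    have : Algebra.IsIntegral (X.presheaf.stalk x) (X.presheaf.stalk x ⊗[k] k') :=
      inferInstance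
    have hmax : (m.comap (algebraMap (X.presheaf.stalk x)
        (X.presheaf.stalk x ⊗[k] k'))).IsMaximal :=
      Ideal.isMaximal_comap_of_isIntegral_of_isMaximal m
    exact IsLocalRing.eq_maximalIdeal hmax
  obtain ⟨x', hx', ⟨e⟩⟩ := (exists_stalk_bc (K := k') f x φ hφ).2 ⟨m, hm.isPrime⟩ hq
  have := h k' x' hx'
  exact isReduced_of_injective e.symm e.symm.injective

end

end Groth.Agent.Lib.Helper50
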