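import Mathlib
import Groth.Agent.Lib.Helper50.GeomReduced

/-!
# Geometric reducedness and separable algebraic extensions of the base field
-/

universe u

namespace Groth.Agent.Lib.Helper50

open TensorProduct Polynomial

/-- In a reduced algebra that is integral over a field, every element `r` satisfies
`r * (1 + r * t) = 0` for some `t` (von Neumann regularity). -/
theorem exists_mul_one_add_mul_eq_zero {F R : Type*} [Field F] [CommRing R] [IsReduced R]
    [Algebra F R] [Algebra.IsIntegral F R] (r : R) : ∃ t : R, r * (1 + r * t) = 0 := by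
  have hint : IsIntegral F r := Algebra.IsIntegral.isIntegral r
  have hp : minpoly F r ≠ 0 := minpoly.ne_zero hint
  obtain ⟨q, hq, hdvd⟩ := Polynomial.exists_eq_pow_rootMultiplicity_mul_and_not_dvd
    (minpoly F r) hp 0
  set n := rootMultiplicity 0 (minpoly F r) with hn
  rw [map_zero, sub_zero] at hq hdvd
  have hc : q.coeff 0 ≠ 0 := fun h => hdvd (Polynomial.X_dvd_iff.mpr h)
  have h1 : r ^ n * aeval r q = 0 := by
    have := minpoly.aeval F r
    rw [hq, map_mul, map_pow, aeval_X] at this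
    exact this
  have h2 : r * aeval r q = 0 := by
    apply IsReduced.eq_zero
    refine ⟨n + 1, ?_⟩
    rw [mul_pow, pow_succ, pow_succ]
    calc r ^ n * r * (aeval r q ^ n * aeval r q) = (r ^ n * aeval r q) * (r * aeval r q ^ n) := by
          ring
      _ = 0 := by rw [h1, zero_mul]
  have h3 : aeval r q = r * aeval r q.divX + algebraMap F R (q.coeff 0) := by
    conv_lhs => rw [← Polynomial.X_mul_divX_add q]
    rw [map_add, map_mul, aeval_X, aeval_C]
  refine ⟨algebraMap F R (q.coeff 0)⁻¹ * aeval r q.divX, ?_⟩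
  have h4 : algebraMap F R (q.coeff 0)⁻¹ * algebraMap F R (q.coeff 0) = 1 := by
    rw [← map_mul, inv_mul_cancel₀ hc, map_one]
  calc r * (1 + r * (algebraMap F R (q.coeff 0)⁻¹ * aeval r q.divX))
      = algebraMap F R (q.coeff 0)⁻¹ * (r * (r * aeval r q.divX + algebraMap F R (q.coeff 0)))
        + r * (1 - algebraMap F R (q.coeff 0)⁻¹ * algebraMap F R (q.coeff 0)) := by ring
    _ = 0 := by rw [← h3, h2, h4]; ring


/-- Let `k'/k` be separable algebraic and `Ω/k'` an algebraic field extension. If `A ⊗[k] Ω` is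
reduced for a `k'`-algebra `A`, then so is `A ⊗[k'] Ω`. -/
theorem isReduced_tensor_of_isSeparable_base {k k' A Ω : Type*} [Field k] [Field k']
    [Algebra k k'] [Algebra.IsSeparable k k'] [CommRing A] [Algebra k' A] [Algebra k A]
    [IsScalarTower k k' A] [Field Ω] [Algebra k' Ω] [Algebra k Ω] [IsScalarTower k k' Ω]
    [Algebra.IsAlgebraic k Ω] (h : IsReduced (A ⊗[k] Ω)) : IsReduced (A ⊗[k'] Ω) := by
  -- the ring `R = k' ⊗[k] Ω`
  have hR' : IsReduced (Ω ⊗[k] k') := isReduced_tensor_of_isSeparable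
  have hR : IsReduced (k' ⊗[k] Ω) :=
    isReduced_of_injective (Algebra.TensorProduct.comm k k' Ω)
      (Algebra.TensorProduct.comm k k' Ω).injective
  have hRint : Algebra.IsIntegral k' (k' ⊗[k] Ω) := inferInstance
  have hW : IsReduced (A ⊗[k'] (k' ⊗[k] Ω)) :=
    isReduced_of_injective (Algebra.TensorProduct.cancelBaseChange k k' k' A Ω)
      (Algebra.TensorProduct.cancelBaseChange k k' k' A Ω).injective
  let μ : k' ⊗[k] Ω →ₐ[k'] Ω :=
    Algebra.TensorProduct.lift (Algebra.ofId k' Ω) (AlgHom.id k Ω) (fun _ _ => Commute.all _ _)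
  have hμ : Function.Surjective μ := fun ω => ⟨1 ⊗ₜ ω, by simp [μ]⟩
  let π : A ⊗[k'] (k' ⊗[k] Ω) →ₐ[k'] A ⊗[k'] Ω :=
    Algebra.TensorProduct.map (AlgHom.id k' A) μ
  have hπ : Function.Surjective π :=
    Algebra.TensorProduct.map_surjective (AlgHom.id k' A) μ Function.surjective_id hμ
  have hker : RingHom.ker π = (RingHom.ker μ).map
      (Algebra.TensorProduct.includeRight : k' ⊗[k] Ω →ₐ[k'] A ⊗[k'] (k' ⊗[k] Ω)) :=
    Algebra.TensorProduct.lTensor_ker μ hμ
  have claim : ∀ z ∈ (RingHom.ker μ).map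
      (Algebra.TensorProduct.includeRight : k' ⊗[k] Ω →ₐ[k'] A ⊗[k'] (k' ⊗[k] Ω)),
      ∃ s : k' ⊗[k] Ω, μ s = 1 ∧ ((1 : A) ⊗ₜ[k'] s) * z = 0 := by
    intro z hz
    rw [Ideal.map] at hz
    induction hz using Submodule.span_induction with
    | mem z hz =>
      obtain ⟨r, hr, rfl⟩ := hz
      obtain ⟨t, ht⟩ := exists_mul_one_add_mul_eq_zero (F := k') r
      refine ⟨1 + r * t, ?_, ?_⟩
      · have : μ r = 0 := hr
        rw [map_add, map_one, map_mul, this, zero_mul, add_zero]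
      · change ((1 : A) ⊗ₜ[k'] (1 + r * t)) * ((1 : A) ⊗ₜ[k'] r) = 0
        rw [Algebra.TensorProduct.tmul_mul_tmul, mul_comm (1 + r * t) r, ht, tmul_zero]
    | zero => exact ⟨1, map_one _, mul_zero _⟩
    | add z w _ _ hz hw =>
      obtain ⟨s₁, h₁, h₁'⟩ := hz
      obtain ⟨s₂, h₂, h₂'⟩ := hw
      refine ⟨s₁ * s₂, by rw [map_mul, h₁, h₂, one_mul], ?_⟩
      have : ((1 : A) ⊗ₜ[k'] (s₁ * s₂)) = ((1 : A) ⊗ₜ[k'] s₁) * ((1 : A) ⊗ₜ[k'] s₂) := by
        rw [Algebra.TensorProduct.tmul_mul_tmul, one_mul]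
      rw [this, mul_add]
      calc (1 : A) ⊗ₜ[k'] s₁ * (1 : A) ⊗ₜ[k'] s₂ * z + (1 : A) ⊗ₜ[k'] s₁ * (1 : A) ⊗ₜ[k'] s₂ * w
          = (1 : A) ⊗ₜ[k'] s₂ * ((1 : A) ⊗ₜ[k'] s₁ * z) +
            (1 : A) ⊗ₜ[k'] s₁ * ((1 : A) ⊗ₜ[k'] s₂ * w) := by ring
        _ = 0 := by rw [h₁', h₂']; simp
    | smul a z _ hz =>
      obtain ⟨s, hs, hs'⟩ := hz
      refine ⟨s, hs, ?_⟩
      rw [smul_eq_mul, mul_left_comm, hs', mul_zero]
  refine ⟨fun x hx => ?_⟩
  obtain ⟨n, hn⟩ := hx
  obtain ⟨y, rfl⟩ := hπ x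
  have hy : y ^ (n + 1) ∈ RingHom.ker π := by
    rw [RingHom.mem_ker, map_pow, pow_succ, hn, zero_mul]
  rw [hker] at hy
  obtain ⟨s, hs, hs'⟩ := claim _ hy
  have h0 : ((1 : A) ⊗ₜ[k'] s) * y = 0 := by
    apply IsReduced.eq_zero
    refine ⟨n + 1, ?_⟩
    rw [mul_pow, pow_succ ((1 : A) ⊗ₜ[k'] s), mul_assoc, hs', mul_zero]
  have := congrArg π h0
  rw [map_mul, map_zero] at this
  have h1 : π ((1 : A) ⊗ₜ[k'] s) = 1 := by
    change Algebra.TensorProduct.map (AlgHom.id k' A) μ ((1 : A) ⊗ₜ[k'] s) = 1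
    rw [Algebra.TensorProduct.map_tmul, hs]
    rfl
  rwa [h1, one_mul] at this

end Groth.Agent.Lib.Helper50
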