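import Mathlib

/-!
# Two finitely generated algebras with the same fraction field have a common localization
-/

namespace Groth.Agent.Lib.Helper50

universe u

section

variable (k K : Type*) [Field k] [Field K] [Algebra k K]

/-- The subalgebra of `K` generated by the image of `B` and the inverse of (the image of) `b`. -/
def awaySub (B : Type*) [CommRing B] [Algebra k B] [Algebra B K] [IsScalarTower k B K] (b : B) :
    Subalgebra k K :=
  Algebra.adjoin k (Set.range (algebraMap B K) ∪ {(algebraMap B K b)⁻¹})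

variable (B : Type*) [CommRing B] [Algebra k B] [Algebra B K] [IsScalarTower k B K]

theorem algebraMap_mem_awaySub (b x : B) : algebraMap B K x ∈ awaySub k K B b :=
  Algebra.subset_adjoin (Or.inl ⟨x, rfl⟩)

theorem inv_mem_awaySub (b : B) : (algebraMap B K b)⁻¹ ∈ awaySub k K B b :=
  Algebra.subset_adjoin (Or.inr rfl)

theorem awaySub_le_iff (b : B) (S : Subalgebra k K) :
    awaySub k K B b ≤ S ↔ (∀ x : B, algebraMap B K x ∈ S) ∧ (algebraMap B K b)⁻¹ ∈ S := by
  unfold awaySub
  rw [Algebra.adjoin_le_iff]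
  constructor
  · intro h
    exact ⟨fun x => h (Or.inl ⟨x, rfl⟩), h (Or.inr rfl)⟩
  · rintro ⟨h1, h2⟩ x (⟨y, rfl⟩ | hx)
    · exact h1 y
    · rw [Set.mem_singleton_iff.mp hx]; exact h2

theorem exists_of_mem_awaySub (b : B) {x : K} (hx : x ∈ awaySub k K B b) :
    ∃ (a : B) (n : ℕ), x * (algebraMap B K b) ^ n = algebraMap B K a := by
  by_cases hb : algebraMap B K b = 0
  · -- degenerate: inverse is zero
    have : awaySub k K B b ≤ (IsScalarTower.toAlgHom k B K).range := by
      rw [awaySub_le_iff]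
      refine ⟨fun x => ⟨x, rfl⟩, ?_⟩
      rw [hb, inv_zero]
      exact zero_mem _
    obtain ⟨a, rfl⟩ := this hx
    exact ⟨a, 0, by simp⟩
  let S : Subalgebra k K :=
    { carrier := {x | ∃ (a : B) (n : ℕ), x * (algebraMap B K b) ^ n = algebraMap B K a}
      mul_mem' := by
        rintro x y ⟨a, n, ha⟩ ⟨a', m, ha'⟩
        refine ⟨a * a', n + m, ?_⟩
        rw [map_mul, ← ha, ← ha', pow_add]; ring
      add_mem' := by
        rintro x y ⟨a, n, ha⟩ ⟨a', m, ha'⟩
        refine ⟨a * b ^ m + a' * b ^ n, n + m, ?_⟩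
        rw [map_add, map_mul, map_mul, ← ha, ← ha', pow_add, map_pow, map_pow]; ring
      algebraMap_mem' := by
        intro r
        refine ⟨algebraMap k B r, 0, ?_⟩
        rw [pow_zero, mul_one, ← IsScalarTower.algebraMap_apply] }
  have hle : awaySub k K B b ≤ S := by
    rw [awaySub_le_iff]
    refine ⟨fun x => ⟨x, 0, by simp⟩, ⟨1, 1, ?_⟩⟩
    rw [pow_one, inv_mul_cancel₀ hb, map_one]
  exact hle hx

theorem awaySub_le_awaySub_mul (hinj : Function.Injective (algebraMap B K)) (b b' : B)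
    (hb' : b' ≠ 0) : awaySub k K B b ≤ awaySub k K B (b * b') := by
  rw [awaySub_le_iff]
  refine ⟨fun x => algebraMap_mem_awaySub k K B _ x, ?_⟩
  have h0 : algebraMap B K b' ≠ 0 := fun h => hb' (hinj (by rw [h, map_zero]))
  have : (algebraMap B K b)⁻¹ = algebraMap B K b' * (algebraMap B K (b * b'))⁻¹ := by
    rw [map_mul, mul_inv, mul_comm (algebraMap B K b)⁻¹, ← mul_assoc, mul_inv_cancel₀ h0, one_mul]
  rw [this]
  exact mul_mem (algebraMap_mem_awaySub k K B _ _) (inv_mem_awaySub k K B _)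

theorem awaySub_le_awaySub_mul' (hinj : Function.Injective (algebraMap B K)) (b b' : B)
    (hb' : b' ≠ 0) : awaySub k K B b ≤ awaySub k K B (b' * b) := by
  rw [mul_comm]; exact awaySub_le_awaySub_mul k K B hinj b b' hb'

variable [IsDomain B] [IsFractionRing B K]

theorem exists_mem_awaySub (x : K) : ∃ b : B, b ≠ 0 ∧ x ∈ awaySub k K B b := by
  obtain ⟨a, c, hc, rfl⟩ := IsFractionRing.div_surjective (A := B) x
  refine ⟨c, nonZeroDivisors.ne_zero hc, ?_⟩
  rw [div_eq_mul_inv]
  exact mul_mem (algebraMap_mem_awaySub k K B _ _) (inv_mem_awaySub k K B _)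

theorem exists_forall_mem_awaySub (T : Finset K) :
    ∃ b : B, b ≠ 0 ∧ ∀ x ∈ T, x ∈ awaySub k K B b := by
  classical
  have hinj : Function.Injective (algebraMap B K) := IsFractionRing.injective B K
  induction T using Finset.induction_on with
  | empty => exact ⟨1, one_ne_zero, by simp⟩
  | insert a T _ ih =>
    obtain ⟨b, hb, hT⟩ := ih
    obtain ⟨b', hb', ha⟩ := exists_mem_awaySub k K B a
    refine ⟨b * b', mul_ne_zero hb hb', ?_⟩
    intro x hx
    rcases Finset.mem_insert.mp hx with rfl | hx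
    · exact awaySub_le_awaySub_mul' k K B hinj b' b hb ha
    · exact awaySub_le_awaySub_mul k K B hinj b b' hb' (hT x hx)

theorem exists_le_awaySub_of_fg (S : Subalgebra k K) (hS : S.FG) :
    ∃ b : B, b ≠ 0 ∧ S ≤ awaySub k K B b := by
  obtain ⟨T, rfl⟩ := hS
  obtain ⟨b, hb, hT⟩ := exists_forall_mem_awaySub k K B T
  exact ⟨b, hb, Algebra.adjoin_le hT⟩

end

section main

variable (k K : Type*) [Field k] [Field K] [Algebra k K]
variable (B : Type*) [CommRing B] [Algebra k B] [Algebra B K] [IsScalarTower k B K]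
variable (C : Type*) [CommRing C] [Algebra k C] [Algebra C K] [IsScalarTower k C K]
variable [IsDomain B] [IsFractionRing B K] [IsDomain C] [IsFractionRing C K]

theorem exists_awaySub_eq_awaySub [Algebra.FiniteType k B] [Algebra.FiniteType k C] :
    ∃ (b : B) (c : C), b ≠ 0 ∧ c ≠ 0 ∧ awaySub k K B b = awaySub k K C c := by
  have hinjB : Function.Injective (algebraMap B K) := IsFractionRing.injective B K
  have hinjC : Function.Injective (algebraMap C K) := IsFractionRing.injective C K
  have hBfg : (IsScalarTower.toAlgHom k B K).range.FG := by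
    rw [← Algebra.map_top]
    exact Subalgebra.FG.map _ (Algebra.FiniteType.out)
  have hCfg : (IsScalarTower.toAlgHom k C K).range.FG := by
    rw [← Algebra.map_top]
    exact Subalgebra.FG.map _ (Algebra.FiniteType.out)
  -- B ⊆ C[1/c0]
  obtain ⟨c0, hc0, hBC⟩ := exists_le_awaySub_of_fg k K C _ hBfg
  -- C ⊆ B[1/b0]
  obtain ⟨b0, hb0, hCB⟩ := exists_le_awaySub_of_fg k K B _ hCfg
  -- 1/c0 ∈ B[1/b1]
  obtain ⟨b1, hb1, hc0inv⟩ := exists_mem_awaySub k K B (algebraMap C K c0)⁻¹
  set b := b0 * b1 with hb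
  have hbne : b ≠ 0 := mul_ne_zero hb0 hb1
  have hCb : ∀ x : C, algebraMap C K x ∈ awaySub k K B b := fun x =>
    awaySub_le_awaySub_mul k K B hinjB b0 b1 hb1 (hCB ⟨x, rfl⟩)
  have hc0b : (algebraMap C K c0)⁻¹ ∈ awaySub k K B b :=
    awaySub_le_awaySub_mul' k K B hinjB b1 b0 hb0 hc0inv
  have hbmem : algebraMap B K b ∈ awaySub k K C c0 := hBC ⟨b, rfl⟩
  obtain ⟨γ, M, hγ⟩ := exists_of_mem_awaySub k K C c0 hbmem
  have hbK : algebraMap B K b ≠ 0 := fun h => hbne (hinjB (by rw [h, map_zero]))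
  have hc0K : algebraMap C K c0 ≠ 0 := fun h => hc0 (hinjC (by rw [h, map_zero]))
  have hγK : algebraMap C K γ ≠ 0 := by
    rw [← hγ]; exact mul_ne_zero hbK (pow_ne_zero _ hc0K)
  have hγne : γ ≠ 0 := fun h => hγK (by rw [h, map_zero])
  refine ⟨b, c0 * γ, hbne, mul_ne_zero hc0 hγne, le_antisymm ?_ ?_⟩
  · rw [awaySub_le_iff]
    refine ⟨fun x => awaySub_le_awaySub_mul k K C hinjC c0 γ hγne (hBC ⟨x, rfl⟩), ?_⟩
    -- (ι b)⁻¹ = (ι c0)^M * (ι γ)⁻¹ = (ι c0)^(M+1) * ι(c0 γ)⁻¹
    have key : ∀ (x y z : K), x ≠ 0 → y ≠ 0 → x * y ^ M = z →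
        x⁻¹ = y ^ (M + 1) * (y * z)⁻¹ := by
      intro x y z hx hy hz
      subst hz
      field_simp
      try ring
    have : (algebraMap B K b)⁻¹ =
        (algebraMap C K c0) ^ (M + 1) * (algebraMap C K (c0 * γ))⁻¹ := by
      rw [map_mul (algebraMap C K)]
      exact key _ _ _ hbK hc0K hγ
    rw [this]
    exact mul_mem (pow_mem (algebraMap_mem_awaySub k K C _ _) _) (inv_mem_awaySub k K C _)
  · rw [awaySub_le_iff]
    refine ⟨hCb, ?_⟩
    have key : ∀ (x y z : K), x ≠ 0 → y ≠ 0 → x * y ^ M = z →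
        (y * z)⁻¹ = y⁻¹ ^ (M + 1) * x⁻¹ := by
      intro x y z hx hy hz
      subst hz
      rw [inv_pow]
      field_simp
      try ring
    have : (algebraMap C K (c0 * γ))⁻¹ =
        (algebraMap C K c0)⁻¹ ^ (M + 1) * (algebraMap B K b)⁻¹ := by
      rw [map_mul (algebraMap C K)]
      exact key _ _ _ hbK hc0K hγ
    rw [this]
    exact mul_mem (pow_mem hc0b _) (inv_mem_awaySub k K B _)

end main

section range

variable (k K : Type*) [Field k] [Field K] [Algebra k K]
variable (B : Type*) [CommRing B] [Algebra k B] [Algebra B K] [IsScalarTower k B K]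

theorem range_eq_awaySub_of_isLocalization (b : B) (B' : Type*) [CommRing B'] [Algebra B B']
    [IsLocalization.Away b B'] [Algebra k B'] [Algebra B' K] [IsScalarTower k B' K]
    [IsScalarTower B B' K] :
    (IsScalarTower.toAlgHom k B' K).range = awaySub k K B b := by
  have hunit : IsUnit (algebraMap B B' b) := IsLocalization.Away.algebraMap_isUnit b
  have hbK : algebraMap B K b ≠ 0 := by
    rw [IsScalarTower.algebraMap_apply B B' K]
    exact (hunit.map (algebraMap B' K)).ne_zero
  apply le_antisymm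
  · rintro _ ⟨y, rfl⟩
    obtain ⟨n, a, ha⟩ := IsLocalization.Away.surj b y
    have : algebraMap B' K y = algebraMap B K a * ((algebraMap B K b)⁻¹) ^ n := by
      have h2 : algebraMap B' K (y * algebraMap B B' b ^ n) = algebraMap B' K (algebraMap B B' a) := by
        rw [ha]
      rw [map_mul, map_pow, ← IsScalarTower.algebraMap_apply, ← IsScalarTower.algebraMap_apply] at h2
      rw [← h2, inv_pow, mul_assoc, mul_inv_cancel₀ (pow_ne_zero _ hbK), mul_one]
    change algebraMap B' K y ∈ _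
    rw [this]
    exact mul_mem (algebraMap_mem_awaySub k K B _ _) (pow_mem (inv_mem_awaySub k K B _) _)
  · rw [awaySub_le_iff]
    refine ⟨fun x => ⟨algebraMap B B' x, ?_⟩, ?_⟩
    · change algebraMap B' K (algebraMap B B' x) = _
      rw [← IsScalarTower.algebraMap_apply]
    · obtain ⟨u, hu⟩ := hunit
      refine ⟨((u⁻¹ : B'ˣ) : B'), ?_⟩
      change algebraMap B' K _ = _
      rw [IsScalarTower.algebraMap_apply B B' K, ← hu]
      refine eq_inv_of_mul_eq_one_left ?_
      rw [← map_mul]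
      simp

end range

end Groth.Agent.Lib.Helper50
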