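import Mathlib

/-!
# Function fields with a separating transcendence basis are function fields of hypersurfaces
-/

namespace Groth.Agent.Lib.Helper50

open Polynomial
open scoped IntermediateField

universe u

set_option maxHeartbeats 800000 in
theorem exists_hypersurface_model (k K : Type u) [Field k] [Field K] [Algebra k K] (d : ℕ)
    (s : Fin d → K) (hs : IsTranscendenceBasis k s)
    (hsep : Algebra.IsSeparable ↥(IntermediateField.adjoin k (Set.range s)) K)
    (T : Finset K) (hT : IntermediateField.adjoin k (T : Set K) = ⊤) :
    ∃ (g : Polynomial (MvPolynomial (Fin d) k)), g.Monic ∧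
      Irreducible (g.map (algebraMap (MvPolynomial (Fin d) k)
        (FractionRing (MvPolynomial (Fin d) k)))) ∧
      (g.map (algebraMap (MvPolynomial (Fin d) k)
        (FractionRing (MvPolynomial (Fin d) k)))).Separable ∧
      ∃ φ : AdjoinRoot g →ₐ[k] K, Function.Injective φ ∧
        ∀ x : K, ∃ a c : AdjoinRoot g, c ≠ 0 ∧ x * φ c = φ a := by
  classical
  set R := MvPolynomial (Fin d) k with hR
  set L := FractionRing R with hL
  have hx : AlgebraicIndependent k s := hs.1
  set F := IntermediateField.adjoin k (Set.range s) with hF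
  let e : L ≃ₐ[k] F := hx.aevalEquivField
  let ιL : L →+* K := (algebraMap F K).comp (e : L →+* F)
  letI algLK : Algebra L K := ιL.toAlgebra
  letI algRK : Algebra R K := (MvPolynomial.aeval s : R →ₐ[k] K).toRingHom.toAlgebra
  have hRK : ∀ r : R, algebraMap R K r = MvPolynomial.aeval s r := fun r => rfl
  have hLK : ∀ l : L, algebraMap L K l = ((e l : F) : K) := fun l => rfl
  haveI : IsScalarTower R L K := IsScalarTower.of_algebraMap_eq fun r => by
    rw [hRK, hLK]
    exact (hx.aevalEquivField_algebraMap_apply_coe r).symm
  haveI : IsScalarTower k R K := IsScalarTower.of_algebraMap_eq fun r => by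
    rw [hRK]; exact ((MvPolynomial.aeval s).commutes r).symm
  haveI : IsScalarTower k L K := IsScalarTower.of_algebraMap_eq fun r => by
    rw [hLK]; simp
  haveI hsepL : Algebra.IsSeparable L K := by
    refine Algebra.IsSeparable.of_equiv_equiv (A₁ := F) (B₁ := K) (e.symm : F ≃+* L)
      (RingEquiv.refl K) ?_
    ext x
    simp [RingHom.algebraMap_toAlgebra, ιL]
  haveI : Algebra.IsAlgebraic L K := Algebra.IsSeparable.isAlgebraic L K
  -- finite dimensionality
  have hTL : IntermediateField.adjoin L (T : Set K) = ⊤ := by
    rw [eq_top_iff]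
    have : (⊤ : IntermediateField k K) ≤
        (IntermediateField.adjoin L (T : Set K)).restrictScalars k := by
      rw [← hT]
      rw [IntermediateField.adjoin_le_iff]
      intro x hx
      exact IntermediateField.subset_adjoin L _ hx
    intro x _
    exact this (IntermediateField.mem_top)
  haveI : FiniteDimensional L K := by
    haveI : FiniteDimensional L (IntermediateField.adjoin L (T : Set K)) :=
      IntermediateField.finiteDimensional_adjoin (fun x _ => Algebra.IsIntegral.isIntegral x)
    rw [hTL] at this
    exact Module.Finite.equiv (IntermediateField.topEquiv (F := L) (E := K)).toLinearEquiv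
  obtain ⟨α, hα⟩ := Field.exists_primitive_element L K
  -- integral multiple
  have halg : IsAlgebraic R α :=
    (IsFractionRing.isAlgebraic_iff R L K).mpr (Algebra.IsAlgebraic.isAlgebraic α)
  obtain ⟨c, hc0, hcint⟩ := halg.exists_integral_multiple
  set α' : K := c • α with hα'
  have hinjRK : Function.Injective (algebraMap R K) := by
    have := (algebraicIndependent_iff_injective_aeval.1 hx)
    exact this
  have hcK : algebraMap R K c ≠ 0 := fun h => hc0 (hinjRK (by rw [h, map_zero]))
  have hα'top : L⟮α'⟯ = ⊤ := by
    rw [eq_top_iff, ← hα, IntermediateField.adjoin_simple_le_iff]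
    have h1 : α' ∈ L⟮α'⟯ := IntermediateField.mem_adjoin_simple_self L α'
    have h2 : algebraMap L K (algebraMap R L c) ∈ L⟮α'⟯ := IntermediateField.algebraMap_mem _ _
    have h3 : α = (algebraMap L K (algebraMap R L c))⁻¹ * α' := by
      rw [← IsScalarTower.algebraMap_apply, hα', Algebra.smul_def, ← mul_assoc,
        inv_mul_cancel₀ hcK, one_mul]
    rw [h3]
    exact mul_mem (inv_mem h2) h1
  set g := minpoly R α' with hg
  have hgL : minpoly L α' = g.map (algebraMap R L) :=
    minpoly.isIntegrallyClosed_eq_field_fractions' L hcint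
  refine ⟨g, minpoly.monic hcint, ?_, ?_, ?_⟩
  · rw [← hgL]
    exact minpoly.irreducible (Algebra.IsIntegral.isIntegral α')
  · rw [← hgL]
    exact Algebra.IsSeparable.isSeparable L α'
  · have hinjTF : Module.IsTorsionFree R K :=
      Module.isTorsionFree_iff_algebraMap_injective.mpr hinjRK
    have hroot : g.eval₂ ((MvPolynomial.aeval s : R →ₐ[k] K) : R →+* K) α' = 0 := by
      have := minpoly.aeval R α'
      rw [aeval_def] at this
      exact this
    let φ : AdjoinRoot g →ₐ[k] K := AdjoinRoot.liftAlgHom g (MvPolynomial.aeval s) α' hroot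
    have hφmk : ∀ p : R[X], φ (AdjoinRoot.mk g p) = aeval α' p := by
      intro p
      rw [AdjoinRoot.liftAlgHom_mk, aeval_def]
      rfl
    have hφof : ∀ b : R, φ (AdjoinRoot.of g b) = algebraMap R K b := by
      intro b
      rw [AdjoinRoot.liftAlgHom_of]
      rfl
    have hφinj : Function.Injective φ := by
      rw [injective_iff_map_eq_zero]
      intro z hz
      obtain ⟨p, rfl⟩ := AdjoinRoot.mk_surjective z
      rw [hφmk] at hz
      rw [AdjoinRoot.mk_eq_zero]
      exact minpoly.isIntegrallyClosed_dvd hcint hz
    refine ⟨φ, hφinj, ?_⟩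
    intro x
    have hxmem : x ∈ L⟮α'⟯ := by rw [hα'top]; exact IntermediateField.mem_top
    have hxalg : x ∈ Algebra.adjoin L {α'} := by
      have := IntermediateField.adjoin_simple_toSubalgebra_of_isAlgebraic
        (Algebra.IsAlgebraic.isAlgebraic (R := L) α')
      rw [← this]
      exact hxmem
    rw [Algebra.adjoin_singleton_eq_range_aeval] at hxalg
    obtain ⟨q, rfl⟩ := hxalg
    obtain ⟨b, hb, hbq⟩ := IsLocalization.integerNormalization_spec (nonZeroDivisors R) q
    set p := IsLocalization.integerNormalization (nonZeroDivisors R) q with hp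
    have hb0 : b ≠ 0 := nonZeroDivisors.ne_zero hb
    refine ⟨AdjoinRoot.mk g p, AdjoinRoot.of g b, ?_, ?_⟩
    · intro h0
      have : φ (AdjoinRoot.of g b) = 0 := by rw [h0, map_zero]
      rw [hφof] at this
      exact hb0 (hinjRK (by rw [this, map_zero]))
    · change aeval α' q * φ (AdjoinRoot.of g b) = φ (AdjoinRoot.mk g p)
      rw [hφmk, hφof]
      have h3 : aeval α' p = aeval α' (p.map (algebraMap R L)) := by
        rw [aeval_map_algebraMap]
      rw [h3, hbq, ← algebraMap_smul L b q, map_smul, Algebra.smul_def, mul_comm,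
        ← IsScalarTower.algebraMap_apply]

end Groth.Agent.Lib.Helper50
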