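import Mathlib
import Groth.Agent.Lib.Helper50.HypLoc

/-!
# Birational models: a scheme of finite type over a field is birational to `Spec C`
for any finitely generated domain `C` with the same function field.
-/

namespace Groth.Agent.Lib.Helper50

open CategoryTheory AlgebraicGeometry Opposite

universe u

/-- the structure map to an affine base, restricted to an affine open. -/
theorem fromSpec_comp_toSpec {Y : Scheme.{u}} (R : CommRingCat.{u}) (f : Y ⟶ Spec R)
    {V : Y.Opens} (hV : IsAffineOpen V) :
    hV.fromSpec ≫ f =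
      Spec.map ((Scheme.ΓSpecIso R).inv ≫ f.appTop ≫ Y.presheaf.map (homOfLE le_top).op) := by
  have h1 : f = Y.toSpecΓ ≫ Spec.map f.appTop ≫ Spec.map (Scheme.ΓSpecIso R).inv := by
    rw [← Scheme.toSpecΓ_naturality_assoc, toSpecΓ_SpecMap_ΓSpecIso_inv, Category.comp_id]
  conv_lhs => rw [h1]
  rw [hV.fromSpec_toSpecΓ_assoc, ← Spec.map_comp, ← Spec.map_comp]
  simp only [Category.assoc]

theorem exists_finset_adjoin_eq_top (k K B : Type*) [Field k] [Field K] [Algebra k K]
    [CommRing B] [Algebra k B] [Algebra B K] [IsScalarTower k B K] [IsDomain B]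
    [IsFractionRing B K] [Algebra.FiniteType k B] :
    ∃ T : Finset K, IntermediateField.adjoin k (T : Set K) = ⊤ := by
  classical
  obtain ⟨T0, hT0⟩ := (Algebra.FiniteType.out : (⊤ : Subalgebra k B).FG)
  refine ⟨T0.image (algebraMap B K), ?_⟩
  rw [eq_top_iff]
  intro x _
  set F' := IntermediateField.adjoin k ((T0.image (algebraMap B K) : Finset K) : Set K) with hF'
  have hB : ∀ y : B, algebraMap B K y ∈ F' := by
    intro y
    have hy : y ∈ Algebra.adjoin k (T0 : Set B) := by rw [hT0]; trivial
    have : algebraMap B K y ∈ (Algebra.adjoin k (T0 : Set B)).map (IsScalarTower.toAlgHom k B K) :=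
      ⟨y, hy, rfl⟩
    rw [AlgHom.map_adjoin] at this
    have h2 : Algebra.adjoin k ((IsScalarTower.toAlgHom k B K) '' (T0 : Set B)) ≤
        F'.toSubalgebra := by
      rw [hF']
      refine le_trans ?_ (IntermediateField.algebra_adjoin_le_adjoin k _)
      apply Algebra.adjoin_mono
      intro z hz
      simpa using hz
    exact h2 this
  obtain ⟨a, c, _, rfl⟩ := IsFractionRing.div_surjective (A := B) x
  exact div_mem (hB a) (hB c)

set_option maxHeartbeats 1600000 in
theorem exists_open_iso_open_spec (k : Type u) [Field k] (X : Scheme.{u}) [IsIntegral X]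
    (f : X ⟶ Spec (CommRingCat.of k)) [LocallyOfFiniteType f]
    [Algebra k X.functionField]
    (halg : algebraMap k X.functionField =
      (X.presheaf.germ ⊤ (genericPoint X) trivial).hom.comp
        (f.appTop.hom.comp (Scheme.ΓSpecIso (CommRingCat.of k)).inv.hom)) :
    (∃ T : Finset X.functionField, IntermediateField.adjoin k (T : Set X.functionField) = ⊤) ∧
    ∀ (C : Type u) [CommRing C] [IsDomain C] [Algebra k C] [Algebra.FiniteType k C]
      [Algebra C X.functionField] [IsScalarTower k C X.functionField]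
      [IsFractionRing C X.functionField],
      ∃ (U : X.Opens) (V : (Spec (CommRingCat.of C)).Opens)
        (e : (U : Scheme.{u}) ≅ (V : Scheme.{u})),
        (U : Set X).Nonempty ∧ (V : Set (Spec (CommRingCat.of C))).Nonempty ∧
        e.hom ≫ V.ι ≫ Spec.map (CommRingCat.ofHom (algebraMap k C)) = U.ι ≫ f := by
  classical
  set K := X.functionField with hK
  -- structure maps to sections over opens
  let ρ : ∀ U : X.Opens, CommRingCat.of k ⟶ Γ(X, U) := fun U =>
    (Scheme.ΓSpecIso (CommRingCat.of k)).inv ≫ f.appTop ≫ X.presheaf.map (homOfLE le_top).op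
  have hρK : ∀ (U : X.Opens) [Nonempty U] (r : k),
      (X.germToFunctionField U).hom ((ρ U).hom r) = algebraMap k K r := by
    intro U _ r
    rw [halg]
    simp only [ρ, CommRingCat.hom_comp, RingHom.comp_apply]
    exact (TopCat.Presheaf.germ_res_apply X.presheaf (homOfLE le_top) (genericPoint X) _ _)
  -- choose an affine open
  obtain ⟨W, hW, hxW⟩ : ∃ W : X.Opens, IsAffineOpen W ∧ genericPoint X ∈ W := by
    obtain ⟨_, ⟨W, hW, rfl⟩, hx, _⟩ := X.isBasis_affineOpens.exists_subset_of_mem_open
      (Set.mem_univ (genericPoint X)) isOpen_univ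
    exact ⟨W, hW, hx⟩
  haveI : Nonempty W := ⟨⟨_, hxW⟩⟩
  letI algkW : Algebra k Γ(X, W) := (ρ W).hom.toAlgebra
  haveI : IsScalarTower k Γ(X, W) K := IsScalarTower.of_algebraMap_eq fun r => (hρK W r).symm
  haveI : IsFractionRing Γ(X, W) K := functionField_isFractionRing_of_isAffineOpen X W hW
  haveI : IsDomain Γ(X, W) := by
    haveI : Nonempty (W : Scheme.{u}) := ‹Nonempty W›
    exact inferInstance
  haveI hftW : Algebra.FiniteType k Γ(X, W) := by
    have h1 : (f.appLE ⊤ W le_top).hom.FiniteType :=
      LocallyOfFiniteType.finiteType_appLE f (isAffineOpen_top _) hW le_top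
    have h2 : ((Scheme.ΓSpecIso (CommRingCat.of k)).inv).hom.FiniteType :=
      RingHom.FiniteType.of_surjective _
        ((ConcreteCategory.bijective_of_isIso (Scheme.ΓSpecIso (CommRingCat.of k)).inv).2)
    have h3 := h1.comp h2
    have h4 : (ρ W).hom = (f.appLE ⊤ W le_top).hom.comp
        ((Scheme.ΓSpecIso (CommRingCat.of k)).inv).hom := by
      simp only [ρ, CommRingCat.hom_comp, Scheme.Hom.appLE]
      rfl
    rw [← h4] at h3
    exact h3
  refine ⟨exists_finset_adjoin_eq_top k K Γ(X, W), ?_⟩
  intro C _ _ _ _ _ _ _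
  obtain ⟨b, c, hb, hc, heq⟩ := exists_awaySub_eq_awaySub k K Γ(X, W) C
  -- the open U
  set U : X.Opens := X.basicOpen b with hUdef
  have hU : IsAffineOpen U := hW.basicOpen b
  have hUne : U ≠ ⊥ := fun h => hb ((basicOpen_eq_bot_iff b).mp h)
  have hxU : genericPoint X ∈ U := by
    change genericPoint X ∈ (U : Set X)
    rw [(genericPoint_spec X).mem_open_set_iff U.isOpen]
    obtain ⟨x, hx⟩ := (TopologicalSpace.Opens.ne_bot_iff_nonempty U).mp hUne
    exact ⟨x, Set.mem_univ _, hx⟩
  haveI : Nonempty U := ⟨⟨_, hxU⟩⟩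
  haveI : IsLocalization.Away b Γ(X, U) := hW.isLocalization_basicOpen b
  letI algkU : Algebra k Γ(X, U) := (ρ U).hom.toAlgebra
  haveI : IsScalarTower k Γ(X, U) K := IsScalarTower.of_algebraMap_eq fun r => (hρK U r).symm
  haveI : IsScalarTower Γ(X, W) Γ(X, U) K := IsScalarTower.of_algebraMap_eq fun r => by
    exact (TopCat.Presheaf.germ_res_apply X.presheaf (homOfLE (X.basicOpen_le b))
      (genericPoint X) hxU r).symm
  have hrangeB : (IsScalarTower.toAlgHom k Γ(X, U) K).range = awaySub k K Γ(X, W) b :=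
    range_eq_awaySub_of_isLocalization k K Γ(X, W) b Γ(X, U)
  have hinjB : Function.Injective (IsScalarTower.toAlgHom k Γ(X, U) K) :=
    X.germToFunctionField_injective U
  -- the open V
  set V : (Spec (CommRingCat.of C)).Opens := PrimeSpectrum.basicOpen c with hVdef
  have hV : IsAffineOpen V := IsAffineOpen.Spec_basicOpen (R := CommRingCat.of C) c
  have hcK : IsUnit (algebraMap C K c) := by
    apply IsUnit.mk0
    intro h
    exact hc (IsFractionRing.injective C K (by rw [h, map_zero]))
  letI algCV : Algebra C Γ(Spec (CommRingCat.of C), V) :=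
    IsAffineOpen.instAlgebraCarrierObjOppositeOpensCarrierCarrierCommRingCatSpecPresheafOpOpens
      (R := CommRingCat.of C) (U := V)
  haveI locV : IsLocalization.Away c Γ(Spec (CommRingCat.of C), V) :=
    IsAffineOpen.instAwayCarrierObjOppositeOpensCarrierCarrierCommRingCatSpecPresheafOpOpensBasicOpen
      (R := CommRingCat.of C) (f := c)
  let jC : Γ(Spec (CommRingCat.of C), V) →+* K :=
    IsLocalization.Away.lift c (g := algebraMap C K) hcK
  letI algVK : Algebra Γ(Spec (CommRingCat.of C), V) K := jC.toAlgebra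
  haveI : IsScalarTower C Γ(Spec (CommRingCat.of C), V) K := IsScalarTower.of_algebraMap_eq
    fun r => (IsLocalization.Away.lift_eq c hcK r).symm
  letI algkV : Algebra k Γ(Spec (CommRingCat.of C), V) :=
    ((algebraMap C Γ(Spec (CommRingCat.of C), V)).comp (algebraMap k C)).toAlgebra
  haveI : IsScalarTower k C Γ(Spec (CommRingCat.of C), V) := IsScalarTower.of_algebraMap_eq
    fun r => rfl
  haveI : IsScalarTower k Γ(Spec (CommRingCat.of C), V) K := IsScalarTower.of_algebraMap_eq
    fun r => by
      rw [IsScalarTower.algebraMap_apply k C Γ(Spec (CommRingCat.of C), V),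
        ← IsScalarTower.algebraMap_apply C Γ(Spec (CommRingCat.of C), V) K,
        ← IsScalarTower.algebraMap_apply k C K]
  have hrangeC : (IsScalarTower.toAlgHom k Γ(Spec (CommRingCat.of C), V) K).range =
      awaySub k K C c :=
    range_eq_awaySub_of_isLocalization k K C c Γ(Spec (CommRingCat.of C), V)
  haveI : IsFractionRing Γ(Spec (CommRingCat.of C), V) K :=
    IsFractionRing.isFractionRing_of_isDomain_of_isLocalization (Submonoid.powers c) _ _
  have hinjC : Function.Injective (IsScalarTower.toAlgHom k Γ(Spec (CommRingCat.of C), V) K) :=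
    IsFractionRing.injective _ _
  -- the algebra isomorphism
  let ψ : Γ(Spec (CommRingCat.of C), V) ≃ₐ[k] Γ(X, U) :=
    (AlgEquiv.ofInjective _ hinjC).trans
      ((Subalgebra.equivOfEq _ _ (hrangeC.trans (heq.symm.trans hrangeB.symm))).trans
        (AlgEquiv.ofInjective _ hinjB).symm)
  let i : Γ(Spec (CommRingCat.of C), V) ≅ Γ(X, U) :=
    { hom := CommRingCat.ofHom (ψ : Γ(Spec (CommRingCat.of C), V) →+* Γ(X, U))
      inv := CommRingCat.ofHom (ψ.symm : Γ(X, U) →+* Γ(Spec (CommRingCat.of C), V))
      hom_inv_id := by ext x; exact ψ.symm_apply_apply x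
      inv_hom_id := by ext x; exact ψ.apply_symm_apply x }
  let e : (U : Scheme.{u}) ≅ (V : Scheme.{u}) :=
    hU.isoSpec ≪≫ Scheme.Spec.mapIso i.op ≪≫ hV.isoSpec.symm
  have hVne : (V : Set (Spec (CommRingCat.of C))).Nonempty := by
    by_contra hne
    rw [Set.not_nonempty_iff_eq_empty] at hne
    have : (PrimeSpectrum.basicOpen c : TopologicalSpace.Opens (PrimeSpectrum C)) = ⊥ := by
      ext x
      have : x ∉ (V : Set (Spec (CommRingCat.of C))) := by rw [hne]; exact Set.notMem_empty _
      constructor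
      · intro hx; exact (this hx).elim
      · intro hx; exact hx.elim
    rw [PrimeSpectrum.basicOpen_eq_bot_iff] at this
    exact hc (IsNilpotent.eq_zero this)
  refine ⟨U, V, e, ⟨_, hxU⟩, hVne, ?_⟩
  -- compatibility
  have hG1 := fromSpec_comp_toSpec (CommRingCat.of k) f hU
  have hG2 := fromSpec_comp_toSpec (CommRingCat.of k)
    (Spec.map (CommRingCat.ofHom (algebraMap k C))) hV
  have hkey : ((Scheme.ΓSpecIso (CommRingCat.of k)).inv ≫
      (Spec.map (CommRingCat.ofHom (algebraMap k C))).appTop ≫
        (Spec (CommRingCat.of C)).presheaf.map (homOfLE le_top).op) ≫ i.hom = ρ U := by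
    ext r
    have h1 := ψ.commutes r
    have h2 : ((Scheme.ΓSpecIso (CommRingCat.of k)).inv ≫
      (Spec.map (CommRingCat.ofHom (algebraMap k C))).appTop ≫
        (Spec (CommRingCat.of C)).presheaf.map (homOfLE le_top).op).hom r =
        algebraMap k Γ(Spec (CommRingCat.of C), V) r := by
      change _ = (algebraMap (CommRingCat.of C) Γ(Spec (CommRingCat.of C), V)) (algebraMap k C r)
      rw [IsAffineOpen.algebraMap_Spec_obj]
      rw [← Scheme.ΓSpecIso_inv_naturality_assoc]
      rfl
    simp only [CommRingCat.hom_comp, RingHom.comp_apply] at h2 ⊢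
    erw [h2]
    exact h1
  calc e.hom ≫ V.ι ≫ Spec.map (CommRingCat.ofHom (algebraMap k C))
      = hU.isoSpec.hom ≫ Spec.map i.hom ≫ (hV.isoSpec.inv ≫ V.ι) ≫
          Spec.map (CommRingCat.ofHom (algebraMap k C)) := by
        simp only [e, Iso.trans_hom, Iso.symm_hom, Category.assoc]
        rfl
    _ = hU.isoSpec.hom ≫ Spec.map i.hom ≫ hV.fromSpec ≫
          Spec.map (CommRingCat.ofHom (algebraMap k C)) := by rw [hV.isoSpec_inv_ι]
    _ = hU.isoSpec.hom ≫ Spec.map (ρ U) := by
        rw [hG2, ← Spec.map_comp, hkey]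
    _ = hU.isoSpec.hom ≫ hU.fromSpec ≫ f := by rw [hG1]
    _ = U.ι ≫ f := by rw [hU.isoSpec_hom_fromSpec_assoc]

end Groth.Agent.Lib.Helper50
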