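import Mathlib
import Groth.Prelude.Def_SGA1t

/-! Kummer algebras over a ring formally étale over a polynomial ring are formally smooth. -/

namespace Groth.Agent.Lib.Helper50

open MvPolynomial TensorProduct

universe u

/-- A retract of a formally smooth algebra is formally smooth. -/
theorem formallySmooth_of_retract {R A B : Type u} [CommRing R] [CommRing A] [CommRing B]
    [Algebra R A] [Algebra R B] [Algebra.FormallySmooth R B] (i : A →ₐ[R] B) (p : B →ₐ[R] A)
    (h : p.comp i = AlgHom.id R A) : Algebra.FormallySmooth R A := by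
  rw [Algebra.FormallySmooth.iff_comp_surjective]
  intro C _ _ I hI g
  obtain ⟨l, hl⟩ := Algebra.FormallySmooth.comp_surjective R B I hI (g.comp p)
  refine ⟨l.comp i, ?_⟩
  rw [← AlgHom.comp_assoc, hl, AlgHom.comp_assoc, h, AlgHom.comp_id]

set_option maxHeartbeats 1000000 in
/-- Kummer algebra `A[T_i]/(T_i^{n_i} - a_i)` over an `R[X_j]`-algebra `A` formally smooth over `R[X_j]`,
with `a_i` the images of distinct variables, is formally smooth over `R`. -/
theorem formallySmooth_kummer {R A : Type u} [CommRing R] [CommRing A] [Algebra R A]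
    {σ : Type u} [Algebra (MvPolynomial σ R) A] [IsScalarTower R (MvPolynomial σ R) A]
    [Algebra.FormallySmooth (MvPolynomial σ R) A]
    {ι : Type} (e : ι → σ) (he : Function.Injective e) (n : ι → ℕ) :
    Algebra.FormallySmooth R
      (SGA1t.kummer A (fun i => algebraMap (MvPolynomial σ R) A (X (e i))) n) := by
  classical
  set a : ι → A := fun i => algebraMap (MvPolynomial σ R) A (X (e i)) with ha
  have haa : ∀ i, a i = algebraMap (MvPolynomial σ R) A (X (e i)) := fun _ => rfl
  rw [Algebra.FormallySmooth.iff_comp_surjective]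
  intro B _ _ I hI g
  let J : Ideal (MvPolynomial ι A) :=
    Ideal.span (Set.range fun i => (MvPolynomial.X i : MvPolynomial ι A) ^ n i - MvPolynomial.C (a i))
  let mk : MvPolynomial ι A →ₐ[R] SGA1t.kummer A a n := Ideal.Quotient.mkₐ R J
  have hrel : ∀ i, mk (X i) ^ n i = mk (C (a i)) := by
    intro i
    rw [← map_pow, ← sub_eq_zero, ← map_sub]
    exact Ideal.Quotient.eq_zero_iff_mem.mpr (Ideal.subset_span ⟨i, rfl⟩)
  let s : B ⧸ I → B := Function.surjInv Ideal.Quotient.mk_surjective
  have hs : ∀ y, Ideal.Quotient.mk I (s y) = y := Function.surjInv_eq _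
  let t : ι → B := fun i => s (g (mk (X i)))
  let b : σ → B := fun j => s (g (mk (C (algebraMap (MvPolynomial σ R) A (X j)))))
  let β : MvPolynomial σ R →ₐ[R] B :=
    aeval (fun j => if h : ∃ i, e i = j then t h.choose ^ n h.choose else b j)
  letI : Algebra (MvPolynomial σ R) B := β.toRingHom.toAlgebra
  haveI : IsScalarTower R (MvPolynomial σ R) B :=
    IsScalarTower.of_algebraMap_eq fun r => (β.commutes r).symm
  have hβ : ∀ p, algebraMap (MvPolynomial σ R) B p = β p := fun _ => rfl
  -- `g` restricted to `A` is `P`-linear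
  have hcomm : ∀ p : MvPolynomial σ R,
      g (mk (C (algebraMap (MvPolynomial σ R) A p))) = Ideal.Quotient.mk I (β p) := by
    intro p
    let F₁ : MvPolynomial σ R →ₐ[R] B ⧸ I :=
      (g.comp mk).comp ((Algebra.ofId A (MvPolynomial ι A)).restrictScalars R |>.comp
        (IsScalarTower.toAlgHom R (MvPolynomial σ R) A))
    let F₂ : MvPolynomial σ R →ₐ[R] B ⧸ I := (Ideal.Quotient.mkₐ R I).comp β
    have hF : F₁ = F₂ := by
      refine MvPolynomial.algHom_ext fun j => ?_
      change g (mk (C (algebraMap (MvPolynomial σ R) A (X j)))) = Ideal.Quotient.mk I (β (X j))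
      simp only [β, aeval_X]
      split_ifs with h
      · have hj := h.choose_spec
        rw [map_pow, hs, ← map_pow, hrel, haa, hj]
      · rw [hs]
    exact congrArg (fun F => F p) hF
  let gA : A →ₐ[MvPolynomial σ R] B ⧸ I :=
    { toRingHom := (g.toRingHom.comp mk.toRingHom).comp (C : A →+* MvPolynomial ι A)
      commutes' := fun p => by
        change g (mk (C (algebraMap (MvPolynomial σ R) A p))) = _
        rw [hcomm]; rfl }
  obtain ⟨γ, hγ⟩ := Algebra.FormallySmooth.comp_surjective (MvPolynomial σ R) A I hI gA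
  have hγ' : ∀ x : A, Ideal.Quotient.mk I (γ x) = g (mk (C x)) := fun x =>
    congrArg (fun F => F x) hγ
  -- the lift
  let L₀ : MvPolynomial ι A →+* B := eval₂Hom γ.toRingHom t
  have hL₀ : ∀ x ∈ J, L₀ x = 0 := by
    intro x hx
    have hle : J ≤ RingHom.ker L₀ := by
      rw [Ideal.span_le]
      rintro _ ⟨i, rfl⟩
      change L₀ _ = 0
      simp only [L₀, map_sub, map_pow, coe_eval₂Hom, eval₂_X, eval₂_C]
      change t i ^ n i - γ (algebraMap (MvPolynomial σ R) A (X (e i))) = 0
      rw [γ.commutes, hβ]
      simp only [β, aeval_X]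
      have h : ∃ i', e i' = e i := ⟨i, rfl⟩
      rw [dif_pos h]
      have : h.choose = i := he h.choose_spec
      rw [this, sub_self]
    exact hle hx
  let L₁ : SGA1t.kummer A a n →+* B := Ideal.Quotient.lift J L₀ hL₀
  have hL₁R : ∀ r : R, L₁ (algebraMap R _ r) = algebraMap R B r := by
    intro r
    change L₁ (Ideal.Quotient.mk J (algebraMap R (MvPolynomial ι A) r)) = _
    rw [Ideal.Quotient.lift_mk]
    rw [IsScalarTower.algebraMap_apply R A (MvPolynomial ι A), MvPolynomial.algebraMap_eq]
    simp only [L₀, coe_eval₂Hom, eval₂_C]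
    change γ (algebraMap R A r) = _
    rw [IsScalarTower.algebraMap_apply R (MvPolynomial σ R) A, γ.commutes,
      ← IsScalarTower.algebraMap_apply]
  let L : SGA1t.kummer A a n →ₐ[R] B := { toRingHom := L₁, commutes' := hL₁R }
  refine ⟨L, ?_⟩
  refine Ideal.Quotient.algHom_ext _ ?_
  refine AlgHom.coe_ringHom_injective ?_
  refine MvPolynomial.ringHom_ext ?_ ?_
  · intro x
    change Ideal.Quotient.mk I (L₁ (Ideal.Quotient.mk J (C x))) = g (mk (C x))
    rw [Ideal.Quotient.lift_mk]
    simp only [L₀, coe_eval₂Hom, eval₂_C]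
    exact hγ' x
  · intro i
    change Ideal.Quotient.mk I (L₁ (Ideal.Quotient.mk J (X i))) = g (mk (X i))
    rw [Ideal.Quotient.lift_mk]
    simp only [L₀, coe_eval₂Hom, eval₂_X]
    exact hs _

end Groth.Agent.Lib.Helper50
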