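import Mathlib

/-! Formal smoothness of `R[V] → A` from a chart `R₀[V] → A₀` by localization. -/

namespace Groth.Agent.Lib.Helper50

open MvPolynomial

universe u

attribute [local instance] MvPolynomial.algebraMvPolynomial in
theorem formallySmooth_eval₂_of_localization {R₀ R A₀ A : Type u} [CommRing R₀] [CommRing R]
    [CommRing A₀] [CommRing A] {σ : Type u} [Algebra R₀ R] (M : Submonoid R₀) [IsLocalization M R]
    (φ₀ : R₀ →+* A₀) (v₀ : σ → A₀) (hψ : (MvPolynomial.eval₂Hom φ₀ v₀).FormallySmooth)
    (α : A₀ →+* A) (hα : α.FormallySmooth) (φ : R →+* A)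
    (hcomm : φ.comp (algebraMap R₀ R) = α.comp φ₀) :
    (MvPolynomial.eval₂Hom φ (fun j => α (v₀ j))).FormallySmooth := by
  haveI : IsLocalization (M.map (C (σ := σ))) (MvPolynomial σ R) := MvPolynomial.isLocalization M R
  have h1 : (α.comp (MvPolynomial.eval₂Hom φ₀ v₀)).FormallySmooth := hψ.comp hα
  have hcomp : (MvPolynomial.eval₂Hom φ (fun j => α (v₀ j))).comp
      (algebraMap (MvPolynomial σ R₀) (MvPolynomial σ R)) = α.comp (MvPolynomial.eval₂Hom φ₀ v₀) := by
    refine MvPolynomial.ringHom_ext ?_ ?_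
    · intro r
      have := congrArg (fun F => F r) hcomm
      simp only [RingHom.comp_apply] at this
      simp only [RingHom.comp_apply, MvPolynomial.algebraMap_def, map_C, coe_eval₂Hom, eval₂_C]
      exact this
    · intro j
      simp only [RingHom.comp_apply, MvPolynomial.algebraMap_def, map_X, coe_eval₂Hom, eval₂_X]
  letI : Algebra (MvPolynomial σ R) A := (MvPolynomial.eval₂Hom φ (fun j => α (v₀ j))).toAlgebra
  letI : Algebra (MvPolynomial σ R₀) A := (α.comp (MvPolynomial.eval₂Hom φ₀ v₀)).toAlgebra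
  haveI : IsScalarTower (MvPolynomial σ R₀) (MvPolynomial σ R) A :=
    IsScalarTower.of_algebraMap_eq fun p => (congrArg (fun F => F p) hcomp).symm
  haveI : Algebra.FormallySmooth (MvPolynomial σ R₀) A := h1
  exact Algebra.FormallySmooth.localization_base (M.map (C (σ := σ)))

end Groth.Agent.Lib.Helper50
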