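import Mathlib
import Groth.Agent.Lib.Helper50.Kummer2

/-! Étale chart of a morphism to affine space gives an étale polynomial ring map on affine opens. -/

namespace Groth.Agent.Lib.Helper50

open AlgebraicGeometry CategoryTheory MvPolynomial

universe u

theorem isOpenImmersion_affineSpace_map {n : Type u} {S T : Scheme.{u}} (j : S ⟶ T) [IsOpenImmersion j] :
    IsOpenImmersion (AffineSpace.map n j) :=
  MorphismProperty.of_isPullback (P := @IsOpenImmersion) (AffineSpace.isPullback_map (n := n) j).flip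
    inferInstance

theorem etale_eval₂_chart {X S : Scheme.{u}} (f : X ⟶ S) (W : X.Opens) {d : ℕ}
    (v : ULift.{u} (Fin d) → Γ(W, ⊤)) [Etale (AffineSpace.homOfVector (W.ι ≫ f) v)]
    {U : S.Opens} (hU : IsAffineOpen U) {W' : X.Opens} (hW' : IsAffineOpen W') (hW'W : W' ≤ W)
    (e : W' ≤ f ⁻¹ᵁ U) :
    (MvPolynomial.eval₂Hom (f.appLE U W' e).hom
      (fun j => (X.presheaf.map (homOfLE hW'W).op).hom (W.topIso.hom.hom (v j)))).Etale := by
  let f' : (W' : Scheme) ⟶ U := f.resLE U W' e
  let v' : ULift.{u} (Fin d) → Γ(↑W', ⊤) := fun j => (X.homOfLE hW'W).appTop.hom (v j)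
  let h := AffineSpace.homOfVector f' v'
  have hcomp : h ≫ AffineSpace.map _ U.ι = X.homOfLE hW'W ≫ AffineSpace.homOfVector (W.ι ≫ f) v := by
    rw [AffineSpace.comp_homOfVector]
    ext1
    · simp [AffineSpace.map_over, f', h]
    · rename_i j
      rw [AffineSpace.homOfVector_appTop_coord, Scheme.Hom.comp_appTop, CommRingCat.comp_apply,
        AffineSpace.map_appTop_coord, AffineSpace.homOfVector_appTop_coord]
      rfl
  haveI : IsOpenImmersion (AffineSpace.map (ULift.{u} (Fin d)) U.ι) :=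
    isOpenImmersion_affineSpace_map _
  have hEt : Etale h := by
    refine MorphismProperty.of_postcomp (W := @Etale) (W' := @Etale) h
      (AffineSpace.map (ULift.{u} (Fin d)) U.ι) inferInstance ?_
    rw [hcomp]
    infer_instance
  haveI : IsAffine (U : Scheme) := hU
  haveI : IsAffine (W' : Scheme) := hW'
  let Φ := AffineSpace.isoOfIsAffine (ULift.{u} (Fin d)) (U : Scheme)
  have hEt2 : Etale (h ≫ Φ.hom) := inferInstance
  rw [HasRingHomProperty.iff_of_isAffine (P := @Etale)] at hEt2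
  rw [Scheme.Hom.comp_appTop, AffineSpace.isoOfIsAffine_hom_appTop, Category.assoc] at hEt2
  rw [CommRingCat.hom_comp, RingHom.Etale.respectsIso.cancel_left_isIso] at hEt2
  have h1 : (CommRingCat.ofHom
          (eval₂Hom (CommRingCat.Hom.hom (Scheme.Hom.appTop (𝔸(ULift.{u, 0} (Fin d); ↑U) ↘ ↑U)))
            (AffineSpace.coord ↑U)) ≫ Scheme.Hom.appTop h).hom =
      eval₂Hom f'.appTop.hom v' := by
    refine MvPolynomial.ringHom_ext ?_ ?_
    · intro r
      simp only [CommRingCat.hom_comp, CommRingCat.hom_ofHom, RingHom.comp_apply, coe_eval₂Hom,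
        eval₂_C]
      change (Scheme.Hom.appTop (𝔸(ULift.{u, 0} (Fin d); ↑U) ↘ ↑U) ≫ Scheme.Hom.appTop h).hom r = _
      rw [← Scheme.Hom.comp_appTop, AffineSpace.homOfVector_over]
    · intro j
      simp only [CommRingCat.hom_comp, CommRingCat.hom_ofHom, RingHom.comp_apply, coe_eval₂Hom,
        eval₂_X]
      exact AffineSpace.homOfVector_appTop_coord _ _ _
  rw [h1] at hEt2
  have h2 : (eval₂Hom (CommRingCat.Hom.hom (Scheme.Hom.appLE f U W' e)) fun j =>
      (CommRingCat.Hom.hom (X.presheaf.map (homOfLE hW'W).op)) ((CommRingCat.Hom.hom W.topIso.hom) (v j))) =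
      ((W'.topIso.hom.hom).comp (eval₂Hom f'.appTop.hom v')).comp
        (MvPolynomial.map U.topIso.inv.hom) := by
    refine MvPolynomial.ringHom_ext ?_ ?_
    · intro r
      simp only [RingHom.comp_apply, coe_eval₂Hom, eval₂_C, map_C]
      have : f'.appTop = U.topIso.hom ≫ f.appLE U W' e ≫ W'.topIso.inv :=
        Scheme.Hom.resLE_app_top f e
      have e1 : ∀ y, W'.topIso.hom.hom (W'.topIso.inv.hom y) = y := fun y => by
        rw [← RingHom.comp_apply, ← CommRingCat.hom_comp, Iso.inv_hom_id]; rfl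
      have e2 : ∀ y, U.topIso.hom.hom (U.topIso.inv.hom y) = y := fun y => by
        rw [← RingHom.comp_apply, ← CommRingCat.hom_comp, Iso.inv_hom_id]; rfl
      rw [this, CommRingCat.hom_comp, CommRingCat.hom_comp]
      simp only [RingHom.comp_apply]
      rw [e2, e1]
    · intro j
      simp only [RingHom.comp_apply, coe_eval₂Hom, eval₂_X, map_X]
      simp only [v', Scheme.homOfLE_appTop, Scheme.Opens.topIso_hom]
      rw [← CommRingCat.comp_apply, ← CommRingCat.comp_apply]
      refine congrArg (fun g : Γ(↑W, ⊤) ⟶ Γ(X, W') => g.hom (v j)) ?_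
      exact (X.presheaf.map_comp _ _).symm.trans
        ((congrArg X.presheaf.map (Subsingleton.elim _ _)).trans (X.presheaf.map_comp _ _))
  rw [h2]
  refine RingHom.Etale.stableUnderComposition _ _ ?_
    (RingHom.Etale.stableUnderComposition _ _ hEt2 ?_)
  · refine RingHom.Etale.of_bijective ?_
    have hb : Function.Bijective (MvPolynomial.mapEquiv (ULift.{u} (Fin d))
        U.topIso.symm.commRingCatIsoToRingEquiv) := RingEquiv.bijective _
    exact hb
  · exact RingHom.Etale.of_bijective (ConcreteCategory.bijective_of_isIso W'.topIso.hom)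

theorem formallySmooth_eval₂_stalk {X S : Scheme.{u}} (f : X ⟶ S) (x : X) (W : X.Opens) (hxW : x ∈ W)
    {d : ℕ} (v : ULift.{u} (Fin d) → Γ(W, ⊤)) [Etale (AffineSpace.homOfVector (W.ι ≫ f) v)] :
    (MvPolynomial.eval₂Hom (f.stalkMap x).hom
      (fun j => (X.presheaf.germ W x hxW).hom (W.topIso.hom.hom (v j)))).FormallySmooth := by
  obtain ⟨_, ⟨U, hU : IsAffineOpen U, rfl⟩, hsU, -⟩ :=
    S.isBasis_affineOpens.exists_subset_of_mem_open (Set.mem_univ (f x)) isOpen_univ
  obtain ⟨_, ⟨W', hW' : IsAffineOpen W', rfl⟩, hxW', hW'le⟩ :=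
    X.isBasis_affineOpens.exists_subset_of_mem_open
      (show x ∈ ((W ⊓ f ⁻¹ᵁ U : X.Opens) : Set X) from ⟨hxW, hsU⟩) (W ⊓ f ⁻¹ᵁ U).2
  have hW'W : W' ≤ W := fun y hy => (hW'le hy).1
  have e : W' ≤ f ⁻¹ᵁ U := fun y hy => (hW'le hy).2
  have hψ := etale_eval₂_chart f W v hU hW' hW'W e
  have hψ' := ((RingHom.etale_iff_formallyUnramified_and_smooth _).mp hψ).2.formallySmooth
  letI : Algebra Γ(S, U) (S.presheaf.stalk (f x)) := (S.presheaf.germ U (f x) hsU).hom.toAlgebra
  haveI : IsLocalization.AtPrime (S.presheaf.stalk (f x)) (hU.primeIdealOf ⟨f x, hsU⟩).asIdeal :=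
    hU.isLocalization_stalk ⟨f x, hsU⟩
  have hα : (X.presheaf.germ W' x hxW').hom.FormallySmooth := by
    letI : Algebra Γ(X, W') (X.presheaf.stalk x) := (X.presheaf.germ W' x hxW').hom.toAlgebra
    haveI : IsLocalization.AtPrime (X.presheaf.stalk x) (hW'.primeIdealOf ⟨x, hxW'⟩).asIdeal :=
      hW'.isLocalization_stalk ⟨x, hxW'⟩
    exact Algebra.FormallySmooth.of_isLocalization (hW'.primeIdealOf ⟨x, hxW'⟩).asIdeal.primeCompl
  have hcomm : (f.stalkMap x).hom.comp (algebraMap Γ(S, U) (S.presheaf.stalk (f x))) =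
      (X.presheaf.germ W' x hxW').hom.comp (f.appLE U W' e).hom := by
    change (f.stalkMap x).hom.comp (S.presheaf.germ U (f x) hsU).hom = _
    rw [← CommRingCat.hom_comp, ← CommRingCat.hom_comp, Scheme.Hom.germ_stalkMap,
      Scheme.Hom.appLE, Category.assoc, TopCat.Presheaf.germ_res]
  have key := formallySmooth_eval₂_of_localization (hU.primeIdealOf ⟨f x, hsU⟩).asIdeal.primeCompl
    (f.appLE U W' e).hom
    (fun j => (X.presheaf.map (homOfLE hW'W).op).hom (W.topIso.hom.hom (v j))) hψ'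
    (X.presheaf.germ W' x hxW').hom hα (f.stalkMap x).hom hcomm
  convert key using 3
  rename_i j
  exact (TopCat.Presheaf.germ_res_apply X.presheaf (homOfLE hW'W) x hxW' _).symm

end Groth.Agent.Lib.Helper50
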