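import Mathlib

/-! Stalk maps of `Spec.map` of a formally smooth ring map and of `fromSpecStalk`. -/

namespace Groth.Agent.Lib.Helper50

open AlgebraicGeometry CategoryTheory

universe u

theorem formallySmooth_holdsForLocalization : RingHom.HoldsForLocalization @RingHom.FormallySmooth :=
  fun _ _ _ _ _ M _ => RingHom.formallySmooth_algebraMap.mpr (Algebra.FormallySmooth.of_isLocalization M)

/-- Stalk maps of `Spec.map ρ` are formally smooth when `ρ` is. -/
theorem formallySmooth_stalkMap_SpecMap {R K : CommRingCat.{u}} (ρ : R ⟶ K) (hρ : ρ.hom.FormallySmooth)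
    (p : Spec K) : ((Spec.map ρ).stalkMap p).hom.FormallySmooth := by
  rw [RingHom.FormallySmooth.respectsIso.arrow_mk_iso_iff (Scheme.arrowStalkMapSpecIso ρ p)]
  exact RingHom.HoldsForLocalization.localRingHom RingHom.FormallySmooth.stableUnderComposition
    RingHom.FormallySmooth.localizationPreserves formallySmooth_holdsForLocalization rfl hρ

/-- The stalk map of `fromSpecStalk` at the closed point is bijective, hence formally smooth. -/
theorem formallySmooth_stalkMap_fromSpecStalk {X : Scheme.{u}} (x : X)
    (y : Spec (X.presheaf.stalk x)) (hy : y = IsLocalRing.closedPoint (X.presheaf.stalk x)) :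
    ((X.fromSpecStalk x).stalkMap y).hom.FormallySmooth := by
  subst hy
  have h := Scheme.stalkClosedPointTo_fromSpecStalk x
  rw [Scheme.stalkClosedPointTo] at h
  have hiso : IsIso ((X.fromSpecStalk x).stalkMap (IsLocalRing.closedPoint (X.presheaf.stalk x))) := by
    have : (X.fromSpecStalk x).stalkMap (IsLocalRing.closedPoint (X.presheaf.stalk x)) =
        (X.presheaf.stalkCongr (by rw [Scheme.fromSpecStalk_closedPoint]; rfl)).hom ≫
          (stalkClosedPointIso _).inv := by
      rw [← h, Category.assoc, Iso.hom_inv_id, Category.comp_id]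
    rw [this]
    infer_instance
  exact RingHom.FormallySmooth.of_bijective (ConcreteCategory.bijective_of_isIso _)

end Groth.Agent.Lib.Helper50
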