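import Mathlib
import Groth.Agent.Lib.Helper50.Kummer1
import Groth.Agent.Lib.Helper50.Kummer3
import Groth.Agent.Lib.Helper50.Kummer4

/-! Kummer scheme over the local ring of a point with an étale chart to affine space is smooth over the base. -/

namespace Groth.Agent.Lib.Helper50

open AlgebraicGeometry CategoryTheory MvPolynomial

universe u

set_option maxHeartbeats 1000000 in
theorem formallySmooth_stalkMap_kummer {X S : Scheme.{u}} (f : X ⟶ S) (x : X) (W : X.Opens)
    (hxW : x ∈ W) {d : ℕ}
    (v : ULift.{u} (Fin d) → Γ(W, ⊤)) [Etale (AffineSpace.homOfVector (W.ι ≫ f) v)]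
    {ι : Type} (e : ι → Fin d) (he : Function.Injective e) (n : ι → ℕ)
    (a : ι → X.presheaf.stalk x)
    (ha : ∀ i, a i = (X.presheaf.germ W x hxW).hom (W.topIso.hom.hom (v (ULift.up (e i)))))
    (x' : Spec (CommRingCat.of (SGA1t.kummer (X.presheaf.stalk x) a n)))
    (hx' : (Spec.map (CommRingCat.ofHom (algebraMap (X.presheaf.stalk x)
      (SGA1t.kummer (X.presheaf.stalk x) a n)))).base x' = IsLocalRing.closedPoint (X.presheaf.stalk x)) :
    ((Spec.map (CommRingCat.ofHom (algebraMap (X.presheaf.stalk x)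
      (SGA1t.kummer (X.presheaf.stalk x) a n))) ≫ X.fromSpecStalk x ≫ f).stalkMap x').hom.FormallySmooth := by
  letI : Algebra (S.presheaf.stalk (f x)) (X.presheaf.stalk x) := (f.stalkMap x).hom.toAlgebra
  let Ψ : MvPolynomial (ULift.{u} (Fin d)) (S.presheaf.stalk (f x)) →+* X.presheaf.stalk x :=
    MvPolynomial.eval₂Hom (f.stalkMap x).hom
      (fun j => (X.presheaf.germ W x hxW).hom (W.topIso.hom.hom (v j)))
  letI : Algebra (MvPolynomial (ULift.{u} (Fin d)) (S.presheaf.stalk (f x))) (X.presheaf.stalk x) :=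
    Ψ.toAlgebra
  haveI : IsScalarTower (S.presheaf.stalk (f x))
      (MvPolynomial (ULift.{u} (Fin d)) (S.presheaf.stalk (f x))) (X.presheaf.stalk x) :=
    IsScalarTower.of_algebraMap_eq fun r => by
      change (f.stalkMap x).hom r = Ψ (C r)
      simp only [Ψ, coe_eval₂Hom, eval₂_C]
  haveI : Algebra.FormallySmooth (MvPolynomial (ULift.{u} (Fin d)) (S.presheaf.stalk (f x)))
      (X.presheaf.stalk x) := formallySmooth_eval₂_stalk f x W hxW v
  have haa : a = fun i => algebraMap (MvPolynomial (ULift.{u} (Fin d)) (S.presheaf.stalk (f x)))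
      (X.presheaf.stalk x) (MvPolynomial.X (ULift.up (e i))) := by
    funext i
    rw [ha i]
    change _ = Ψ (MvPolynomial.X (ULift.up (e i)))
    simp only [Ψ, coe_eval₂Hom, eval₂_X]
  subst haa
  have hK := formallySmooth_kummer (R := S.presheaf.stalk (f x)) (A := X.presheaf.stalk x)
    (σ := ULift.{u} (Fin d)) (fun i => ULift.up (e i))
    (fun i j hij => he (ULift.up_injective hij)) n
  set K := SGA1t.kummer (X.presheaf.stalk x) (fun i => algebraMap
    (MvPolynomial (ULift.{u} (Fin d)) (S.presheaf.stalk (f x)))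
      (X.presheaf.stalk x) (MvPolynomial.X (ULift.up (e i)))) n with hKdef
  let ρ : S.presheaf.stalk (f x) ⟶ CommRingCat.of K :=
    f.stalkMap x ≫ CommRingCat.ofHom (algebraMap (X.presheaf.stalk x) K)
  have hρ : ρ.hom.FormallySmooth := by
    have : ρ.hom = algebraMap (S.presheaf.stalk (f x)) K := by
      rw [IsScalarTower.algebraMap_eq (S.presheaf.stalk (f x)) (X.presheaf.stalk x) K]
      rfl
    rw [this]
    exact RingHom.formallySmooth_algebraMap.mpr hK
  have heq : Spec.map (CommRingCat.ofHom (algebraMap (X.presheaf.stalk x) K)) ≫ X.fromSpecStalk x ≫ f =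
      Spec.map ρ ≫ S.fromSpecStalk (f x) := by
    rw [← Scheme.SpecMap_stalkMap_fromSpecStalk, ← Spec.map_comp_assoc]
    rfl
  have key : ∀ (h' : Spec (CommRingCat.of K) ⟶ S), h' = Spec.map ρ ≫ S.fromSpecStalk (f x) →
      (h'.stalkMap x').hom.FormallySmooth := by
    rintro _ rfl
    rw [Scheme.Hom.stalkMap_comp]
    change ((Scheme.Hom.stalkMap (Spec.map ρ) x').hom.comp
      (Scheme.Hom.stalkMap (S.fromSpecStalk (f x)) ((Spec.map ρ) x')).hom).FormallySmooth
    refine RingHom.FormallySmooth.comp ?_ (formallySmooth_stalkMap_SpecMap ρ hρ x')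
    refine formallySmooth_stalkMap_fromSpecStalk (f x) _ ?_
    have h1 : Spec.map ρ = Spec.map (CommRingCat.ofHom (algebraMap (X.presheaf.stalk x) K)) ≫
        Spec.map (f.stalkMap x) := Spec.map_comp _ _
    rw [h1, Scheme.Hom.comp_apply, hx']
    exact IsLocalRing.comap_closedPoint (f.stalkMap x).hom
  exact key _ heq

end Groth.Agent.Lib.Helper50
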