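import Mathlib
import Groth.Prelude
import Groth.Agent.Lib.Helper50.NoEmbProd
import Groth.Agent.Lib.Helper50.NoEmbSch

/-!
# Affine charts of a product over a field (helper50)
-/

universe u

open CategoryTheory AlgebraicGeometry Limits TensorProduct

namespace Groth.Agent.Lib.Helper50

set_option backward.isDefEq.respectTransparency.types false in
/-- Affine charts `Spec (Γ(X,U) ⊗[k] Γ(Y,V))` of `X ×ₖ Y`. -/
theorem exists_chart_prod {X Y : Scheme.{u}} {k : Type u} [Field k]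
    (f : X ⟶ Spec (CommRingCat.of k)) (g : Y ⟶ Spec (CommRingCat.of k))
    {U : X.Opens} (hU : IsAffineOpen U) {V : Y.Opens} (hV : IsAffineOpen V) :
    ∃ (φ : k →+* Γ(X, U)) (ψ : k →+* Γ(Y, V)) (W : (pullback f g).Opens), IsAffineOpen W ∧
      (∀ z : ↥(pullback f g), pullback.fst f g z ∈ U → pullback.snd f g z ∈ V → z ∈ W) ∧
      Nonempty (Γ(pullback f g, W) ≃+*
        (letI := φ.toAlgebra; letI := ψ.toAlgebra; Γ(X, U) ⊗[k] Γ(Y, V))) := by
  let φ : k →+* Γ(X, U) := (Spec.preimage (hU.fromSpec ≫ f)).hom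
  let ψ : k →+* Γ(Y, V) := (Spec.preimage (hV.fromSpec ≫ g)).hom
  have hφ : Spec.map (CommRingCat.ofHom φ) = hU.fromSpec ≫ f := by simp [φ]
  have hψ : Spec.map (CommRingCat.ofHom ψ) = hV.fromSpec ≫ g := by simp [ψ]
  letI := φ.toAlgebra
  letI := ψ.toAlgebra
  let m : pullback (hU.fromSpec ≫ f) (hV.fromSpec ≫ g) ⟶ pullback f g :=
    pullback.map (hU.fromSpec ≫ f) (hV.fromSpec ≫ g) f g hU.fromSpec hV.fromSpec (𝟙 _)
      (by simp) (by simp)
  let eW : pullback (hU.fromSpec ≫ f) (hV.fromSpec ≫ g) ≅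
      Spec (CommRingCat.of (Γ(X, U) ⊗[k] Γ(Y, V))) :=
    pullback.congrHom hφ.symm hψ.symm ≪≫ pullbackSpecIso k Γ(X, U) Γ(Y, V)
  let j' : Spec (CommRingCat.of (Γ(X, U) ⊗[k] Γ(Y, V))) ⟶ pullback f g := eW.inv ≫ m
  haveI : IsOpenImmersion j' := inferInstance
  refine ⟨φ, ψ, j' ''ᵁ ⊤, (isAffineOpen_top _).image_of_isOpenImmersion j', ?_,
    ⟨(j'.appIso ⊤ ≪≫ Scheme.ΓSpecIso _).commRingCatIsoToRingEquiv⟩⟩
  intro z hzU hzV
  have hz : z ∈ Set.range m := by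
    rw [Scheme.Pullback.range_map]
    refine ⟨?_, ?_⟩
    · rw [Set.mem_preimage, hU.range_fromSpec]; exact hzU
    · rw [Set.mem_preimage, hV.range_fromSpec]; exact hzV
  obtain ⟨w, rfl⟩ := hz
  refine ⟨eW.hom w, trivial, ?_⟩
  change (eW.inv ≫ m) (eW.hom w) = m w
  rw [Scheme.Hom.comp_apply, Scheme.hom_inv_apply]

end Groth.Agent.Lib.Helper50
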