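import Mathlib

/-! Integrality lemmas for the inductive step of refined Noether normalization (helper50) -/

set_option autoImplicit false

open Polynomial

namespace Groth.Agent.Lib.Helper50

/-- `B[X]` is integral over `B[p]` when `p` has invertible leading coefficient and positive
degree. -/
theorem compRingHom_isIntegral {B : Type*} [CommRing B] (p : B[X]) (hu : IsUnit p.leadingCoeff)
    (hd : 0 < p.natDegree) : (Polynomial.compRingHom p).IsIntegral := by
  set Φ := Polynomial.compRingHom p with hΦ
  have hΦC : ∀ b : B, Φ (C b) = C b := fun b => by simp [hΦ]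
  have hΦX : Φ X = p := by simp [hΦ]
  -- X is integral
  have hX : Φ.IsIntegralElem X := by
    obtain ⟨u, hu'⟩ := hu
    let P0 : B[X][X] := p.map (C : B →+* B[X]) - C (X : B[X])
    have hdeg : (C (X : B[X]) : B[X][X]).degree < (p.map (C : B →+* B[X])).degree := by
      rw [degree_map_eq_of_injective (C_injective)]
      refine lt_of_le_of_lt degree_C_le ?_
      rw [degree_eq_natDegree (by intro h; simp [h] at hd)]
      exact_mod_cast hd
    have hlc : P0.leadingCoeff = C (p.leadingCoeff) := by
      rw [leadingCoeff_sub_of_degree_lt hdeg, leadingCoeff_map_of_injective C_injective]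
    refine ⟨C (C (↑u⁻¹ : B)) * P0, ?_, ?_⟩
    · apply monic_C_mul_of_mul_leadingCoeff_eq_one
      rw [hlc, ← C_mul, ← hu', Units.inv_mul, C_1]
    · rw [eval₂_mul]
      have : eval₂ Φ X P0 = 0 := by
        simp only [P0, eval₂_sub, eval₂_C, hΦX, eval₂_map]
        have : Φ.comp (C : B →+* B[X]) = C := by
          ext b; simp [hΦC]
        rw [this, eval₂_C_X, sub_self]
      rw [this, mul_zero]
  intro q
  induction q using Polynomial.induction_on' with
  | add a b ha hb => exact RingHom.IsIntegralElem.add _ ha hb
  | monomial m a =>
    rw [← C_mul_X_pow_eq_monomial]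
    refine RingHom.IsIntegralElem.mul _ ?_ ?_
    · rw [← hΦC]; exact RingHom.isIntegralElem_map _
    · letI := Φ.toAlgebra
      exact IsIntegral.pow hX m

/-- Base change of an integral ring hom to polynomial rings is integral. -/
theorem mapRingHom_isIntegral {B B' : Type*} [CommRing B] [CommRing B'] (α : B →+* B')
    (hα : α.IsIntegral) : (Polynomial.mapRingHom α).IsIntegral := by
  intro q
  induction q using Polynomial.induction_on' with
  | add a b ha hb => exact RingHom.IsIntegralElem.add _ ha hb
  | monomial m a =>
    rw [← C_mul_X_pow_eq_monomial]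
    refine RingHom.IsIntegralElem.mul _ ?_ ?_
    · obtain ⟨P, hP, hPa⟩ := hα a
      refine ⟨P.map C, hP.map _, ?_⟩
      rw [eval₂_map]
      have : (Polynomial.mapRingHom α).comp (C : B →+* B[X]) = (C : B' →+* B'[X]).comp α := by
        ext b; simp
      rw [this, ← Polynomial.hom_eval₂, hPa, map_zero]
    · have : (X : B'[X]) ^ m = Polynomial.mapRingHom α (X ^ m) := by simp
      rw [this]; exact RingHom.isIntegralElem_map _

end Groth.Agent.Lib.Helper50
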