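import Mathlib
import Groth.Agent.Lib.Helper50.NoethMonic
import Groth.Agent.Lib.Helper50.NoethStep
import Groth.Agent.Lib.Helper55.KrullDimIntegral

/-! Refined Noether normalization: generators adapted to a chain of primes in a polynomial
ring (helper50) -/

set_option autoImplicit false

open Polynomial

namespace Groth.Agent.Lib.Helper50

universe u

theorem withBot_enat_cancel (D : WithBot ℕ∞) (a b : ℕ)
    (h : D + ((a + 1 : ℕ) : WithBot ℕ∞) ≤ ((b + 1 : ℕ) : WithBot ℕ∞)) :
    D + (a : WithBot ℕ∞) ≤ (b : WithBot ℕ∞) := by
  induction D using WithBot.recBotCoe with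
  | bot => simp
  | coe e =>
    induction e using ENat.recTopCoe with
    | top =>
      exfalso
      have h1 : ((⊤ : ℕ∞) : WithBot ℕ∞) + ((a + 1 : ℕ) : WithBot ℕ∞) = ((⊤ : ℕ∞) : WithBot ℕ∞) := by
        rw [show ((a + 1 : ℕ) : WithBot ℕ∞) = (((a + 1 : ℕ) : ℕ∞) : WithBot ℕ∞) from rfl,
          ← WithBot.coe_add, top_add]
      rw [h1, show ((b + 1 : ℕ) : WithBot ℕ∞) = (((b + 1 : ℕ) : ℕ∞) : WithBot ℕ∞) from rfl,
        WithBot.coe_le_coe] at h
      exact absurd h (by simp)
    | coe m =>
      have h2 : (((m : ℕ∞) : WithBot ℕ∞)) = ((m : ℕ) : WithBot ℕ∞) := rfl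
      rw [h2] at h ⊢
      have : m + (a + 1) ≤ b + 1 := by exact_mod_cast h
      have : m + a ≤ b := by omega
      exact_mod_cast this

theorem mvPolynomial_ringKrullDim_fin (k : Type u) [Field k] (n : ℕ) :
    ringKrullDim (MvPolynomial (Fin n) k) = n := by
  rw [MvPolynomial.ringKrullDim_of_isNoetherianRing, ringKrullDim_eq_zero_of_field, zero_add,
    Nat.card_eq_fintype_card, Fintype.card_fin]

/-- **Adapted generators**: for a monotone family of primes `q i` in `k[X_0..X_{n-1}]` with
`dim (k[X]/q i) + h i ≤ n`, there are `y_0, …, y_{n-1}` such that `k[X]` is integral over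
`k[y]` and `y_l ∈ q i` whenever `l < h i`. -/
theorem exists_adapted_generators (k : Type u) [Field k] : ∀ (n : ℕ) (r : ℕ)
    (q : Fin r → Ideal (MvPolynomial (Fin n) k)) (_ : Monotone q) (_ : ∀ i, (q i).IsPrime)
    (h : Fin r → ℕ)
    (_ : ∀ i, ringKrullDim (MvPolynomial (Fin n) k ⧸ q i) + (h i : WithBot ℕ∞) ≤ n),
    ∃ y : Fin n → MvPolynomial (Fin n) k,
      (MvPolynomial.aeval y : MvPolynomial (Fin n) k →ₐ[k] MvPolynomial (Fin n) k).toRingHom.IsIntegral ∧
      ∀ i (l : Fin n), (l : ℕ) < h i → y l ∈ q i := by
  intro n
  induction n with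
  | zero =>
    intro r q _ _ h _
    refine ⟨MvPolynomial.X, ?_, fun i l => l.elim0⟩
    rw [MvPolynomial.aeval_X_left]
    exact RingHom.isIntegral_of_surjective _ Function.surjective_id
  | succ n ih =>
    intro r q hq hp h hdim
    by_cases hall : ∀ i, h i = 0
    · refine ⟨MvPolynomial.X, ?_, fun i l hl => ?_⟩
      · rw [MvPolynomial.aeval_X_left]
        exact RingHom.isIntegral_of_surjective _ Function.surjective_id
      · rw [hall i] at hl; exact absurd hl (Nat.not_lt_zero _)
    · push Not at hall
      set R := MvPolynomial (Fin (n + 1)) k with hR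
      set R' := MvPolynomial (Fin n) k with hR'
      -- minimal index with h ≠ 0
      have hne : (Finset.univ.filter (fun i => h i ≠ 0)).Nonempty := by
        obtain ⟨i, hi⟩ := hall
        exact ⟨i, by simp [hi]⟩
      set i0 := (Finset.univ.filter (fun i => h i ≠ 0)).min' hne with hi0
      have hi0mem : h i0 ≠ 0 := by
        have := Finset.min'_mem _ hne
        simpa using this
      have hi0le : ∀ i, h i ≠ 0 → q i0 ≤ q i := fun i hi =>
        hq (Finset.min'_le _ i (by simp [hi]))
      have hprime0 : (q i0).IsPrime := hp i0
      have hq0 : q i0 ≠ ⊥ := by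
        intro hbot
        have h1 := hdim i0
        rw [hbot, ringKrullDim_eq_of_ringEquiv (RingEquiv.quotientBot R),
          mvPolynomial_ringKrullDim_fin] at h1
        have h2 : (n + 1) + h i0 ≤ n + 1 := by exact_mod_cast h1
        omega
      obtain ⟨f, hfq, hf0⟩ := Submodule.exists_mem_ne_zero_of_ne_bot hq0
      obtain ⟨σ, hσ⟩ := exists_algEquiv_isUnit_leadingCoeff f hf0
      set θ : R ≃ₐ[k] R'[X] := σ.trans (MvPolynomial.finSuccEquiv k n) with hθ
      set p : R'[X] := θ f with hp'
      have hu : IsUnit p.leadingCoeff := hσ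
      have hd : 0 < p.natDegree := by
        by_contra hcon
        have h0 : p.natDegree = 0 := by omega
        have hpC : p = C (p.coeff 0) := eq_C_of_natDegree_eq_zero h0
        have hlc : p.leadingCoeff = p.coeff 0 := by
          rw [leadingCoeff, h0]
        have hpu : IsUnit p := by
          rw [hpC]; exact (hlc ▸ hu).map C
        have hfu : IsUnit f := by
          have := hpu.map θ.symm
          simpa [hp'] using this
        exact hprime0.ne_top (Ideal.eq_top_of_isUnit_mem _ hfq hfu)
      -- the inclusion of the smaller polynomial ring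
      set ι : R' →+* R := (θ.symm : R'[X] →+* R).comp C with hι
      set Ψ : R'[X] →+* R := (θ.symm : R'[X] →+* R).comp (Polynomial.compRingHom p) with hΨ
      have hΨint : Ψ.IsIntegral :=
        RingHom.IsIntegral.trans _ _ (compRingHom_isIntegral p hu hd)
          (RingHom.isIntegral_of_surjective _ θ.symm.surjective)
      have hΨC : ∀ b, Ψ (C b) = ι b := fun b => by simp [hΨ, hι]
      have hΨX : Ψ X = f := by simp [hΨ, hp']
      -- the contracted primes
      set q' : Fin r → Ideal R' := fun i => (q i).comap ι with hq'
      have hq'mono : Monotone q' := fun i j hij => Ideal.comap_mono (hq hij)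
      have hp'prime : ∀ i, (q' i).IsPrime := fun i => by
        have := hp i
        exact Ideal.comap_isPrime ι (q i)
      have hdim' : ∀ i, ringKrullDim (R' ⧸ q' i) + ((h i - 1 : ℕ) : WithBot ℕ∞) ≤ n := by
        intro i
        by_cases hi : h i = 0
        · rw [hi]
          simp only [zero_tsub, Nat.cast_zero, add_zero]
          exact (ringKrullDim_quotient_le _).trans (mvPolynomial_ringKrullDim_fin k n).le
        · have hfi : f ∈ q i := hi0le i hi hfq
          have heq : ringKrullDim (R ⧸ q i) = ringKrullDim (R' ⧸ q' i) := by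
            refine Groth.Agent.Lib.Helper55.ringKrullDim_eq_of_ringHom_isIntegral_of_injective
              (Ideal.quotientMap (q i) ι le_rfl) ?_ (Ideal.quotientMap_injective)
            have hcomp : (Ideal.quotientMap (q i) ι le_rfl).comp
                ((Ideal.Quotient.mk (q' i)).comp (Polynomial.evalRingHom (0 : R'))) =
                (Ideal.Quotient.mk (q i)).comp Ψ := by
              apply Polynomial.ringHom_ext
              · intro b
                simp only [RingHom.comp_apply, Polynomial.coe_evalRingHom, Polynomial.eval_C, hΨC]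
                exact Ideal.quotientMap_mk
              · simp [hΨX, Ideal.Quotient.eq_zero_iff_mem.mpr hfi]
            have hint : ((Ideal.Quotient.mk (q i)).comp Ψ).IsIntegral :=
              RingHom.IsIntegral.trans _ _ hΨint
                (RingHom.isIntegral_of_surjective _ Ideal.Quotient.mk_surjective)
            rw [← hcomp] at hint
            exact RingHom.IsIntegral.tower_top _ _ hint
          have h1 := hdim i
          rw [heq] at h1
          obtain ⟨a, ha⟩ : ∃ a, h i = a + 1 := ⟨h i - 1, by omega⟩
          rw [ha] at h1 ⊢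
          simp only [add_tsub_cancel_right]
          exact withBot_enat_cancel _ a n (by exact_mod_cast h1)
      obtain ⟨y', hy'int, hy'mem⟩ := ih r q' hq'mono hp'prime (fun i => h i - 1) hdim'
      refine ⟨Fin.cons f (fun l => ι (y' l)), ?_, ?_⟩
      · -- integrality
        set α' : R' →+* R' := (MvPolynomial.aeval y' : R' →ₐ[k] R').toRingHom with hα'
        have hfac : (MvPolynomial.aeval (Fin.cons f (fun l => ι (y' l)) : Fin (n + 1) → R) :
            R →ₐ[k] R).toRingHom =
            Ψ.comp ((Polynomial.mapRingHom α').comp
              ((MvPolynomial.finSuccEquiv k n : R ≃ₐ[k] R'[X]) : R →+* R'[X])) := by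
          apply MvPolynomial.ringHom_ext
          · intro c
            simp only [AlgHom.toRingHom_eq_coe, RingHom.coe_coe, MvPolynomial.aeval_C,
              RingHom.coe_comp, Function.comp_apply, MvPolynomial.algebraMap_eq]
            rw [MvPolynomial.finSuccEquiv_apply]
            simp only [MvPolynomial.eval₂Hom_C, RingHom.coe_comp, Function.comp_apply,
              Polynomial.coe_mapRingHom, Polynomial.map_C, hΨC]
            simp [hα', hι]
            rw [MvPolynomial.aeval_C]
          · intro j
            refine Fin.cases ?_ (fun j' => ?_) j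
            · simp [MvPolynomial.finSuccEquiv_X_zero, hΨX]
            · simp [MvPolynomial.finSuccEquiv_X_succ, hΨC, hα']
              rw [MvPolynomial.aeval_X]
        rw [hfac]
        refine RingHom.IsIntegral.trans _ _ ?_ hΨint
        refine RingHom.IsIntegral.trans _ _ ?_ (mapRingHom_isIntegral α' hy'int)
        exact RingHom.isIntegral_of_surjective _ (MvPolynomial.finSuccEquiv k n).surjective
      · intro i l hl
        refine Fin.cases ?_ (fun l' => ?_) l hl
        · intro h0
          have hi : h i ≠ 0 := by
            simp at h0; omega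
          simpa using hi0le i hi hfq
        · intro hl'
          have : (l' : ℕ) < h i - 1 := by
            simp at hl'; omega
          exact hy'mem i l' this

end Groth.Agent.Lib.Helper50
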