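import Mathlib

/-! A going-down step between two primes, relative to a smaller prime (helper50) -/

set_option autoImplicit false

namespace Groth.Agent.Lib.Helper50

theorem exists_prime_between_of_goingDown {R A : Type*} [CommRing R] [CommRing A]
    (φ : R →+* A) (hφ : φ.IsIntegral) (Q₀ Q₂ : Ideal A) [Q₀.IsPrime] [Q₂.IsPrime] (h02 : Q₀ ≤ Q₂)
    (hnorm : IsIntegrallyClosed (R ⧸ Q₀.comap φ))
    (𝔭₁ : Ideal R) [𝔭₁.IsPrime] (h01 : Q₀.comap φ ≤ 𝔭₁) (h12 : 𝔭₁ < Q₂.comap φ) :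
    ∃ Q₁ : Ideal A, Q₁.IsPrime ∧ Q₀ ≤ Q₁ ∧ Q₁ < Q₂ ∧ Q₁.comap φ = 𝔭₁ := by
  set 𝔭₀ := Q₀.comap φ with h𝔭₀
  set ψ : R ⧸ 𝔭₀ →+* A ⧸ Q₀ := Ideal.quotientMap Q₀ φ le_rfl with hψ
  have hψinj : Function.Injective ψ := Ideal.quotientMap_injective
  have hψint : ψ.IsIntegral := RingHom.IsIntegral.quotient φ hφ
  letI : Algebra (R ⧸ 𝔭₀) (A ⧸ Q₀) := ψ.toAlgebra
  haveI : Algebra.IsIntegral (R ⧸ 𝔭₀) (A ⧸ Q₀) := ⟨hψint⟩
  haveI : FaithfulSMul (R ⧸ 𝔭₀) (A ⧸ Q₀) := (faithfulSMul_iff_algebraMap_injective _ _).mpr hψinj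
  haveI : 𝔭₀.IsPrime := Ideal.comap_isPrime φ Q₀
  set mkA := Ideal.Quotient.mk Q₀ with hmkA
  set mkR := Ideal.Quotient.mk 𝔭₀ with hmkR
  have hcomm : ψ.comp mkR = mkA.comp φ := Ideal.quotientMap_comp_mk le_rfl
  have hcmR : ∀ I : Ideal R, 𝔭₀ ≤ I → (I.map mkR).comap mkR = I := by
    intro I hI
    rw [Ideal.comap_map_of_surjective _ Ideal.Quotient.mk_surjective, ← RingHom.ker_eq_comap_bot,
      Ideal.mk_ker, sup_eq_left.mpr hI]
  have hcmA : ∀ I : Ideal A, Q₀ ≤ I → (I.map mkA).comap mkA = I := by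
    intro I hI
    rw [Ideal.comap_map_of_surjective _ Ideal.Quotient.mk_surjective, ← RingHom.ker_eq_comap_bot,
      Ideal.mk_ker, sup_eq_left.mpr hI]
  set Q2 : Ideal (A ⧸ Q₀) := Q₂.map mkA with hQ2
  haveI : Q2.IsPrime := Ideal.map_isPrime_of_surjective Ideal.Quotient.mk_surjective
    (by rw [Ideal.mk_ker]; exact h02)
  set p1 : Ideal (R ⧸ 𝔭₀) := 𝔭₁.map mkR with hp1
  haveI : p1.IsPrime := Ideal.map_isPrime_of_surjective Ideal.Quotient.mk_surjective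
    (by rw [Ideal.mk_ker]; exact h01)
  have h02' : 𝔭₀ ≤ Q₂.comap φ := Ideal.comap_mono h02
  haveI : (Q₂.comap φ).IsPrime := Ideal.comap_isPrime φ Q₂
  set p2 : Ideal (R ⧸ 𝔭₀) := (Q₂.comap φ).map mkR with hp2
  haveI : p2.IsPrime := Ideal.map_isPrime_of_surjective Ideal.Quotient.mk_surjective
    (by rw [Ideal.mk_ker]; exact h02')
  have hover : Q2.comap ψ = p2 := by
    apply Ideal.comap_injective_of_surjective mkR Ideal.Quotient.mk_surjective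
    rw [Ideal.comap_comap, hcomm, ← Ideal.comap_comap, hcmA Q₂ h02, hcmR _ h02']
  haveI : Q2.LiesOver p2 := ⟨hover.symm⟩
  have hlt : p1 < p2 := by
    refine lt_of_le_of_ne (Ideal.map_mono h12.le) (fun h => h12.ne ?_)
    have := congrArg (Ideal.comap mkR) h
    rwa [hcmR _ h01, hcmR _ h02'] at this
  obtain ⟨P, hPlt, hPprime, hPover⟩ :=
    Ideal.exists_ideal_lt_liesOver_of_lt (p := p1) (q := p2) Q2 hlt
  have hPcomap : (P.comap mkA).comap φ = 𝔭₁ := by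
    rw [Ideal.comap_comap, ← hcomm, ← Ideal.comap_comap]
    have : P.comap ψ = p1 := hPover.over.symm
    rw [this, hcmR _ h01]
  refine ⟨P.comap mkA, Ideal.comap_isPrime _ _, ?_, ?_, hPcomap⟩
  · intro x hx
    rw [Ideal.mem_comap, Ideal.Quotient.eq_zero_iff_mem.mpr hx]
    exact P.zero_mem
  · have hle : P.comap mkA ≤ Q₂ := by
      have := Ideal.comap_mono (f := mkA) hPlt.le
      rwa [hcmA Q₂ h02] at this
    refine lt_of_le_of_ne hle (fun h => h12.ne ?_)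
    rw [← hPcomap, h]

end Groth.Agent.Lib.Helper50
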