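import Mathlib
import Groth.Agent.Lib.Helper50.NoethAdapted

/-! Quotient of a polynomial ring by an ideal generated by variables (helper50) -/

set_option autoImplicit false

namespace Groth.Agent.Lib.Helper50

open MvPolynomial

theorem ker_killCompl {σ τ R : Type*} [CommRing R] {f : τ → σ} (hf : Function.Injective f) :
    RingHom.ker (killCompl (R := R) hf) = Ideal.span (X '' (Set.range f)ᶜ) := by
  classical
  ext x
  rw [RingHom.mem_ker, mem_ideal_span_X_image]
  constructor
  · intro hx m hm
    by_contra hcon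
    push Not at hcon
    have hsub : (m.support : Set σ) ⊆ Set.range f := by
      intro i hi
      by_contra hi'
      exact (Finsupp.mem_support_iff.mp hi) (hcon i hi')
    have hm' : m = (m.comapDomain f hf.injOn).mapDomain f :=
      (Finsupp.mapDomain_comapDomain f hf m hsub).symm
    have h1 : coeff (m.comapDomain f hf.injOn) (killCompl hf x) = coeff m x := by
      rw [coeff_killCompl, ← hm']
    rw [hx, coeff_zero] at h1
    exact (mem_support_iff.mp hm) h1.symm
  · intro hx
    ext s
    rw [coeff_killCompl, coeff_zero]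
    by_contra hne
    obtain ⟨i, hi, hi'⟩ := hx _ (mem_support_iff.mpr hne)
    exact hi' (Finsupp.mapDomain_of_notMem_range _ _ hi)

/-- `R[σ]/(X_i : i ∈ s) ≃ R[sᶜ]`. -/
noncomputable def quotientSpanXEquiv {σ : Type*} (R : Type*) [CommRing R] (s : Set σ) :
    (MvPolynomial σ R ⧸ Ideal.span (X '' s : Set (MvPolynomial σ R))) ≃ₐ[R]
      MvPolynomial {i : σ // i ∉ s} R :=
  (Ideal.quotientEquivAlgOfEq R (by
    rw [ker_killCompl (R := R) (f := (Subtype.val : {i : σ // i ∉ s} → σ)) Subtype.val_injective]
    congr 2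
    ext i
    simp)).trans
  (Ideal.quotientKerAlgEquivOfRightInverse (f := killCompl (R := R)
    (f := (Subtype.val : {i : σ // i ∉ s} → σ)) Subtype.val_injective)
    (g := rename Subtype.val) (killCompl_rename_app _))

theorem quotientSpanXEquiv_mk {σ : Type*} (R : Type*) [CommRing R] (s : Set σ)
    (x : MvPolynomial σ R) :
    quotientSpanXEquiv R s (Ideal.Quotient.mk _ x) =
      killCompl (f := (Subtype.val : {i : σ // i ∉ s} → σ)) Subtype.val_injective x := rfl

universe u

theorem ringKrullDim_quotient_span_X_lt (k : Type u) [Field k] (d h : ℕ) (hh : h ≤ d) :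
    ringKrullDim (MvPolynomial (Fin d) k ⧸
      Ideal.span (X '' {l : Fin d | (l : ℕ) < h} : Set (MvPolynomial (Fin d) k))) =
      ((d - h : ℕ) : WithBot ℕ∞) := by
  rw [ringKrullDim_eq_of_ringEquiv (quotientSpanXEquiv k {l : Fin d | (l : ℕ) < h}).toRingEquiv,
    MvPolynomial.ringKrullDim_of_isNoetherianRing, ringKrullDim_eq_zero_of_field, zero_add,
    Nat.card_eq_fintype_card]
  congr 1
  have h1 : Fintype.card {i : Fin d // i ∉ {l : Fin d | (l : ℕ) < h}} =
      Fintype.card (Fin d) - Fintype.card {i : Fin d // i ∈ {l : Fin d | (l : ℕ) < h}} :=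
    Fintype.card_subtype_compl _
  rw [h1, Fintype.card_fin, Fintype.card_subtype]
  have h2 : (Finset.univ.filter (fun i : Fin d => i ∈ {l : Fin d | (l : ℕ) < h})).card = min d h := by
    simpa using Fin.card_filter_val_lt (n := d) (m := h)
  rw [h2, min_eq_right hh]

instance isDomain_quotient_span_X (k : Type u) [Field k] (d : ℕ) (s : Set (Fin d)) :
    IsDomain (MvPolynomial (Fin d) k ⧸ Ideal.span (X '' s : Set (MvPolynomial (Fin d) k))) :=
  (quotientSpanXEquiv k s).toRingEquiv.toMulEquiv.isDomain _

end Groth.Agent.Lib.Helper50
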