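import Mathlib
import Groth.Agent.Lib.Helper50.NoethKill
import Groth.Agent.Lib.Helper50.NoethGD

/-! Refined Noether normalization, chain-extension part (helper50) -/

set_option autoImplicit false

namespace Groth.Agent.Lib.Helper50

open MvPolynomial

universe u

section spanX

variable (k : Type u) [Field k] (d : ℕ)

/-- the ideal `(X_l : l < j)` -/
noncomputable abbrev spanXlt (j : ℕ) : Ideal (MvPolynomial (Fin d) k) :=
  Ideal.span (MvPolynomial.X '' {l : Fin d | (l : ℕ) < j})

theorem spanXlt_mono {j j' : ℕ} (hjj : j ≤ j') : spanXlt k d j ≤ spanXlt k d j' :=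
  Ideal.span_mono (Set.image_mono (fun l (hl : (l : ℕ) < j) => lt_of_lt_of_le hl hjj))

theorem spanXlt_lt {j : ℕ} (hj : j < d) : spanXlt k d j < spanXlt k d (j + 1) := by
  classical
  refine lt_of_le_of_ne (spanXlt_mono k d (Nat.le_succ j)) (fun heq => ?_)
  have h1 : (X ⟨j, hj⟩ : MvPolynomial (Fin d) k) ∈ spanXlt k d (j + 1) :=
    Ideal.subset_span ⟨⟨j, hj⟩, by simp, rfl⟩
  rw [← heq, spanXlt, mem_ideal_span_X_image] at h1
  obtain ⟨i, hi, hi'⟩ := h1 (Finsupp.single ⟨j, hj⟩ 1) (by
    rw [X, support_monomial]; simp)
  have : i = ⟨j, hj⟩ := by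
    by_contra hne
    exact hi' (Finsupp.single_eq_of_ne hne)
  rw [this] at hi
  simp at hi

theorem spanXlt_zero : spanXlt k d 0 = ⊥ := by
  simp [spanXlt]

instance spanXlt_isPrime (j : ℕ) : (spanXlt k d j).IsPrime :=
  (Ideal.Quotient.isDomain_iff_prime _).mp (isDomain_quotient_span_X k d _)

instance isIntegrallyClosed_quotient_spanXlt (j : ℕ) :
    IsIntegrallyClosed (MvPolynomial (Fin d) k ⧸ spanXlt k d j) :=
  IsIntegrallyClosed.of_equiv
    (quotientSpanXEquiv k {l : Fin d | (l : ℕ) < j}).symm.toRingEquiv

end spanX

theorem exists_chain_of_refined (k A : Type u) [Field k] [CommRing A] [IsDomain A] [Algebra k A]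
    (d : ℕ) (r : ℕ) (q : Fin r → PrimeSpectrum A) (hq : StrictMono q) (h : Fin r → ℕ)
    (hh : ∀ i, h i ≤ d)
    (φ : MvPolynomial (Fin d) k →ₐ[k] A) (hfin : φ.toRingHom.Finite) (hinj : Function.Injective φ)
    (hcomap : ∀ i, (q i).asIdeal.comap φ =
      Ideal.span (MvPolynomial.X '' {l : Fin d | (l : ℕ) < h i})) :
    ∃ Q : ℕ → PrimeSpectrum A,
      (∀ j, j ≤ d → (Q j).asIdeal.comap φ =
        Ideal.span (MvPolynomial.X '' {l : Fin d | (l : ℕ) < j})) ∧
      (∀ j, j < d → Q j < Q (j + 1)) ∧ (∀ i, Q (h i) = q i) := by
  classical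
  set R := MvPolynomial (Fin d) k with hR
  set f : R →+* A := φ.toRingHom with hf
  have hfint : f.IsIntegral := RingHom.IsIntegral.of_finite hfin
  have hcomap' : ∀ i, (q i).asIdeal.comap f = spanXlt k d (h i) := hcomap
  -- incomparability
  have hincomp : ∀ {I J : Ideal A} [I.IsPrime], I < J → I.comap f < J.comap f := by
    intro I J _ hIJ
    letI : Algebra R A := f.toAlgebra
    haveI : Algebra.IsIntegral R A := ⟨hfint⟩
    exact Ideal.IsIntegral.comap_lt_comap (R := R) hIJ
  have hstrict : StrictMono h := by
    intro i i' hii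
    by_contra hcon
    push Not at hcon
    have h1 : (q i).asIdeal < (q i').asIdeal := hq hii
    have h2 := hincomp h1
    rw [hcomap', hcomap'] at h2
    exact absurd (spanXlt_mono k d hcon) (not_le_of_gt h2)
  have hqle : ∀ i i', h i < h i' → q i ≤ q i' := fun i i' hlt =>
    (hq.monotone (hstrict.lt_iff_lt.mp hlt).le)
  -- selection of the lower bound
  have hsel : ∀ j, ∃ Q₀ : PrimeSpectrum A, ∃ a, a ≤ j ∧ Q₀.asIdeal.comap f = spanXlt k d a ∧
      (∀ i, h i < j → q i ≤ Q₀) ∧
      (∀ Q' : PrimeSpectrum A, (∀ i, h i < j → q i ≤ Q') → Q₀ ≤ Q') := by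
    intro j
    by_cases hS : ∃ i, h i < j
    · have hne : (Finset.univ.filter (fun i => h i < j)).Nonempty := by
        obtain ⟨i, hi⟩ := hS
        exact ⟨i, by simp [hi]⟩
      set i0 := (Finset.univ.filter (fun i => h i < j)).max' hne with hi0
      have hi0mem : h i0 < j := by
        have := Finset.max'_mem _ hne
        simpa using this
      refine ⟨q i0, h i0, hi0mem.le, hcomap' i0, fun i hi => ?_, fun Q' hQ' => hQ' i0 hi0mem⟩
      exact hq.monotone (Finset.le_max' _ i (by simp [hi]))
    · push Not at hS
      refine ⟨⟨⊥, Ideal.isPrime_bot⟩, 0, Nat.zero_le _, ?_, fun i hi => absurd hi (not_lt.mpr (hS i)),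
        fun Q' _ => bot_le (a := Q'.asIdeal)⟩
      rw [spanXlt_zero]
      change Ideal.comap f ⊥ = ⊥
      rw [← RingHom.ker_eq_comap_bot]
      exact (RingHom.injective_iff_ker_eq_bot f).mp hinj
  -- the main downward induction
  have main : ∀ j, j ≤ d → ∃ Q : ℕ → PrimeSpectrum A,
      (∀ j', j ≤ j' → j' ≤ d → (Q j').asIdeal.comap f = spanXlt k d j') ∧
      (∀ j', j ≤ j' → j' < d → Q j' < Q (j' + 1)) ∧
      (∀ i, j ≤ h i → Q (h i) = q i) ∧ (∀ i, h i < j → q i ≤ Q j) := by
    intro j hj
    induction hj using Nat.decreasingInduction with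
    | self =>
      by_cases hex : ∃ i, h i = d
      · obtain ⟨i, hi⟩ := hex
        refine ⟨fun _ => q i, ?_, ?_, ?_, ?_⟩
        · intro j' h1 h2
          have : j' = d := le_antisymm h2 h1
          subst this
          have h3 := hcomap' i
          rw [hi] at h3
          exact h3
        · intro j' h1 h2; omega
        · intro i' hi'
          have : h i' = h i := by have := hh i'; omega
          rw [hstrict.injective this]
        · intro i' hi'
          exact hqle i' i (by omega)
      · push Not at hex
        obtain ⟨Q₀, a, ha, hQ₀, hQ₀le, -⟩ := hsel d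
        letI : Algebra R A := f.toAlgebra
        haveI : Algebra.IsIntegral R A := ⟨hfint⟩
        haveI := Q₀.isPrime
        obtain ⟨Q', hQ'ge, hQ'prime, hQ'⟩ :=
          Ideal.exists_ideal_over_prime_of_isIntegral_of_isPrime (S := A) (spanXlt k d d) Q₀.asIdeal
            (by
              change Q₀.asIdeal.comap f ≤ _
              rw [hQ₀]; exact spanXlt_mono k d ha)
        refine ⟨fun _ => ⟨Q', hQ'prime⟩, ?_, ?_, ?_, ?_⟩
        · intro j' h1 h2
          have : j' = d := le_antisymm h2 h1
          subst this
          exact hQ'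
        · intro j' h1 h2; omega
        · intro i' hi'
          exact absurd (le_antisymm (hh i') hi') (hex i')
        · intro i' hi'
          exact (hQ₀le i' hi').trans hQ'ge
    | of_succ j hj ih =>
      obtain ⟨Q, hQa, hQb, hQc, hQd⟩ := ih
      by_cases hex : ∃ i, h i = j
      · obtain ⟨i, hi⟩ := hex
        refine ⟨Function.update Q j (q i), ?_, ?_, ?_, ?_⟩
        · intro j' h1 h2
          by_cases hj' : j' = j
          · rw [hj', Function.update_self]
            have h3 := hcomap' i
            rw [hi] at h3
            exact h3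
          · rw [Function.update_of_ne hj']
            exact hQa j' (by omega) h2
        · intro j' h1 h2
          by_cases hj' : j' = j
          · rw [hj', Function.update_self, Function.update_of_ne (by omega)]
            have hle : q i ≤ Q (j + 1) := hQd i (by omega)
            refine lt_of_le_of_ne hle (fun heq => ?_)
            have h3 := hQa (j + 1) le_rfl hj
            rw [← heq, hcomap', hi] at h3
            exact (spanXlt_lt k d hj).ne h3
          · rw [Function.update_of_ne hj', Function.update_of_ne (by omega)]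
            exact hQb j' (by omega) h2
        · intro i' hi'
          by_cases hj' : h i' = j
          · rw [hj', Function.update_self]
            have : h i' = h i := by omega
            rw [hstrict.injective this]
          · rw [Function.update_of_ne hj']
            exact hQc i' (by omega)
        · intro i' hi'
          rw [Function.update_self]
          exact hqle i' i (by omega)
      · push Not at hex
        obtain ⟨Q₀, a, ha, hQ₀, hQ₀le, hQ₀min⟩ := hsel j
        have hQ₀Q : Q₀ ≤ Q (j + 1) := hQ₀min _ (fun i hi => hQd i (by omega))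
        haveI := Q₀.isPrime
        haveI := (Q (j + 1)).isPrime
        have hQ2 : (Q (j + 1)).asIdeal.comap f = spanXlt k d (j + 1) := hQa (j + 1) le_rfl hj
        obtain ⟨Q₁, hQ₁prime, hQ₁ge, hQ₁lt, hQ₁⟩ :=
          exists_prime_between_of_goingDown f hfint Q₀.asIdeal (Q (j + 1)).asIdeal hQ₀Q
            (by rw [hQ₀]; infer_instance) (spanXlt k d j)
            (by rw [hQ₀]; exact spanXlt_mono k d ha)
            (by rw [hQ2]; exact spanXlt_lt k d hj)
        refine ⟨Function.update Q j ⟨Q₁, hQ₁prime⟩, ?_, ?_, ?_, ?_⟩
        · intro j' h1 h2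
          by_cases hj' : j' = j
          · rw [hj', Function.update_self]; exact hQ₁
          · rw [Function.update_of_ne hj']
            exact hQa j' (by omega) h2
        · intro j' h1 h2
          by_cases hj' : j' = j
          · rw [hj', Function.update_self, Function.update_of_ne (by omega)]
            exact hQ₁lt
          · rw [Function.update_of_ne hj', Function.update_of_ne (by omega)]
            exact hQb j' (by omega) h2
        · intro i' hi'
          have hj' : h i' ≠ j := hex i'
          rw [Function.update_of_ne hj']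
          exact hQc i' (by omega)
        · intro i' hi'
          rw [Function.update_self]
          exact (hQ₀le i' hi').trans hQ₁ge
  obtain ⟨Q, hQa, hQb, hQc, -⟩ := main 0 (Nat.zero_le d)
  exact ⟨Q, fun j hj => hQa j (Nat.zero_le j) hj, fun j hj => hQb j (Nat.zero_le j) hj,
    fun i => hQc i (Nat.zero_le _)⟩

end Groth.Agent.Lib.Helper50
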