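import Mathlib
import Groth.Agent.Lib.Helper50.NoethKill

/-! Refined Noether normalization, existence part (helper50) -/

set_option autoImplicit false

namespace Groth.Agent.Lib.Helper50

open MvPolynomial

universe u

theorem ringKrullDim_quotient_succ_le_of_mem_ne_zero {B : Type*} [CommRing B] [IsDomain B]
    (I : Ideal B) (b : B) (hb : b ∈ I) (hb0 : b ≠ 0) :
    ringKrullDim (B ⧸ I) + 1 ≤ ringKrullDim B := by
  have hle : Ideal.span {b} ≤ I := (Ideal.span_singleton_le_iff_mem _).mpr hb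
  have h1 : ringKrullDim (B ⧸ I) ≤ ringKrullDim (B ⧸ Ideal.span {b}) :=
    ringKrullDim_le_of_surjective (Ideal.Quotient.factor hle) (Ideal.Quotient.factor_surjective hle)
  exact (add_le_add_left h1 1).trans
    (ringKrullDim_quotient_succ_le_of_nonZeroDivisor (mem_nonZeroDivisors_of_ne_zero hb0))

theorem natCast_withBot_enat_succ_not_le (m : ℕ) :
    ¬ ((m : WithBot ℕ∞) + 1 ≤ (m : WithBot ℕ∞)) := by
  intro h
  have : m + 1 ≤ m := by exact_mod_cast h
  omega

/-- dimension of `A ⧸ q` equals that of `R ⧸ comap φ q` for integral `φ`. -/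
theorem ringKrullDim_quotient_comap_eq {R A : Type*} [CommRing R] [CommRing A] (φ : R →+* A)
    (hφ : φ.IsIntegral) (q : Ideal A) :
    ringKrullDim (A ⧸ q) = ringKrullDim (R ⧸ q.comap φ) :=
  Groth.Agent.Lib.Helper55.ringKrullDim_eq_of_ringHom_isIntegral_of_injective
    (Ideal.quotientMap q φ le_rfl) (RingHom.IsIntegral.quotient φ hφ) Ideal.quotientMap_injective

theorem exists_refined_noether (k A : Type u) [Field k] [CommRing A] [IsDomain A] [Algebra k A]
    [Algebra.FiniteType k A] (d : ℕ) (hd : ringKrullDim A = (d : WithBot ℕ∞))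
    (r : ℕ) (q : Fin r → PrimeSpectrum A) (hq : StrictMono q) (h : Fin r → ℕ)
    (hh : ∀ i, h i ≤ d)
    (hdim : ∀ i, ringKrullDim (A ⧸ (q i).asIdeal) = ((d - h i : ℕ) : WithBot ℕ∞)) :
    ∃ φ : MvPolynomial (Fin d) k →ₐ[k] A, φ.toRingHom.Finite ∧ Function.Injective φ ∧
      ∀ i, (q i).asIdeal.comap φ = Ideal.span (MvPolynomial.X '' {l : Fin d | (l : ℕ) < h i}) := by
  obtain ⟨s, g, hginj, hgint⟩ := exists_integral_inj_algHom_of_fg k A
  have hs : s = d := by
    have h1 := Groth.Agent.Lib.Helper55.ringKrullDim_eq_of_ringHom_isIntegral_of_injective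
      g.toRingHom hgint hginj
    rw [hd, mvPolynomial_ringKrullDim_fin] at h1
    exact_mod_cast h1.symm
  subst hs
  set R := MvPolynomial (Fin s) k with hR
  set q' : Fin r → Ideal R := fun i => (q i).asIdeal.comap g.toRingHom with hq'
  have hq'mono : Monotone q' := fun i j hij =>
    Ideal.comap_mono (hq.monotone hij)
  have hq'prime : ∀ i, (q' i).IsPrime := fun i => Ideal.comap_isPrime _ _
  have hdim' : ∀ i, ringKrullDim (R ⧸ q' i) + (h i : WithBot ℕ∞) ≤ s := by
    intro i
    rw [← ringKrullDim_quotient_comap_eq g.toRingHom hgint, hdim i]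
    have := hh i
    have : s - h i + h i ≤ s := by omega
    exact_mod_cast this
  obtain ⟨y, hyint, hymem⟩ := exists_adapted_generators k s r q' hq'mono hq'prime h hdim'
  set φ : R →ₐ[k] A := g.comp (aeval y) with hφ
  have hφint : φ.toRingHom.IsIntegral := RingHom.IsIntegral.trans _ _ hyint hgint
  have hφfin : φ.toRingHom.Finite := by
    have h1 : algebraMap k A = φ.toRingHom.comp (algebraMap k R) := by
      ext c; simp
    have hft : (algebraMap k A).FiniteType := RingHom.finiteType_algebraMap.mpr inferInstance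
    rw [h1] at hft
    exact hφint.to_finite hft.of_comp_finiteType
  have hdimR : ringKrullDim R = s := mvPolynomial_ringKrullDim_fin k s
  refine ⟨φ, hφfin, ?_, ?_⟩
  · -- injective
    rw [injective_iff_map_eq_zero]
    intro a ha
    by_contra ha0
    have h1 : ringKrullDim (A ⧸ (⊥ : Ideal A)) = ringKrullDim (R ⧸ (⊥ : Ideal A).comap φ.toRingHom) :=
      ringKrullDim_quotient_comap_eq φ.toRingHom hφint ⊥
    rw [ringKrullDim_eq_of_ringEquiv (RingEquiv.quotientBot A), hd] at h1
    have h2 := ringKrullDim_quotient_succ_le_of_mem_ne_zero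
      ((⊥ : Ideal A).comap φ.toRingHom) a (by simpa [Ideal.mem_comap] using ha) ha0
    rw [← h1, hdimR] at h2
    exact natCast_withBot_enat_succ_not_le s h2
  · intro i
    set 𝔞 : Ideal R := Ideal.span (MvPolynomial.X '' {l : Fin s | (l : ℕ) < h i}) with h𝔞
    set 𝔟 : Ideal R := (q i).asIdeal.comap φ.toRingHom with h𝔟
    have hle : 𝔞 ≤ 𝔟 := by
      rw [h𝔞, Ideal.span_le]
      rintro _ ⟨l, hl, rfl⟩
      have := hymem i l hl
      have h3 : φ (X l) = g (y l) := by
        rw [hφ, AlgHom.comp_apply, aeval_X]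
      change φ (X l) ∈ (q i).asIdeal
      rw [h3]
      exact this
    change 𝔟 = 𝔞
    refine le_antisymm ?_ hle
    intro b hb
    by_contra hb𝔞
    have hdimb : ringKrullDim (R ⧸ 𝔟) = ((s - h i : ℕ) : WithBot ℕ∞) := by
      rw [← ringKrullDim_quotient_comap_eq φ.toRingHom hφint, hdim i]
    have hdima : ringKrullDim (R ⧸ 𝔞) = ((s - h i : ℕ) : WithBot ℕ∞) :=
      ringKrullDim_quotient_span_X_lt k s (h i) (hh i)
    have hb' : Ideal.Quotient.mk 𝔞 b ∈ 𝔟.map (Ideal.Quotient.mk 𝔞) := Ideal.mem_map_of_mem _ hb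
    have hb0 : Ideal.Quotient.mk 𝔞 b ≠ 0 := by
      rwa [Ne, Ideal.Quotient.eq_zero_iff_mem]
    have h2 := ringKrullDim_quotient_succ_le_of_mem_ne_zero _ _ hb' hb0
    rw [ringKrullDim_eq_of_ringEquiv (DoubleQuot.quotQuotEquivQuotSup 𝔞 𝔟), sup_eq_right.mpr hle,
      hdimb, hdima] at h2
    exact natCast_withBot_enat_succ_not_le _ h2

end Groth.Agent.Lib.Helper50
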