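import Mathlib
import Groth.Prelude
import Groth.Agent.Lib.Helper50.DVRGeomReg
import Groth.Agent.Lib.Helper50.GeomReducedAt
import Groth.Agent.Lib.Helper50.NormalAt
import Groth.Agent.Lib.Helper38.NormLink
import Groth.Agent.Lib.Helper38.NormL2
import Groth.Agent.Lib.Helper38.NormSch3
import Groth.Agent.Lib.Helper38.FieldNagata
import Groth.Agent.S0558

/-!
# The normalization of an integral scheme of finite type over a field at codimension one points
(helper50)
-/

open CategoryTheory AlgebraicGeometry Limits TensorProduct

universe u

namespace Groth.Agent.Lib.Helper50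

open Groth.Agent.Lib.Helper38

attribute [local instance] Curv2.stalkAlgebra

section

variable (k : Type u) [Field k] (X : Scheme.{u}) [X.Over (Spec (CommRingCat.of k))] [IsIntegral X]
  [LocallyOfFiniteType (X ↘ (Spec (CommRingCat.of k)))]
  [QuasiCompact (X.fromSpecStalk (genericPoint X))] [QuasiSeparated (X.fromSpecStalk (genericPoint X))]

include k in
theorem isFinite_normalizationι : IsFinite (Curv2.normalizationι X) :=
  NormSch.isFinite_of_isN2 X (fun U hU hne =>
    FieldNagata.isN2_affineOpens k (X ↘ (Spec (CommRingCat.of k))) U hU hne)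

omit [IsIntegral X] [QuasiCompact (X.fromSpecStalk (genericPoint X))]
  [QuasiSeparated (X.fromSpecStalk (genericPoint X))] in
include k in
theorem isLocallyNoetherian_of_lft : IsLocallyNoetherian X :=
  LocallyOfFiniteType.isLocallyNoetherian (X ↘ (Spec (CommRingCat.of k)))

include k in
theorem isLocallyNoetherian_normalization : IsLocallyNoetherian (Curv2.normalization X) := by
  haveI := isFinite_normalizationι k X
  haveI := isLocallyNoetherian_of_lft k X
  exact LocallyOfFiniteType.isLocallyNoetherian (Curv2.normalizationι X)

omit [X.Over (Spec (CommRingCat.of k))] [LocallyOfFiniteType (X ↘ (Spec (CommRingCat.of k)))] in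
/-- Over a point with one-dimensional local ring, the local rings of the normalization are
one-dimensional. -/
theorem ringKrullDim_stalk_normalization (x' : Curv2.normalization X)
    (hdim : ringKrullDim (X.presheaf.stalk (Curv2.normalizationι X x')) = 1) :
    ringKrullDim ((Curv2.normalization X).presheaf.stalk x') = 1 := by
  obtain ⟨U, hU, hxU⟩ := NormSch.exists_affine X (Curv2.normalizationι X x')
  have hη : genericPoint X ∈ U := NormSch.genericPoint_mem X ⟨_, hxU⟩
  have hW : IsAffineOpen ((Curv2.normalizationι X) ⁻¹ᵁ U) := hU.preimage (Curv2.normalizationι X)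
  have hx'W : x' ∈ (Curv2.normalizationι X) ⁻¹ᵁ U := hxU
  haveI : Nonempty U := ⟨⟨_, hη⟩⟩
  haveI := NormSch.preimage_nonempty X hη
  obtain ⟨-, hφ⟩ := NormSch.app_props X hU hη
  have hφi : ((Curv2.normalizationι X).app U).hom.IsIntegral :=
    IsIntegralHom.isIntegral_app (Curv2.normalizationι X) U hU
  letI : Algebra Γ(X, U) (X.presheaf.stalk (Curv2.normalizationι X x')) :=
    TopCat.Presheaf.algebra_section_stalk X.presheaf ⟨_, hxU⟩
  haveI : IsLocalization.AtPrime (X.presheaf.stalk (Curv2.normalizationι X x'))
      (hU.primeIdealOf ⟨_, hxU⟩).asIdeal := hU.isLocalization_stalk ⟨_, hxU⟩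
  letI : Algebra Γ(Curv2.normalization X, (Curv2.normalizationι X) ⁻¹ᵁ U)
      ((Curv2.normalization X).presheaf.stalk x') :=
    TopCat.Presheaf.algebra_section_stalk (Curv2.normalization X).presheaf ⟨x', hx'W⟩
  haveI : IsLocalization.AtPrime ((Curv2.normalization X).presheaf.stalk x')
      (hW.primeIdealOf ⟨x', hx'W⟩).asIdeal := hW.isLocalization_stalk ⟨x', hx'W⟩
  have hQ := NormLink.comap_primeIdealOf X hU hxU x' rfl hx'W
  rw [IsLocalization.AtPrime.ringKrullDim_eq_height (hU.primeIdealOf ⟨_, hxU⟩).asIdeal] at hdim
  rw [IsLocalization.AtPrime.ringKrullDim_eq_height (hW.primeIdealOf ⟨x', hx'W⟩).asIdeal]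
  have h1 : (hU.primeIdealOf ⟨_, hxU⟩).asIdeal.height = 1 := by exact_mod_cast hdim
  have h2 := height_eq_one_of_isIntegral ((Curv2.normalizationι X).app U).hom hφi hφ.inj
    (hW.primeIdealOf ⟨x', hx'W⟩).asIdeal (by rw [hQ]; exact h1)
  rw [h2]; rfl

/-- The normalization as a `k`-scheme. -/
noncomputable local instance normOver : (Curv2.normalization X).Over (Spec (CommRingCat.of k)) :=
  ⟨Curv2.normalizationι X ≫ (X ↘ (Spec (CommRingCat.of k)))⟩

/-- A Noetherian integrally closed local domain of dimension one has principal maximal ideal. -/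
theorem exists_maximalIdeal_eq_span_singleton (R : Type*) [CommRing R] [IsDomain R] [IsLocalRing R]
    [IsNoetherianRing R] [IsIntegrallyClosed R] (hd : ringKrullDim R = 1) :
    ∃ t : R, IsLocalRing.maximalIdeal R = Ideal.span {t} ∧ t ≠ 0 := by
  have hht : (IsLocalRing.maximalIdeal R).height = 1 := by
    have := IsLocalRing.maximalIdeal_height_eq_ringKrullDim (R := R)
    rw [hd] at this
    exact_mod_cast this
  have h4 : IsIntegrallyClosed R ∧
      ∀ P : Ideal R, P ≠ ⊥ → P.IsPrime → P = IsLocalRing.maximalIdeal R := by
    refine ⟨inferInstance, fun P hP hPp => ?_⟩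
    by_contra hne
    have hlt : P < IsLocalRing.maximalIdeal R :=
      lt_of_le_of_ne (IsLocalRing.le_maximalIdeal hPp.ne_top) hne
    have h1 : P.height < (IsLocalRing.maximalIdeal R).height :=
      Ideal.height_strict_mono_of_isPrime_of_isPrime hlt
    rw [hht, Order.lt_one_iff, Ideal.height_eq_zero_iff_eq_bot] at h1
    exact hP h1
  have h5 : (IsLocalRing.maximalIdeal R).IsPrincipal :=
    ((tfae_of_isNoetherianRing_of_isLocalRing_of_isDomain R).out 3 4).mp h4
  obtain ⟨t, ht⟩ := h5
  refine ⟨t, ht, ?_⟩
  rintro rfl
  have : IsLocalRing.maximalIdeal R = ⊥ := by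
    rw [ht]; simp
  rw [this, Ideal.height_bot] at hht
  exact zero_ne_one hht

/-- The local ring of the normalization at a point over a codimension one point with separable
residue field is geometrically regular over `k`. -/
theorem isGeometricallyRegular_stalk_normalization (x' : Curv2.normalization X)
    (hdim : ringKrullDim (X.presheaf.stalk (Curv2.normalizationι X x')) = 1)
    (hsep : GeometricallyReduced
      (Spec.map (CommRingCat.ofHom (Curv2.resMap k (Curv2.normalization X) x')))) :
    CAlg.IsGeometricallyRegular k ((Curv2.normalization X).presheaf.stalk x') := by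
  haveI := isLocallyNoetherian_normalization k X
  haveI : IsIntegrallyClosed ((Curv2.normalization X).presheaf.stalk x') :=
    NormSch.isIntegrallyClosed_stalk X x'
  have hd := ringKrullDim_stalk_normalization X x' hdim
  obtain ⟨t, ht, ht0⟩ :=
    exists_maximalIdeal_eq_span_singleton ((Curv2.normalization X).presheaf.stalk x') hd
  have hmap : Curv2.resMap k (Curv2.normalization X) x' =
      algebraMap k (IsLocalRing.ResidueField ((Curv2.normalization X).presheaf.stalk x')) := rfl
  rw [hmap] at hsep
  haveI : Algebra.IsGeometricallyReduced k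
      (IsLocalRing.ResidueField ((Curv2.normalization X).presheaf.stalk x')) :=
    @isGeometricallyReduced_of_geometricallyReduced_specMap k _ _ _ _ hsep
  exact isGeometricallyRegular_of_maximalIdeal_eq_span_singleton k _ t ht ht0

/-- The normalization is geometrically regular at points over codimension one points with
separable residue fields. -/
theorem isGeomRegularAt_normalization (x' : Curv2.normalization X)
    (hdim : ringKrullDim (X.presheaf.stalk (Curv2.normalizationι X x')) = 1)
    (hsep : GeometricallyReduced
      (Spec.map (CommRingCat.ofHom (Curv2.resMap k (Curv2.normalization X) x')))) :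
    Curv2.IsGeomRegularAt k (Curv2.normalization X) x' := by
  haveI := isLocallyNoetherian_normalization k X
  exact isGeomRegularAt_of_isGeometricallyRegular k _ x'
    (isGeometricallyRegular_stalk_normalization k X x' hdim hsep)

/-- A regular ring is reduced. -/
theorem isReduced_of_isRegularRing (R : Type u) [CommRing R] [IsRegularRing R] : _root_.IsReduced R := by
  apply isReduced_ofLocalizationMaximal
  intro m hm
  haveI : IsRegularLocalRing (Localization.AtPrime m) := inferInstance
  haveI : IsDomain (Localization.AtPrime m) := Groth.Agent.S0558.result _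
  infer_instance

omit [LocallyOfFiniteType (X ↘ (Spec (CommRingCat.of k)))] in
theorem stalkMap_comp_stalkMap (x' : Curv2.normalization X) :
    ((Curv2.normalizationι X).stalkMap x').hom.comp
      (Curv2.stalkMap k X (Curv2.normalizationι X x')) =
    Curv2.stalkMap k (Curv2.normalization X) x' := by
  ext c
  simp only [Curv2.stalkMap, Coh.toGlobal, RingHom.comp_apply]
  erw [Scheme.Hom.germ_stalkMap_apply (Curv2.normalizationι X) ⊤ x' trivial]
  rfl

omit [LocallyOfFiniteType (X ↘ (Spec (CommRingCat.of k)))] in
/-- If the normalization is geometrically regular at a point `x'`, then `X` is geometrically reduced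
at the image of `x'`. -/
theorem isGeomReducedAt_of_normalization (x' : Curv2.normalization X)
    (hreg : CAlg.IsGeometricallyRegular k ((Curv2.normalization X).presheaf.stalk x')) :
    Curv2.IsGeomReducedAt k X (Curv2.normalizationι X x') := by
  obtain ⟨U, hU, hxU⟩ := NormSch.exists_affine X (Curv2.normalizationι X x')
  have hη : genericPoint X ∈ U := NormSch.genericPoint_mem X ⟨_, hxU⟩
  have hW : IsAffineOpen ((Curv2.normalizationι X) ⁻¹ᵁ U) := hU.preimage (Curv2.normalizationι X)
  have hψinj : Function.Injective ((Curv2.normalizationι X).stalkMap x').hom :=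
    (NormSch.isFracExt_stalkMap (Curv2.normalizationι X) hU hW x' hxU
      (NormSch.app_props X hU hη).2).inj
  have hψk := stalkMap_comp_stalkMap k X x'
  have hgr : Algebra.IsGeometricallyReduced k (X.presheaf.stalk (Curv2.normalizationι X x')) := by
    apply isGeometricallyReduced_of_forall_finite_isPurelyInseparable
    intro k' _ _ _ _
    have h1 : IsRegularRing (k' ⊗[k] (Curv2.normalization X).presheaf.stalk x') :=
      hreg k' inferInstance
    have h2 : _root_.IsReduced (k' ⊗[k] (Curv2.normalization X).presheaf.stalk x') :=
      isReduced_of_isRegularRing _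
    let ψa : X.presheaf.stalk (Curv2.normalizationι X x') →ₐ[k]
        (Curv2.normalization X).presheaf.stalk x' :=
      { ((Curv2.normalizationι X).stalkMap x').hom with
        commutes' := fun c => congr($hψk c) }
    have h3 : Function.Injective (Algebra.TensorProduct.map (AlgHom.id k k') ψa) :=
      Module.Flat.lTensor_preserves_injective_linearMap (M := k') ψa.toLinearMap hψinj
    exact isReduced_of_injective _ h3
  exact (isGeomReducedAt_iff (X ↘ Spec (CommRingCat.of k)) (Curv2.normalizationι X x')
    (Curv2.stalkMap k X (Curv2.normalizationι X x')) (specMap_stalkMap_eq k _)).mpr hgr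

end

end Groth.Agent.Lib.Helper50
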