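import Mathlib
import Groth.Agent.Lib.Helper50.FibHom
import Groth.Agent.Lib.Helper50.NormalHomBC
import Groth.Agent.Lib.Helper24.SmoothNormal
import Groth.Agent.Lib.Helper47.GeomRegTransport

/-!
# Normal ring maps as a local ring hom property; normal morphisms of schemes (helper50)
-/

set_option autoImplicit false
universe u
open TensorProduct

namespace Groth.Agent.Lib.Helper50.NormalMor

open Groth.Agent.Lib.Helper50.FibHom

/-- The fibre predicate "geometrically normal". -/
def 𝓕N : FibPred.{u} := fun k _ F _ _ => EGA4.IsGeomNormal k F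

theorem isLocalPred_𝓕N : IsLocalPred 𝓕N.{u} where
  iso := by
    intro k k' F F' _ _ _ _ _ _ σ e he h K' _ _ hfin
    letI : Algebra k K' := ((algebraMap k' K').comp σ.toRingHom).toAlgebra
    letI : Algebra k k' := σ.toRingHom.toAlgebra
    haveI : IsScalarTower k k' K' := IsScalarTower.of_algebraMap_eq (fun _ => rfl)
    haveI : Module.Finite k k' :=
      Module.Finite.of_surjective (Algebra.linearMap k k') σ.surjective
    haveI : Module.Finite k K' := Module.Finite.trans k' K'
    obtain ⟨e'⟩ := Groth.Agent.Lib.Helper47.GeomRegTransport.nonempty_tensor_ringEquiv σ e he K'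
    exact isNormalRing_of_ringEquiv e' (h K' inferInstance)
  loc := by
    intro k F _ _ _ s h K' _ _ hfin
    have h1 := h K' hfin
    have h2 : EGA4.IsNormalRing (Localization.Away ((1 : K') ⊗ₜ[k] s)) :=
      Groth.Agent.Lib.Helper24.isNormalRing_of_isLocalization (.powers ((1 : K') ⊗ₜ[k] s)) h1
    exact isNormalRing_of_ringEquiv
      (IsLocalization.Away.tensorProductEquivTMulRight k K' s (Localization.Away s)).symm.toRingEquiv
      h2
  cov := by
    intro k F _ _ _ s hs h K' _ _ hfin
    apply Groth.Agent.Lib.Helper24.isNormalRing_of_forall_exists_away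
    intro q hq
    let ι : F →+* K' ⊗[k] F := Algebra.TensorProduct.includeRight.toRingHom
    have hspan : Ideal.span (ι '' s) = ⊤ := by rw [← Ideal.map_span, hs, Ideal.map_top]
    obtain ⟨r, hr, hrq⟩ : ∃ r ∈ s, ι r ∉ q := by
      by_contra hcon
      push Not at hcon
      have : Ideal.span (ι '' s) ≤ q := by
        rw [Ideal.span_le]
        rintro _ ⟨r, hr, rfl⟩
        exact hcon r hr
      rw [hspan] at this
      exact hq.ne_top (top_le_iff.mp this)
    refine ⟨ι r, hrq, ?_⟩
    have h1 := h ⟨r, hr⟩ K' hfin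
    exact isNormalRing_of_ringEquiv
      (IsLocalization.Away.tensorProductEquivTMulRight k K' r (Localization.Away r)).toRingEquiv h1


theorem qfib_baseChange (A B A' : Type u) [CommRing A] [CommRing B] [CommRing A']
    [Algebra A B] [Algebra A A'] (h : Qfib 𝓕N A B) : Qfib 𝓕N A' (A' ⊗[A] B) := by
  intro p' _
  letI := Localization.AtPrime.algebraOfLiesOver (p'.under A) p'
  have hG : EGA4.IsGeomNormal (p'.under A).ResidueField ((p'.under A).Fiber B) := h (p'.under A)
  have h1 : EGA4.IsGeomNormal p'.ResidueField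
      (p'.ResidueField ⊗[(p'.under A).ResidueField] (p'.under A).Fiber B) :=
    isGeomNormal_tensor_of_isGeomNormal' _ _ p'.ResidueField hG
  exact isGeomNormal_of_algEquiv (Groth.Agent.S9293.Aux.fiberBaseChangeAlgEquiv A A' B p').symm h1

theorem bcAway_𝓕N : BCAway 𝓕N.{u} := fun {A B A'} _ _ _ _ _ _ _ h => qfib_baseChange A B A' h

theorem qfib_of_baseChange_of_comap_surjective (A B A' : Type u) [CommRing A] [CommRing B]
    [CommRing A'] [Algebra A B] [Algebra A A']
    (hs : Function.Surjective (PrimeSpectrum.comap (algebraMap A A')))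
    (h' : Qfib 𝓕N A' (A' ⊗[A] B)) : Qfib 𝓕N A B := by
  intro p hp
  obtain ⟨⟨p', hp'⟩, hpp⟩ := hs ⟨p, hp⟩
  have hpe : p'.under A = p := congrArg PrimeSpectrum.asIdeal hpp
  subst hpe
  letI := Localization.AtPrime.algebraOfLiesOver (p'.under A) p'
  have h1 : EGA4.IsGeomNormal p'.ResidueField
      (p'.ResidueField ⊗[(p'.under A).ResidueField] (p'.under A).Fiber B) :=
    isGeomNormal_of_algEquiv (Groth.Agent.S9293.Aux.fiberBaseChangeAlgEquiv A A' B p') (h' p')
  exact isGeomNormal_of_isGeomNormal_tensor _ _ p'.ResidueField h1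

/-- The ring hom property "normal homomorphism". -/
def NormalQ : ∀ {R S : Type u} [CommRing R] [CommRing S], (R →+* S) → Prop :=
  fun φ => RingHom.Flat φ ∧ QfibHom 𝓕N φ

theorem normalQ_iff {R S : Type u} [CommRing R] [CommRing S] (φ : R →+* S) :
    NormalQ φ ↔ (letI := φ.toAlgebra; EGA4.IsNormalHom R S) := Iff.rfl

theorem normalQ_algebraMap_iff {R S : Type u} [CommRing R] [CommRing S] [Algebra R S] :
    NormalQ (algebraMap R S) ↔ EGA4.IsNormalHom R S := by
  have : (algebraMap R S).toAlgebra = ‹Algebra R S› := Algebra.algebra_ext _ _ (fun _ => rfl)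
  rw [normalQ_iff]
  rw [this]

theorem propertyIsLocal_normalQ : RingHom.PropertyIsLocal NormalQ.{u} :=
  RingHom.Flat.propertyIsLocal.and (propertyIsLocal_qfibHom isLocalPred_𝓕N bcAway_𝓕N)

theorem isStableUnderBaseChange_normalQ : RingHom.IsStableUnderBaseChange NormalQ.{u} := by
  apply RingHom.IsStableUnderBaseChange.mk propertyIsLocal_normalQ.respectsIso
  intro R S T _ _ _ _ _ h
  rw [normalQ_algebraMap_iff] at h ⊢
  exact isNormalHom_baseChange R T S h

theorem codescendsAlong_normalQ :
    RingHom.CodescendsAlong NormalQ.{u} RingHom.FaithfullyFlat := by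
  apply RingHom.CodescendsAlong.mk _ propertyIsLocal_normalQ.respectsIso
  intro R S T _ _ _ _ _ hff h
  rw [normalQ_algebraMap_iff] at h ⊢
  rw [RingHom.faithfullyFlat_algebraMap_iff] at hff
  exact isNormalHom_of_baseChange_of_faithfullyFlat R T S hff h


section Scheme

open AlgebraicGeometry CategoryTheory Limits

/-- Normal morphisms of schemes (affine-locally normal ring maps). -/
def NormalMorphism : MorphismProperty Scheme.{u} := affineLocally NormalQ

instance : HasRingHomProperty NormalMorphism.{u} NormalQ where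
  isLocal_ringHomProperty := propertyIsLocal_normalQ
  eq_affineLocally' := rfl

instance : NormalMorphism.{u}.IsStableUnderBaseChange :=
  HasRingHomProperty.isStableUnderBaseChange isStableUnderBaseChange_normalQ

instance : NormalMorphism.{u}.DescendsAlong (@Surjective ⊓ @Flat ⊓ @QuasiCompact) :=
  HasRingHomProperty.descendsAlong_flat codescendsAlong_normalQ

theorem normalMorphism_iff {X Y : Scheme.{u}} (f : X ⟶ Y) :
    NormalMorphism f ↔
      ∀ (U : X.Opens) (V : Y.Opens) (hU : IsAffineOpen U) (hV : IsAffineOpen V)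
        (hUV : U ≤ f ⁻¹ᵁ V),
        letI := (f.appLE V U hUV).hom.toAlgebra
        EGA4.IsNormalHom Γ(Y, V) Γ(X, U) := by
  rw [HasRingHomProperty.iff_appLE (P := NormalMorphism)]
  constructor
  · intro h U V hU hV hUV
    exact h ⟨V, hV⟩ ⟨U, hU⟩ hUV
  · intro h V U e
    exact h U.1 V.1 U.2 V.2 e

theorem normalMorphism_iff_of_isPullback {X Y X' Y' : Scheme.{u}} {f : X ⟶ Y} {f' : X' ⟶ Y'}
    {g' : X' ⟶ X} {g : Y' ⟶ Y} [Flat g] [LocallyOfFinitePresentation g] [Surjective g]
    (hc : IsPullback g' f' f g) : NormalMorphism f ↔ NormalMorphism f' :=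
  (MorphismProperty.iff_of_isPullback
    (Q := @Surjective ⊓ @Flat ⊓ @LocallyOfFinitePresentation) hc.flip
    ⟨⟨inferInstance, inferInstance⟩, inferInstance⟩).symm

end Scheme

end Groth.Agent.Lib.Helper50.NormalMor
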