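import Mathlib
import Groth.Agent.S10902

/-!
# Relative version of S10902: fibre dimension of relative differentials over a fibre component
-/

set_option autoImplicit false
universe u
open TensorProduct KaehlerDifferential

namespace Groth.Agent.Lib.Helper50

/-- Relative version of S10902.  `A` of finite type over `B`, `P` a prime of `A`, `q ⊆ P` a prime
containing `𝔪 A` for a maximal ideal `𝔪` of `B` (so `V(q)` is an irreducible closed subset of the
fibre over `𝔪` through `P`), of dimension `≥ r`.  Then the fibre of `Ω_{A/B}` at `P` has dimension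
`≥ r`. -/
theorem le_finrank_residueField_tensor_kaehler
    (B A : Type u) [CommRing B] [CommRing A] [Algebra B A] [Algebra.FiniteType B A]
    (P : Ideal A) [P.IsPrime] (q : Ideal A) [q.IsPrime] (hqP : q ≤ P)
    (m : Ideal B) [hm : m.IsMaximal] (hmq : m ≤ q.comap (algebraMap B A))
    (r : ℕ) (hr : (r : WithBot ℕ∞) ≤ ringKrullDim (A ⧸ q)) :
    r ≤ Module.finrank P.ResidueField (P.ResidueField ⊗[A] (Ω[A⁄B])) := by
  letI : Field (B ⧸ m) := Ideal.Quotient.field m
  let k' := B ⧸ m
  let S := A ⧸ q
  letI : Algebra k' S := Ideal.Quotient.algebraQuotientOfLEComap hmq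
  have hst0 : IsScalarTower B k' S := IsScalarTower.of_algebraMap_eq fun x => rfl
  have hftS : Algebra.FiniteType B S :=
    Algebra.FiniteType.of_surjective (Algebra.ofId A S |>.restrictScalars B)
      Ideal.Quotient.mk_surjective
  have hftS' : Algebra.FiniteType k' S := Algebra.FiniteType.of_restrictScalars_finiteType B k' S
  let L := FractionRing S
  have hstBAL : IsScalarTower B A L := IsScalarTower.of_algebraMap_eq fun x => by
    rw [IsScalarTower.algebraMap_apply A S L, ← IsScalarTower.algebraMap_apply B A S,
      ← IsScalarTower.algebraMap_apply B S L]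
  have hstBkL : IsScalarTower B k' L := IsScalarTower.of_algebraMap_eq fun x => by
    rw [IsScalarTower.algebraMap_apply B S L, IsScalarTower.algebraMap_apply B k' S,
      ← IsScalarTower.algebraMap_apply k' S L]
  obtain ⟨n', htr, hdim, -⟩ := Groth.Agent.S2680.result k' S
  have hn : r ≤ n' := by
    rw [hdim] at hr
    exact_mod_cast hr
  have hess : Algebra.EssFiniteType k' L := inferInstance
  obtain ⟨hfinL, -, hC⟩ := Groth.Agent.S4526.result (k := k') (K := k') (L := L)
  have h0 : Module.finrank k' (Ω[k'⁄k']) = 0 := Module.finrank_zero_of_subsingleton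
  rw [h0, htr] at hC
  simp only [Cardinal.toNat_natCast, Nat.cast_zero, sub_zero] at hC
  have h1 : n' ≤ Module.finrank L (Ω[L⁄k']) := by exact_mod_cast hC
  -- Ω[L/B] → Ω[L/k'] surjective
  have hessB : Algebra.EssFiniteType B L := Algebra.EssFiniteType.comp B S L
  have hfinLB : Module.Finite L (Ω[L⁄B]) := inferInstance
  have h1' : Module.finrank L (Ω[L⁄k']) ≤ Module.finrank L (Ω[L⁄B]) :=
    LinearMap.finrank_le_finrank_of_surjective (KaehlerDifferential.map_surjective B k' L)
  -- surjectivity of the base change map
  have hunr : Algebra.FormallyUnramified A L := by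
    have h1 : Algebra.FormallyUnramified A S :=
      Algebra.FormallyUnramified.of_surjective (Algebra.ofId A S) Ideal.Quotient.mk_surjective
    have h2 : Algebra.FormallyUnramified S L :=
      Algebra.FormallyUnramified.of_isLocalization (nonZeroDivisors S)
    exact Algebra.FormallyUnramified.comp A S L
  have hsub : Subsingleton (Ω[L⁄A]) := inferInstance
  have hsurj : Function.Surjective (mapBaseChange B A L) := by
    intro w
    have := (KaehlerDifferential.exact_mapBaseChange_map B A L w).mp (Subsingleton.elim _ _)
    exact this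
  have h2 : Module.finrank L (Ω[L⁄B]) ≤ Module.finrank L (L ⊗[A] Ω[A⁄B]) :=
    LinearMap.finrank_le_finrank_of_surjective hsurj
  have hL : ∀ t : A, t ∉ P → algebraMap A L t ≠ 0 := by
    intro t ht h
    rw [IsScalarTower.algebraMap_apply A S L] at h
    have h' : algebraMap A S t = 0 :=
      (IsFractionRing.injective S L) (by rw [h, map_zero])
    exact ht (hqP (Ideal.Quotient.eq_zero_iff_mem.mp h'))
  have h3 := Groth.Agent.S10902.finrank_tensor_le (Ω[A⁄B]) P L hL
  omega

end Groth.Agent.Lib.Helper50
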