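import Mathlib
import Groth.Agent.Lib.Helper50.OmegaFibre1
import Groth.Agent.Lib.Helper50.OmegaFibre3
import Groth.Agent.Lib.Helper51.OmegaUniv.Sections
import Groth.Agent.Lib.Helper80.OmegaUniversal
import Groth.Agent.Lib.Helper55.DimPoint

/-!
# Fibre of `Ω_{X/Y}` at a closed point vs. dimension of a fibre component (S14443)
-/

set_option autoImplicit false
universe u
open CategoryTheory AlgebraicGeometry TensorProduct

namespace Groth.Agent.Lib.Helper50

open Groth.Agent.Lib.Helper55 Groth.Agent.Lib.Helper45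

attribute [local instance] FixPt.fiberModule

theorem le_finrank_fiber_omega (k : Type u) [Field k] [IsAlgClosed k]
    {X Y : Scheme.{u}} [X.Over (Spec (CommRingCat.of k))] [Y.Over (Spec (CommRingCat.of k))]
    [LocallyOfFiniteType (X ↘ Spec (CommRingCat.of k))]
    [LocallyOfFiniteType (Y ↘ Spec (CommRingCat.of k))]
    (f : X ⟶ Y) (hf : f ≫ (Y ↘ Spec (CommRingCat.of k)) = X ↘ Spec (CommRingCat.of k))
    (x : X) (hx : IsClosed ({x} : Set X)) (Z : Set X) (hZ : IsIrreducible Z) (hZc : IsClosed Z)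
    (hxZ : x ∈ Z)
    (hZf : Z ⊆ f.base ⁻¹' {f.base x}) (r : ℕ) (hr : topologicalKrullDim ↥Z = (r : WithBot ℕ∞)) :
    r ≤ Module.finrank k (FixPt.fiber (Omega.sheaf f) x) := by
  -- f is locally of finite type and quasi-separated
  have hflft : LocallyOfFiniteType f := by
    have : LocallyOfFiniteType (f ≫ (Y ↘ Spec (CommRingCat.of k))) := by rw [hf]; infer_instance
    exact locallyOfFiniteType_of_comp f (Y ↘ Spec (CommRingCat.of k))
  have hXn : IsLocallyNoetherian X :=
    LocallyOfFiniteType.isLocallyNoetherian (X ↘ Spec (CommRingCat.of k))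
  have hqs : QuasiSeparated f := inferInstance
  have hJ : JacobsonSpace Y := LocallyOfFiniteType.jacobsonSpace (Y := Spec _)
    (Y ↘ Spec (CommRingCat.of k))
  have hfx : IsClosed ({f.base x} : Set Y) :=
    f.closePoints_subset_preimage_closedPoints (mem_closedPoints_iff.mpr hx)
  -- quasi-coherence
  have huniv := Groth.Agent.Lib.Helper80.OmegaUniversal.isUniversal_dOmega f
  have hqc : (Omega.sheaf f).IsQuasicoherent :=
    Groth.Agent.Lib.Helper51.OmegaUniv.isQuasicoherent_of_isUniversal f huniv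
  -- chart
  obtain ⟨V, hV, hfxV, -⟩ := exists_isAffineOpen_mem_and_subset (x := f.base x) (U := ⊤) trivial
  obtain ⟨U, hU, hxU, hUV⟩ := exists_isAffineOpen_mem_and_subset (x := x) (U := f ⁻¹ᵁ V) hfxV
  have hUV' : U ≤ f ⁻¹ᵁ V := hUV
  letI := (f.appLE V U hUV').hom.toAlgebra
  have hft : Algebra.FiniteType Γ(Y, V) Γ(X, U) := f.finiteType_appLE hV hU hUV'
  obtain ⟨τ, -⟩ := Groth.Agent.Lib.Helper51.OmegaUniv.exists_sections_equiv f huniv hU hV hUV'
  -- generic point of Z
  obtain ⟨ξ, hξ⟩ := QuasiSober.sober hZ hZc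
  have hξx : ξ ⤳ x := by
    rw [specializes_iff_mem_closure, hξ.def]; exact hxZ
  have hξU : ξ ∈ U := hξx.mem_open U.2 hxU
  have hξZ : ξ ∈ Z := hξ.mem
  have hfξ : f.base ξ = f.base x := hZf hξZ
  -- the primes
  set P := (hU.primeIdealOf ⟨x, hxU⟩).asIdeal with hP
  set q := (hU.primeIdealOf ⟨ξ, hξU⟩).asIdeal with hq
  have hqP : q ≤ P := (primeIdealOf_le_iff_specializes hU ξ x hξU hxU).mpr hξx
  set m := (hV.primeIdealOf ⟨f.base x, hUV' hxU⟩).asIdeal with hm
  have hmmax : m.IsMaximal := hV.primeIdealOf_isMaximal_of_isClosed ⟨f.base x, hUV' hxU⟩ hfx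
  have hmq : m ≤ q.comap (algebraMap Γ(Y, V) Γ(X, U)) := by
    have h1 := primeIdealOf_comap f hUV' ξ hξU hU hV
    have h2 : (hV.primeIdealOf ⟨f.base ξ, hUV' hξU⟩) = (hV.primeIdealOf ⟨f.base x, hUV' hxU⟩) := by
      congr 1
      exact Subtype.ext hfξ
    rw [hm, ← h2, h1]
    exact le_rfl
  -- dimension
  have hdim : ringKrullDim (Γ(X, U) ⧸ q) = (r : WithBot ℕ∞) := by
    have h1 := topologicalKrullDim_closure_chart (X ↘ Spec (CommRingCat.of k)) hU.fromSpec
      (hU.primeIdealOf ⟨ξ, hξU⟩)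
    rw [hU.fromSpec_primeIdealOf] at h1
    change topologicalKrullDim ↥(closure ({ξ} : Set X)) = _ at h1
    rw [hξ.def] at h1
    rw [← h1, hr]
  have hmain := le_finrank_residueField_tensor_kaehler Γ(Y, V) Γ(X, U) P q hqP m hmq r hdim.ge
  have hbij := bijective_resMap_of_isClosed k X x hx
  have hfib := finrank_fiber_eq k X (Omega.sheaf f) hU x hxU hbij
  rw [hfib]
  have e : P.ResidueField ⊗[Γ(X, U)] Ω[Γ(X, U)⁄Γ(Y, V)] ≃ₗ[P.ResidueField]
      P.ResidueField ⊗[Γ(X, U)] Γ(Omega.sheaf f, U) :=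
    AlgebraTensorModule.congr (LinearEquiv.refl _ _) τ
  rw [← e.finrank_eq]
  exact hmain

end Groth.Agent.Lib.Helper50
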