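import Mathlib
import Groth.Prelude
import Groth.Agent.Lib.Helper50.GeomIrredScheme
import Groth.Agent.Lib.Helper50.FiniteLevel

/-!
# `X ×_k X` irreducible iff `X` geometrically irreducible (helper50)
-/

open CategoryTheory AlgebraicGeometry Limits TensorProduct MorphismProperty TopologicalSpace

namespace Groth.Agent.Lib.Helper50

universe u

theorem mem_range_of_irreducibleSpace_tensor_self {k κ : Type u} [Field k] [Field κ]
    [Algebra k κ] [IrreducibleSpace (PrimeSpectrum (κ ⊗[k] κ))] (α : κ)
    (hα : IsSeparable k α) : α ∈ Set.range (algebraMap k κ) := by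
  apply mem_range_algebraMap_of_irreducibleSpace_tensor α hα
  let F := IntermediateField.adjoin k {α}
  let ι : F ⊗[k] κ →ₐ[k] κ ⊗[k] κ := Algebra.TensorProduct.map F.val (AlgHom.id k κ)
  have hinj : Function.Injective ι :=
    Module.Flat.rTensor_preserves_injective_linearMap (M := κ) F.val.toLinearMap F.val.injective
  exact @irreducibleSpace_primeSpectrum_of_injective (F ⊗[k] κ) (κ ⊗[k] κ) _ _ ι.toRingHom hinj
    inferInstance

/-- A set containing a point which is dense in it is irreducible. -/
theorem isIrreducible_of_mem_of_subset_closure {α : Type*} [TopologicalSpace α] {S : Set α}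
    {ζ : α} (hζ : ζ ∈ S) (hS : S ⊆ closure {ζ}) : IsIrreducible S := by
  refine ⟨⟨ζ, hζ⟩, ?_⟩
  rintro u v hu hv ⟨a, haS, hau⟩ ⟨b, hbS, hbv⟩
  have h1 : ζ ∈ u := by
    have : ζ ⤳ a := specializes_iff_mem_closure.mpr (hS haS)
    exact this.mem_open hu hau
  have h2 : ζ ∈ v := by
    have : ζ ⤳ b := specializes_iff_mem_closure.mpr (hS hbS)
    exact this.mem_open hv hbv
  exact ⟨ζ, hζ, h1, h2⟩

/-- The base change of `r : W ⟶ Y` along the second projection `X ×[S] Y ⟶ Y`. -/
theorem exists_bcHom_right {X Y W S : Scheme.{u}} (f : X ⟶ S) (g : Y ⟶ S) (r : W ⟶ Y) :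
    ∃ j : pullback f (r ≫ g) ⟶ pullback f g,
      j ≫ pullback.fst f g = pullback.fst f (r ≫ g) ∧
      IsPullback j (pullback.snd f (r ≫ g)) (pullback.snd f g) r := by
  let j : pullback f (r ≫ g) ⟶ pullback f g :=
    pullback.map f (r ≫ g) f g (𝟙 _) r (𝟙 _) (by simp) (by simp)
  have h1 : j ≫ pullback.fst f g = pullback.fst f (r ≫ g) :=
    (pullback.lift_fst _ _ _).trans (Category.comp_id _)
  have h2 : j ≫ pullback.snd f g = pullback.snd f (r ≫ g) ≫ r := pullback.lift_snd _ _ _
  refine ⟨j, h1, ?_⟩
  refine IsPullback.of_right ?_ h2 (IsPullback.of_hasPullback f g)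
  rw [h1]
  exact IsPullback.of_hasPullback f (r ≫ g)

theorem geometricallyIrreducible_of_irreducibleSpace_prod {X : Scheme.{u}} {k : Type u} [Field k]
    (f : X ⟶ Spec (CommRingCat.of k)) [hirr : IrreducibleSpace ↥(pullback f f)] :
    GeometricallyIrreducible f := by
  -- `X` is irreducible
  obtain ⟨z₀⟩ := hirr.toNonempty
  have hfsurj : Surjective f := ⟨fun y => ⟨pullback.fst f f z₀, Subsingleton.elim _ _⟩⟩
  have hsnd : Surjective (pullback.snd f f) := MorphismProperty.pullback_snd _ _ hfsurj
  haveI hX : IrreducibleSpace X := by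
    have h1 : IsIrreducible (Set.range (pullback.snd f f)) := by
      rw [← Set.image_univ]
      exact (IrreducibleSpace.isIrreducible_univ _).image _
        (pullback.snd f f).continuous.continuousOn
    rw [Set.range_eq_univ.mpr hsnd.surj] at h1
    exact (irreducibleSpace_def X).mpr h1
  let ξ := genericPoint X
  obtain ⟨φ, hφ⟩ := exists_ringHom_residueField f ξ
  letI := φ.toAlgebra
  let r := X.fromSpecResidueField ξ
  obtain ⟨j, -, hjpb⟩ := exists_bcHom_right f f r
  have hjrange : Set.range j = (pullback.snd f f) ⁻¹' Set.range r :=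
    range_eq_preimage_of_isPullback hjpb
  haveI : IsPreimmersion j := MorphismProperty.of_isPullback hjpb.flip inferInstance
  -- the generic point of `X ×[k] X` lies over `ξ`
  let ζ := genericPoint ↥(pullback f f)
  have hζ : pullback.snd f f ζ = ξ := by
    have h1 : IsGenericPoint (pullback.snd f f ζ) (closure (pullback.snd f f '' Set.univ)) :=
      (genericPoint_spec ↥(pullback f f)).image (pullback.snd f f).continuous
    rw [Set.image_univ, Set.range_eq_univ.mpr hsnd.surj, closure_univ] at h1
    exact h1.eq (genericPoint_spec X)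
  have hζmem : ζ ∈ Set.range j := by
    rw [hjrange]
    show pullback.snd f f ζ ∈ Set.range r
    rw [hζ]
    exact ⟨IsLocalRing.closedPoint _, Scheme.fromSpecResidueField_apply _ _⟩
  have hSirr : IsIrreducible (Set.range j) := by
    apply isIrreducible_of_mem_of_subset_closure hζmem
    rw [(genericPoint_spec ↥(pullback f f)).def]
    exact Set.subset_univ _
  have hXκ : IrreducibleSpace ↥(pullback f (r ≫ f)) :=
    (irreducibleSpace_iff_isIrreducible_range j.isEmbedding).mpr hSirr
  have hXκ' : IrreducibleSpace ↥(pullback f (Spec.map (CommRingCat.ofHom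
      (algebraMap k (X.residueField ξ))))) := by
    have : Spec.map (CommRingCat.ofHom (algebraMap k (X.residueField ξ))) = r ≫ f := hφ
    rw [this]; exact hXκ
  have hκκ : IrreducibleSpace (PrimeSpectrum (X.residueField ξ ⊗[k] X.residueField ξ)) :=
    (irreducibleSpace_bc_iff (K := X.residueField ξ) f φ hφ).mp hXκ'
  apply geometricallyIrreducible_of_sepClosedIn f φ hφ
  intro α hα
  exact mem_range_of_irreducibleSpace_tensor_self α hα

theorem geometricallyIrreducible_iff_irreducibleSpace_prod {X : Scheme.{u}} {k : Type u} [Field k]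
    (f : X ⟶ Spec (CommRingCat.of k)) :
    GeometricallyIrreducible f ↔ IrreducibleSpace ↥(pullback f f) := by
  constructor
  · intro h
    haveI : IrreducibleSpace X := GeometricallyIrreducible.irreducibleSpace_of_subsingleton f
    infer_instance
  · intro h
    exact geometricallyIrreducible_of_irreducibleSpace_prod f

end Groth.Agent.Lib.Helper50
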