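import Mathlib
import Groth.Prelude
import Groth.Agent.Lib.Helper50.GeomScheme

/-!
# Irreducible components of a product of schemes over a field (helper50)
-/

open CategoryTheory AlgebraicGeometry Limits TopologicalSpace

universe u

namespace Groth.Agent.Lib.Helper50

variable {k : Type u} [Field k] {X Y : Scheme.{u}}
  (f : X ⟶ Spec (CommRingCat.of k)) (g : Y ⟶ Spec (CommRingCat.of k))

/-- A maximal irreducible subset of `p⁻¹(X') ∩ q⁻¹(Y')` in `X ×_k Y` dominates `X'`. -/
theorem exists_isGenericPoint_fst_eq (X' : Set X) (hX'c : IsClosed X')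
    (Y' : Set Y) (hY'c : IsClosed Y') (W : Set ↥(pullback f g))
    (hW : Maximal (fun V : Set ↥(pullback f g) => IsIrreducible V ∧
      V ⊆ ⇑(pullback.fst f g) ⁻¹' X' ∩ ⇑(pullback.snd f g) ⁻¹' Y') W)
    (η : X) (hη : IsGenericPoint η X') :
    ∃ ξ, IsGenericPoint ξ W ∧ pullback.fst f g ξ = η := by
  set F := ⇑(pullback.fst f g) ⁻¹' X' ∩ ⇑(pullback.snd f g) ⁻¹' Y' with hFdef
  have hF : IsClosed F := (hX'c.preimage (pullback.fst f g).continuous).inter
    (hY'c.preimage (pullback.snd f g).continuous)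
  have hWirr : IsIrreducible W := hW.prop.1
  have hWsub : W ⊆ F := hW.prop.2
  have hWc : IsClosed W := by
    rw [← closure_subset_iff_isClosed]
    exact hW.le_of_ge ⟨hWirr.closure, closure_minimal hWsub hF⟩ subset_closure
  obtain ⟨ξ, hξ⟩ := QuasiSober.sober hWirr hWc
  refine ⟨ξ, hξ, ?_⟩
  have hξW : ξ ∈ W := hξ.mem
  let Z : Closeds Y := ⟨Y', hY'c⟩
  let I := Scheme.IdealSheafData.vanishingIdeal Z
  let i : I.subscheme ⟶ Y := I.subschemeι
  have hi : Set.range i = Y' := by
    rw [Scheme.IdealSheafData.range_subschemeι, Scheme.IdealSheafData.coe_support_vanishingIdeal]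
    rfl
  let g' : I.subscheme ⟶ Spec (CommRingCat.of k) := i ≫ g
  let j : pullback f g' ⟶ pullback f g :=
    pullback.map f g' f g (𝟙 X) i (𝟙 _) (by simp) (by simp [g'])
  have hj : Set.range j = ⇑(pullback.snd f g) ⁻¹' Y' := by
    rw [Scheme.Pullback.range_map, hi]
    simp
  have hjfst : j ≫ pullback.fst f g = pullback.fst f g' := by
    simp only [j, pullback.map]
    rw [pullback.lift_fst, Category.comp_id]
  obtain ⟨τ, hτ⟩ : ξ ∈ Set.range j := by
    rw [hj]; exact (hWsub hξW).2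
  have hflat : Flat (pullback.fst f g') := inferInstance
  have hspec : η ⤳ pullback.fst f g' τ := by
    rw [← hjfst, Scheme.Hom.comp_apply, hτ]
    exact hη.specializes (hWsub hξW).1
  obtain ⟨τ', hτ'τ, hτ'η⟩ := Flat.generalizingMap (pullback.fst f g') hspec
  set ξ' := j τ' with hξ'
  have hξ'ξ : ξ' ⤳ ξ := by
    rw [← hτ]; exact hτ'τ.map j.continuous
  have hfstξ' : pullback.fst f g ξ' = η := by
    rw [hξ', ← Scheme.Hom.comp_apply, hjfst]; exact hτ'η
  have hξ'F : ξ' ∈ F := by
    refine ⟨?_, ?_⟩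
    · show pullback.fst f g ξ' ∈ X'
      rw [hfstξ']; exact hη.mem
    · have : ξ' ∈ Set.range j := ⟨τ', rfl⟩
      rw [hj] at this; exact this
  have hcl : closure ({ξ'} : Set ↥(pullback f g)) ⊆ F :=
    closure_minimal (Set.singleton_subset_iff.mpr hξ'F) hF
  have hWle : W ⊆ closure ({ξ'} : Set ↥(pullback f g)) := by
    rw [← hξ.def]
    exact closure_minimal (Set.singleton_subset_iff.mpr (specializes_iff_mem_closure.mp hξ'ξ))
      isClosed_closure
  have hle : closure ({ξ'} : Set ↥(pullback f g)) ⊆ W :=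
    hW.le_of_ge ⟨isIrreducible_singleton.closure, hcl⟩ hWle
  have hξξ' : ξ ⤳ ξ' := by
    rw [specializes_iff_mem_closure, hξ.def]
    exact hle (subset_closure rfl)
  have : ξ = ξ' := (hξξ'.antisymm hξ'ξ).eq
  rw [this, hfstξ']

/-- A maximal irreducible subset of `p⁻¹(X') ∩ q⁻¹(Y')` in `X ×_k Y` dominates `Y'`. -/
theorem exists_isGenericPoint_snd_eq (X' : Set X) (hX'c : IsClosed X')
    (Y' : Set Y) (hY'c : IsClosed Y') (W : Set ↥(pullback f g))
    (hW : Maximal (fun V : Set ↥(pullback f g) => IsIrreducible V ∧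
      V ⊆ ⇑(pullback.fst f g) ⁻¹' X' ∩ ⇑(pullback.snd f g) ⁻¹' Y') W)
    (η : Y) (hη : IsGenericPoint η Y') :
    ∃ ξ, IsGenericPoint ξ W ∧ pullback.snd f g ξ = η := by
  set F := ⇑(pullback.fst f g) ⁻¹' X' ∩ ⇑(pullback.snd f g) ⁻¹' Y' with hFdef
  have hF : IsClosed F := (hX'c.preimage (pullback.fst f g).continuous).inter
    (hY'c.preimage (pullback.snd f g).continuous)
  have hWirr : IsIrreducible W := hW.prop.1
  have hWsub : W ⊆ F := hW.prop.2
  have hWc : IsClosed W := by
    rw [← closure_subset_iff_isClosed]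
    exact hW.le_of_ge ⟨hWirr.closure, closure_minimal hWsub hF⟩ subset_closure
  obtain ⟨ξ, hξ⟩ := QuasiSober.sober hWirr hWc
  refine ⟨ξ, hξ, ?_⟩
  have hξW : ξ ∈ W := hξ.mem
  let Z : Closeds X := ⟨X', hX'c⟩
  let I := Scheme.IdealSheafData.vanishingIdeal Z
  let i : I.subscheme ⟶ X := I.subschemeι
  have hi : Set.range i = X' := by
    rw [Scheme.IdealSheafData.range_subschemeι, Scheme.IdealSheafData.coe_support_vanishingIdeal]
    rfl
  let f' : I.subscheme ⟶ Spec (CommRingCat.of k) := i ≫ f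
  let j : pullback f' g ⟶ pullback f g :=
    pullback.map f' g f g i (𝟙 Y) (𝟙 _) (by simp [f']) (by simp)
  have hj : Set.range j = ⇑(pullback.fst f g) ⁻¹' X' := by
    rw [Scheme.Pullback.range_map, hi]
    simp
  have hjsnd : j ≫ pullback.snd f g = pullback.snd f' g := by
    simp only [j, pullback.map]
    rw [pullback.lift_snd, Category.comp_id]
  obtain ⟨τ, hτ⟩ : ξ ∈ Set.range j := by
    rw [hj]; exact (hWsub hξW).1
  have hflat : Flat (pullback.snd f' g) := inferInstance
  have hspec : η ⤳ pullback.snd f' g τ := by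
    rw [← hjsnd, Scheme.Hom.comp_apply, hτ]
    exact hη.specializes (hWsub hξW).2
  obtain ⟨τ', hτ'τ, hτ'η⟩ := Flat.generalizingMap (pullback.snd f' g) hspec
  set ξ' := j τ' with hξ'
  have hξ'ξ : ξ' ⤳ ξ := by
    rw [← hτ]; exact hτ'τ.map j.continuous
  have hsndξ' : pullback.snd f g ξ' = η := by
    rw [hξ', ← Scheme.Hom.comp_apply, hjsnd]; exact hτ'η
  have hξ'F : ξ' ∈ F := by
    refine ⟨?_, ?_⟩
    · have : ξ' ∈ Set.range j := ⟨τ', rfl⟩
      rw [hj] at this; exact this
    · show pullback.snd f g ξ' ∈ Y'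
      rw [hsndξ']; exact hη.mem
  have hcl : closure ({ξ'} : Set ↥(pullback f g)) ⊆ F :=
    closure_minimal (Set.singleton_subset_iff.mpr hξ'F) hF
  have hWle : W ⊆ closure ({ξ'} : Set ↥(pullback f g)) := by
    rw [← hξ.def]
    exact closure_minimal (Set.singleton_subset_iff.mpr (specializes_iff_mem_closure.mp hξ'ξ))
      isClosed_closure
  have hle : closure ({ξ'} : Set ↥(pullback f g)) ⊆ W :=
    hW.le_of_ge ⟨isIrreducible_singleton.closure, hcl⟩ hWle
  have hξξ' : ξ ⤳ ξ' := by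
    rw [specializes_iff_mem_closure, hξ.def]
    exact hle (subset_closure rfl)
  have : ξ = ξ' := (hξξ'.antisymm hξ'ξ).eq
  rw [this, hsndξ']

/-- Irreducible components of `X ×_k Y`: they are the maximal irreducible subsets of the products
of irreducible components. -/
theorem mem_irreducibleComponents_pullback_iff (W : Set ↥(pullback f g)) :
    W ∈ irreducibleComponents ↥(pullback f g) ↔
      ∃ X' ∈ irreducibleComponents ↥X, ∃ Y' ∈ irreducibleComponents ↥Y,
        Maximal (fun V : Set ↥(pullback f g) => IsIrreducible V ∧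
          V ⊆ ⇑(pullback.fst f g) ⁻¹' X' ∩ ⇑(pullback.snd f g) ⁻¹' Y') W := by
  constructor
  · intro hW
    obtain ⟨X', hX', hsubX⟩ := exists_mem_irreducibleComponents_subset_of_isIrreducible
      (⇑(pullback.fst f g) '' W) (hW.1.image _ (pullback.fst f g).continuous.continuousOn)
    obtain ⟨Y', hY', hsubY⟩ := exists_mem_irreducibleComponents_subset_of_isIrreducible
      (⇑(pullback.snd f g) '' W) (hW.1.image _ (pullback.snd f g).continuous.continuousOn)
    refine ⟨X', hX', Y', hY', ⟨hW.1, fun w hw => ⟨hsubX ⟨w, hw, rfl⟩, hsubY ⟨w, hw, rfl⟩⟩⟩, ?_⟩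
    intro V hV hWV
    exact hW.2 hV.1 hWV
  · rintro ⟨X', hX', Y', hY', hW⟩
    have hX'c := isClosed_of_mem_irreducibleComponents X' hX'
    have hY'c := isClosed_of_mem_irreducibleComponents Y' hY'
    refine ⟨hW.prop.1, fun V hV hWV => ?_⟩
    apply hW.le_of_ge ⟨hV, ?_⟩ hWV
    obtain ⟨ηX, hηX⟩ := QuasiSober.sober hX'.1 hX'c
    obtain ⟨ηY, hηY⟩ := QuasiSober.sober hY'.1 hY'c
    obtain ⟨ξ₁, hξ₁, hξ₁η⟩ := exists_isGenericPoint_fst_eq f g X' hX'c Y' hY'c W hW ηX hηX
    obtain ⟨ξ₂, hξ₂, hξ₂η⟩ := exists_isGenericPoint_snd_eq f g X' hX'c Y' hY'c W hW ηY hηY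
    intro v hv
    constructor
    · -- the image of `V` under `fst` is irreducible and contains `ηX`
      obtain ⟨X'', hX'', hsub⟩ := exists_mem_irreducibleComponents_subset_of_isIrreducible
        (⇑(pullback.fst f g) '' V) (hV.image _ (pullback.fst f g).continuous.continuousOn)
      have hηX'' : ηX ∈ X'' := hsub ⟨ξ₁, hWV hξ₁.mem, hξ₁η⟩
      have hle : X' ⊆ X'' := by
        rw [← hηX.def]
        exact closure_minimal (Set.singleton_subset_iff.mpr hηX'')
          (isClosed_of_mem_irreducibleComponents X'' hX'')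
      have : X'' ⊆ X' := hX'.2 hX''.1 hle
      exact this (hsub ⟨v, hv, rfl⟩)
    · obtain ⟨Y'', hY'', hsub⟩ := exists_mem_irreducibleComponents_subset_of_isIrreducible
        (⇑(pullback.snd f g) '' V) (hV.image _ (pullback.snd f g).continuous.continuousOn)
      have hηY'' : ηY ∈ Y'' := hsub ⟨ξ₂, hWV hξ₂.mem, hξ₂η⟩
      have hle : Y' ⊆ Y'' := by
        rw [← hηY.def]
        exact closure_minimal (Set.singleton_subset_iff.mpr hηY'')
          (isClosed_of_mem_irreducibleComponents Y'' hY'')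
      have : Y'' ⊆ Y' := hY'.2 hY''.1 hle
      exact this (hsub ⟨v, hv, rfl⟩)

end Groth.Agent.Lib.Helper50
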