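import Mathlib
import Groth.Prelude
import Groth.Agent.Lib.Helper50.PushO

/-! Fibrations between normal proper varieties vs. algebraically closed function fields
(helper50). -/

set_option autoImplicit false
universe u
open CategoryTheory AlgebraicGeometry TopologicalSpace Opposite Polynomial

namespace Groth.Agent.Lib.Helper50

/-- On a normal integral scheme, an element of the function field which is integral over the
sections over a nonempty open `U` is (the germ of) a section over `U`. -/
theorem mem_range_germToFunctionField_of_isIntegralElem (X : Scheme.{u}) [IsIntegral X]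
    (hX : Pi1.IsNormalScheme X) (U : X.Opens) [Nonempty U] (z : X.functionField)
    (hz : (X.germToFunctionField U).hom.IsIntegralElem z) :
    z ∈ Set.range (X.germToFunctionField U).hom := by
  obtain ⟨p, hp, hpz⟩ := hz
  have hloc : ∀ W : {W : X.Opens // IsAffineOpen W ∧ W ≤ U ∧ (W : Set X).Nonempty},
      ∃ s : Γ(X, W.1), ∀ (hW : Nonempty W.1), X.germToFunctionField W.1 s = z := by
    rintro ⟨W, hW, hWU, hne⟩
    haveI : Nonempty W := hne.to_subtype
    have hic : IsIntegrallyClosed Γ(X, W) :=
      Groth.Agent.Lib.Helper23.isIntegrallyClosed_of_isAffineOpen (fun y => (hX y).2) hW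
    have hfr : IsFractionRing Γ(X, W) X.functionField :=
      functionField_isFractionRing_of_isAffineOpen X W hW
    have hint : IsIntegral Γ(X, W) z := by
      refine ⟨p.map (X.presheaf.map (homOfLE hWU).op).hom, hp.map _, ?_⟩
      rw [Polynomial.eval₂_map]
      have hcomp : (algebraMap Γ(X, W) X.functionField).comp
          (X.presheaf.map (homOfLE hWU).op).hom = (X.germToFunctionField U).hom := by
        change (X.germToFunctionField W).hom.comp _ = _
        rw [← CommRingCat.hom_comp]
        congr 1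
        rw [TopCat.Presheaf.germ_res]
      rw [hcomp]
      exact hpz
    obtain ⟨s, hs⟩ := IsIntegrallyClosed.isIntegral_iff.mp hint
    exact ⟨s, fun _ => hs⟩
  choose s hs using hloc
  let 𝒱 : {W : X.Opens // IsAffineOpen W ∧ W ≤ U ∧ (W : Set X).Nonempty} → X.Opens := fun W => W.1
  have hcover : U ≤ iSup 𝒱 := by
    intro x hx
    obtain ⟨W, hW, hxW, hWU⟩ := exists_isAffineOpen_mem_and_subset (x := x) (U := U) hx
    exact Opens.mem_iSup.mpr ⟨⟨W, hW, hWU, ⟨x, hxW⟩⟩, hxW⟩
  have hcompat : TopCat.Presheaf.IsCompatible X.sheaf.1 𝒱 s := by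
    intro V V'
    haveI : Nonempty V.1 := V.2.2.2.to_subtype
    haveI : Nonempty V'.1 := V'.2.2.2.to_subtype
    haveI hne : Nonempty (𝒱 V ⊓ 𝒱 V' : X.Opens) := by
      obtain ⟨x, hx1, hx2⟩ := nonempty_preirreducible_inter V.1.isOpen V'.1.isOpen V.2.2.2 V'.2.2.2
      exact ⟨⟨x, hx1, hx2⟩⟩
    refine @Scheme.germToFunctionField_injective X _ (𝒱 V ⊓ 𝒱 V') hne _ _ ?_
    have e1 : X.germToFunctionField (𝒱 V ⊓ 𝒱 V')
        (X.presheaf.map (Opens.infLELeft (𝒱 V) (𝒱 V')).op (s V)) =
        X.germToFunctionField V.1 (s V) := TopCat.Presheaf.germ_res_apply _ _ _ _ _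
    have e2 : X.germToFunctionField (𝒱 V ⊓ 𝒱 V')
        (X.presheaf.map (Opens.infLERight (𝒱 V) (𝒱 V')).op (s V')) =
        X.germToFunctionField V'.1 (s V') := TopCat.Presheaf.germ_res_apply _ _ _ _ _
    exact e1.trans ((hs V inferInstance).trans ((hs V' inferInstance).symm.trans e2.symm))
  obtain ⟨g, hg, -⟩ := X.sheaf.existsUnique_gluing' 𝒱 U (fun V => homOfLE V.2.2.1) hcover s hcompat
  refine ⟨g, ?_⟩
  obtain ⟨x⟩ := (inferInstance : Nonempty U)
  obtain ⟨W, hW, hxW, hWU⟩ := exists_isAffineOpen_mem_and_subset (x := x.1) (U := U) x.2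
  let V : {W : X.Opens // IsAffineOpen W ∧ W ≤ U ∧ (W : Set X).Nonempty} :=
    ⟨W, hW, hWU, ⟨x.1, hxW⟩⟩
  haveI : Nonempty W := ⟨⟨x.1, hxW⟩⟩
  have e2 : X.germToFunctionField W (X.presheaf.map (homOfLE hWU).op g) =
      X.germToFunctionField U g := TopCat.Presheaf.germ_res_apply _ _ _ _ _
  have e3 : X.presheaf.map (homOfLE hWU).op g = s V := hg V
  exact e2.symm.trans ((congrArg _ e3).trans (hs V inferInstance))

section

variable {X Y : Scheme.{u}} [IsIntegral X] [IsIntegral Y]

theorem germToFunctionField_app (f : X ⟶ Y) (hdom : f.base (genericPoint X) ⤳ genericPoint Y)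
    (V : Y.Opens) [hne : Nonempty V] (hfξ : f.base (genericPoint X) ∈ V) (b : Γ(Y, V)) :
    X.presheaf.germ (f ⁻¹ᵁ V) (genericPoint X) hfξ (f.app V b) =
      CohIII.stalkToFunctionField f (genericPoint Y) hdom (Y.germToFunctionField V b) := by
  have hξY : genericPoint Y ∈ V :=
    ((genericPoint_spec Y).mem_open_set_iff V.isOpen).mpr (by simpa using hne)
  change X.presheaf.germ (f ⁻¹ᵁ V) (genericPoint X) _ (f.app V b) =
    (f.stalkMap (genericPoint X)).hom ((Y.presheaf.stalkSpecializes hdom).hom
      (Y.presheaf.germ V (genericPoint Y) _ b))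
  have h1 := TopCat.Presheaf.germ_stalkSpecializes Y.presheaf hξY hdom
  have h2 := Scheme.Hom.germ_stalkMap f V (genericPoint X) hfξ
  have h3 : (Y.presheaf.stalkSpecializes hdom).hom (Y.presheaf.germ V (genericPoint Y) hξY b) =
      Y.presheaf.germ V (f.base (genericPoint X)) hfξ b := by
    have := congr($(h1) b)
    exact this
  have h4 : (f.stalkMap (genericPoint X)).hom (Y.presheaf.germ V (f.base (genericPoint X)) hfξ b) =
      X.presheaf.germ (f ⁻¹ᵁ V) (genericPoint X) hfξ (f.app V b) := by
    have := congr($(h2) b)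
    exact this
  rw [h3, h4]

/-- If `O_Y → f_* O_X` is an isomorphism and `X` is normal, then `R(Y)` is algebraically closed in
`R(X)`. -/
theorem mem_range_of_isIntegralElem_of_isIso_app (hX : Pi1.IsNormalScheme X)
    (f : X ⟶ Y) (hdom : f.base (genericPoint X) ⤳ genericPoint Y)
    (hiso : ∀ U : Y.Opens, IsIso (f.app U)) (x : X.functionField)
    (hx : (CohIII.stalkToFunctionField f (genericPoint Y) hdom).IsIntegralElem x) :
    x ∈ (CohIII.stalkToFunctionField f (genericPoint Y) hdom).range := by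
  obtain ⟨V, hV, hξY, -⟩ :=
    exists_isAffineOpen_mem_and_subset (x := genericPoint Y) (U := ⊤) trivial
  haveI hne : Nonempty V := ⟨⟨_, hξY⟩⟩
  have hfξ : f.base (genericPoint X) ∈ V := hdom.mem_open V.isOpen hξY
  haveI : Nonempty (f ⁻¹ᵁ V) := ⟨⟨genericPoint X, hfξ⟩⟩
  haveI := functionField_isFractionRing_of_isAffineOpen Y V hV
  set φ := CohIII.stalkToFunctionField f (genericPoint Y) hdom with hφ
  letI : Algebra Y.functionField X.functionField := φ.toAlgebra
  letI : Algebra Γ(Y, V) X.functionField := (φ.comp (algebraMap Γ(Y, V) Y.functionField)).toAlgebra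
  haveI : IsScalarTower Γ(Y, V) Y.functionField X.functionField :=
    IsScalarTower.of_algebraMap_eq (fun _ => rfl)
  obtain ⟨m, hm⟩ := IsIntegral.exists_multiple_integral_of_isLocalization
    (nonZeroDivisors Γ(Y, V)) x hx
  have hmx : m • x = φ (Y.germToFunctionField V (m : Γ(Y, V))) * x := by
    rw [Submonoid.smul_def, Algebra.smul_def]
    rfl
  obtain ⟨q, hq, hqx⟩ := hm
  have hcomm : (X.germToFunctionField (f ⁻¹ᵁ V)).hom.comp (f.app V).hom =
      φ.comp (algebraMap Γ(Y, V) Y.functionField) := by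
    ext b
    exact germToFunctionField_app f hdom V hfξ b
  have hint : (X.germToFunctionField (f ⁻¹ᵁ V)).hom.IsIntegralElem (m • x) := by
    refine ⟨q.map (f.app V).hom, hq.map _, ?_⟩
    rw [Polynomial.eval₂_map, hcomm]
    exact hqx
  obtain ⟨c, hc⟩ := mem_range_germToFunctionField_of_isIntegralElem X hX (f ⁻¹ᵁ V) _ hint
  have hbij : Function.Bijective (f.app V).hom :=
    ConcreteCategory.bijective_of_isIso (f.app V)
  obtain ⟨b', rfl⟩ := hbij.2 c
  have h5 : φ (Y.germToFunctionField V b') = φ (Y.germToFunctionField V (m : Γ(Y, V))) * x := by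
    rw [← hmx, ← hc]
    exact (germToFunctionField_app f hdom V hfξ b').symm
  have hm0 : Y.germToFunctionField V (m : Γ(Y, V)) ≠ 0 := by
    intro h0
    have : (m : Γ(Y, V)) = 0 := Y.germToFunctionField_injective V (h0.trans (map_zero _).symm)
    exact nonZeroDivisors.ne_zero m.2 this
  refine ⟨Y.germToFunctionField V b' / Y.germToFunctionField V (m : Γ(Y, V)), ?_⟩
  rw [map_div₀, h5, mul_div_cancel_left₀]
  exact fun h0 => hm0 (φ.injective (h0.trans (map_zero _).symm))

end

end Groth.Agent.Lib.Helper50
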