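import Mathlib
import Groth.Prelude
import Groth.Agent.Lib.Helper50.PushO2
import Groth.Agent.Lib.Helper55.FiberTrdeg
import Groth.Agent.Lib.Helper2.ConnDim2
import Groth.Agent.Lib.Helper97.VarDim

/-! Fibrations between proper varieties of the same dimension are birational (helper50). -/

set_option autoImplicit false
universe u
open CategoryTheory AlgebraicGeometry TopologicalSpace Opposite Polynomial

namespace Groth.Agent.Lib.Helper50

attribute [local instance] Curv2.resAlgebra

/-- A point of `X` over the generic point of `Y`, where `dim X = dim Y` and `X` irreducible l.f.t.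
over a field, is the generic point. -/
theorem closure_eq_univ_of_map_eq_genericPoint (k : Type u) [Field k]
    (X Y : Scheme.{u}) [X.Over (Spec (CommRingCat.of k))] [Y.Over (Spec (CommRingCat.of k))]
    [LocallyOfFiniteType (X ↘ Spec (CommRingCat.of k))]
    [LocallyOfFiniteType (Y ↘ Spec (CommRingCat.of k))] [IsIntegral X] [IsIntegral Y]
    [CompactSpace X] (f : X ⟶ Y)
    (hf : f ≫ (Y ↘ Spec (CommRingCat.of k)) = X ↘ Spec (CommRingCat.of k))
    (hdim : topologicalKrullDim ↥X = topologicalKrullDim ↥Y) (z : X)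
    (hz : f.base z = genericPoint Y) : closure ({z} : Set X) = Set.univ := by
  by_contra hne
  obtain ⟨s, hs1, hs2⟩ := Groth.Agent.Lib.Helper55.exists_dim_closure_eq_trdeg k X z
  obtain ⟨t, ht1, ht2⟩ := Groth.Agent.Lib.Helper55.exists_dim_closure_eq_trdeg k Y (f.base z)
  have hfin : topologicalKrullDim ↥(Set.univ : Set X) < ⊤ := by
    rw [(Homeomorph.Set.univ X).isHomeomorph.topologicalKrullDim_eq]
    exact Groth.Agent.Lib.Helper97.VarDim.topologicalKrullDim_lt_top_of_locallyOfFiniteType k X
      (X ↘ Spec (CommRingCat.of k))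
  have h1 := Groth.Agent.Lib.Helper2.topologicalKrullDim_lt_of_ssubset_of_isIrreducible
    (Set.subset_univ (closure ({z} : Set X))) hne isClosed_closure
    (IrreducibleSpace.isIrreducible_univ X) hfin
  rw [(Homeomorph.Set.univ X).isHomeomorph.topologicalKrullDim_eq, hs1, hdim] at h1
  have h2 : closure ({f.base z} : Set Y) = Set.univ := by
    rw [hz]; exact (genericPoint_spec Y)
  rw [h2, (Homeomorph.Set.univ Y).isHomeomorph.topologicalKrullDim_eq] at ht1
  rw [ht1] at h1
  have h3 : Algebra.trdeg k (Y.residueField (f.base z)) ≤ Algebra.trdeg k (X.residueField z) := by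
    let g : Y.residueField (f.base z) →ₐ[k] X.residueField z :=
      { (f.residueFieldMap z).hom with
        commutes' := fun r => by
          have := Groth.Agent.Lib.Helper55.residueFieldMap_comp_resMap k X Y f hf z
          exact congr($this r) }
    exact trdeg_le_of_injective g (f.residueFieldMap z).hom.injective
  rw [hs2, ht2] at h3
  have h4 : t ≤ s := by exact_mod_cast h3
  have h5 : ((s : ℕ) : WithBot ℕ∞) < ((t : ℕ) : WithBot ℕ∞) := h1
  have h6 : s < t := by exact_mod_cast h5
  omega

section

variable {X Y : Scheme.{u}} [IsIntegral X] [IsIntegral Y]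

/-- If `O_Y → f_* O_X` is an isomorphism, `f` is closed and the only point over the generic point
of `Y` is the generic point of `X`, then `f` is birational. -/
theorem stalkToFunctionField_surjective_of_isIso_app (f : X ⟶ Y)
    (hcl : IsClosedMap f.base)
    (hdom : f.base (genericPoint X) ⤳ genericPoint Y)
    (hgen : ∀ z : X, f.base z = genericPoint Y → closure ({z} : Set X) = Set.univ)
    (hiso : ∀ U : Y.Opens, IsIso (f.app U)) :
    Function.Surjective (CohIII.stalkToFunctionField f (genericPoint Y) hdom) := by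
  intro x
  obtain ⟨U, hξU, s, hs⟩ := TopCat.Presheaf.exists_germ_eq X.presheaf (x := genericPoint X) x
  have hZcl : IsClosed (f.base '' ((U : Set X)ᶜ)) := hcl _ U.isOpen.isClosed_compl
  have hξV : genericPoint Y ∈ (f.base '' ((U : Set X)ᶜ))ᶜ := by
    rintro ⟨z, hzU, hz⟩
    have h1 := hgen z hz
    have h2 : closure ({z} : Set X) ⊆ (U : Set X)ᶜ :=
      closure_minimal (Set.singleton_subset_iff.mpr hzU) U.isOpen.isClosed_compl
    rw [h1] at h2
    exact h2 (Set.mem_univ (genericPoint X)) hξU
  let V : Y.Opens := ⟨(f.base '' ((U : Set X)ᶜ))ᶜ, hZcl.isOpen_compl⟩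
  haveI hne : Nonempty V := ⟨⟨_, hξV⟩⟩
  have hfξ : f.base (genericPoint X) ∈ V := hdom.mem_open V.isOpen hξV
  have hVU : f ⁻¹ᵁ V ≤ U := by
    intro y hy
    by_contra hyU
    exact hy ⟨y, hyU, rfl⟩
  have hbij : Function.Bijective (f.app V).hom :=
    ConcreteCategory.bijective_of_isIso (f.app V)
  obtain ⟨b, hb⟩ := hbij.2 (X.presheaf.map (homOfLE hVU).op s)
  refine ⟨Y.germToFunctionField V b, ?_⟩
  rw [← germToFunctionField_app f hdom V hfξ b]
  have h3 : X.presheaf.germ (f ⁻¹ᵁ V) (genericPoint X) hfξ (X.presheaf.map (homOfLE hVU).op s) =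
      X.presheaf.germ U (genericPoint X) hξU s := TopCat.Presheaf.germ_res_apply _ _ _ _ _
  rw [← hs, ← h3]
  exact congrArg _ hb

end

end Groth.Agent.Lib.Helper50
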