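import Mathlib

/-!
# Geometric irreducibility of `K(t)/k(t)`
-/

universe u

namespace Groth.Agent.Lib.Helper50

open TensorProduct Polynomial

/-- If `φ : A → B` is injective, every element of `B` becomes an element of the image after
multiplication by a unit, `Spec A` is irreducible and `B` is nontrivial, then `Spec B` is
irreducible. -/
theorem irreducibleSpace_of_injective_of_exists_unit_mul {A B : Type*} [CommRing A] [CommRing B]
    (φ : A →+* B) (hinj : Function.Injective φ)
    (hsurj : ∀ b : B, ∃ u : B, IsUnit u ∧ b * u ∈ φ.range)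
    [hA : IrreducibleSpace (PrimeSpectrum A)] : IrreducibleSpace (PrimeSpectrum B) := by
  have hnt : Nontrivial A := by
    obtain ⟨p⟩ := (inferInstance : Nonempty (PrimeSpectrum A))
    exact ⟨⟨0, 1, fun h => p.2.ne_top ((Ideal.eq_top_iff_one _).mpr (h ▸ p.asIdeal.zero_mem))⟩⟩
  have hntB : Nontrivial B := ⟨⟨φ 0, φ 1, fun h => zero_ne_one (hinj h)⟩⟩
  rw [PrimeSpectrum.irreducibleSpace_iff_isPrime_nilradical] at hA ⊢
  refine ⟨?_, ?_⟩
  · intro h
    have : (1 : B) ∈ nilradical B := h ▸ Submodule.mem_top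
    obtain ⟨n, hn⟩ := mem_nilradical.mp this
    rw [one_pow] at hn
    exact one_ne_zero hn
  · intro x y hxy
    obtain ⟨u, hu, a, ha⟩ := hsurj x
    obtain ⟨v, hv, b, hb⟩ := hsurj y
    have h1 : IsNilpotent (φ (a * b)) := by
      rw [map_mul, ha, hb]
      have : x * u * (y * v) = (x * y) * (u * v) := by ring
      rw [this]
      exact mem_nilradical.mp (Ideal.mul_mem_right _ _ hxy)
    have h2 : IsNilpotent (a * b) := (IsNilpotent.map_iff hinj).mp h1
    rcases hA.mem_or_mem (mem_nilradical.mpr h2) with h | h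
    · left
      have h3 : IsNilpotent (x * u) := ha ▸ (mem_nilradical.mp h).map φ
      obtain ⟨u', hu'⟩ := hu.exists_right_inv
      have : x = (x * u) * u' := by rw [mul_assoc, hu', mul_one]
      rw [this]
      exact Ideal.mul_mem_right _ _ (mem_nilradical.mpr h3)
    · right
      have h3 : IsNilpotent (y * v) := hb ▸ (mem_nilradical.mp h).map φ
      obtain ⟨v', hv'⟩ := hv.exists_right_inv
      have : y = (y * v) * v' := by rw [mul_assoc, hv', mul_one]
      rw [this]
      exact Ideal.mul_mem_right _ _ (mem_nilradical.mpr h3)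

/-- A `k`-linearly independent family of `K` stays linearly independent over `k(t)` in `K(t)`. -/
theorem linearIndependent_ratFunc {k K : Type*} [Field k] [Field K] [Algebra k K]
  (kt Kt : Type*) [Field kt] [Field Kt] [Algebra k[X] kt] [IsFractionRing k[X] kt]
  [Algebra K[X] Kt] [IsFractionRing K[X] Kt] [Algebra kt Kt]
  [Algebra K Kt] [IsScalarTower K K[X] Kt]
    (hcompat : ∀ p : k[X], algebraMap kt Kt (algebraMap k[X] kt p) =
      algebraMap K[X] Kt (p.map (algebraMap k K)))
    {ι : Type*} (v : ι → K) (hv : LinearIndependent k v) :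
    LinearIndependent kt (fun i => algebraMap K Kt (v i)) := by
  classical
  rw [linearIndependent_iff']
  intro s g hg i hi
  obtain ⟨b, hb⟩ := IsLocalization.exist_integer_multiples_of_finset (nonZeroDivisors k[X])
    (s.image g)
  have hb' : ∀ j ∈ s, ∃ p : k[X], algebraMap k[X] kt p = (b : k[X]) • g j := fun j hj =>
    hb (g j) (Finset.mem_image_of_mem g hj)
  choose! p hp using hb'
  have hsum : ∑ j ∈ s, (p j).map (algebraMap k K) * C (v j) = 0 := by
    apply IsFractionRing.injective K[X] Kt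
    rw [map_sum, map_zero]
    have h1 : ∀ j ∈ s, algebraMap K[X] Kt ((p j).map (algebraMap k K) * C (v j)) =
        algebraMap kt Kt (algebraMap k[X] kt (b : k[X])) * (g j • algebraMap K Kt (v j)) := by
      intro j hj
      rw [map_mul, ← hcompat, hp j hj, IsScalarTower.algebraMap_apply K K[X] Kt,
        Polynomial.algebraMap_apply, Algebra.algebraMap_self, RingHom.id_apply,
        Algebra.smul_def (g j), Algebra.smul_def (b : k[X]), map_mul, mul_assoc]
    rw [Finset.sum_congr rfl h1, ← Finset.mul_sum, hg, mul_zero]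
  have hcoeff : ∀ n, ∀ j ∈ s, (p j).coeff n = 0 := by
    intro n
    have h2 : ∑ j ∈ s, (p j).coeff n • v j = 0 := by
      have := congrArg (fun q => q.coeff n) hsum
      simp only [Polynomial.finsetSum_coeff, Polynomial.coeff_mul_C, Polynomial.coeff_map,
        Polynomial.coeff_zero] at this
      simpa [Algebra.smul_def] using this
    exact (linearIndependent_iff'.mp hv) s (fun j => (p j).coeff n) h2
  have hpi : p i = 0 := Polynomial.ext fun n => by rw [hcoeff n i hi, Polynomial.coeff_zero]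
  have h3 := hp i hi
  rw [hpi, map_zero] at h3
  have hbne : algebraMap k[X] kt (b : k[X]) ≠ 0 := by
    intro h
    have := IsFractionRing.injective k[X] kt (h.trans (map_zero _).symm)
    exact nonZeroDivisors.ne_zero b.2 this
  rw [Algebra.smul_def] at h3
  exact (mul_eq_zero.mp h3.symm).resolve_left hbne

section RatFunc

variable {k K : Type*} [Field k] [Field K] [Algebra k K]
  (kt Kt : Type*) [Field kt] [Field Kt] [Algebra k[X] kt] [IsFractionRing k[X] kt]
  [Algebra K[X] Kt] [IsFractionRing K[X] Kt] [Algebra kt Kt]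
  [Algebra k kt] [IsScalarTower k k[X] kt] [Algebra K Kt] [IsScalarTower K K[X] Kt]
  [Algebra k Kt] [IsScalarTower k kt Kt] [IsScalarTower k K Kt]

/-- The canonical map `k(t) ⊗[k] K → K(t)`. -/
noncomputable def ratFuncMul : kt ⊗[k] K →ₐ[kt] Kt :=
  Algebra.TensorProduct.lift (Algebra.ofId kt Kt) (IsScalarTower.toAlgHom k K Kt)
    (fun _ _ => Commute.all _ _)

omit [IsFractionRing k[X] kt] [IsFractionRing K[X] Kt] [IsScalarTower k k[X] kt]
  [IsScalarTower K K[X] Kt] in
@[simp]
theorem ratFuncMul_tmul (r : kt) (a : K) :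
    ratFuncMul kt Kt (r ⊗ₜ[k] a) = algebraMap kt Kt r * algebraMap K Kt a := by
  simp [ratFuncMul, Algebra.ofId_apply]

theorem ratFuncMul_injective
    (hcompat : ∀ p : k[X], algebraMap kt Kt (algebraMap k[X] kt p) =
      algebraMap K[X] Kt (p.map (algebraMap k K))) :
    Function.Injective (ratFuncMul (k := k) (K := K) kt Kt) := by
  classical
  let ℬ := Module.Basis.ofVectorSpace k K
  let 𝔹 := Algebra.TensorProduct.basis kt ℬ
  have hLI : LinearIndependent kt (fun i => algebraMap K Kt (ℬ i)) :=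
    linearIndependent_ratFunc kt Kt hcompat _ ℬ.linearIndependent
  have hcomp : (fun i => ratFuncMul (k := k) (K := K) kt Kt (𝔹 i)) =
      fun i => algebraMap K Kt (ℬ i) := by
    funext i
    simp [𝔹, Algebra.TensorProduct.basis_apply]
  rw [injective_iff_map_eq_zero]
  intro z hz
  have h1 : Finsupp.linearCombination kt (fun i => ratFuncMul (k := k) (K := K) kt Kt (𝔹 i))
      (𝔹.repr z) = 0 := by
    have := Finsupp.apply_linearCombination kt (ratFuncMul (k := k) (K := K) kt Kt).toLinearMap 𝔹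
      (𝔹.repr z)
    rw [𝔹.linearCombination_repr z] at this
    rw [← hz]
    exact this.symm
  rw [hcomp] at h1
  have h2 := (linearIndependent_iff.mp hLI) _ h1
  exact 𝔹.repr.injective (by rw [h2, map_zero])


variable (L : Type*) [Field L] [Algebra kt L] [Algebra k L] [IsScalarTower k kt L]

/-- The canonical map `L ⊗[k] K → L ⊗[k(t)] K(t)`. -/
noncomputable def ratFuncTensorMap : L ⊗[k] K →ₐ[kt] L ⊗[kt] Kt :=
  (Algebra.TensorProduct.map (AlgHom.id kt L) (ratFuncMul (k := k) (K := K) kt Kt)).comp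
    (Algebra.TensorProduct.cancelBaseChange k kt kt L K).symm.toAlgHom

omit [IsFractionRing k[X] kt] [IsFractionRing K[X] Kt] [IsScalarTower k k[X] kt]
  [IsScalarTower K K[X] Kt] in
@[simp]
theorem ratFuncTensorMap_tmul (l : L) (a : K) :
    ratFuncTensorMap kt Kt L (l ⊗ₜ[k] a) = l ⊗ₜ[kt] algebraMap K Kt a := by
  simp [ratFuncTensorMap]

theorem ratFuncTensorMap_injective
    (hcompat : ∀ p : k[X], algebraMap kt Kt (algebraMap k[X] kt p) =
      algebraMap K[X] Kt (p.map (algebraMap k K))) :
    Function.Injective (ratFuncTensorMap (k := k) (K := K) kt Kt L) := by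
  have h1 : Function.Injective (Algebra.TensorProduct.map (AlgHom.id kt L)
      (ratFuncMul (k := k) (K := K) kt Kt)) := by
    have := Module.Flat.lTensor_preserves_injective_linearMap (M := L)
      (ratFuncMul (k := k) (K := K) kt Kt).toLinearMap (ratFuncMul_injective kt Kt hcompat)
    intro a b hab
    exact this hab
  intro a b hab
  exact (Algebra.TensorProduct.cancelBaseChange k kt kt L K).symm.injective (h1 hab)


theorem tmul_algebraMap_mem_range_ratFuncTensorMap
    (hcompat : ∀ p : k[X], algebraMap kt Kt (algebraMap k[X] kt p) =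
      algebraMap K[X] Kt (p.map (algebraMap k K))) (l : L) (P : K[X]) :
    l ⊗ₜ[kt] algebraMap K[X] Kt P ∈ (ratFuncTensorMap (k := k) (K := K) kt Kt L).range := by
  have hX : algebraMap K[X] Kt X = algebraMap kt Kt (algebraMap k[X] kt X) := by
    rw [hcompat, Polynomial.map_X]
  induction P using Polynomial.induction_on' generalizing l with
  | add p q hp hq =>
    rw [map_add, tmul_add]
    exact Subalgebra.add_mem _ (hp l) (hq l)
  | monomial n a =>
    refine ⟨((algebraMap k[X] kt X) ^ n • l) ⊗ₜ[k] a, ?_⟩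
    change ratFuncTensorMap kt Kt L (((algebraMap k[X] kt X) ^ n • l) ⊗ₜ[k] a) = _
    rw [ratFuncTensorMap_tmul, TensorProduct.smul_tmul]
    congr 1
    rw [← Polynomial.C_mul_X_pow_eq_monomial, map_mul, map_pow, hX, Algebra.smul_def, map_pow,
      mul_comm, IsScalarTower.algebraMap_apply K K[X] Kt, Polynomial.algebraMap_apply,
      Algebra.algebraMap_self, RingHom.id_apply]

theorem exists_mul_mem_range_ratFuncTensorMap
    (hcompat : ∀ p : k[X], algebraMap kt Kt (algebraMap k[X] kt p) =
      algebraMap K[X] Kt (p.map (algebraMap k K))) (b : L ⊗[kt] Kt) :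
    ∃ Q : K[X], Q ≠ 0 ∧ b * ((1 : L) ⊗ₜ[kt] algebraMap K[X] Kt Q) ∈
      (ratFuncTensorMap (k := k) (K := K) kt Kt L).range := by
  induction b with
  | zero => exact ⟨1, one_ne_zero, by rw [zero_mul]; exact Subalgebra.zero_mem _⟩
  | tmul l θ =>
    obtain ⟨⟨P, Q⟩, hPQ⟩ := IsLocalization.surj (nonZeroDivisors K[X]) θ
    refine ⟨Q, nonZeroDivisors.ne_zero Q.2, ?_⟩
    rw [Algebra.TensorProduct.tmul_mul_tmul, mul_one, hPQ]
    exact tmul_algebraMap_mem_range_ratFuncTensorMap kt Kt L hcompat l P
  | add b₁ b₂ h₁ h₂ =>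
    obtain ⟨Q₁, hQ₁, h₁⟩ := h₁
    obtain ⟨Q₂, hQ₂, h₂⟩ := h₂
    refine ⟨Q₁ * Q₂, mul_ne_zero hQ₁ hQ₂, ?_⟩
    have e : (1 : L) ⊗ₜ[kt] algebraMap K[X] Kt (Q₁ * Q₂) =
        ((1 : L) ⊗ₜ[kt] algebraMap K[X] Kt Q₁) * ((1 : L) ⊗ₜ[kt] algebraMap K[X] Kt Q₂) := by
      rw [Algebra.TensorProduct.tmul_mul_tmul, mul_one, map_mul]
    rw [e, add_mul]
    have m₁ := tmul_algebraMap_mem_range_ratFuncTensorMap kt Kt L hcompat 1 Q₁
    have m₂ := tmul_algebraMap_mem_range_ratFuncTensorMap kt Kt L hcompat 1 Q₂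
    refine Subalgebra.add_mem _ ?_ ?_
    · rw [← mul_assoc]
      exact Subalgebra.mul_mem _ h₁ m₂
    · rw [mul_comm ((1 : L) ⊗ₜ[kt] algebraMap K[X] Kt Q₁), ← mul_assoc]
      exact Subalgebra.mul_mem _ h₂ m₁

/-- If `K/k` is geometrically irreducible, then so is `K(t)/k(t)` (test field `L`). -/
theorem irreducibleSpace_tensor_ratFunc
    (hcompat : ∀ p : k[X], algebraMap kt Kt (algebraMap k[X] kt p) =
      algebraMap K[X] Kt (p.map (algebraMap k K)))
    [hA : IrreducibleSpace (PrimeSpectrum (L ⊗[k] K))] :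
    IrreducibleSpace (PrimeSpectrum (L ⊗[kt] Kt)) := by
  refine irreducibleSpace_of_injective_of_exists_unit_mul
    (ratFuncTensorMap (k := k) (K := K) kt Kt L).toRingHom
    (ratFuncTensorMap_injective kt Kt L hcompat) ?_
  intro b
  obtain ⟨Q, hQ, hmem⟩ := exists_mul_mem_range_ratFuncTensorMap kt Kt L hcompat b
  refine ⟨(1 : L) ⊗ₜ[kt] algebraMap K[X] Kt Q, ?_, ?_⟩
  · have hne : algebraMap K[X] Kt Q ≠ 0 := by
      intro h
      exact hQ (IsFractionRing.injective K[X] Kt (h.trans (map_zero _).symm))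
    exact (isUnit_iff_ne_zero.mpr hne).map
      (Algebra.TensorProduct.includeRight : Kt →ₐ[kt] L ⊗[kt] Kt)
  · obtain ⟨a, ha⟩ := hmem
    exact ⟨a, ha⟩


omit [IsScalarTower k k[X] kt] in
/-- If `k(t)` is separably closed in `K(t)` then `k` is separably closed in `K`. -/
theorem mem_range_algebraMap_of_ratFunc
    (hcompat : ∀ p : k[X], algebraMap kt Kt (algebraMap k[X] kt p) =
      algebraMap K[X] Kt (p.map (algebraMap k K)))
    (hKt : ∀ θ : Kt, IsSeparable kt θ → θ ∈ Set.range (algebraMap kt Kt))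
    (α : K) (hα : IsSeparable k α) : α ∈ Set.range (algebraMap k K) := by
  have h1 : IsSeparable k (algebraMap K Kt α) := by
    unfold IsSeparable
    have := minpoly.algHom_eq (IsScalarTower.toAlgHom k K Kt) (algebraMap K Kt).injective α
    rw [IsScalarTower.coe_toAlgHom'] at this
    rw [this]
    exact hα
  have h2 : IsSeparable kt (algebraMap K Kt α) := IsSeparable.tower_top kt h1
  obtain ⟨r, hr⟩ := hKt _ h2
  obtain ⟨⟨p, q⟩, hpq⟩ := IsLocalization.surj (nonZeroDivisors k[X]) r
  have hq : (q : k[X]) ≠ 0 := nonZeroDivisors.ne_zero q.2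
  have h3 : C α * (q : k[X]).map (algebraMap k K) = p.map (algebraMap k K) := by
    apply IsFractionRing.injective K[X] Kt
    rw [map_mul, ← hcompat, ← hcompat, ← hpq, map_mul, hr,
      IsScalarTower.algebraMap_apply K K[X] Kt, Polynomial.algebraMap_apply,
      Algebra.algebraMap_self, RingHom.id_apply]
  have h4 := congrArg Polynomial.leadingCoeff h3
  rw [Polynomial.leadingCoeff_mul, Polynomial.leadingCoeff_C,
    Polynomial.leadingCoeff_map, Polynomial.leadingCoeff_map] at h4
  have hlc : algebraMap k K (q : k[X]).leadingCoeff ≠ 0 := by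
    rw [Ne, map_eq_zero, Polynomial.leadingCoeff_eq_zero]
    exact hq
  refine ⟨p.leadingCoeff / (q : k[X]).leadingCoeff, ?_⟩
  rw [map_div₀, ← h4, mul_div_assoc, div_self hlc, mul_one]

end RatFunc

end Groth.Agent.Lib.Helper50
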