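import Mathlib

/-!
# Base change and descent for `HasRingHomProperty` properties along finite type maps (helper50)

For a morphism property `P` with `HasRingHomProperty P Q` such that `Q` is stable under base change
along *finite type* ring maps only (e.g. regular ring maps), `P` is stable under base change
along morphisms locally of finite type.  Similarly for fppf descent when `Q` codescends along
faithfully flat ring maps of finite presentation.
-/

set_option autoImplicit false
universe u
open AlgebraicGeometry CategoryTheory Limits MorphismProperty TensorProduct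

namespace Groth.Agent.Lib.Helper50.RingHomBC

variable {P : MorphismProperty Scheme.{u}}
  {Q : ∀ {R S : Type u} [CommRing R] [CommRing S], (R →+* S) → Prop}

/-- `Q` is stable under base change along finite type ring maps. -/
def BCft (Q : ∀ {R S : Type u} [CommRing R] [CommRing S], (R →+* S) → Prop) : Prop :=
  ∀ ⦃R S T : Type u⦄ [CommRing R] [CommRing S] [CommRing T] [Algebra R S] [Algebra R T],
    Algebra.FiniteType R S → Q (algebraMap R T) → Q (algebraMap S (S ⊗[R] T))

variable [HasRingHomProperty P Q]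

theorem of_isPullback_Spec (hQ : BCft Q) {R R' S : CommRingCat.{u}} {X' : Scheme.{u}}
    {φ : R ⟶ R'} {ψ : R ⟶ S} {f' : X' ⟶ Spec R'} {g' : X' ⟶ Spec S}
    (hc : IsPullback g' f' (Spec.map ψ) (Spec.map φ)) (hφ : φ.hom.FiniteType)
    (hψ : P (Spec.map ψ)) : P f' := by
  algebraize [φ.hom, ψ.hom]
  have e : f' = hc.flip.isoPullback.hom ≫ pullback.fst (Spec.map φ) (Spec.map ψ) := by simp
  rw [e, P.cancel_left_of_respectsIso]
  change P (pullback.fst (Spec.map <| CommRingCat.ofHom <| algebraMap R R')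
    (Spec.map <| CommRingCat.ofHom <| algebraMap R S))
  rw [← pullbackSpecIso_hom_fst' R R' S, P.cancel_left_of_respectsIso,
    HasRingHomProperty.Spec_iff (P := P)]
  apply hQ ‹_›
  rwa [HasRingHomProperty.Spec_iff (P := P)] at hψ


theorem of_isPullback_affine_base (hQ : BCft Q) {R R' : CommRingCat.{u}} {X X' : Scheme.{u}}
    {φ : R ⟶ R'} {f : X ⟶ Spec R} {f' : X' ⟶ Spec R'} {g' : X' ⟶ X}
    (hc : IsPullback g' f' f (Spec.map φ)) (hφ : φ.hom.FiniteType) (hf : P f) : P f' := by
  apply IsZariskiLocalAtSource.of_openCover (X.affineCover.pullback₁ g')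
  intro (k : X.affineCover.I₀)
  have sq := (IsPullback.of_hasPullback g' (X.affineCover.f k)).flip.paste_vert hc
  have hP' : P (X.affineCover.f k ≫ f) := IsZariskiLocalAtSource.comp hf _
  obtain ⟨ψ, hψ⟩ := Spec.map_surjective (X.affineCover.f k ≫ f)
  have sq' : IsPullback (pullback.snd g' (X.affineCover.f k))
      (pullback.fst g' (X.affineCover.f k) ≫ f') (Spec.map ψ) (Spec.map φ) := by
    rw [hψ]
    exact sq
  have hP : P (Spec.map ψ) := by
    rw [hψ]
    exact hP'
  exact of_isPullback_Spec hQ sq' hφ hP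


theorem of_isPullback_affine_target (hQ : BCft Q) {R : CommRingCat.{u}} {X X' Y' : Scheme.{u}}
    {f : X ⟶ Spec R} {f' : X' ⟶ Y'} {g' : X' ⟶ X} {g : Y' ⟶ Spec R} [LocallyOfFiniteType g]
    (hc : IsPullback g' f' f g) (hf : P f) : P f' := by
  apply IsZariskiLocalAtTarget.of_openCover Y'.affineCover
  intro j
  have sq := (IsPullback.of_hasPullback f' (Y'.affineCover.f j)).paste_horiz hc
  have hft : LocallyOfFiniteType (Y'.affineCover.f j ≫ g) := inferInstance
  obtain ⟨φ, hφ⟩ := Spec.map_surjective (Y'.affineCover.f j ≫ g)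
  have sq' : IsPullback (pullback.fst f' (Y'.affineCover.f j) ≫ g')
      (pullback.snd f' (Y'.affineCover.f j)) f (Spec.map φ) := by
    rw [hφ]
    exact sq
  have hφ' : φ.hom.FiniteType := by
    rw [← HasRingHomProperty.Spec_iff (P := @LocallyOfFiniteType), hφ]
    exact hft
  exact of_isPullback_affine_base hQ sq' hφ' hf

theorem of_isPullback_affine_target' (hQ : BCft Q) {X Y X' Y' : Scheme.{u}}
    {f : X ⟶ Y} {f' : X' ⟶ Y'} {g' : X' ⟶ X} {g : Y' ⟶ Y} [LocallyOfFiniteType g]
    (hc : IsPullback g' f' f g) (hf : P f) (hY : ∃ R, Y = Spec R) : P f' := by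
  obtain ⟨R, rfl⟩ := hY
  exact of_isPullback_affine_target hQ hc hf

theorem of_isPullback (hQ : BCft Q) {X Y X' Y' : Scheme.{u}}
    {f : X ⟶ Y} {f' : X' ⟶ Y'} {g' : X' ⟶ X} {g : Y' ⟶ Y} [LocallyOfFiniteType g]
    (hc : IsPullback g' f' f g) (hf : P f) : P f' := by
  apply IsZariskiLocalAtTarget.of_openCover (Y.affineCover.pullback₁ g)
  intro (i : Y.affineCover.I₀)
  let ι := Y.affineCover.f i
  let p := pullback.fst g ι
  let gi := pullback.snd g ι
  change P (pullback.snd f' p)
  have big := (IsPullback.of_hasPullback f' p).paste_horiz hc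
  have hR := IsPullback.of_hasPullback f ι
  have hcond : p ≫ g = gi ≫ ι := pullback.condition
  let l : pullback f' p ⟶ pullback f ι :=
    hR.lift (pullback.fst f' p ≫ g') (pullback.snd f' p ≫ gi)
      (by rw [big.w, hcond, Category.assoc])
  have big' : IsPullback (l ≫ pullback.fst f ι) (pullback.snd f' p) f (gi ≫ ι) := by
    rw [hR.lift_fst, ← hcond]
    exact big
  have left : IsPullback l (pullback.snd f' p) (pullback.snd f ι) gi :=
    IsPullback.of_right big' (hR.lift_snd _ _ _) hR
  have hfi : P (pullback.snd f ι) := (IsZariskiLocalAtTarget.iff_of_openCover (P := P) Y.affineCover).mp hf i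
  haveI : LocallyOfFiniteType gi := inferInstanceAs (LocallyOfFiniteType (pullback.snd g ι))
  exact of_isPullback_affine_target' hQ left hfi ⟨_, rfl⟩


section Descent

/-- Base change along a local isomorphism preserves a target-local property. -/
theorem pullback_fst_of_isLocalIso {P : MorphismProperty Scheme.{u}} [IsZariskiLocalAtTarget P]
    {C₀ C W : Scheme.{u}} (q : C₀ ⟶ C) [IsLocalIso q] (h : W ⟶ C) (hh : P h) :
    P (pullback.fst q h) := by
  apply IsZariskiLocalAtTarget.of_forall_exists_morphismRestrict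
  intro x
  obtain ⟨U, hxU, hU⟩ := IsLocalIso.exists_isOpenImmersion (f := q) x
  refine ⟨U, hxU, ?_⟩
  have sq1 := (isPullback_morphismRestrict (pullback.fst q h) U).flip
  have sq2 := (IsPullback.of_hasPullback q h).flip
  exact IsZariskiLocalAtTarget.of_isPullback (sq1.paste_horiz sq2) hh

omit [HasRingHomProperty P Q] in
theorem of_isLocalIso {P : MorphismProperty Scheme.{u}}
    {Q : ∀ {R S : Type u} [CommRing R] [CommRing S], (R →+* S) → Prop} [HasRingHomProperty P Q]
    (hP : ∀ {X Y : Scheme.{u}} (f : X ⟶ Y) [IsOpenImmersion f], P f)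
    {X Y : Scheme.{u}} (q : X ⟶ Y) [IsLocalIso q] : P q := by
  choose U hxU hU using IsLocalIso.exists_isOpenImmersion (f := q)
  apply IsZariskiLocalAtSource.of_iSup_eq_top (P := P) U
    (top_le_iff.mp fun x _ => by simpa using ⟨x, hxU x⟩)
  intro x
  have := hU x
  exact hP _

/-- The fppf covering class. -/
abbrev Fppf : MorphismProperty Scheme.{u} :=
  @Surjective ⊓ @Flat ⊓ @LocallyOfFinitePresentation

/-- Faithfully flat ring maps of finite presentation. -/
def FFfp : ∀ {R S : Type u} [CommRing R] [CommRing S], (R →+* S) → Prop :=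
  fun φ => φ.FaithfullyFlat ∧ φ.FinitePresentation

theorem ffp_of_fppf {R S : CommRingCat.{u}} {f : R ⟶ S} (h : Fppf (Spec.map f)) :
    FFfp f.hom := by
  obtain ⟨⟨h1, h2⟩, h3⟩ := h
  refine ⟨?_, ?_⟩
  · rw [RingHom.FaithfullyFlat.iff_flat_and_comap_surjective]
    refine ⟨?_, (Spec.map f).surjective⟩
    rwa [HasRingHomProperty.Spec_iff (P := @Flat)] at h2
  · rwa [HasRingHomProperty.Spec_iff (P := @LocallyOfFinitePresentation)] at h3

theorem of_pullback_fst_Spec_map (hD : RingHom.CodescendsAlong Q FFfp) {R R₀ : CommRingCat.{u}}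
    {T : Scheme.{u}} (φ : R ⟶ R₀) (t : T ⟶ Spec R) (hφ : Fppf (Spec.map φ))
    (h : P (pullback.fst (Spec.map φ) t)) : P t := by
  wlog hT : ∃ S, T = Spec S generalizing T
  · rw [IsZariskiLocalAtSource.iff_of_openCover (P := P) T.affineCover]
    intro i
    have heq : pullback.fst (Spec.map φ) (T.affineCover.f i ≫ t) =
        pullback.map _ _ _ _ (𝟙 _) (T.affineCover.f i) (𝟙 _) (by simp) (by simp) ≫
          pullback.fst (Spec.map φ) t := (pullback.lift_fst _ _ _).symm
    exact this _ (heq ▸ IsZariskiLocalAtSource.comp h _) ⟨_, rfl⟩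
  obtain ⟨S, rfl⟩ := hT
  exact of_pullback_fst_Spec_of_codescendsAlong P Fppf hD ffp_of_fppf
    (HasRingHomProperty.Spec_iff (P := P)) hφ h

theorem descendsAlong_fppf (hD : RingHom.CodescendsAlong Q FFfp) : P.DescendsAlong Fppf := by
  apply IsZariskiLocalAtTarget.descendsAlong
  intro R C T c t hc hP
  haveI : Surjective c := hc.1.1
  haveI : Flat c := hc.1.2
  haveI : LocallyOfFinitePresentation c := hc.2
  obtain ⟨V : C.Opens, hV, e⟩ := c.isOpenMap.exists_opens_image_eq_of_prespectralSpace
    c.continuous (by simp) isOpen_univ isCompact_univ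
  haveI : CompactSpace V := isCompact_iff_compactSpace.mp hV
  obtain ⟨C₀, p₀, hsurj, hli, haff⟩ :=
    Scheme.exists_hom_isAffine_of_isZariskiLocalAtSource @IsLocalIso (V : Scheme.{u})
  haveI : IsLocalIso p₀ := hli
  let q : Spec Γ(C₀, ⊤) ⟶ C := C₀.isoSpec.inv ≫ p₀ ≫ V.ι
  haveI : IsLocalIso q := by
    have h1 : IsLocalIso V.ι := IsZariskiLocalAtSource.of_isOpenImmersion (P := @IsLocalIso) V.ι
    have h2 : IsLocalIso C₀.isoSpec.inv :=
      IsZariskiLocalAtSource.of_isOpenImmersion (P := @IsLocalIso) _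
    exact MorphismProperty.comp_mem _ _ _ h2 (MorphismProperty.comp_mem _ _ _ hli h1)
  have hq : P (pullback.fst (q ≫ c) t) := by
    rw [← pullbackRightPullbackFstIso_inv_fst c t q, P.cancel_left_of_respectsIso]
    exact pullback_fst_of_isLocalIso q _ hP
  have hqc : Fppf (q ≫ c) := by
    have hflat : Flat q := of_isLocalIso (P := @Flat) (fun f _ => inferInstance) q
    have hlfp : LocallyOfFinitePresentation q :=
      of_isLocalIso (P := @LocallyOfFinitePresentation) (fun f _ => inferInstance) q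
    refine ⟨⟨⟨fun x => ?_⟩, inferInstance⟩, inferInstance⟩
    obtain ⟨y, hyV, hy⟩ := e.ge (Set.mem_univ x)
    obtain ⟨z, hz⟩ := hsurj.surj ⟨y, hyV⟩
    refine ⟨C₀.isoSpec.hom z, ?_⟩
    have h1 : C₀.isoSpec.inv (C₀.isoSpec.hom z) = z := by
      rw [← Scheme.Hom.comp_apply, Iso.hom_inv_id]; rfl
    change c (V.ι (p₀ (C₀.isoSpec.inv (C₀.isoSpec.hom z)))) = x
    rw [h1, hz]
    exact hy
  obtain ⟨φ, hφ⟩ := Spec.map_surjective (q ≫ c)
  have hq' : P (pullback.fst (Spec.map φ) t) := by rw [hφ]; exact hq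
  have hφ' : Fppf (Spec.map φ) := by rw [hφ]; exact hqc
  exact of_pullback_fst_Spec_map hD φ t hφ' hq'

theorem iff_of_isPullback_fppf (hQ : BCft Q) (hD : RingHom.CodescendsAlong Q FFfp)
    {X Y X' Y' : Scheme.{u}} {f : X ⟶ Y} {f' : X' ⟶ Y'} {g' : X' ⟶ X} {g : Y' ⟶ Y}
    [Flat g] [LocallyOfFinitePresentation g] [Surjective g] (hc : IsPullback g' f' f g) :
    P f ↔ P f' := by
  refine ⟨of_isPullback hQ hc, fun h => ?_⟩
  haveI := descendsAlong_fppf (P := P) hD
  exact MorphismProperty.of_isPullback_of_descendsAlong (Q := Fppf) hc.flip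
    ⟨⟨inferInstance, inferInstance⟩, inferInstance⟩ h

end Descent

end Groth.Agent.Lib.Helper50.RingHomBC
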