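import Mathlib
import Groth.Agent.Lib.Helper50.FibHom
import Groth.Agent.Lib.Helper50.RingHomBC
import Groth.Agent.Lib.Helper24.SmoothNormal
import Groth.Agent.Lib.Helper47.GeomRegTransport
import Groth.Agent.Lib.Helper73.RegularLocalization
import Groth.Agent.S9293

/-!
# Regular ring maps as a local ring hom property; regular morphisms of schemes (helper50)
-/

set_option autoImplicit false
universe u
open TensorProduct

namespace Groth.Agent.Lib.Helper50.RegularMor

open Groth.Agent.Lib.Helper50.FibHom

theorem isNoetherianRing_of_span_away {T : Type u} [CommRing T] (s : Set T)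
    (hs : Ideal.span s = ⊤) (h : ∀ r ∈ s, IsNoetherianRing (Localization.Away r)) :
    IsNoetherianRing T := by
  obtain ⟨s', hs's, hs'⟩ := (Ideal.span_eq_top_iff_finite s).mp hs
  exact AlgebraicGeometry.isNoetherianRing_of_away s' hs' (fun r => h r (hs's r.2))

theorem isRegularRing_of_span_away {T : Type u} [CommRing T] (s : Set T)
    (hs : Ideal.span s = ⊤) (h : ∀ r ∈ s, IsRegularRing (Localization.Away r)) :
    IsRegularRing T := by
  haveI : IsNoetherianRing T :=
    isNoetherianRing_of_span_away s hs (fun r hr => by haveI := h r hr; infer_instance)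
  rw [isRegularRing_iff]
  intro q hq
  obtain ⟨r, hr, hrq⟩ : ∃ r ∈ s, r ∉ q := by
    by_contra hcon
    push Not at hcon
    have : Ideal.span s ≤ q := Ideal.span_le.mpr hcon
    rw [hs] at this
    exact hq.ne_top (top_le_iff.mp this)
  haveI := h r hr
  obtain ⟨q', hq', ⟨e⟩⟩ := Groth.Agent.Lib.Helper24.exists_atPrime_ringEquiv_of_disjoint
    (S' := Localization.Away r) (.powers r) q
    ((Ideal.disjoint_powers_iff_notMem_of_isPrime _).mpr hrq)
  exact IsRegularLocalRing.of_ringEquiv e.symm

/-- The fibre predicate "Noetherian and geometrically regular". -/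
def 𝓕R : FibPred.{u} := fun k _ F _ _ => IsNoetherianRing F ∧ CAlg.IsGeometricallyRegular k F

theorem isLocalPred_𝓕R : IsLocalPred 𝓕R.{u} where
  iso := by
    intro k k' F F' _ _ _ _ _ _ σ e he h
    haveI := h.1
    exact ⟨isNoetherianRing_of_ringEquiv F e,
      Groth.Agent.Lib.Helper47.GeomRegTransport.isGeometricallyRegular_of_semilinear σ e he h.2⟩
  loc := by
    intro k F _ _ _ s h
    haveI := h.1
    refine ⟨IsLocalization.isNoetherianRing (.powers s) _ inferInstance, ?_⟩
    intro K' _ _ hfin
    haveI := h.2 K' hfin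
    have h2 : IsRegularRing (Localization.Away ((1 : K') ⊗ₜ[k] s)) := inferInstance
    exact IsRegularRing.of_ringEquiv
      (IsLocalization.Away.tensorProductEquivTMulRight k K' s (Localization.Away s)).symm.toRingEquiv
  cov := by
    intro k F _ _ _ s hs h
    refine ⟨isNoetherianRing_of_span_away s hs (fun r hr => (h ⟨r, hr⟩).1), ?_⟩
    intro K' _ _ hfin
    let ι : F →+* K' ⊗[k] F := Algebra.TensorProduct.includeRight.toRingHom
    apply isRegularRing_of_span_away (ι '' s)
    · rw [← Ideal.map_span, hs, Ideal.map_top]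
    · rintro _ ⟨r, hr, rfl⟩
      haveI := (h ⟨r, hr⟩).2 K' hfin
      exact IsRegularRing.of_ringEquiv
        (IsLocalization.Away.tensorProductEquivTMulRight k K' r (Localization.Away r)).toRingEquiv


open Groth.Agent.Lib.Helper90 Groth.Agent.Lib.Helper90.GeomRegBridge in
theorem qfib_baseChange (A B A' : Type u) [CommRing A] [CommRing B] [CommRing A']
    [Algebra A B] [Algebra A A'] [Algebra.EssFiniteType A A'] (h : Qfib 𝓕R A B) :
    Qfib 𝓕R A' (A' ⊗[A] B) := by
  intro p' _
  letI := Localization.AtPrime.algebraOfLiesOver (p'.under A) p'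
  obtain ⟨hN, hG⟩ := h (p'.under A)
  have hess : Algebra.EssFiniteType (p'.under A).ResidueField p'.ResidueField := inferInstance
  have h1 : CAlg.IsGeometricallyRegular p'.ResidueField
      (p'.ResidueField ⊗[(p'.under A).ResidueField] (p'.under A).Fiber B) :=
    (Groth.Agent.S2674.result _ _ p'.ResidueField).mp hG
  have hN1 := isNoetherianRing_tensor_of_essFiniteType (k := (p'.under A).ResidueField)
    (S := (p'.under A).Fiber B) p'.ResidueField
  let e := Groth.Agent.S9293.Aux.fiberBaseChangeAlgEquiv A A' B p'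
  exact ⟨isNoetherianRing_of_ringEquiv _ e.symm.toRingEquiv,
    Groth.Agent.S2692.Aux.geomReg_of_algEquiv e.symm h1⟩

theorem bcAway_𝓕R : BCAway 𝓕R.{u} := by
  intro A B A' _ _ _ _ _ r _ h
  haveI : Algebra.EssFiniteType A A' := Algebra.EssFiniteType.of_isLocalization A' (.powers r)
  exact qfib_baseChange A B A' h

theorem isNoetherianRing_of_faithfullyFlat {R S : Type u} [CommRing R] [CommRing S] [Algebra R S]
    [Module.FaithfullyFlat R S] [IsNoetherianRing S] : IsNoetherianRing R := by
  rw [isNoetherianRing_iff, isNoetherian_iff'] at *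
  have hmono : StrictMono (Ideal.map (algebraMap R S)) :=
    Monotone.strictMono_of_injective (fun _ _ h => Ideal.map_mono h)
      Ideal.map_injective_of_faithfullyFlat
  exact hmono.wellFoundedGT

theorem qfib_of_baseChange (A B A' : Type u) [CommRing A] [CommRing B]
    [CommRing A'] [Algebra A B] [Algebra A A'] [Algebra.EssFiniteType A A']
    (hs : Function.Surjective (PrimeSpectrum.comap (algebraMap A A')))
    (h' : Qfib 𝓕R A' (A' ⊗[A] B)) : Qfib 𝓕R A B := by
  intro p hp
  obtain ⟨⟨p', hp'⟩, hpp⟩ := hs ⟨p, hp⟩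
  have hpe : p'.under A = p := congrArg PrimeSpectrum.asIdeal hpp
  subst hpe
  letI := Localization.AtPrime.algebraOfLiesOver (p'.under A) p'
  obtain ⟨hN', hG'⟩ := h' p'
  let e := Groth.Agent.S9293.Aux.fiberBaseChangeAlgEquiv A A' B p'
  have hN1 : IsNoetherianRing
      (p'.ResidueField ⊗[(p'.under A).ResidueField] (p'.under A).Fiber B) :=
    isNoetherianRing_of_ringEquiv _ e.toRingEquiv
  have hN2 : IsNoetherianRing
      ((p'.under A).Fiber B ⊗[(p'.under A).ResidueField] p'.ResidueField) :=
    isNoetherianRing_of_ringEquiv _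
      (Algebra.TensorProduct.comm (p'.under A).ResidueField p'.ResidueField
        ((p'.under A).Fiber B)).toRingEquiv
  haveI hN : IsNoetherianRing ((p'.under A).Fiber B) :=
    isNoetherianRing_of_faithfullyFlat (R := (p'.under A).Fiber B)
      (S := (p'.under A).Fiber B ⊗[(p'.under A).ResidueField] p'.ResidueField)
  have hess : Algebra.EssFiniteType (p'.under A).ResidueField p'.ResidueField := inferInstance
  have h1 : CAlg.IsGeometricallyRegular p'.ResidueField
      (p'.ResidueField ⊗[(p'.under A).ResidueField] (p'.under A).Fiber B) :=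
    Groth.Agent.S2692.Aux.geomReg_of_algEquiv e hG'
  exact ⟨hN, (Groth.Agent.S2674.result _ _ p'.ResidueField).mpr h1⟩


/-- The ring hom property "regular homomorphism". -/
def RegularQ : ∀ {R S : Type u} [CommRing R] [CommRing S], (R →+* S) → Prop :=
  fun φ => RingHom.Flat φ ∧ QfibHom 𝓕R φ

theorem regularQ_iff {R S : Type u} [CommRing R] [CommRing S] (φ : R →+* S) :
    RegularQ φ ↔ (letI := φ.toAlgebra; CAlg.IsRegularHom R S) := Iff.rfl

theorem regularQ_algebraMap_iff {R S : Type u} [CommRing R] [CommRing S] [Algebra R S] :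
    RegularQ (algebraMap R S) ↔ CAlg.IsRegularHom R S := by
  have : (algebraMap R S).toAlgebra = ‹Algebra R S› := Algebra.algebra_ext _ _ (fun _ => rfl)
  rw [regularQ_iff]
  rw [this]

theorem propertyIsLocal_regularQ : RingHom.PropertyIsLocal RegularQ.{u} :=
  RingHom.Flat.propertyIsLocal.and (propertyIsLocal_qfibHom isLocalPred_𝓕R bcAway_𝓕R)

open Groth.Agent.Lib.Helper50.RingHomBC

theorem bcft_regularQ : BCft RegularQ.{u} := by
  intro R S T _ _ _ _ _ hft h
  rw [regularQ_algebraMap_iff] at h ⊢
  exact Groth.Agent.S9293.result R T S h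

theorem codescendsAlong_regularQ : RingHom.CodescendsAlong RegularQ.{u} FFfp := by
  apply RingHom.CodescendsAlong.mk _ propertyIsLocal_regularQ.respectsIso
  intro R S T _ _ _ _ _ hff h
  rw [regularQ_algebraMap_iff] at h ⊢
  obtain ⟨hff1, hfp⟩ := hff
  rw [RingHom.faithfullyFlat_algebraMap_iff] at hff1
  haveI : Algebra.FinitePresentation R S := RingHom.finitePresentation_algebraMap.mp hfp
  haveI : Algebra.EssFiniteType R S := inferInstance
  haveI : Module.Flat S (S ⊗[R] T) := h.1
  refine ⟨Module.Flat.of_flat_tensorProduct R T S, ?_⟩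
  exact qfib_of_baseChange R T S
    (PrimeSpectrum.comap_surjective_of_faithfullyFlat (B := S)) h.2

section Scheme

open AlgebraicGeometry CategoryTheory Limits

/-- Regular morphisms of schemes (affine-locally regular ring maps). -/
def RegularMorphism : MorphismProperty Scheme.{u} := affineLocally RegularQ

instance : HasRingHomProperty RegularMorphism.{u} RegularQ where
  isLocal_ringHomProperty := propertyIsLocal_regularQ
  eq_affineLocally' := rfl

theorem regularMorphism_iff {X Y : Scheme.{u}} (f : X ⟶ Y) :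
    RegularMorphism f ↔
      ∀ (U : X.Opens) (V : Y.Opens) (_ : IsAffineOpen U) (_ : IsAffineOpen V)
        (hUV : U ≤ f ⁻¹ᵁ V),
        letI := (f.appLE V U hUV).hom.toAlgebra
        CAlg.IsRegularHom Γ(Y, V) Γ(X, U) := by
  rw [HasRingHomProperty.iff_appLE (P := RegularMorphism)]
  constructor
  · intro h U V hU hV hUV
    exact h ⟨V, hV⟩ ⟨U, hU⟩ hUV
  · intro h V U e
    exact h U.1 V.1 U.2 V.2 e

theorem regularMorphism_iff_of_isPullback {X Y X' Y' : Scheme.{u}} {f : X ⟶ Y} {f' : X' ⟶ Y'}
    {g' : X' ⟶ X} {g : Y' ⟶ Y} [Flat g] [LocallyOfFinitePresentation g] [Surjective g]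
    (hc : IsPullback g' f' f g) : RegularMorphism f ↔ RegularMorphism f' :=
  iff_of_isPullback_fppf (P := RegularMorphism) bcft_regularQ codescendsAlong_regularQ hc

end Scheme

end Groth.Agent.Lib.Helper50.RegularMor
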