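import Mathlib

/-! Splitting algebras of monic polynomials and the universal algebra of `n` roots. -/

namespace Groth.Agent.Lib.Helper50

open Polynomial

universe u

theorem adjoinRoot_of_injective {A : Type u} [CommRing A] {P : A[X]} (hP : P.Monic)
    (hd : 0 < P.natDegree) : Function.Injective (AdjoinRoot.of P) := by
  rw [injective_iff_map_eq_zero]
  intro a ha
  by_contra hne
  have h1 : (AdjoinRoot.mk P) (C a) = 0 := ha
  rw [AdjoinRoot.mk_eq_zero] at h1
  exact hP.not_dvd_of_natDegree_lt (by simpa using hne) (by simpa using hd) h1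

/-- Every monic polynomial splits into linear factors over some finite free faithful extension. -/
theorem exists_splitting_algebra : ∀ (d : ℕ) (A : Type u) [CommRing A] (P : A[X]), P.Monic →
    P.natDegree = d →
    ∃ (A' : Type u) (_ : CommRing A') (_ : Algebra A A'), Module.Free A A' ∧ Module.Finite A A' ∧
      Function.Injective (algebraMap A A') ∧
      ∃ α : Fin d → A', P.map (algebraMap A A') = ∏ j, (X - C (α j)) := by
  intro d
  induction d with
  | zero =>
    intro A _ P hP hd
    refine ⟨A, inferInstance, inferInstance, inferInstance, inferInstance, Function.injective_id,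
      Fin.elim0, ?_⟩
    have : P = 1 := (Polynomial.Monic.natDegree_eq_zero hP).mp hd
    simp [this]
  | succ d ih =>
    intro A _ P hP hd
    let A₁ := AdjoinRoot P
    let r : A₁ := AdjoinRoot.root P
    let P₁ : A₁[X] := P.map (AdjoinRoot.of P)
    haveI : Nontrivial A := by
      by_contra h
      rw [not_nontrivial_iff_subsingleton] at h
      have : P.natDegree = 0 := Polynomial.natDegree_of_subsingleton
      omega
    haveI : Nontrivial A₁ := (adjoinRoot_of_injective hP (by omega)).nontrivial
    have hP₁ : P₁.Monic := hP.map _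
    have hroot : P₁.IsRoot r := AdjoinRoot.isRoot_root P
    let Q : A₁[X] := P₁ /ₘ (X - C r)
    have hQ : (X - C r) * Q = P₁ := mul_divByMonic_eq_iff_isRoot.mpr hroot
    have hQm : Q.Monic := (monic_X_sub_C r).of_mul_monic_left (hQ ▸ hP₁)
    have hQd : Q.natDegree = d := by
      have : P₁.natDegree = d + 1 := by rw [← hd]; exact hP.natDegree_map _
      rw [natDegree_divByMonic _ (monic_X_sub_C r), natDegree_X_sub_C, this]
      rfl
    obtain ⟨A', _, _, hfree, hfin, hinj, α, hα⟩ := ih A₁ Q hQm hQd
    letI : Algebra A A' := ((algebraMap A₁ A').comp (algebraMap A A₁)).toAlgebra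
    haveI : IsScalarTower A A₁ A' := IsScalarTower.of_algebraMap_eq fun _ => rfl
    have pb := AdjoinRoot.powerBasis' hP
    haveI : Module.Free A A₁ := Module.Free.of_basis pb.basis
    haveI : Module.Finite A A₁ := pb.finite
    refine ⟨A', inferInstance, inferInstance, Module.Free.trans (S := A₁), Module.Finite.trans A₁ A',
      hinj.comp (adjoinRoot_of_injective hP (by omega)), Fin.cons (algebraMap A₁ A' r) α, ?_⟩
    have h1 : P.map (algebraMap A A') = P₁.map (algebraMap A₁ A') := by
      rw [Polynomial.map_map]; rfl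
    rw [h1, ← hQ, Polynomial.map_mul, hα, Fin.prod_univ_succ]
    simp

/-- The universal algebra of `n` roots of a monic polynomial: finite free, generated by the roots. -/
theorem exists_roots_algebra : ∀ (n : ℕ) (R : Type u) [CommRing R] (P : R[X]), P.Monic →
    ∃ (C' : Type u) (_ : CommRing C') (_ : Algebra R C'), Module.Free R C' ∧ Module.Finite R C' ∧
      ∃ t : Fin n → C', (∀ i, aeval (t i) P = 0) ∧ Algebra.adjoin R (Set.range t) = ⊤ ∧
        ∀ (B : Type u) [CommRing B] [Algebra R B] (b : Fin n → B), (∀ i, aeval (b i) P = 0) →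
          ∃ φ : C' →ₐ[R] B, ∀ i, φ (t i) = b i := by
  intro n
  induction n with
  | zero =>
    intro R _ P hP
    refine ⟨R, inferInstance, inferInstance, inferInstance, inferInstance, Fin.elim0,
      fun i => i.elim0, ?_, ?_⟩
    · rw [eq_top_iff]
      intro x _
      exact Subalgebra.algebraMap_mem _ x
    · intro B _ _ b _
      exact ⟨Algebra.ofId R B, fun i => i.elim0⟩
  | succ n ih =>
    intro R _ P hP
    obtain ⟨C₀, _, _, hfree, hfin, t, ht, hgen, hUP⟩ := ih R P hP
    let P₀ : C₀[X] := P.map (algebraMap R C₀)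
    have hP₀ : P₀.Monic := hP.map _
    let C₁ := AdjoinRoot P₀
    have pb := AdjoinRoot.powerBasis' hP₀
    haveI : Module.Free C₀ C₁ := Module.Free.of_basis pb.basis
    haveI : Module.Finite C₀ C₁ := pb.finite
    let t' : Fin (n + 1) → C₁ := Fin.snoc (fun i => AdjoinRoot.of P₀ (t i)) (AdjoinRoot.root P₀)
    have haev : ∀ (c : C₀), aeval (AdjoinRoot.of P₀ c) P = AdjoinRoot.of P₀ (aeval c P) := by
      intro c
      have := Polynomial.aeval_algebraMap_apply (A := C₀) C₁ c P
      exact this
    refine ⟨C₁, inferInstance, inferInstance, Module.Free.trans (S := C₀), Module.Finite.trans C₀ C₁,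
      t', ?_, ?_, ?_⟩
    · intro i
      refine Fin.lastCases ?_ (fun j => ?_) i
      · simp only [t', Fin.snoc_last]
        have h1 : aeval (AdjoinRoot.root P₀) P = eval₂ (AdjoinRoot.of P₀) (AdjoinRoot.root P₀) P₀ := by
          rw [Polynomial.eval₂_map]
          rfl
        rw [h1, AdjoinRoot.eval₂_root]
      · simp only [t', Fin.snoc_castSucc]
        rw [haev, ht, map_zero]
    · rw [eq_top_iff]
      intro x _
      have hof : ∀ c : C₀, AdjoinRoot.of P₀ c ∈ Algebra.adjoin R (Set.range t') := by
        intro c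
        have hc : c ∈ Algebra.adjoin R (Set.range t) := by rw [hgen]; trivial
        refine Algebra.adjoin_induction (p := fun c _ => AdjoinRoot.of P₀ c ∈ Algebra.adjoin R (Set.range t'))
          ?_ ?_ ?_ ?_ hc
        · rintro _ ⟨i, rfl⟩
          refine Algebra.subset_adjoin ⟨i.castSucc, ?_⟩
          simp [t']
        · intro r
          have : AdjoinRoot.of P₀ (algebraMap R C₀ r) = algebraMap R C₁ r := rfl
          rw [this]
          exact Subalgebra.algebraMap_mem _ r
        · intro a b _ _ ha hb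
          rw [map_add]; exact Subalgebra.add_mem _ ha hb
        · intro a b _ _ ha hb
          rw [map_mul]; exact Subalgebra.mul_mem _ ha hb
      have hroot : AdjoinRoot.root P₀ ∈ Algebra.adjoin R (Set.range t') :=
        Algebra.subset_adjoin ⟨Fin.last n, by simp [t']⟩
      refine AdjoinRoot.induction_on P₀ x (fun g => ?_)
      induction g using Polynomial.induction_on' with
      | add p q hp hq => rw [map_add]; exact Subalgebra.add_mem _ hp hq
      | monomial k a =>
        rw [← Polynomial.C_mul_X_pow_eq_monomial, map_mul, map_pow, AdjoinRoot.mk_C, AdjoinRoot.mk_X]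
        exact Subalgebra.mul_mem _ (hof a) (Subalgebra.pow_mem _ hroot k)
    · intro B _ _ b hb
      obtain ⟨φ₀, hφ₀⟩ := hUP B (fun i => b i.castSucc) (fun i => hb _)
      have hev : eval₂ (φ₀ : C₀ →+* B) (b (Fin.last n)) P₀ = 0 := by
        rw [Polynomial.eval₂_map]
        have : ((φ₀ : C₀ →+* B).comp (algebraMap R C₀)) = algebraMap R B := by
          ext r; simp
        rw [this]
        exact hb _
      refine ⟨AdjoinRoot.liftAlgHom P₀ φ₀ (b (Fin.last n)) hev, fun i => ?_⟩
      refine Fin.lastCases ?_ (fun j => ?_) i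
      · simp only [t', Fin.snoc_last]
        exact AdjoinRoot.liftAlgHom_root _ _ _ _
      · simp only [t', Fin.snoc_castSucc]
        rw [AdjoinRoot.liftAlgHom_of, hφ₀]

/-- When `P` splits over `R`, the algebra of `n` roots has sections `σ_j` (one per choice of roots)
whose kernels cover the prime spectrum. -/
theorem exists_sections_cover {R C' : Type u} [CommRing R] [CommRing C'] [Algebra R C'] {n d : ℕ}
    (P : R[X]) (α : Fin d → R) (hα : P = ∏ j, (X - C (α j))) (t : Fin n → C')
    (ht : ∀ i, aeval (t i) P = 0) (hgen : Algebra.adjoin R (Set.range t) = ⊤)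
    (hUP : ∀ (b : Fin n → R), (∀ i, aeval (b i) P = 0) → ∃ φ : C' →ₐ[R] R, ∀ i, φ (t i) = b i) :
    ∃ σ : (Fin n → Fin d) → (C' →ₐ[R] R), ∀ 𝔮 : Ideal C', 𝔮.IsPrime → ∃ j, RingHom.ker (σ j) ≤ 𝔮 := by
  have hroot : ∀ k : Fin d, aeval (α k) P = 0 := by
    intro k
    rw [hα, map_prod]
    refine Finset.prod_eq_zero (Finset.mem_univ k) ?_
    simp
  have hσ : ∀ j : Fin n → Fin d, ∃ φ : C' →ₐ[R] R, ∀ i, φ (t i) = α (j i) :=
    fun j => hUP (fun i => α (j i)) (fun i => hroot _)
  choose σ hσt using hσ
  refine ⟨σ, fun 𝔮 h𝔮 => ?_⟩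
  have hex : ∀ i : Fin n, ∃ k : Fin d, t i - algebraMap R C' (α k) ∈ 𝔮 := by
    intro i
    have h0 : ∏ k, (t i - algebraMap R C' (α k)) = 0 := by
      have := ht i
      rw [hα, map_prod] at this
      simpa using this
    have hmem : ∏ k, (t i - algebraMap R C' (α k)) ∈ 𝔮 := by rw [h0]; exact 𝔮.zero_mem
    obtain ⟨k, -, hk⟩ := (Ideal.IsPrime.prod_mem_iff (hp := h𝔮)).mp hmem
    exact ⟨k, hk⟩
  choose j hj using hex
  refine ⟨j, ?_⟩
  have key : ∀ c : C', c - algebraMap R C' (σ j c) ∈ 𝔮 := by
    intro c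
    have hc : c ∈ Algebra.adjoin R (Set.range t) := by rw [hgen]; trivial
    refine Algebra.adjoin_induction (p := fun c _ => c - algebraMap R C' (σ j c) ∈ 𝔮) ?_ ?_ ?_ ?_ hc
    · rintro _ ⟨i, rfl⟩
      rw [hσt]
      exact hj i
    · intro r
      simp
    · intro a b _ _ ha hb
      have : a + b - algebraMap R C' (σ j (a + b)) =
          (a - algebraMap R C' (σ j a)) + (b - algebraMap R C' (σ j b)) := by
        rw [map_add, map_add]; ring
      rw [this]
      exact 𝔮.add_mem ha hb
    · intro a b _ _ ha hb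
      have : a * b - algebraMap R C' (σ j (a * b)) =
          a * (b - algebraMap R C' (σ j b)) + (a - algebraMap R C' (σ j a)) * algebraMap R C' (σ j b) := by
        rw [map_mul, map_mul]; ring
      rw [this]
      exact 𝔮.add_mem (𝔮.mul_mem_left _ hb) (𝔮.mul_mem_right _ ha)
  intro c hc
  have := key c
  rw [RingHom.mem_ker] at hc
  have hc' : σ j c = 0 := hc
  rwa [hc', map_zero, sub_zero] at this

/-- A finite algebra is generated by finitely many elements killed by a common monic polynomial. -/
theorem exists_generators_monic (A B : Type u) [CommRing A] [CommRing B] [Algebra A B]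
    [Module.Finite A B] :
    ∃ (n : ℕ) (b : Fin n → B) (P : A[X]), P.Monic ∧ (∀ i, aeval (b i) P = 0) ∧
      Algebra.adjoin A (Set.range b) = ⊤ := by
  obtain ⟨n, b, hb⟩ := Module.Finite.exists_fin (R := A) (M := B)
  have hint : ∀ i, IsIntegral A (b i) := fun i => Algebra.IsIntegral.isIntegral (b i)
  choose Q hQm hQ using hint
  refine ⟨n, b, ∏ i, Q i, monic_prod_of_monic _ _ (fun i _ => hQm i), fun i => ?_, ?_⟩
  · rw [map_prod]
    exact Finset.prod_eq_zero (Finset.mem_univ i) (hQ i)
  · rw [eq_top_iff]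
    intro x _
    have hx : x ∈ Submodule.span A (Set.range b) := by rw [hb]; trivial
    exact Algebra.span_le_adjoin A _ hx

open TensorProduct in
attribute [local instance] Algebra.TensorProduct.rightAlgebra in
/-- Generators of `B` over `A` give generators of `B ⊗[A] A'` over `A'`. -/
theorem adjoin_tmul_one_eq_top {A A' B : Type u} [CommRing A] [CommRing A'] [CommRing B]
    [Algebra A A'] [Algebra A B] {n : ℕ} (b : Fin n → B)
    (hgen : Algebra.adjoin A (Set.range b) = ⊤) :
    Algebra.adjoin A' (Set.range fun i => b i ⊗ₜ[A] (1 : A')) = ⊤ := by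
  rw [eq_top_iff]
  intro x hxtop
  clear hxtop
  induction x using TensorProduct.induction_on with
  | zero => exact Subalgebra.zero_mem _
  | add x y hx hy => exact Subalgebra.add_mem _ hx hy
  | tmul y a' =>
    have h1 : y ⊗ₜ[A] a' = a' • (y ⊗ₜ[A] (1 : A')) := by
      rw [Algebra.smul_def, Algebra.TensorProduct.right_algebraMap_apply,
        Algebra.TensorProduct.tmul_mul_tmul, one_mul, mul_one]
    rw [h1]
    refine Subalgebra.smul_mem _ ?_ a'
    have hy : y ∈ Algebra.adjoin A (Set.range b) := by rw [hgen]; trivial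
    refine Algebra.adjoin_induction (p := fun y _ => y ⊗ₜ[A] (1 : A') ∈
      Algebra.adjoin A' (Set.range fun i => b i ⊗ₜ[A] (1 : A'))) ?_ ?_ ?_ ?_ hy
    · rintro _ ⟨i, rfl⟩
      exact Algebra.subset_adjoin ⟨i, rfl⟩
    · intro r
      have : (algebraMap A B r) ⊗ₜ[A] (1 : A') = algebraMap A' (B ⊗[A] A') (algebraMap A A' r) := by
        rw [Algebra.TensorProduct.right_algebraMap_apply, Algebra.algebraMap_eq_smul_one,
          Algebra.algebraMap_eq_smul_one, TensorProduct.smul_tmul]
      rw [this]
      exact Subalgebra.algebraMap_mem _ _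
    · intro a c _ _ ha hc
      rw [TensorProduct.add_tmul]
      exact Subalgebra.add_mem _ ha hc
    · intro a c _ _ ha hc
      have : (a * c) ⊗ₜ[A] (1 : A') = (a ⊗ₜ[A] (1 : A')) * (c ⊗ₜ[A] (1 : A')) := by
        rw [Algebra.TensorProduct.tmul_mul_tmul, one_mul]
      rw [this]
      exact Subalgebra.mul_mem _ ha hc

open TensorProduct in
attribute [local instance] Algebra.TensorProduct.rightAlgebra in
/-- Algebraic core of the splitting of a finite morphism after a finite free base change. -/
theorem exists_split_data (A B : Type u) [CommRing A] [CommRing B] [Algebra A B] [Module.Finite A B] :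
    ∃ (A' : Type u) (_ : CommRing A') (_ : Algebra A A') (C' : Type u) (_ : CommRing C')
      (_ : Algebra A' C'),
      Module.Free A A' ∧ Module.Finite A A' ∧ Function.Injective (algebraMap A A') ∧
      Module.Free A' C' ∧ Module.Finite A' C' ∧
      ∃ (φ : C' →ₐ[A'] B ⊗[A] A'), Function.Surjective φ ∧
      ∃ (m : ℕ) (σ : Fin m → (C' →ₐ[A'] A')),
        ∀ 𝔮 : Ideal C', 𝔮.IsPrime → ∃ j, RingHom.ker (σ j) ≤ 𝔮 := by
  obtain ⟨n, b, P, hPm, hb, hgen⟩ := exists_generators_monic A B
  obtain ⟨A', _, _, hfree, hfin, hinj, α, hα⟩ := exists_splitting_algebra P.natDegree A P hPm rfl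
  have hP'm : (P.map (algebraMap A A')).Monic := hPm.map _
  obtain ⟨C', _, _, hCfree, hCfin, t, ht, htgen, hUP⟩ :=
    exists_roots_algebra n A' (P.map (algebraMap A A')) hP'm
  have hb' : ∀ i, aeval (b i ⊗ₜ[A] (1 : A')) (P.map (algebraMap A A')) = 0 := by
    intro i
    rw [Polynomial.aeval_map_algebraMap]
    have := Polynomial.aeval_algHom_apply (Algebra.TensorProduct.includeLeft : B →ₐ[A] B ⊗[A] A')
      (b i) P
    have h2 : (Algebra.TensorProduct.includeLeft : B →ₐ[A] B ⊗[A] A') (b i) = b i ⊗ₜ[A] (1 : A') := rfl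
    rw [h2] at this
    rw [this, hb i, map_zero]
  obtain ⟨φ, hφ⟩ := hUP (B ⊗[A] A') (fun i => b i ⊗ₜ[A] (1 : A')) hb'
  have hsurj : Function.Surjective φ := by
    rw [← AlgHom.range_eq_top, eq_top_iff, ← adjoin_tmul_one_eq_top (A' := A') b hgen]
    refine Algebra.adjoin_le ?_
    rintro _ ⟨i, rfl⟩
    exact ⟨t i, hφ i⟩
  obtain ⟨σ, hσ⟩ := exists_sections_cover (P.map (algebraMap A A')) α hα t ht htgen
    (fun b hb => hUP A' b hb)
  refine ⟨A', inferInstance, inferInstance, C', inferInstance, inferInstance, hfree, hfin, hinj,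
    hCfree, hCfin, φ, hsurj, Fintype.card (Fin n → Fin P.natDegree),
    fun k => σ ((Fintype.equivFin (Fin n → Fin P.natDegree)).symm k), fun 𝔮 h𝔮 => ?_⟩
  obtain ⟨j, hj⟩ := hσ 𝔮 h𝔮
  exact ⟨Fintype.equivFin _ j, by simpa using hj⟩

end Groth.Agent.Lib.Helper50
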