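import Mathlib
import Groth.Prelude.Def_Mor2
import Groth.Agent.Lib.Helper50.SplitAlg

/-! Scheme-level packaging of the splitting of finite morphisms. -/

namespace Groth.Agent.Lib.Helper50

open AlgebraicGeometry CategoryTheory CategoryTheory.Limits TensorProduct

universe u

theorem isFinLocFree_SpecMap (R S : Type u) [CommRing R] [CommRing S] [Algebra R S] [Module.Free R S]
    [Module.Finite R S] : Mor2.IsFinLocFree (Spec.map (CommRingCat.ofHom (algebraMap R S))) := by
  refine ⟨?_, ?_, ?_⟩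
  · rw [IsFinite.SpecMap_iff]
    exact RingHom.finite_algebraMap.mpr inferInstance
  · rw [Flat.SpecMap_iff]
    exact RingHom.flat_algebraMap_iff.mpr inferInstance
  · rw [HasRingHomProperty.Spec_iff (P := @LocallyOfFinitePresentation)]
    haveI : Module.FinitePresentation R S := Module.finitePresentation_of_projective R S
    haveI : Algebra.FinitePresentation R S := Algebra.FinitePresentation.of_finitePresentation R S
    exact RingHom.finitePresentation_algebraMap.mpr inferInstance

attribute [local instance] Algebra.TensorProduct.rightAlgebra in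
set_option maxHeartbeats 1000000 in
theorem exists_split_finite {X Y : Scheme.{u}} [IsAffine X] (f : Y ⟶ X) [IsFinite f] :
    ∃ (X' : Scheme.{u}) (b : X' ⟶ X) (Z' : Scheme.{u}) (c : Z' ⟶ X') (i : pullback f b ⟶ Z'),
      Mor2.IsFinLocFree b ∧ Surjective b ∧ Mor2.IsFinLocFree c ∧ IsClosedImmersion i ∧
      i ≫ c = pullback.snd f b ∧
      ∃ (m : ℕ) (Zj : Fin m → Scheme.{u}) (ιj : ∀ j, Zj j ⟶ Z'),
        (∀ j, IsClosedImmersion (ιj j)) ∧ (∀ j, IsIso (ιj j ≫ c)) ∧
        (⋃ j, Set.range (ιj j).base) = Set.univ := by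
  haveI : IsAffine Y := isAffine_of_isAffineHom f
  letI : Algebra Γ(X, ⊤) Γ(Y, ⊤) := f.appTop.hom.toAlgebra
  haveI : Module.Finite Γ(X, ⊤) Γ(Y, ⊤) := f.finite_appTop
  obtain ⟨A', _, _, C', _, _, hfree, hfin, hinj, hCfree, hCfin, φ, hφ, m, σ, hσ⟩ :=
    exists_split_data Γ(X, ⊤) Γ(Y, ⊤)
  let b : Spec (.of A') ⟶ X := Spec.map (CommRingCat.ofHom (algebraMap Γ(X, ⊤) A')) ≫ X.isoSpec.inv
  let c : Spec (.of C') ⟶ Spec (.of A') := Spec.map (CommRingCat.ofHom (algebraMap A' C'))
  have hpb0 := isPullback_SpecMap_of_isPushout _ _ _ _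
    (CommRingCat.isPushout_tensorProduct Γ(X, ⊤) Γ(Y, ⊤) A')
  have hpb : IsPullback
      (Spec.map (CommRingCat.ofHom (Algebra.TensorProduct.includeLeftRingHom :
        Γ(Y, ⊤) →+* Γ(Y, ⊤) ⊗[Γ(X, ⊤)] A')) ≫ Y.isoSpec.inv)
      (Spec.map (CommRingCat.ofHom (Algebra.TensorProduct.includeRight :
        A' →ₐ[Γ(X, ⊤)] Γ(Y, ⊤) ⊗[Γ(X, ⊤)] A').toRingHom)) f b := by
    refine hpb0.of_iso (Iso.refl _) Y.isoSpec.symm (Iso.refl _) X.isoSpec.symm ?_ ?_ ?_ ?_
    · simp
    · simp
    · exact Scheme.isoSpec_inv_naturality f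
    · simp [b]
  let e := hpb.isoPullback
  let i : pullback f b ⟶ Spec (.of C') := e.inv ≫ Spec.map (CommRingCat.ofHom φ.toRingHom)
  refine ⟨Spec (.of A'), b, Spec (.of C'), c, i, ?_, ?_, isFinLocFree_SpecMap A' C', ?_, ?_, ?_⟩
  · obtain ⟨h1, h2, h3⟩ := isFinLocFree_SpecMap Γ(X, ⊤) A'
    exact ⟨inferInstance, inferInstance, inferInstance⟩
  · haveI : Surjective (Spec.map (CommRingCat.ofHom (algebraMap Γ(X, ⊤) A'))) := by
      constructor
      haveI : Algebra.IsIntegral Γ(X, ⊤) A' := Algebra.IsIntegral.of_finite _ _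
      exact (RingHom.IsIntegral.comap_surjective (f := algebraMap Γ(X, ⊤) A')
        (algebraMap_isIntegral_iff.mpr inferInstance) hinj)
    infer_instance
  · haveI : IsClosedImmersion (Spec.map (CommRingCat.ofHom φ.toRingHom)) :=
      IsClosedImmersion.spec_of_surjective _ hφ
    infer_instance
  · have h1 : Spec.map (CommRingCat.ofHom φ.toRingHom) ≫ c =
        Spec.map (CommRingCat.ofHom (Algebra.TensorProduct.includeRight :
          A' →ₐ[Γ(X, ⊤)] Γ(Y, ⊤) ⊗[Γ(X, ⊤)] A').toRingHom) := by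
      rw [← Spec.map_comp]
      congr 1
      ext x
      exact φ.commutes x
    rw [Category.assoc, h1]
    exact hpb.isoPullback_inv_snd
  · refine ⟨m, fun _ => Spec (.of A'), fun j => Spec.map (CommRingCat.ofHom (σ j).toRingHom),
      fun j => ?_, fun j => ?_, ?_⟩
    · refine IsClosedImmersion.spec_of_surjective _ (fun a => ⟨algebraMap A' C' a, ?_⟩)
      exact (σ j).commutes a
    · have : Spec.map (CommRingCat.ofHom (σ j).toRingHom) ≫ c = 𝟙 _ := by
        rw [← Spec.map_comp, ← Spec.map_id]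
        congr 1
        ext x
        exact (σ j).commutes x
      rw [this]
      infer_instance
    · rw [Set.eq_univ_iff_forall]
      intro z
      obtain ⟨j, hj⟩ := hσ z.asIdeal z.isPrime
      rw [Set.mem_iUnion]
      refine ⟨j, ?_⟩
      have hsurj : Function.Surjective (σ j).toRingHom := fun a => ⟨algebraMap A' C' a, (σ j).commutes a⟩
      have := range_comap_of_surjective _ (σ j).toRingHom hsurj
      change z ∈ Set.range (PrimeSpectrum.comap (σ j).toRingHom)
      rw [this]
      exact hj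

end Groth.Agent.Lib.Helper50
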