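import Mathlib
import Groth.Prelude
import Groth.Agent.Lib.Helper50.StalkBC

/-!
# Stalks of a product `X ×_k Y` as localizations of `O_{X,x} ⊗[k] O_{Y,y}` (helper50)
-/

open CategoryTheory AlgebraicGeometry Limits TensorProduct MorphismProperty

namespace Groth.Agent.Lib.Helper50

universe u

section

variable {X Y : Scheme.{u}} {k : Type u} [Field k]
  (f : X ⟶ Spec (CommRingCat.of k)) (g : Y ⟶ Spec (CommRingCat.of k)) (x : X) (y : Y)
  (φ : k →+* X.presheaf.stalk x) (hφ : Spec.map (CommRingCat.ofHom φ) = X.fromSpecStalk x ≫ f)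
  (ψ : k →+* Y.presheaf.stalk y) (hψ : Spec.map (CommRingCat.ofHom ψ) = Y.fromSpecStalk y ≫ g)

include hφ hψ in
/-- Every point `z` of `X ×_k Y` over `(x, y)` has local ring a localization of
`O_{X,x} ⊗[k] O_{Y,y}` at a prime. -/
theorem exists_stalk_prod (z : ↥(pullback f g)) (hx : pullback.fst f g z = x)
    (hy : pullback.snd f g z = y) :
    letI := φ.toAlgebra
    letI := ψ.toAlgebra
    ∃ q : PrimeSpectrum (X.presheaf.stalk x ⊗[k] Y.presheaf.stalk y),
      Nonempty ((pullback f g).presheaf.stalk z ≃+* Localization.AtPrime q.asIdeal) := by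
  letI := φ.toAlgebra
  letI := ψ.toAlgebra
  let i := X.fromSpecStalk x
  let i' := Y.fromSpecStalk y
  let j : pullback (i ≫ f) (i' ≫ g) ⟶ pullback f g :=
    pullback.map (i ≫ f) (i' ≫ g) f g i i' (𝟙 _) ((Category.comp_id _).trans rfl)
      ((Category.comp_id _).trans rfl)
  have hjflat : Flat j :=
    MorphismProperty.pullbackMap (P := @Flat) (inferInstance : Flat i) (inferInstance : Flat i')
      rfl rfl
  have hjpre : IsPreimmersion j :=
    MorphismProperty.pullbackMap (P := @IsPreimmersion) (inferInstance : IsPreimmersion i)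
      (inferInstance : IsPreimmersion i') rfl rfl
  let eW : pullback (i ≫ f) (i' ≫ g) ≅
      Spec (CommRingCat.of (X.presheaf.stalk x ⊗[k] Y.presheaf.stalk y)) :=
    pullback.congrHom hφ.symm hψ.symm ≪≫ pullbackSpecIso k _ _
  have hz : z ∈ Set.range j := by
    rw [Scheme.Pullback.range_map]
    refine ⟨⟨IsLocalRing.closedPoint _, ?_⟩, ⟨IsLocalRing.closedPoint _, ?_⟩⟩
    · rw [hx]; exact Scheme.fromSpecStalk_closedPoint
    · rw [hy]; exact Scheme.fromSpecStalk_closedPoint
  obtain ⟨w, rfl⟩ := hz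
  have e1 : (pullback f g).presheaf.stalk (j w) ≃+* (pullback (i ≫ f) (i' ≫ g)).presheaf.stalk w :=
    RingEquiv.ofBijective (j.stalkMap w).hom (stalkMap_bijective_of_flat_of_isPreimmersion j w)
  obtain ⟨e2⟩ := nonempty_ringEquiv_stalk_of_iso eW w
  obtain ⟨e3⟩ := nonempty_ringEquiv_stalk_spec
    (X.presheaf.stalk x ⊗[k] Y.presheaf.stalk y) (eW.hom w)
  exact ⟨eW.hom w, ⟨e1.trans (e2.trans e3)⟩⟩

end

end Groth.Agent.Lib.Helper50
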