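import Mathlib

/-!
# Vanishing of a tensor in a tensor product with a finitely generated submodule (right factor)
-/

namespace Groth.Agent.Lib.Helper50

open TensorProduct

variable {R : Type*} [CommRing R] {N M : Type*} [AddCommGroup N] [Module R N]
  [AddCommGroup M] [Module R M]

/-- `lTensor` version of `Submodule.FG.exists_rTensor_fg_inclusion_eq`. -/
theorem exists_lTensor_fg_inclusion_eq_zero {M' : Submodule R M} (hM' : M'.FG)
    (x : N ⊗[R] M') (h : M'.subtype.lTensor N x = 0) :
    ∃ M'' : Submodule R M, M''.FG ∧ ∃ h : M' ≤ M'',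
      (Submodule.inclusion h).lTensor N x = 0 := by
  have h1 : M'.subtype.rTensor N (TensorProduct.comm R N M' x) = M'.subtype.rTensor N 0 := by
    rw [LinearMap.rTensor_comm, h, map_zero, map_zero]
  obtain ⟨M'', hfg, hle, h2⟩ := hM'.exists_rTensor_fg_inclusion_eq h1
  refine ⟨M'', hfg, hle, ?_⟩
  rw [LinearMap.rTensor_comm, map_zero] at h2
  exact (LinearEquiv.map_eq_zero_iff _).mp h2

end Groth.Agent.Lib.Helper50
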