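import Mathlib

/-! Finite type lifts along surjections with finitely generated nilpotent kernel. -/

namespace Groth.Agent.Lib.Helper50

universe u

/-- Nilpotent Nakayama: `⊤ = N ⊔ J • ⊤` with `J` nilpotent implies `N = ⊤`. -/
theorem eq_top_of_sup_smul_top_eq_top {R M : Type*} [CommRing R] [AddCommGroup M] [Module R M]
    (N : Submodule R M) (J : Ideal R) (hJ : IsNilpotent J) (h : N ⊔ J • (⊤ : Submodule R M) = ⊤) :
    N = ⊤ := by
  obtain ⟨k, hk⟩ := hJ
  have key : ∀ m : ℕ, N ⊔ (J ^ m) • (⊤ : Submodule R M) = ⊤ := by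
    intro m
    induction m with
    | zero => simp
    | succ m ih =>
      have hle : (J ^ m) • (⊤ : Submodule R M) ≤ N ⊔ (J ^ (m + 1)) • (⊤ : Submodule R M) := by
        calc (J ^ m) • (⊤ : Submodule R M) = (J ^ m) • (N ⊔ J • (⊤ : Submodule R M)) := by rw [h]
          _ = (J ^ m) • N ⊔ (J ^ m) • (J • (⊤ : Submodule R M)) := Submodule.smul_sup _ _ _
          _ ≤ N ⊔ (J ^ (m + 1)) • (⊤ : Submodule R M) :=
            sup_le_sup Submodule.smul_le_right (by rw [← Submodule.mul_smul, ← pow_succ])
      refine eq_top_iff.mpr ?_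
      calc (⊤ : Submodule R M) = N ⊔ (J ^ m) • (⊤ : Submodule R M) := ih.symm
        _ ≤ N ⊔ (J ^ (m + 1)) • (⊤ : Submodule R M) := sup_le le_sup_left hle
  have := key k
  rwa [hk, Submodule.zero_eq_bot, Submodule.bot_smul, sup_bot_eq] at this

/-- If `π : B → B₀` is surjective with finitely generated nilpotent kernel and `A → B → B₀` is of finite
type, then `A → B` is of finite type. -/
theorem finiteType_of_surjective_nilpotent_ker {A B B₀ : Type u} [CommRing A] [CommRing B] [CommRing B₀]
    (φ : A →+* B) (π : B →+* B₀) (hπ : Function.Surjective π) (hfg : (RingHom.ker π).FG)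
    (hnil : IsNilpotent (RingHom.ker π)) (h : (π.comp φ).FiniteType) : φ.FiniteType := by
  classical
  algebraize [φ, π.comp φ]
  let πa : B →ₐ[A] B₀ := { π with commutes' := fun r => rfl }
  obtain ⟨s₀, hs₀⟩ := (Algebra.FiniteType.out : (⊤ : Subalgebra A B₀).FG)
  obtain ⟨t, ht⟩ := hfg
  let s : Finset B := s₀.image (Function.surjInv hπ)
  have hs : πa '' (s : Set B) = (s₀ : Set B₀) := by
    ext y
    simp only [s, Finset.coe_image, Set.mem_image, Finset.mem_coe]
    constructor
    · rintro ⟨_, ⟨z, hz, rfl⟩, rfl⟩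
      change π (Function.surjInv hπ z) ∈ s₀
      rwa [Function.surjInv_eq hπ]
    · intro hy
      exact ⟨_, ⟨y, hy, rfl⟩, Function.surjInv_eq hπ y⟩
  let B' : Subalgebra A B := Algebra.adjoin A ((s : Set B) ∪ (t : Set B))
  suffices hB' : B' = ⊤ by
    rw [RingHom.FiniteType]
    exact ⟨⟨s ∪ t, by rw [Finset.coe_union]; exact hB'⟩⟩
  let N' : Submodule B' B := Submodule.span B' {1}
  let J' : Ideal B' := Ideal.span (Set.range fun x : (t : Set B) =>
    (⟨x.1, Algebra.subset_adjoin (Or.inr x.2)⟩ : B'))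
  have hJ'J : ∀ x ∈ J', (x : B) ∈ RingHom.ker π := by
    intro x hx
    refine Submodule.span_induction ?_ ?_ ?_ ?_ hx
    · rintro _ ⟨y, rfl⟩
      rw [← ht]
      exact Ideal.subset_span y.2
    · simp
    · intro a b _ _ ha hb
      simpa using Ideal.add_mem _ ha hb
    · intro a b _ hb
      simpa using Ideal.mul_mem_left _ _ hb
  have hJ'nil : IsNilpotent J' := by
    obtain ⟨k, hk⟩ := hnil
    refine ⟨k, ?_⟩
    rw [Submodule.zero_eq_bot, eq_bot_iff]
    intro x hx
    have hmap : (J' ^ k).map B'.val.toRingHom ≤ (RingHom.ker π) ^ k := by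
      rw [Ideal.map_pow]
      refine Ideal.pow_right_mono ?_ k
      rw [Ideal.map_le_iff_le_comap]
      intro y hy
      exact hJ'J y hy
    have hx0 : (x : B) ∈ (RingHom.ker π) ^ k := hmap (Ideal.mem_map_of_mem _ hx)
    rw [hk] at hx0
    exact Subtype.ext hx0
  have h1 : N' ⊔ J' • (⊤ : Submodule B' B) = ⊤ := by
    rw [eq_top_iff]
    intro b _
    have hb : πa b ∈ Algebra.adjoin A (πa '' (s : Set B)) := by rw [hs, hs₀]; trivial
    rw [← AlgHom.map_adjoin] at hb
    obtain ⟨b₁, hb₁, hb₁'⟩ := hb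
    have hb₁B' : b₁ ∈ B' := Algebra.adjoin_mono Set.subset_union_left hb₁
    have hdiff : b - b₁ ∈ Ideal.span (t : Set B) := by
      rw [ht, RingHom.mem_ker, map_sub, sub_eq_zero]
      exact hb₁'.symm
    have hmem : b - b₁ ∈ J' • (⊤ : Submodule B' B) := by
      refine Submodule.span_induction ?_ ?_ ?_ ?_ hdiff
      · intro y hy
        have : y = (⟨y, Algebra.subset_adjoin (Or.inr hy)⟩ : B') • (1 : B) := by
          rw [Subalgebra.smul_def]; simp
        rw [this]
        exact Submodule.smul_mem_smul (Ideal.subset_span ⟨⟨y, hy⟩, rfl⟩) trivial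
      · exact Submodule.zero_mem _
      · intro a c _ _ ha hc
        exact Submodule.add_mem _ ha hc
      · intro a c _ hc
        -- a • c with c ∈ J' • ⊤
        refine Submodule.smul_induction_on hc ?_ ?_
        · intro r hr n _
          have : a • (r • n) = r • (a • n) := by
            rw [Subalgebra.smul_def, Subalgebra.smul_def]; simp only [smul_eq_mul]; ring
          rw [this]
          exact Submodule.smul_mem_smul hr trivial
        · intro x y hx hy
          rw [smul_add]
          exact Submodule.add_mem _ hx hy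
    have : b = b₁ + (b - b₁) := by ring
    rw [this]
    refine Submodule.add_mem _ (Submodule.mem_sup_left ?_) (Submodule.mem_sup_right hmem)
    have : b₁ = (⟨b₁, hb₁B'⟩ : B') • (1 : B) := by rw [Subalgebra.smul_def]; simp
    rw [this]
    exact Submodule.smul_mem _ _ (Submodule.subset_span rfl)
  have hN' := eq_top_of_sup_smul_top_eq_top N' J' hJ'nil h1
  rw [eq_top_iff]
  intro b _
  have hb : b ∈ N' := by rw [hN']; trivial
  obtain ⟨c, hc⟩ := Submodule.mem_span_singleton.mp hb
  rw [← hc, Subalgebra.smul_def]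
  simp

end Groth.Agent.Lib.Helper50
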