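import Mathlib
import Groth.Agent.Lib.Helper50.ThickFT
import Groth.Agent.Lib.Helper14.SmoothFibre

/-! Smoothness lifts along Noetherian thickenings for flat morphisms. -/

namespace Groth.Agent.Lib.Helper50

open AlgebraicGeometry CategoryTheory CategoryTheory.Limits

universe u

theorem appLE_congr_hom {X Y : Scheme.{u}} {g g' : X ⟶ Y} (h : g = g') (U : Y.Opens) (V : X.Opens)
    (e : V ≤ g ⁻¹ᵁ U) : g.appLE U V e = g'.appLE U V (h ▸ e) := by
  subst h; rfl

/-- Sections killed by a surjective closed immersion are nilpotent. -/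
theorem isNilpotent_of_app_eq_zero {X₀ X : Scheme.{u}} (iX : X₀ ⟶ X) (hsX : Function.Surjective iX.base)
    {V : X.Opens} (hV : IsAffineOpen V) (b : Γ(X, V)) (hb : (iX.app V).hom b = 0) : IsNilpotent b := by
  rw [Scheme.isNilpotent_iff_basicOpen_eq_bot_of_isCompact hV.isCompact]
  ext x
  simp only [TopologicalSpace.Opens.coe_bot, Set.mem_empty_iff_false, iff_false, SetLike.mem_coe]
  intro hx
  obtain ⟨x₀, rfl⟩ := hsX x
  have h1 : x₀ ∈ iX ⁻¹ᵁ X.basicOpen b := hx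
  rw [Scheme.preimage_basicOpen] at h1
  have h2 : X₀.basicOpen ((ConcreteCategory.hom (iX.app V)) b) = ⊥ := by
    have : (ConcreteCategory.hom (iX.app V)) b = 0 := hb
    rw [this, Scheme.basicOpen_zero]
  rw [h2] at h1
  exact h1

theorem locallyOfFiniteType_of_thickening {X₀ X Y₀ Y : Scheme.{u}} (iX : X₀ ⟶ X) (f₀ : X₀ ⟶ Y₀)
    (f : X ⟶ Y) (iY : Y₀ ⟶ Y) (w : iX ≫ f = f₀ ≫ iY) [IsClosedImmersion iX]
    (hsX : Function.Surjective iX.base) [IsClosedImmersion iY] [IsLocallyNoetherian X]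
    [LocallyOfFiniteType f₀] : LocallyOfFiniteType f := by
  rw [HasRingHomProperty.iff_appLE (P := @LocallyOfFiniteType)]
  intro U V e
  have hU₀ : IsAffineOpen (iY ⁻¹ᵁ U.1) := U.2.preimage iY
  have hV₀ : IsAffineOpen (iX ⁻¹ᵁ V.1) := V.2.preimage iX
  have e₀ : iX ⁻¹ᵁ V.1 ≤ f₀ ⁻¹ᵁ (iY ⁻¹ᵁ U.1) := by
    intro x hx
    have h1 : f (iX x) ∈ U.1 := e hx
    have h2 : f (iX x) = iY (f₀ x) := by
      rw [← Scheme.Hom.comp_apply, ← Scheme.Hom.comp_apply, w]
    rw [h2] at h1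
    exact h1
  haveI : IsNoetherianRing Γ(X, V.1) := IsLocallyNoetherian.component_noetherian V
  refine finiteType_of_surjective_nilpotent_ker (f.appLE U.1 V.1 e).hom (iX.app V.1).hom
    (iX.app_surjective V.1 V.2) ((isNoetherianRing_iff_ideal_fg _).mp inferInstance _) ?_ ?_
  · obtain ⟨k, hk⟩ := IsNoetherianRing.isNilpotent_nilradical Γ(X, V.1)
    refine ⟨k, ?_⟩
    rw [Submodule.zero_eq_bot, eq_bot_iff, ← Submodule.zero_eq_bot, ← hk]
    refine Ideal.pow_right_mono ?_ k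
    intro b hb
    exact (mem_nilradical).mpr (isNilpotent_of_app_eq_zero iX hsX V.2 b hb)
  · have hcomp : (iX.app V.1).hom.comp (f.appLE U.1 V.1 e).hom =
        (f₀.appLE (iY ⁻¹ᵁ U.1) (iX ⁻¹ᵁ V.1) e₀).hom.comp (iY.app U.1).hom := by
      rw [← CommRingCat.hom_comp, ← CommRingCat.hom_comp]
      congr 1
      have h1 := Scheme.Hom.comp_appLE iX f U.1 (iX ⁻¹ᵁ V.1) (fun x hx => e hx)
      have h2 := Scheme.Hom.comp_appLE f₀ iY U.1 (iX ⁻¹ᵁ V.1) (fun x hx => e₀ hx)
      have h3 := appLE_congr_hom w U.1 (iX ⁻¹ᵁ V.1) (fun x hx => e hx)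
      rw [← h2, ← h3, Scheme.Hom.app_eq_appLE, Scheme.Hom.appLE_comp_appLE]
    rw [hcomp]
    exact (LocallyOfFiniteType.finiteType_appLE f₀ hU₀ hV₀ e₀).comp
      (RingHom.FiniteType.of_surjective _ (iY.app_surjective U.1 U.2))

/-- A flat morphism of locally Noetherian schemes whose base change along a surjective closed immersion
(a thickening) is smooth is itself smooth. -/
theorem smooth_of_thickening {X₀ X Y₀ Y : Scheme.{u}} {iX : X₀ ⟶ X} {f₀ : X₀ ⟶ Y₀} {f : X ⟶ Y}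
    {iY : Y₀ ⟶ Y} (H : IsPullback iX f₀ f iY) [IsClosedImmersion iX]
    (hsX : Function.Surjective iX.base) [IsClosedImmersion iY] [IsLocallyNoetherian X]
    [IsLocallyNoetherian Y] [Flat f] [Smooth f₀] : Smooth f := by
  haveI : LocallyOfFiniteType f := locallyOfFiniteType_of_thickening iX f₀ f iY H.w hsX
  haveI : LocallyOfFinitePresentation f := LocallyOfFinitePresentation.iff_locallyOfFiniteType.mpr ‹_›
  rw [← Scheme.Hom.smoothLocus_eq_top_iff]
  ext x
  simp only [TopologicalSpace.Opens.coe_top, Set.mem_univ, iff_true, SetLike.mem_coe]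
  obtain ⟨x₀, rfl⟩ := hsX x
  let g₀ := Y₀.fromSpecResidueField (f₀ x₀)
  have Hfib : IsPullback (pullback.fst f₀ g₀) (pullback.snd f₀ g₀) f₀ g₀ := IsPullback.of_hasPullback _ _
  have Hbig := Hfib.paste_horiz H
  obtain ⟨x', hx'1, -⟩ := Scheme.Pullback.exists_preimage_pullback (f := f₀) (g := g₀) x₀
    (IsLocalRing.closedPoint _) (by simp [g₀])
  refine Groth.Agent.Lib.Helper14.mem_smoothLocus_of_isPullback_field
    (Field.toIsField (Y₀.residueField (f₀ x₀))) Hbig x' (iX x₀) ?_ (Flat.stalkMap f _) ?_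
  · rw [Scheme.Hom.comp_apply, hx'1]
  · have : (pullback.snd f₀ g₀).smoothLocus = ⊤ := Scheme.Hom.smoothLocus_eq_top_iff.mpr inferInstance
    rw [this]; trivial

end Groth.Agent.Lib.Helper50
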