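import Mathlib

/-!
# Counting irreducible / connected components along surjective maps (helper50)
-/

universe u

namespace Groth.Agent.Lib.Helper50

open Topology

/-- A continuous surjection onto a quasi-sober space: the target has at most as many irreducible
components as the source. -/
theorem exists_injective_irreducibleComponents_of_surjective {A B : Type*} [TopologicalSpace A]
    [TopologicalSpace B] [QuasiSober B] {f : A → B} (hc : Continuous f)
    (hs : Function.Surjective f) :
    ∃ g : irreducibleComponents B → irreducibleComponents A, Function.Injective g := by
  classical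
  have key : ∀ T : irreducibleComponents B, ∃ T' : irreducibleComponents A,
      closure (f '' T'.1) = T.1 := by
    intro T
    have hTc : IsClosed T.1 := isClosed_of_mem_irreducibleComponents T.1 T.2
    have hTi : IsIrreducible T.1 := T.2.1
    set η := hTi.genericPoint with hη
    have hgen : closure {η} = T.1 := hTi.closure_genericPoint hTc
    obtain ⟨a, ha⟩ := hs η
    refine ⟨⟨irreducibleComponent a, irreducibleComponent_mem_irreducibleComponents a⟩, ?_⟩
    have hirr : IsIrreducible (closure (f '' irreducibleComponent a)) :=
      (isIrreducible_irreducibleComponent.image f hc.continuousOn).closure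
    have hsub : T.1 ⊆ closure (f '' irreducibleComponent a) := by
      rw [← hgen]
      apply closure_minimal _ isClosed_closure
      rw [Set.singleton_subset_iff]
      exact subset_closure ⟨a, mem_irreducibleComponent, ha⟩
    exact (T.2.2 hirr hsub |>.antisymm hsub)
  choose g hg using key
  refine ⟨g, fun T₁ T₂ h => Subtype.ext ?_⟩
  rw [← hg T₁, ← hg T₂, h]

theorem mk_irreducibleComponents_le_of_surjective {A B : Type u} [TopologicalSpace A]
    [TopologicalSpace B] [QuasiSober B] {f : A → B} (hc : Continuous f)
    (hs : Function.Surjective f) :
    Cardinal.mk (irreducibleComponents B) ≤ Cardinal.mk (irreducibleComponents A) := by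
  obtain ⟨g, hg⟩ := exists_injective_irreducibleComponents_of_surjective hc hs
  exact Cardinal.mk_le_of_injective hg

theorem mk_connectedComponents_le_of_surjective {A B : Type u} [TopologicalSpace A]
    [TopologicalSpace B] {f : A → B} (hc : Continuous f)
    (hs : Function.Surjective f) :
    Cardinal.mk (ConnectedComponents B) ≤ Cardinal.mk (ConnectedComponents A) := by
  apply Cardinal.mk_le_of_surjective (f := hc.connectedComponentsMap)
  intro b
  obtain ⟨b, rfl⟩ := ConnectedComponents.surjective_coe b
  obtain ⟨a, rfl⟩ := hs b
  exact ⟨(a : ConnectedComponents A), rfl⟩

end Groth.Agent.Lib.Helper50
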