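import Mathlib
import Groth.Prelude

set_option autoImplicit false
universe u

namespace Groth.Agent.Lib.Helper50.ZC12

/-- For a unibranch local domain `R` with a fraction field `K`, the integral closure of `R` in `K`
is a local ring. -/
theorem isLocalRing_integralClosure_of_isUnibranch (R : Type u) [CommRing R] [IsDomain R]
    [IsLocalRing R] (K : Type u) [Field K] [Algebra R K] [IsFractionRing R K]
    (hR : CAlg2.IsUnibranch R) : IsLocalRing (integralClosure R K) := by
  obtain ⟨hdom, hloc⟩ := hR
  have hnil : nilradical R = ⊥ := by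
    rw [eq_bot_iff]
    intro a ha
    exact (IsNilpotent.eq_zero ha : a = 0)
  let φ : CAlg2.red R →+* K := Ideal.Quotient.lift (nilradical R) (algebraMap R K) (by
    intro a ha
    rw [hnil] at ha
    rw [(Ideal.mem_bot.mp ha), map_zero])
  letI : Algebra (CAlg2.red R) K := φ.toAlgebra
  haveI : IsScalarTower R (CAlg2.red R) K := .of_algebraMap_eq' (by
    ext a; rfl)
  have hφinj : Function.Injective φ := by
    rw [injective_iff_map_eq_zero]
    intro x hx
    obtain ⟨a, rfl⟩ := Ideal.Quotient.mk_surjective x
    have : algebraMap R K a = 0 := hx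
    rw [(IsFractionRing.injective R K).eq_iff' (map_zero _)] at this
    rw [this, map_zero]
  haveI : FaithfulSMul (CAlg2.red R) K := (faithfulSMul_iff_algebraMap_injective _ _).mpr hφinj
  haveI : IsFractionRing (CAlg2.red R) K := by
    refine IsFractionRing.of_field (CAlg2.red R) K fun z => ?_
    obtain ⟨a, s, hs, rfl⟩ := IsFractionRing.div_surjective (A := R) z
    exact ⟨Ideal.Quotient.mk _ a, Ideal.Quotient.mk _ s, rfl⟩
  haveI : Algebra.IsIntegral R (CAlg2.red R) :=
    Algebra.isIntegral_of_surjective Ideal.Quotient.mk_surjective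
  let e := (FractionRing.algEquiv (CAlg2.red R) K).mapIntegralClosure
  let ψ : CAlg2.normRed R →+* integralClosure R K :=
    { toFun := fun x => ⟨(e x : K), isIntegral_trans _ (e x).2⟩
      map_one' := Subtype.ext (by simp)
      map_mul' := fun a b => Subtype.ext (by simp)
      map_zero' := Subtype.ext (by simp)
      map_add' := fun a b => Subtype.ext (by simp) }
  have hψ : Function.Surjective ψ := by
    rintro ⟨c, hc⟩
    have hc' : IsIntegral (CAlg2.red R) c := hc.tower_top
    obtain ⟨x, hx⟩ := e.surjective ⟨c, hc'⟩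
    exact ⟨x, Subtype.ext (by change (e x : K) = c; rw [hx])⟩
  exact IsLocalRing.of_surjective' ψ hψ

/-- If `R` is a unibranch local domain with fraction field `K` and `L ⊇ K` is a field in which every
element algebraic over `K` is purely inseparable over `K`, the integral closure of `R` in `L` has at
most one maximal ideal. -/
theorem subsingleton_maximalSpectrum_integralClosure (R : Type u) [CommRing R] [IsDomain R]
    [IsLocalRing R] (K : Type u) [Field K] [Algebra R K] [IsFractionRing R K]
    (hR : CAlg2.IsUnibranch R) (L : Type u) [Field L] [Algebra R L] (σ : K →+* L)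
    (hσ : algebraMap R L = σ.comp (algebraMap R K))
    (hrad : ∀ x : L, (∃ q : Polynomial K, q ≠ 0 ∧ Polynomial.eval₂ σ x q = 0) →
      ∃ e : ℕ, x ^ (ringExpChar L ^ e) ∈ Set.range σ) :
    Subsingleton (MaximalSpectrum (integralClosure R L)) := by
  haveI := isLocalRing_integralClosure_of_isUnibranch R K hR
  letI : Algebra K L := σ.toAlgebra
  haveI : IsScalarTower R K L := .of_algebraMap_eq' hσ
  let θ : integralClosure R K →+* integralClosure R L :=
    (IsScalarTower.toAlgHom R K L).mapIntegralClosure.toRingHom
  letI : Algebra (integralClosure R K) (integralClosure R L) := θ.toAlgebra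
  haveI : IsScalarTower R (integralClosure R K) (integralClosure R L) :=
    .of_algebraMap_eq' (by ext a; exact DFunLike.congr_fun hσ a)
  haveI : Algebra.IsIntegral (integralClosure R K) (integralClosure R L) :=
    Algebra.IsIntegral.tower_top R
  have hcomap : ∀ n : Ideal (integralClosure R L), n.IsMaximal →
      n.comap θ = IsLocalRing.maximalIdeal (integralClosure R K) := fun n hn =>
    IsLocalRing.eq_maximalIdeal
      (Ideal.isMaximal_comap_of_isIntegral_of_isMaximal (R := integralClosure R K) n)
  have key : ∀ n₁ n₂ : Ideal (integralClosure R L), n₁.IsMaximal → n₂.IsMaximal → n₁ ≤ n₂ := by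
    intro n₁ n₂ h₁ h₂ b hb
    obtain ⟨P, hPm, hP⟩ := b.2
    have halg : ∃ q : Polynomial K, q ≠ 0 ∧ Polynomial.eval₂ σ (b : L) q = 0 := by
      refine ⟨P.map (algebraMap R K), (hPm.map _).ne_zero, ?_⟩
      rw [Polynomial.eval₂_map, ← hσ]
      exact hP
    obtain ⟨e, c, hc⟩ := hrad b halg
    have hcint : IsIntegral R c := by
      have h1 : IsIntegral R ((b : L) ^ (ringExpChar L ^ e)) := b.2.pow _
      rw [← hc] at h1
      exact (isIntegral_algHom_iff (IsScalarTower.toAlgHom R K L) σ.injective).mp h1
    have hθ : θ ⟨c, hcint⟩ = b ^ (ringExpChar L ^ e) := Subtype.ext hc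
    have hpos : 0 < ringExpChar L ^ e := by
      have : 0 < ringExpChar L := lt_of_lt_of_le Nat.one_pos (le_max_right _ _)
      exact pow_pos this e
    have h3 : (⟨c, hcint⟩ : integralClosure R K) ∈ n₁.comap θ := by
      rw [Ideal.mem_comap, hθ]
      exact Ideal.pow_mem_of_mem n₁ hb _ hpos
    rw [hcomap n₁ h₁, ← hcomap n₂ h₂, Ideal.mem_comap, hθ] at h3
    exact h₂.isPrime.mem_of_pow_mem _ h3
  refine ⟨fun n₁ n₂ => ?_⟩
  apply MaximalSpectrum.ext
  exact le_antisymm (key _ _ n₁.2 n₂.2) (key _ _ n₂.2 n₁.2)

end Groth.Agent.Lib.Helper50.ZC12
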