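import Mathlib
import Groth.Agent.Lib.Helper50.ZC11
import Groth.Agent.Lib.Helper50.ZC12

set_option autoImplicit false
universe u
open AlgebraicGeometry CategoryTheory Limits Opposite TopologicalSpace

namespace Groth.Agent.Lib.Helper50.ZC13

open Groth.Agent.Lib.Helper50.ZC3 Groth.Agent.Lib.Helper50.ZC11 Groth.Agent.Lib.Helper50.ZC12

/-- a proper morphism whose image contains a point specializing to `y` hits `y`. -/
theorem nonempty_fiber_of_specializes {X Y : Scheme.{u}} (f : X ⟶ Y) [IsProper f] (x : X) (y : Y)
    (h : f.base x ⤳ y) : Nonempty ↥(f.fiber y) := by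
  have hcl : IsClosed (Set.range f.base) := f.isClosedMap.isClosed_range
  have hy : y ∈ Set.range f.base := by
    have := h.mem_closed hcl ⟨x, rfl⟩
    exact this
  obtain ⟨x', hx'⟩ := hy
  have h3 : x' ∈ Set.range (f.fiberι y) := by
    rw [Scheme.Hom.range_fiberι]; exact hx'
  obtain ⟨z, -⟩ := h3
  exact ⟨z⟩

theorem preconnectedSpace_of_subsingleton_connectedComponents {α : Type*} [TopologicalSpace α]
    (h : Subsingleton (_root_.ConnectedComponents α)) : PreconnectedSpace α := by
  rw [preconnectedSpace_iff_connectedComponent]
  intro x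
  ext z
  simp only [Set.mem_univ, iff_true]
  have : (z : _root_.ConnectedComponents α) = x := Subsingleton.elim _ _
  rw [ConnectedComponents.coe_eq_coe'] at this
  exact this

/-- **S4464, conditionally on the theorem on formal functions.** -/
theorem connectedSpace_fiber_of_isUnibranch (FF : FormalFunctions.{u}) {X Y : Scheme.{u}}
    [IsIntegral X] [IsIntegral Y] [IsLocallyNoetherian Y] (f : X ⟶ Y) [IsProper f]
    (hdom : f.base (genericPoint X) ⤳ genericPoint Y)
    (hrad : ∀ x : X.functionField,
      (∃ q : Polynomial Y.functionField, q ≠ 0 ∧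
        Polynomial.eval₂ (CohIII.stalkToFunctionField f (genericPoint Y) hdom) x q = 0) →
      ∃ e : ℕ, x ^ (ringExpChar X.functionField ^ e) ∈
        Set.range (CohIII.stalkToFunctionField f (genericPoint Y) hdom))
    (y : Y) (hy : CAlg2.IsUnibranch (Y.presheaf.stalk y)) :
    ConnectedSpace ↥(f.fiber y) := by
  have hηy : genericPoint Y ⤳ y := (genericPoint_spec Y).specializes trivial
  have h : f.base (genericPoint X) ⤳ y := hdom.trans hηy
  have hcard := card_connectedComponents_fiber_le FF f y h
  have hsub : Subsingleton (MaximalSpectrum (CohIII.integralClosureStalk f y h)) := by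
    letI : Algebra (Y.presheaf.stalk y) X.functionField :=
      (CohIII.stalkToFunctionField f y h).toAlgebra
    refine subsingleton_maximalSpectrum_integralClosure (Y.presheaf.stalk y) Y.functionField hy
      X.functionField (CohIII.stalkToFunctionField f (genericPoint Y) hdom) ?_ hrad
    change CohIII.stalkToFunctionField f y h = _
    unfold CohIII.stalkToFunctionField
    rw [RingHom.comp_assoc]
    congr 1
    change _ = (Y.presheaf.stalkSpecializes hηy ≫ Y.presheaf.stalkSpecializes hdom).hom
    rw [TopCat.Presheaf.stalkSpecializes_comp]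
  haveI : Subsingleton (_root_.ConnectedComponents ↥(f.fiber y)) := by
    rw [← Cardinal.le_one_iff_subsingleton]
    exact hcard.trans (Cardinal.le_one_iff_subsingleton.mpr hsub)
  haveI := preconnectedSpace_of_subsingleton_connectedComponents
    (α := ↥(f.fiber y)) inferInstance
  haveI := nonempty_fiber_of_specializes f (genericPoint X) y h
  exact ConnectedSpace.mk ‹_›

end Groth.Agent.Lib.Helper50.ZC13
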