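import Mathlib
import Groth.Prelude

set_option autoImplicit false
universe u

namespace Groth.Agent.Lib.Helper50.ZC14

/-- `IsUnibranch` is invariant under ring isomorphisms. -/
theorem isUnibranch_of_ringEquiv {A B : Type u} [CommRing A] [CommRing B] [IsLocalRing A]
    [IsLocalRing B] (e : A ≃+* B) (hA : CAlg2.IsUnibranch A) : CAlg2.IsUnibranch B := by
  obtain ⟨hdom, hloc⟩ := hA
  have hnil : nilradical B = (nilradical A).map (e : A →+* B) := by
    ext b
    rw [Ideal.mem_map_iff_of_surjective (e : A →+* B) e.surjective]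
    constructor
    · intro hb
      refine ⟨e.symm b, ?_, e.apply_symm_apply b⟩
      rw [mem_nilradical] at hb ⊢
      exact hb.map e.symm
    · rintro ⟨a, ha, rfl⟩
      rw [mem_nilradical] at ha ⊢
      exact ha.map e
  let ē : CAlg2.red A ≃+* CAlg2.red B := Ideal.quotientEquiv _ _ e hnil
  haveI : IsDomain (CAlg2.red B) := ē.toMulEquiv.isDomain_iff.mp hdom
  refine ⟨inferInstance, ?_⟩
  let E : FractionRing (CAlg2.red A) ≃+* FractionRing (CAlg2.red B) :=
    IsFractionRing.ringEquivOfRingEquiv ē
  have hE : ∀ a, E (algebraMap (CAlg2.red A) (FractionRing (CAlg2.red A)) a) =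
      algebraMap (CAlg2.red B) (FractionRing (CAlg2.red B)) (ē a) := fun a =>
    IsFractionRing.ringEquivOfRingEquiv_algebraMap ē a
  have hint : ∀ x : FractionRing (CAlg2.red A), IsIntegral (CAlg2.red A) x →
      IsIntegral (CAlg2.red B) (E x) := fun x hx =>
    hx.map_of_comp_eq (ē : CAlg2.red A →+* CAlg2.red B)
      (E : FractionRing (CAlg2.red A) →+* FractionRing (CAlg2.red B)) (by
      ext a; exact (hE a).symm)
  have hint' : ∀ y : FractionRing (CAlg2.red B), IsIntegral (CAlg2.red B) y →
      IsIntegral (CAlg2.red A) (E.symm y) := fun y hy =>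
    hy.map_of_comp_eq (ē.symm : CAlg2.red B →+* CAlg2.red A)
      (E.symm : FractionRing (CAlg2.red B) →+* FractionRing (CAlg2.red A)) (by
      ext b
      simp only [RingHom.comp_apply, RingHom.coe_coe]
      apply E.injective
      rw [E.apply_symm_apply, hE, ē.apply_symm_apply])
  let ψ : CAlg2.normRed A →+* CAlg2.normRed B :=
    { toFun := fun x => ⟨E x, hint x x.2⟩
      map_one' := Subtype.ext (by simp)
      map_mul' := fun a b => Subtype.ext (by simp)
      map_zero' := Subtype.ext (by simp)
      map_add' := fun a b => Subtype.ext (by simp) }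
  have hψ : Function.Surjective ψ := by
    rintro ⟨y, hy⟩
    exact ⟨⟨E.symm y, hint' y hy⟩, Subtype.ext (E.apply_symm_apply y)⟩
  haveI := hloc
  exact IsLocalRing.of_surjective' ψ hψ

end Groth.Agent.Lib.Helper50.ZC14
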