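import Mathlib
import Groth.Agent.Lib.Helper50.ZC13
import Groth.Agent.Lib.Helper50.ZC14
import Groth.Agent.Lib.Helper50.DiffMonoSep2
import Groth.Agent.Lib.Helper93.BlowUpProper
import Groth.Agent.Lib.Helper42.ProjIntegral
import Groth.Agent.H8.BlowUpOffCenter

set_option autoImplicit false
universe u
open AlgebraicGeometry CategoryTheory Limits Opposite TopologicalSpace

namespace Groth.Agent.Lib.Helper50.ZC15

open Groth.Agent.Lib.Helper50.ZC3 Groth.Agent.Lib.Helper93 Groth.Agent.Lib.Helper93.BlowUpProjAlg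

variable {A : Type u} [CommRing A]

/-- a blow-up in the zero ideal is empty -/
theorem isEmpty_of_isBlowUp_bot {X : Scheme.{u}} (b : X ⟶ Spec (CommRingCat.of A))
    (hb : BlowUp.IsBlowUp b (BlowUpProj.idealSheaf (⊥ : Ideal A))) : IsEmpty X := by
  refine ⟨fun x => ?_⟩
  have h0 : BlowUpProj.idealSheaf (⊥ : Ideal A) = ⊥ := by
    change Scheme.IdealSheafData.ofIdealTop _ = ⊥
    rw [Ideal.map_bot]
    exact map_zero (Scheme.IdealSheafData.equivOfIsAffine (X := Spec (CommRingCat.of A))).symm
  obtain ⟨U, hxU, f, hf, hU⟩ := hb.1 x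
  rw [h0, Scheme.IdealSheafData.comap_bot, Scheme.IdealSheafData.ideal_bot] at hU
  have hf0 : f = 0 := by
    have : f ∈ Ideal.span {f} := Ideal.mem_span_singleton_self f
    rw [← hU] at this
    exact this
  rw [hf0] at hf
  have hsub : Subsingleton Γ(X, U.1) := by
    have h1 : (1 : Γ(X, U.1)) = 0 := by
      have := (mem_nonZeroDivisors_iff.mp hf).1 1 (by simp)
      exact this
    exact subsingleton_of_zero_eq_one h1.symm
  have h2 : X.basicOpen (1 : Γ(X, U.1)) = U.1 := Scheme.basicOpen_of_isUnit X isUnit_one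
  rw [Subsingleton.elim (1 : Γ(X, U.1)) 0, Scheme.basicOpen_zero] at h2
  rw [← h2] at hxU
  exact hxU

variable [IsDomain A]

theorem isIntegral_P {𝔞 : Ideal A} (h𝔞 : 𝔞 ≠ ⊥) : IsIntegral (BlowUpProj.P 𝔞) := by
  refine Groth.Agent.Lib.Helper42.proj_isIntegral (Rees.deg (reesAlgebra 𝔞)) ?_
  obtain ⟨a, ha, ha0⟩ := Submodule.exists_mem_ne_zero_of_ne_bot h𝔞
  intro hbot
  have h1 := gen_mem_irrelevant a ha
  rw [hbot, Ideal.mem_bot] at h1
  have h2 : ((gen a ha : reesAlgebra 𝔞) : Polynomial A) = 0 := by rw [h1]; rfl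
  have h3 : (Polynomial.monomial 1 a : Polynomial A) = 0 := h2
  rw [Polynomial.monomial_eq_zero_iff] at h3
  exact ha0 h3

/-- **S4472, conditionally on the theorem on formal functions.** -/
theorem preconnectedSpace_fiber_blowUp (FF : FormalFunctions.{u}) [IsNoetherianRing A]
    [IsLocalRing A] (hA : CAlg2.IsUnibranch A) (𝔞 : Ideal A) {X : Scheme.{u}}
    (b : X ⟶ Spec (CommRingCat.of A)) (hb : BlowUp.IsBlowUp b (BlowUpProj.idealSheaf 𝔞)) :
    PreconnectedSpace ↥(b.fiber (IsLocalRing.closedPoint A)) := by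
  by_cases h𝔞 : 𝔞 = ⊥
  · subst h𝔞
    haveI := isEmpty_of_isBlowUp_bot b hb
    haveI : IsEmpty ↥(b.fiber (IsLocalRing.closedPoint A)) :=
      ⟨fun z => IsEmpty.false (b.fiberι _ z)⟩
    infer_instance
  -- `X` is integral
  obtain ⟨θ, hθ⟩ := BlowUpLocal.exists_iso_of_isBlowUp _ b hb (BlowUpProj.p 𝔞) BlowUpProj.isBlowUp
  haveI := isIntegral_P h𝔞
  haveI : Nonempty X := ⟨θ.inv (Nonempty.some inferInstance)⟩
  haveI : IsIntegral X := isIntegral_of_isOpenImmersion θ.hom
  -- `b` is proper
  haveI : IsProper b := by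
    refine BlowUpProper.isProper_of_isBlowUp _ (fun U => ?_) b hb
    haveI : IsNoetherianRing Γ(Spec (CommRingCat.of A), U.1) :=
      IsLocallyNoetherian.component_noetherian U
    exact (isNoetherianRing_iff_ideal_fg _).mp inferInstance _
  -- `b` is an isomorphism over the open `D` containing the generic point
  let D : (Spec (CommRingCat.of A)).Opens := (BlowUpProj.idealSheaf 𝔞).support.compl
  haveI hiso : IsIso (b ∣_ D) := Groth.Agent.H8.blowUp_isIso_off_center _ b hb
  have hηD : genericPoint (Spec (CommRingCat.of A)) ∈ D := by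
    change genericPoint _ ∈
      ((BlowUpProj.idealSheaf 𝔞).support : Set ↥(Spec (CommRingCat.of A)))ᶜ
    rw [Scheme.IdealSheafData.coe_support_ofIdealTop, Spec_zeroLocus,
      genericPoint_eq_bot_of_affine]
    intro hmem
    apply h𝔞
    rw [eq_bot_iff]
    intro a ha
    exact hmem (show a ∈ (Scheme.ΓSpecIso (CommRingCat.of A)).inv ⁻¹'
      ↑(𝔞.map (Scheme.ΓSpecIso (CommRingCat.of A)).inv.hom) from Ideal.mem_map_of_mem _ ha)
  -- `b` is dominant
  have hDrange : (D : Set ↥(Spec (CommRingCat.of A))) ⊆ Set.range b.base := by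
    intro d hd
    obtain ⟨z, hz⟩ := (b ∣_ D).surjective ⟨d, hd⟩
    refine ⟨z.1, ?_⟩
    have := morphismRestrict_base_coe b D z
    rw [hz] at this
    exact this.symm
  have hdense : DenseRange b.base :=
    (D.2.dense ⟨_, hηD⟩).mono hDrange
  have hgen : b.base (genericPoint X) = genericPoint (Spec (CommRingCat.of A)) :=
    Groth.Agent.Lib.Helper50.map_genericPoint_of_denseRange b hdense
  have hηX : genericPoint X ∈ b ⁻¹ᵁ D := by
    change b.base (genericPoint X) ∈ D
    rw [hgen]; exact hηD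
  -- the stalk map at the generic point is an isomorphism
  haveI hstalk : IsIso (b.stalkMap (genericPoint X)) := by
    have h1 : IsIso ((b ∣_ D).stalkMap ⟨genericPoint X, hηX⟩) := inferInstance
    exact ((MorphismProperty.isomorphisms CommRingCat).arrow_mk_iso_iff
      (morphismRestrictStalkMap b D ⟨genericPoint X, hηX⟩)).mp h1
  have hdom : b.base (genericPoint X) ⤳ genericPoint (Spec (CommRingCat.of A)) :=
    (Inseparable.of_eq hgen).specializes
  have hdom' : genericPoint (Spec (CommRingCat.of A)) ⤳ b.base (genericPoint X) :=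
    (Inseparable.of_eq hgen).specializes'
  have hsurj : ∀ x : X.functionField,
      x ∈ Set.range (CohIII.stalkToFunctionField b (genericPoint (Spec (CommRingCat.of A))) hdom) := by
    intro x
    obtain ⟨c, hc⟩ := (ConcreteCategory.bijective_of_isIso (b.stalkMap (genericPoint X))).surjective x
    refine ⟨((Spec (CommRingCat.of A)).presheaf.stalkSpecializes hdom').hom c, ?_⟩
    rw [← hc]
    change (b.stalkMap (genericPoint X)).hom
      (((Spec (CommRingCat.of A)).presheaf.stalkSpecializes hdom).hom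
        (((Spec (CommRingCat.of A)).presheaf.stalkSpecializes hdom').hom c)) = _
    congr 1
    rw [← CommRingCat.comp_apply, TopCat.Presheaf.stalkSpecializes_comp,
      TopCat.Presheaf.stalkSpecializes_refl]
    rfl
  have hy : CAlg2.IsUnibranch
      ((Spec (CommRingCat.of A)).presheaf.stalk (IsLocalRing.closedPoint A)) :=
    ZC14.isUnibranch_of_ringEquiv
      (stalkClosedPointIso (CommRingCat.of A)).commRingCatIsoToRingEquiv.symm hA
  haveI := ZC13.connectedSpace_fiber_of_isUnibranch FF b hdom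
    (fun x _ => ⟨0, by rw [pow_zero, pow_one]; exact hsurj x⟩) (IsLocalRing.closedPoint A) hy
  infer_instance

end Groth.Agent.Lib.Helper50.ZC15
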