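import Mathlib
import Groth.Agent.Lib.Helper50.ZC8

set_option autoImplicit false
universe u
open AlgebraicGeometry CategoryTheory Limits Opposite TopologicalSpace

namespace Groth.Agent.Lib.Helper50.ZC16

/-- a geometrically connected morphism followed by a universally injective surjective morphism is
geometrically connected. -/
theorem geometricallyConnected_comp_of_universallyInjective {X Y' Y : Scheme.{u}} (g : X ⟶ Y')
    (f' : Y' ⟶ Y) [GeometricallyConnected g] [UniversallyInjective f'] [Surjective f'] :
    GeometricallyConnected (g ≫ f') := by
  refine ⟨fun K _ yb Z fst snd hpb => ?_⟩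
  let gT : Z ⟶ pullback f' yb := pullback.lift (fst ≫ g) snd (by rw [Category.assoc, hpb.w])
  have hsq : IsPullback fst gT g (pullback.fst f' yb) := by
    refine IsPullback.of_bot ?_ (pullback.lift_fst _ _ _).symm (IsPullback.of_hasPullback f' yb)
    rw [pullback.lift_snd]
    exact hpb
  haveI : GeometricallyConnected gT :=
    MorphismProperty.of_isPullback (P := @GeometricallyConnected) hsq ‹_›
  haveI : UniversallyInjective (pullback.snd f' yb) :=
    MorphismProperty.pullback_snd (P := @UniversallyInjective) f' yb ‹_›
  haveI : Surjective (pullback.snd f' yb) :=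
    MorphismProperty.pullback_snd (P := @Surjective) f' yb ‹_›
  haveI : Subsingleton ↥(pullback f' yb) := by
    refine ⟨fun a b => (pullback.snd f' yb).injective (Subsingleton.elim _ _)⟩
  obtain ⟨t, -⟩ := (pullback.snd f' yb).surjective (IsLocalRing.closedPoint K)
  have h1 : _root_.IsConnected (gT ⁻¹' {t}) := gT.isConnected_preimage_singleton t
  have h2 : gT ⁻¹' {t} = Set.univ := by
    ext z
    simp only [Set.mem_preimage, Set.mem_singleton_iff, Set.mem_univ, iff_true]
    exact Subsingleton.elim _ _
  rw [h2] at h1
  exact connectedSpace_iff_univ.mpr h1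

end Groth.Agent.Lib.Helper50.ZC16
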