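import Mathlib
import Groth.Agent.Lib.Helper50.ZC16

set_option autoImplicit false
universe u
open AlgebraicGeometry CategoryTheory Limits Opposite TopologicalSpace

namespace Groth.Agent.Lib.Helper50.ZC17

set_option backward.isDefEq.respectTransparency.types false in
set_option backward.defeqAttrib.useBackward true in
/-- two `K`-points with the same image point `x`, agreeing after composition with `f`, agree as
soon as the residue field extension at `x` is purely inseparable. -/
theorem eq_of_isPurelyInseparable {X Y : Scheme.{u}} (f : X ⟶ Y) (K : Type u) [Field K]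
    (g₁ g₂ : Spec (.of K) ⟶ X) (hg : g₁ ≫ f = g₂ ≫ f)
    (e : g₁ (IsLocalRing.closedPoint K) = g₂ (IsLocalRing.closedPoint K))
    (hf : (f.residueFieldMap (g₁ (IsLocalRing.closedPoint K))).hom.IsPurelyInseparable) :
    g₁ = g₂ := by
  obtain ⟨e', h⟩ := Scheme.SpecToEquivOfField_eq_iff.mp congr((Y.SpecToEquivOfField K) $(hg))
  apply (X.SpecToEquivOfField K).injective
  dsimp at e' h
  simp only [Scheme.descResidueField_stalkClosedPointTo_comp] at e' h
  rw [← f.residueFieldMap_congr'_assoc e, CommRingCat.hom_ext_iff] at h
  rw [Scheme.SpecToEquivOfField_eq_iff]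
  let x := g₁ (IsLocalRing.closedPoint K)
  have hfx := hf
  algebraize [(f.residueFieldMap (g₁ (IsLocalRing.closedPoint K))).hom]
  refine ⟨e, CommRingCat.hom_ext ?_⟩
  exact IsPurelyInseparable.injective_comp_algebraMap
    (Y.residueField (f x)) (X.residueField x) _ h

set_option backward.isDefEq.respectTransparency.types false in
/-- a point of `X ×_Y X` both of whose projections are a point `x` with purely inseparable residue
field extension lies on the diagonal. -/
theorem mem_range_diagonal {X Y : Scheme.{u}} (f : X ⟶ Y) (c : ↥(pullback f f))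
    (e : pullback.fst f f c = pullback.snd f f c)
    (hf : (f.residueFieldMap (pullback.fst f f c)).hom.IsPurelyInseparable) :
    c ∈ Set.range (pullback.diagonal f) := by
  let φ : Spec (.of ((pullback f f).residueField c)) ⟶ pullback f f :=
    (pullback f f).fromSpecResidueField c
  have h0 : φ (IsLocalRing.closedPoint _) = c := Scheme.fromSpecResidueField_apply _ _
  have h1 : (φ ≫ pullback.fst f f) (IsLocalRing.closedPoint _) = pullback.fst f f c := by
    rw [Scheme.Hom.comp_apply, h0]
  have h2 : (φ ≫ pullback.snd f f) (IsLocalRing.closedPoint _) = pullback.snd f f c := by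
    rw [Scheme.Hom.comp_apply, h0]
  have hφ₁ : φ ≫ pullback.fst f f = φ ≫ pullback.snd f f := by
    refine eq_of_isPurelyInseparable f _ _ _
      (by rw [Category.assoc, Category.assoc, pullback.condition]) ?_ ?_
    · rw [h1, h2, e]
    · rw [h1]; exact hf
  have hφ₂ : φ = (φ ≫ pullback.fst f f) ≫ pullback.diagonal f := by cat_disch
  refine ⟨(φ ≫ pullback.fst f f) (IsLocalRing.closedPoint _), ?_⟩
  rw [← Scheme.Hom.comp_apply, ← hφ₂, h0]

/-- in a discrete subspace, specialization implies equality -/
theorem eq_of_specializes_of_isDiscrete {α : Type*} [TopologicalSpace α] {s : Set α}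
    (hs : IsDiscrete s) {a b : α} (ha : a ∈ s) (hb : b ∈ s) (h : a ⤳ b) : a = b := by
  haveI := hs.to_subtype
  have h' : (⟨a, ha⟩ : s) ⤳ ⟨b, hb⟩ := Topology.IsInducing.subtypeVal.specializes_iff.mp h
  exact congrArg Subtype.val h'.eq

/-- a separated locally quasi-finite morphism from an irreducible scheme, purely inseparable at
the generic point, such that all irreducible components of `Y' ×_Y Y'` dominate `Y'`, is
universally injective. -/
theorem universallyInjective_of_dense {Y' Y : Scheme.{u}} [IrreducibleSpace ↥Y'] (f' : Y' ⟶ Y)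
    [IsSeparated f'] [LocallyQuasiFinite f']
    (hpi : (f'.residueFieldMap (genericPoint Y')).hom.IsPurelyInseparable)
    (hdense : ∀ Z ∈ irreducibleComponents ↥(pullback f' f'),
      Dense ((pullback.snd f' f') '' Z)) :
    UniversallyInjective f' := by
  rw [UniversallyInjective.iff_diagonal]
  refine ⟨fun c => ?_⟩
  have hZ : irreducibleComponent c ∈ irreducibleComponents ↥(pullback f' f') :=
    irreducibleComponent_mem_irreducibleComponents c
  have hcZ : c ∈ irreducibleComponent c := mem_irreducibleComponent
  obtain ⟨c₀, hc₀⟩ := QuasiSober.sober (isIrreducible_irreducibleComponent (x := c))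
    isClosed_irreducibleComponent
  have h2 : pullback.snd f' f' c₀ = genericPoint Y' := by
    have := hc₀.image (pullback.snd f' f').continuous
    rw [(hdense _ hZ).closure_eq] at this
    exact this.eq (genericPoint_spec Y')
  have h1 : pullback.fst f' f' c₀ = genericPoint Y' := by
    symm
    refine eq_of_specializes_of_isDiscrete
      (f'.isDiscrete_preimage_singleton (f' (genericPoint Y'))) rfl ?_ ?_
    · show f' (pullback.fst f' f' c₀) = f' (genericPoint Y')
      rw [← h2, ← Scheme.Hom.comp_apply, ← Scheme.Hom.comp_apply, pullback.condition]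
    · exact (genericPoint_spec Y').specializes (Set.mem_univ _)
  have hc₀mem : c₀ ∈ Set.range (pullback.diagonal f') :=
    mem_range_diagonal f' c₀ (h1.trans h2.symm) (h1 ▸ hpi)
  have hcl : IsClosed (Set.range (pullback.diagonal f')) :=
    (pullback.diagonal f').isClosedEmbedding.isClosed_range
  have hsub : irreducibleComponent c ⊆ Set.range (pullback.diagonal f') := by
    rw [← hc₀.def]
    exact closure_minimal (Set.singleton_subset_iff.mpr hc₀mem) hcl
  exact hsub hcZ

/-- transfer of the "every irreducible component dominates" condition from `X ×_Y Y'` to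
`Y' ×_Y Y'` along a surjection `X → Y'`. -/
theorem dense_of_surjective {X Y' Y : Scheme.{u}} (f : X ⟶ Y) (g : X ⟶ Y') (f' : Y' ⟶ Y)
    (w : g ≫ f' = f) [Surjective g]
    (h : ∀ Z ∈ irreducibleComponents ↥(pullback f f'), Dense ((pullback.snd f f') '' Z)) :
    ∀ C ∈ irreducibleComponents ↥(pullback f' f'), Dense ((pullback.snd f' f') '' C) := by
  intro C hC
  let φ : pullback f f' ⟶ pullback f' f' :=
    pullback.lift (pullback.fst f f' ≫ g) (pullback.snd f f')
      (by rw [Category.assoc, w, pullback.condition])
  have hφ1 : φ ≫ pullback.fst f' f' = pullback.fst f f' ≫ g := pullback.lift_fst _ _ _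
  have hφ2 : φ ≫ pullback.snd f' f' = pullback.snd f f' := pullback.lift_snd _ _ _
  have hsq : IsPullback (pullback.fst f f') φ g (pullback.fst f' f') := by
    refine IsPullback.of_bot ?_ hφ1.symm (IsPullback.of_hasPullback f' f')
    rw [hφ2, w]
    exact IsPullback.of_hasPullback f f'
  haveI : Surjective φ := MorphismProperty.of_isPullback (P := @Surjective) hsq ‹_›
  have hCirr : IsIrreducible C := hC.prop
  have hCcl : IsClosed C := isClosed_of_mem_irreducibleComponents C hC
  obtain ⟨c₀, hc₀⟩ := QuasiSober.sober hCirr hCcl
  obtain ⟨a, ha⟩ := φ.surjective c₀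
  have hZ : irreducibleComponent a ∈ irreducibleComponents ↥(pullback f f') :=
    irreducibleComponent_mem_irreducibleComponents a
  have hirr : IsIrreducible (closure (φ '' irreducibleComponent a)) :=
    ((isIrreducible_irreducibleComponent (x := a)).image φ φ.continuous.continuousOn).closure
  have hle : C ≤ closure (φ '' irreducibleComponent a) := by
    rw [← hc₀.def]
    refine closure_minimal (Set.singleton_subset_iff.mpr ?_) isClosed_closure
    exact subset_closure ⟨a, mem_irreducibleComponent, ha⟩
  have hge : closure (φ '' irreducibleComponent a) ≤ C := hC.le_of_ge hirr hle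
  refine (h _ hZ).mono ?_
  rintro _ ⟨z, hz, rfl⟩
  refine ⟨φ z, hge (subset_closure ⟨z, hz, rfl⟩), ?_⟩
  rw [← Scheme.Hom.comp_apply, hφ2]

end Groth.Agent.Lib.Helper50.ZC17
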