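import Mathlib
import Groth.Agent.Lib.Helper50.ZC16

set_option autoImplicit false
universe u
open AlgebraicGeometry CategoryTheory Limits Opposite TopologicalSpace

namespace Groth.Agent.Lib.Helper50.ZC18

/-- the algebraic core of the purely-inseparable transfer: stalk version at arbitrary points. -/
theorem pow_mem_range_stalkMap {X Y' Y : Scheme.{u}} (g : X ⟶ Y') (f' : Y' ⟶ Y) (x : X) (y₀ : Y)
    (hy : (g ≫ f') x = y₀) (hdom : (g ≫ f') x ⤳ y₀)
    [IsArtinianRing (Y.presheaf.stalk y₀)]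
    (hqf : (f'.stalkMap (g x)).hom.QuasiFinite)
    (hinj : Function.Injective (g.stalkMap x))
    (p : ℕ)
    (hrad : ∀ t : X.presheaf.stalk x,
      (∃ q : Polynomial (Y.presheaf.stalk y₀), q ≠ 0 ∧
        Polynomial.eval₂ (((g ≫ f').stalkMap x).hom.comp
          (Y.presheaf.stalkSpecializes hdom).hom) t q = 0) →
      ∃ e : ℕ, t ^ (p ^ e) ∈ Set.range (((g ≫ f').stalkMap x).hom.comp
          (Y.presheaf.stalkSpecializes hdom).hom))
    (b : Y'.presheaf.stalk (g x)) : ∃ e : ℕ, b ^ (p ^ e) ∈ Set.range (f'.stalkMap (g x)) := by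
  subst hy
  have hspec : (Y.presheaf.stalkSpecializes hdom) = 𝟙 _ := Y.presheaf.stalkSpecializes_refl _
  rw [hspec] at hrad
  have hcomp : ((g ≫ f').stalkMap x).hom.comp (𝟙 (Y.presheaf.stalk ((g ≫ f') x)) :
      Y.presheaf.stalk ((g ≫ f') x) ⟶ _).hom =
      (g.stalkMap x).hom.comp (f'.stalkMap (g x)).hom := by
    rw [Scheme.Hom.stalkMap_comp]; rfl
  rw [hcomp] at hrad
  haveI : IsArtinianRing (Y.presheaf.stalk (f' (g x))) :=
    ‹IsArtinianRing (Y.presheaf.stalk ((g ≫ f') x))›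
  letI := (f'.stalkMap (g x)).hom.toAlgebra
  haveI : Algebra.QuasiFinite (Y.presheaf.stalk (f' (g x))) (Y'.presheaf.stalk (g x)) := hqf
  haveI : Module.Finite (Y.presheaf.stalk (f' (g x))) (Y'.presheaf.stalk (g x)) :=
    Module.Finite.of_quasiFinite
  obtain ⟨q, hq, hq0⟩ := Algebra.IsIntegral.isIntegral (R := Y.presheaf.stalk (f' (g x))) b
  rw [RingHom.algebraMap_toAlgebra] at hq0
  haveI : Nontrivial (Y.presheaf.stalk (f' (g x))) := inferInstance
  have hev := Polynomial.hom_eval₂ q (f'.stalkMap (g x)).hom (g.stalkMap x).hom b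
  rw [hq0, map_zero] at hev
  obtain ⟨e, a, ha⟩ := hrad (g.stalkMap x b) ⟨q, hq.ne_zero, hev.symm⟩
  refine ⟨e, a, hinj ?_⟩
  rw [map_pow]
  exact ha

/-- from the stalk statement to pure inseparability of the residue field extension. -/
theorem isPurelyInseparable_of_pow_mem {Y' Y : Scheme.{u}} (f' : Y' ⟶ Y) (y' : Y') (p : ℕ)
    [ExpChar (Y.residueField (f' y')) p]
    (h : ∀ b : Y'.presheaf.stalk y', ∃ e : ℕ, b ^ (p ^ e) ∈ Set.range (f'.stalkMap y')) :
    (f'.residueFieldMap y').hom.IsPurelyInseparable := by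
  letI := (f'.residueFieldMap y').hom.toAlgebra
  unfold RingHom.IsPurelyInseparable
  rw [isPurelyInseparable_iff_pow_mem _ p]
  intro xbar
  obtain ⟨b, rfl⟩ := Y'.residue_surjective y' xbar
  obtain ⟨e, a, ha⟩ := h b
  refine ⟨e, Y.residue (f' y') a, ?_⟩
  rw [RingHom.algebraMap_toAlgebra]
  have h1 := congr($(Scheme.residue_residueFieldMap f' y') a)
  rw [CommRingCat.comp_apply, CommRingCat.comp_apply] at h1
  refine h1.trans ?_
  rw [ha, map_pow]

end Groth.Agent.Lib.Helper50.ZC18
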