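import Mathlib
import Groth.Agent.Lib.Helper50.ZC17
import Groth.Agent.Lib.Helper50.ZC18
import Groth.Agent.Lib.Helper50.ZC8
import Groth.Prelude.Def_ega3

set_option autoImplicit false
universe u
open AlgebraicGeometry CategoryTheory Limits Opposite TopologicalSpace

namespace Groth.Agent.Lib.Helper50.ZC19

open Groth.Agent.Lib.Helper50.ZC3 Groth.Agent.Lib.Helper50.ZC17 Groth.Agent.Lib.Helper50.ZC18

theorem isPurelyInseparable_at_generic {X Y' Y : Scheme.{u}} [IsIntegral X] [IsIntegral Y']
    [IsIntegral Y]
    (f : X ⟶ Y) (g : X ⟶ Y') (f' : Y' ⟶ Y) (w : g ≫ f' = f) [IsDominant g]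
    [LocallyQuasiFinite f']
    (hdom : f (genericPoint X) ⤳ genericPoint Y)
    (hrad : ∀ x : X.functionField,
      (∃ q : Polynomial Y.functionField, q ≠ 0 ∧
        Polynomial.eval₂ (CohIII.stalkToFunctionField f (genericPoint Y) hdom) x q = 0) →
      ∃ e : ℕ, x ^ (ringExpChar X.functionField ^ e) ∈
        Set.range (CohIII.stalkToFunctionField f (genericPoint Y) hdom)) :
    (f'.residueFieldMap (genericPoint Y')).hom.IsPurelyInseparable := by
  subst w
  have hgen : g (genericPoint X) = genericPoint Y' := by
    have h1 := (genericPoint_spec X).image g.continuous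
    rw [Set.image_univ, g.denseRange.closure_range] at h1
    exact h1.eq (genericPoint_spec Y')
  rw [← hgen]
  have hy : (g ≫ f') (genericPoint X) = genericPoint Y :=
    (hdom.antisymm ((genericPoint_spec Y).specializes trivial)).eq
  have hinj : Function.Injective (g.stalkMap (genericPoint X)) := by
    have : ∀ (y' : Y') (_ : y' = genericPoint Y') (R : CommRingCat.{u}) [Nontrivial R]
        (φ : Y'.presheaf.stalk y' ⟶ R), Function.Injective φ := by
      rintro _ rfl R _ φ
      exact (φ.hom : Y'.functionField →+* R).injective
    exact this _ hgen _ _
  haveI : ExpChar (X.residueField (genericPoint X)) (ringExpChar X.functionField) :=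
    expChar_of_injective_ringHom (f := (X.residue (genericPoint X)).hom)
      ((X.residue (genericPoint X)).hom : X.functionField →+* _).injective _
  haveI : ExpChar (Y.residueField (f' (g (genericPoint X)))) (ringExpChar X.functionField) :=
    RingHom.expChar ((g.residueFieldMap (genericPoint X)).hom.comp
      (f'.residueFieldMap (g (genericPoint X))).hom) (RingHom.injective _) _
  refine isPurelyInseparable_of_pow_mem f' _ (ringExpChar X.functionField) ?_
  haveI : IsArtinianRing (Y.presheaf.stalk (genericPoint Y)) :=
    inferInstanceAs (IsArtinianRing Y.functionField)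
  exact pow_mem_range_stalkMap g f' (genericPoint X) (genericPoint Y) hy hdom
    (f'.quasiFiniteAt _) hinj _ hrad

/-- EGA III 4.3.7, first half: the finite part of the Stein factorisation is universally
injective. -/
theorem universallyInjective_fromNormalization {X Y : Scheme.{u}}
    [IsIntegral X] [IsIntegral Y] [IsLocallyNoetherian Y] (f : X ⟶ Y) [IsProper f]
    (hdom : f (genericPoint X) ⤳ genericPoint Y)
    (hopen : ∀ (Y' : Scheme.{u}) (g : Y' ⟶ Y), IrreducibleSpace ↥Y' → IsLocallyNoetherian Y' →
      IsDominant g → ∀ Z ∈ irreducibleComponents ↥(pullback f g),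
        Dense ((pullback.snd f g).base '' Z))
    (hrad : ∀ x : X.functionField,
      (∃ q : Polynomial Y.functionField, q ≠ 0 ∧
        Polynomial.eval₂ (CohIII.stalkToFunctionField f (genericPoint Y) hdom) x q = 0) →
      ∃ e : ℕ, x ^ (ringExpChar X.functionField ^ e) ∈
        Set.range (CohIII.stalkToFunctionField f (genericPoint Y) hdom)) :
    UniversallyInjective f.fromNormalization ∧ Surjective f.fromNormalization := by
  haveI : IsFinite f.fromNormalization := Groth.Agent.S1297.result f
  haveI : IsLocallyNoetherian f.normalization :=
    LocallyOfFiniteType.isLocallyNoetherian f.fromNormalization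
  haveI : IsProper (f.toNormalization ≫ f.fromNormalization) := by
    rw [f.toNormalization_fromNormalization]; infer_instance
  haveI : IsProper f.toNormalization := IsProper.of_comp f.toNormalization f.fromNormalization
  haveI : Surjective f.toNormalization :=
    surjective_of_isDominant_of_isClosed_range f.toNormalization
      f.toNormalization.isClosedMap.isClosed_range
  haveI : IsDominant f := by
    refine ⟨?_⟩
    rw [DenseRange, dense_iff_closure_eq, ← Set.univ_subset_iff]
    intro z _
    have h1 : genericPoint Y ⤳ z := (genericPoint_spec Y).specializes trivial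
    exact (hdom.trans h1).mem_closed isClosed_closure (subset_closure ⟨_, rfl⟩)
  haveI : IsDominant (f.toNormalization ≫ f.fromNormalization) := by
    rw [f.toNormalization_fromNormalization]; infer_instance
  haveI : IsDominant f.fromNormalization := IsDominant.of_comp f.toNormalization f.fromNormalization
  haveI : Surjective f.fromNormalization :=
    surjective_of_isDominant_of_isClosed_range f.fromNormalization
      f.fromNormalization.isClosedMap.isClosed_range
  refine ⟨?_, inferInstance⟩
  have hdense := dense_of_surjective f f.toNormalization f.fromNormalization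
    f.toNormalization_fromNormalization
    (hopen f.normalization f.fromNormalization inferInstance inferInstance inferInstance)
  have hpi := isPurelyInseparable_at_generic f f.toNormalization f.fromNormalization
    f.toNormalization_fromNormalization hdom hrad
  exact universallyInjective_of_dense f.fromNormalization hpi hdense

/-- EGA III 4.3.7 (conditionally on formal functions). -/
theorem geometricallyConnected_of_univOpen_of_purelyInseparable (FF : FormalFunctions.{u})
    {X Y : Scheme.{u}}
    [IsIntegral X] [IsIntegral Y] [IsLocallyNoetherian Y] (f : X ⟶ Y) [IsProper f]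
    (hdom : f (genericPoint X) ⤳ genericPoint Y)
    (hopen : ∀ (Y' : Scheme.{u}) (g : Y' ⟶ Y), IrreducibleSpace ↥Y' → IsLocallyNoetherian Y' →
      IsDominant g → ∀ Z ∈ irreducibleComponents ↥(pullback f g),
        Dense ((pullback.snd f g).base '' Z))
    (hrad : ∀ x : X.functionField,
      (∃ q : Polynomial Y.functionField, q ≠ 0 ∧
        Polynomial.eval₂ (CohIII.stalkToFunctionField f (genericPoint Y) hdom) x q = 0) →
      ∃ e : ℕ, x ^ (ringExpChar X.functionField ^ e) ∈
        Set.range (CohIII.stalkToFunctionField f (genericPoint Y) hdom)) :
    GeometricallyConnected f := by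
  obtain ⟨h1, h2⟩ := universallyInjective_fromNormalization f hdom hopen hrad
  haveI := Groth.Agent.Lib.Helper50.ZC8.geometricallyConnected_toNormalization FF f
  have := Groth.Agent.Lib.Helper50.ZC16.geometricallyConnected_comp_of_universallyInjective
    f.toNormalization f.fromNormalization
  rwa [f.toNormalization_fromNormalization] at this

end Groth.Agent.Lib.Helper50.ZC19
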