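import Mathlib
import Groth.Agent.Lib.Helper50.ZC12
import Groth.Agent.H46.MaxSpecSepDeg

set_option autoImplicit false
universe u
open AlgebraicGeometry CategoryTheory Limits Opposite TopologicalSpace

namespace Groth.Agent.Lib.Helper50.ZC20

open Groth.Agent.Lib.Helper50.ZC12

/-- Bourbaki AC V §2 no.3 for a unibranch local domain: the number of maximal ideals of the
integral closure in an extension field is bounded by the separable degree of the algebraic part. -/
theorem card_maximalSpectrum_integralClosure_le_of_isUnibranch (R : Type u) [CommRing R]
    [IsDomain R] [IsLocalRing R] (K : Type u) [Field K] [Algebra R K] [IsFractionRing R K]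
    (hR : CAlg2.IsUnibranch R) (L : Type u) [Field L] [Algebra K L] [Algebra R L]
    [IsScalarTower R K L] (n : ℕ) (hn0 : 0 < n)
    (hn : Field.finSepDegree K (algebraicClosure K L) = n) :
    Finite (MaximalSpectrum (integralClosure R L)) ∧
      Nat.card (MaximalSpectrum (integralClosure R L)) ≤ n := by
  haveI : IsLocalRing (integralClosure R K) := isLocalRing_integralClosure_of_isUnibranch R K hR
  haveI : IsIntegrallyClosed (integralClosure R K) :=
    integralClosure.isIntegrallyClosedOfFiniteExtension K (L := K)
  haveI : IsFractionRing (integralClosure R K) K :=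
    integralClosure.isFractionRing_of_finite_extension K K
  obtain ⟨hfin, hcard⟩ := Groth.Agent.H46.MaxSpecSepDeg.card_maximalSpectrum_integralClosure_le
    (integralClosure R K) K (algebraicClosure K L) n hn0 hn
  -- the comparison map
  have hmem : ∀ x : integralClosure (integralClosure R K) (algebraicClosure K L),
      ((x : algebraicClosure K L) : L) ∈ integralClosure R L := by
    intro x
    have h1 : IsIntegral (integralClosure R K) (x : algebraicClosure K L) := x.2
    have h2 : IsIntegral (integralClosure R K) ((x : algebraicClosure K L) : L) :=
      h1.map (IsScalarTower.toAlgHom (integralClosure R K) (algebraicClosure K L) L)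
    haveI : Algebra.IsIntegral R (integralClosure R K) := inferInstance
    exact isIntegral_trans _ h2
  let ψ : integralClosure (integralClosure R K) (algebraicClosure K L) →+* integralClosure R L :=
    ((algebraMap (algebraicClosure K L) L).comp
      (integralClosure (integralClosure R K) (algebraicClosure K L)).val.toRingHom).codRestrict
        (integralClosure R L) hmem
  have hψ : Function.Surjective ψ := by
    rintro ⟨y, hy⟩
    have hyK : IsIntegral K y := hy.tower_top
    have hyalg : y ∈ algebraicClosure K L := mem_algebraicClosure_iff.mpr hyK.isAlgebraic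
    haveI : IsScalarTower R (algebraicClosure K L) L :=
      IsScalarTower.of_algebraMap_eq (fun x => rfl)
    have h3 : IsIntegral R (⟨y, hyalg⟩ : algebraicClosure K L) := by
      rw [← isIntegral_algHom_iff (IsScalarTower.toAlgHom R (algebraicClosure K L) L)
        (algebraMap (algebraicClosure K L) L).injective]
      exact hy
    have h4 : IsIntegral (integralClosure R K) (⟨y, hyalg⟩ : algebraicClosure K L) :=
      h3.tower_top
    exact ⟨⟨⟨y, hyalg⟩, h4⟩, rfl⟩
  let Φ : MaximalSpectrum (integralClosure R L) →
      MaximalSpectrum (integralClosure (integralClosure R K) (algebraicClosure K L)) :=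
    fun m => ⟨m.asIdeal.comap ψ, Ideal.comap_isMaximal_of_surjective ψ hψ⟩
  have hΦ : Function.Injective Φ := by
    intro m₁ m₂ h12
    have := congrArg MaximalSpectrum.asIdeal h12
    exact MaximalSpectrum.ext (Ideal.comap_injective_of_surjective ψ hψ this)
  haveI := hfin
  refine ⟨Finite.of_injective Φ hΦ, (Nat.card_le_card_of_injective Φ hΦ).trans hcard⟩

end Groth.Agent.Lib.Helper50.ZC20
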