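import Mathlib
import Groth.Agent.Lib.Helper50.ZC11
import Groth.Agent.Lib.Helper50.ZC20

set_option autoImplicit false
universe u
open AlgebraicGeometry CategoryTheory Limits Opposite TopologicalSpace

namespace Groth.Agent.Lib.Helper50.ZC21

open Groth.Agent.Lib.Helper50.ZC3 Groth.Agent.Lib.Helper50.ZC11 Groth.Agent.Lib.Helper50.ZC20

/-- **S4484, conditionally on the theorem on formal functions.** -/
theorem card_connectedComponents_fiber_le_finSepDegree (FF : FormalFunctions.{u})
    {X Y : Scheme.{u}} [IsIntegral X]
    [IsIntegral Y] [IsLocallyNoetherian Y] (f : X ⟶ Y) [IsProper f]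
    (hdom : f.base (genericPoint X) ⤳ genericPoint Y) [Algebra Y.functionField X.functionField]
    (halg : algebraMap Y.functionField X.functionField =
      CohIII.stalkToFunctionField f (genericPoint Y) hdom)
    (n : ℕ) (hn0 : 0 < n)
    (hn : Field.finSepDegree Y.functionField
      ↥(algebraicClosure Y.functionField X.functionField) = n)
    (y : Y) (hy : CAlg2.IsUnibranch (Y.presheaf.stalk y)) :
    Finite (_root_.ConnectedComponents ↥(f.fiber y)) ∧
      Nat.card (_root_.ConnectedComponents ↥(f.fiber y)) ≤ n := by
  have hηy : genericPoint Y ⤳ y := (genericPoint_spec Y).specializes trivial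
  have h : f.base (genericPoint X) ⤳ y := hdom.trans hηy
  have hcard := card_connectedComponents_fiber_le FF f y h
  letI : Algebra (Y.presheaf.stalk y) X.functionField :=
    (CohIII.stalkToFunctionField f y h).toAlgebra
  haveI : IsScalarTower (Y.presheaf.stalk y) Y.functionField X.functionField :=
    .of_algebraMap_eq' (by
      rw [halg]
      change CohIII.stalkToFunctionField f y h = _
      unfold CohIII.stalkToFunctionField
      rw [RingHom.comp_assoc]
      congr 1
      change _ = (Y.presheaf.stalkSpecializes hηy ≫ Y.presheaf.stalkSpecializes hdom).hom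
      rw [TopCat.Presheaf.stalkSpecializes_comp])
  obtain ⟨hfin, hle⟩ := card_maximalSpectrum_integralClosure_le_of_isUnibranch
    (Y.presheaf.stalk y) Y.functionField hy X.functionField n hn0 hn
  have hcard' : Cardinal.mk (_root_.ConnectedComponents ↥(f.fiber y)) ≤
      Cardinal.mk (MaximalSpectrum (integralClosure (Y.presheaf.stalk y) X.functionField)) :=
    hcard
  haveI := hfin
  have hlt : Cardinal.mk (MaximalSpectrum
      (integralClosure (Y.presheaf.stalk y) X.functionField)) < Cardinal.aleph0 :=
    Cardinal.lt_aleph0_of_finite _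
  haveI : Finite (_root_.ConnectedComponents ↥(f.fiber y)) :=
    Cardinal.lt_aleph0_iff_finite.mp (hcard'.trans_lt hlt)
  refine ⟨inferInstance, ?_⟩
  have h5 := Cardinal.toNat_le_toNat hcard' hlt
  exact h5.trans hle

end Groth.Agent.Lib.Helper50.ZC21
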