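import Mathlib
import Groth.Agent.Lib.Helper50.ZC4
import Groth.Agent.Lib.Helper50.ZC5
import Groth.Agent.Lib.Helper50.ZC6
import Groth.Agent.Lib.Helper50.StalkBC

set_option autoImplicit false
universe u
open AlgebraicGeometry CategoryTheory Limits Opposite TopologicalSpace

namespace Groth.Agent.Lib.Helper50.ZC22

open Groth.Agent.Lib.Helper49 Groth.Agent.Lib.Helper50.ZC1 Groth.Agent.Lib.Helper50.ZC2
  Groth.Agent.Lib.Helper50.ZC3 Groth.Agent.Lib.Helper50.ZC4 Groth.Agent.Lib.Helper50.ZC5

/-- Pointwise version of `ZC6.geometricallyConnected_of_formalFunctions'`: connectedness of the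
base change to a `K`-point lying over a point `y₀` having an affine open neighbourhood `U` with
`O_Y(U) ≅ O_X(f⁻¹U)`. -/
theorem connectedSpace_of_formalFunctions_at (FF : FormalFunctions.{u})
    {X Y : Scheme.{u}} (f : X ⟶ Y) [IsProper f] [IsLocallyNoetherian Y] (y₀ : Y)
    (hf : ∃ U : Y.Opens, IsAffineOpen U ∧ y₀ ∈ U ∧ IsIso (f.app U))
    (K : Type u) [Field K] (φ : Y.residueField y₀ ⟶ CommRingCat.of K) {Z : Scheme.{u}}
    (fst : Z ⟶ X) (snd : Z ⟶ Spec (CommRingCat.of K))
    (hpb : IsPullback fst snd f ((Scheme.SpecToEquivOfField K Y).symm ⟨y₀, φ⟩)) :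
    ConnectedSpace ↥Z := by
  obtain ⟨B, _, _, _, α, ψ, hcompl, hαflat, hψs, hψα⟩ :=
    exists_complete_flat_local (A := Y.presheaf.stalk y₀) K φ.hom
  let h : Spec (CommRingCat.of B) ⟶ Y := Spec.map (CommRingCat.ofHom α) ≫ Y.fromSpecStalk y₀
  let q : Spec (CommRingCat.of K) ⟶ Spec (CommRingCat.of B) := Spec.map (CommRingCat.ofHom ψ)
  have hqh : q ≫ h = (Scheme.SpecToEquivOfField K Y).symm ⟨y₀, φ⟩ := by
    have e1 : CommRingCat.ofHom α ≫ CommRingCat.ofHom ψ = Y.residue y₀ ≫ φ := by
      ext a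
      exact DFunLike.congr_fun hψα a
    simp only [Scheme.SpecToEquivOfField, Equiv.coe_fn_symm_mk, q, h]
    rw [← Category.assoc, ← Spec.map_comp, e1, Spec.map_comp, Category.assoc]
    rfl
  haveI hflat : Flat h := by
    haveI : Flat (Spec.map (CommRingCat.ofHom α)) := by
      rw [Flat.SpecMap_iff]; exact hαflat
    infer_instance
  haveI hq : IsClosedImmersion q := IsClosedImmersion.spec_of_surjective _ hψs
  -- the base change to `Spec B`
  let p₁ := pullback.fst f h
  let p₂ := pullback.snd f h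
  letI : (pullback f h).Over (Spec (CommRingCat.of B)) := ⟨p₂⟩
  haveI : IsProper ((pullback f h) ↘ Spec (CommRingCat.of B)) :=
    (inferInstance : IsProper (pullback.snd f h))
  have hFF := FF B (RingHom.ker ψ) (pullback f h) (Coh.structureModule _)
    (isCoh_structureModule _) 0
  -- the closed immersion `Z → X_B`
  have hw : fst ≫ f = (snd ≫ q) ≫ h := by
    rw [Category.assoc, hqh]; exact hpb.w
  let ι : Z ⟶ pullback f h := pullback.lift fst (snd ≫ q) hw
  have hsq : IsPullback ι snd p₂ q := by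
    refine IsPullback.of_right ?_ (pullback.lift_snd _ _ _) (IsPullback.of_hasPullback f h)
    rw [pullback.lift_fst, hqh]
    exact hpb
  haveI hι : IsClosedImmersion ι := MorphismProperty.of_isPullback hsq.flip hq
  have hrange : Set.range ι = C (RingHom.ker ψ) := by
    have e1 : ι = hsq.isoPullback.hom ≫ pullback.fst p₂ q := by simp
    have e2 : Set.range ι = Set.range (pullback.fst p₂ q) := by
      rw [e1, Scheme.Hom.comp_base, TopCat.coe_comp, Set.range_comp,
        Set.range_eq_univ.mpr hsq.isoPullback.hom.surjective, Set.image_univ]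
    rw [e2, Scheme.Pullback.range_fst]
    have e3 : Set.range q = PrimeSpectrum.zeroLocus (RingHom.ker ψ : Set B) :=
      range_comap_of_surjective K ψ hψs
    rw [e3]
    rfl
  -- global sections of `X_B`
  obtain ⟨U, hU, hyU, hfU⟩ := hf
  have hTU : ∀ t : Spec (CommRingCat.of B), h t ∈ U := by
    intro t
    have h1 : h t ∈ Set.range (Y.fromSpecStalk y₀) := ⟨Spec.map (CommRingCat.ofHom α) t, rfl⟩
    rw [Scheme.range_fromSpecStalk] at h1
    exact h1.mem_open U.2 hyU
  haveI hiso : IsIso p₂.appTop := isIso_appTop_snd f h hU hTU hfU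
  let θ : Γ(pullback f h, ⊤) ≃+* B :=
    ((asIso p₂.appTop).symm ≪≫ Scheme.ΓSpecIso (CommRingCat.of B)).commRingCatIsoToRingEquiv
  have hidem : ∀ e : Γ(pullback f h, ⊤), IsIdempotentElem e → e = 0 ∨ e = 1 := by
    intro e he
    have : IsIdempotentElem (θ e) := he.map θ
    rcases eq_zero_or_one_of_isLocalRing this with h0 | h1
    · left; exact θ.injective (by rw [h0, map_zero])
    · right; exact θ.injective (by rw [h1, map_one])
  have hne : Nonempty ↥(pullback f h) := by
    by_contra hemp
    rw [not_nonempty_iff] at hemp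
    have h1 : (1 : Γ(pullback f h, ⊤)) = 0 := Subsingleton.elim _ _
    have h2 : (1 : B) = 0 := by rw [← map_one θ, h1, map_zero]
    exact one_ne_zero h2
  obtain ⟨x, -, hx⟩ := exists_mem_C_of_isClosed (RingHom.ker ψ) p₂ isClosed_univ
    Set.univ_nonempty
  rw [← hrange] at hx
  obtain ⟨z, -⟩ := hx
  haveI : Nonempty Z := ⟨z⟩
  exact connectedSpace_of_trivial_idempotents (RingHom.ker ψ) hFF hidem
    ι.isClosedEmbedding hrange


/-- geometric connectedness of a single fibre, given formal functions and `O_Y(U) ≅ O_X(f⁻¹U)`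
for one affine open neighbourhood `U` of the point. -/
theorem geometricallyConnected_fiber_of_formalFunctions (FF : FormalFunctions.{u})
    {X Y : Scheme.{u}} (f : X ⟶ Y) [IsProper f] [IsLocallyNoetherian Y] (y : Y)
    (hf : ∃ U : Y.Opens, IsAffineOpen U ∧ y ∈ U ∧ IsIso (f.app U)) :
    GeometricallyConnected (f.fiberToSpecResidueField y) := by
  refine ⟨fun K _ yK Z fst snd hpb => ?_⟩
  obtain ⟨φ, rfl⟩ := Spec.map_surjective yK
  have hbig : IsPullback (fst ≫ f.fiberι y) snd f (Spec.map φ ≫ Y.fromSpecResidueField y) :=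
    hpb.paste_horiz (IsPullback.of_hasPullback f (Y.fromSpecResidueField y))
  have e : (Scheme.SpecToEquivOfField K Y).symm ⟨y, φ⟩ =
      Spec.map φ ≫ Y.fromSpecResidueField y := by
    simp only [Scheme.SpecToEquivOfField, Equiv.coe_fn_symm_mk]
  rw [← e] at hbig
  exact connectedSpace_of_formalFunctions_at FF f y hf K φ _ _ hbig

end Groth.Agent.Lib.Helper50.ZC22
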