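import Mathlib
import Groth.Agent.Lib.Helper50.ZC22
import Groth.Agent.Lib.Helper50.PushO2
import Groth.Agent.S1297

set_option autoImplicit false
universe u
open AlgebraicGeometry CategoryTheory Limits Opposite TopologicalSpace

namespace Groth.Agent.Lib.Helper50.ZC23

/-- restriction commutes with `f.app`, elementwise -/
theorem app_res {X Y : Scheme.{u}} (h : X ⟶ Y) {V W : Y.Opens} (hWV : W ≤ V) (a : Γ(Y, V)) :
    h.app W (Y.presheaf.map (homOfLE hWV).op a) =
      X.presheaf.map (homOfLE (h.preimage_mono hWV)).op (h.app V a) := by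
  have := congr($(h.naturality (homOfLE hWV).op) a)
  exact this

/-- a morphism which is injective on sections over all opens inside `U` and surjective on
sections over a basis of opens of `U` is surjective on sections over all opens inside `U`. -/
theorem app_surjective_of_basis {X Y : Scheme.{u}} (h : X ⟶ Y) (U : Y.Opens) (ℬ : Set Y.Opens)
    (hbasis : ∀ V : Y.Opens, V ≤ U → ∀ y ∈ V, ∃ W ∈ ℬ, y ∈ W ∧ W ≤ V)
    (hinj : ∀ V : Y.Opens, V ≤ U → Function.Injective (h.app V))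
    (hsurj : ∀ W ∈ ℬ, Function.Surjective (h.app W))
    (V : Y.Opens) (hV : V ≤ U) : Function.Surjective (h.app V) := by
  intro s
  let 𝒱 : {W : Y.Opens // W ∈ ℬ ∧ W ≤ V} → Y.Opens := fun W => W.1
  have hcover : V ≤ iSup 𝒱 := fun y hy => by
    obtain ⟨W, hW, hyW, hWV⟩ := hbasis V hV y hy
    exact Opens.mem_iSup.mpr ⟨⟨W, hW, hWV⟩, hyW⟩
  have hloc : ∀ W : {W : Y.Opens // W ∈ ℬ ∧ W ≤ V}, ∃ a : Γ(Y, W.1),
      h.app W.1 a = X.presheaf.map (homOfLE (h.preimage_mono W.2.2)).op s :=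
    fun W => hsurj W.1 W.2.1 _
  choose a ha using hloc
  have hcompat : TopCat.Presheaf.IsCompatible Y.sheaf.1 𝒱 a := by
    intro W W'
    apply hinj (𝒱 W ⊓ 𝒱 W') (inf_le_left.trans (W.2.2.trans hV))
    have e1 := app_res h (inf_le_left : 𝒱 W ⊓ 𝒱 W' ≤ 𝒱 W) (a W)
    have e2 := app_res h (inf_le_right : 𝒱 W ⊓ 𝒱 W' ≤ 𝒱 W') (a W')
    refine e1.trans (Eq.trans ?_ e2.symm)
    rw [ha W, ha W', ← ConcreteCategory.comp_apply, ← ConcreteCategory.comp_apply,
      ← Functor.map_comp, ← Functor.map_comp]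
    rfl
  obtain ⟨g, hg, -⟩ := Y.sheaf.existsUnique_gluing' 𝒱 V (fun W => homOfLE W.2.2) hcover a hcompat
  refine ⟨g, ?_⟩
  refine TopCat.Sheaf.eq_of_locally_eq' X.sheaf
    (fun W : {W : Y.Opens // W ∈ ℬ ∧ W ≤ V} => h ⁻¹ᵁ W.1) (h ⁻¹ᵁ V)
    (fun W => homOfLE (h.preimage_mono W.2.2)) ?_ _ _ ?_
  · intro x hx
    obtain ⟨W, hW, hyW, hWV⟩ := hbasis V hV (h x) hx
    exact Opens.mem_iSup.mpr ⟨⟨W, hW, hWV⟩, hyW⟩
  · intro W
    have e1 := app_res h W.2.2 g
    have e2 : Y.presheaf.map (homOfLE W.2.2).op g = a W := hg W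
    rw [e2, ha W] at e1
    exact e1.symm

section

variable {X Y : Scheme.{u}} [IsIntegral X] [IsIntegral Y] [IsLocallyNoetherian Y]
  (f : X ⟶ Y) [IsProper f] (hdom : f.base (genericPoint X) ⤳ genericPoint Y)
  (halg : ∀ x : X.functionField,
      (∃ q : Polynomial Y.functionField, q ≠ 0 ∧
        Polynomial.eval₂ (CohIII.stalkToFunctionField f (genericPoint Y) hdom) x q = 0) →
      x ∈ Set.range (CohIII.stalkToFunctionField f (genericPoint Y) hdom))
  (y : Y) (hy : IsIntegrallyClosed (Y.presheaf.stalk y))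
  (U₀ : Y.Opens) (hU₀ : IsAffineOpen U₀) (hyU₀ : y ∈ U₀)

include halg hy hU₀ hyU₀ in
theorem exists_mul_eq_app (b : Γ(X, f ⁻¹ᵁ U₀)) :
    ∃ t a : Γ(Y, U₀), y ∈ Y.basicOpen t ∧ f.app U₀ t * b = f.app U₀ a := by
  haveI hne : Nonempty U₀ := ⟨⟨y, hyU₀⟩⟩
  have hηy : genericPoint Y ⤳ y := (genericPoint_spec Y).specializes trivial
  have hξY : genericPoint Y ∈ U₀ := hηy.mem_open U₀.2 hyU₀
  have hfξ : f.base (genericPoint X) ∈ U₀ := hdom.mem_open U₀.2 hξY
  letI := (f.app U₀).hom.toAlgebra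
  haveI hfin : Module.Finite Γ(Y, U₀) Γ(X, f ⁻¹ᵁ U₀) :=
    Groth.Agent.S1297.finite_sections_of_isProper f U₀ hU₀
  obtain ⟨p, hp, hpb⟩ := Algebra.IsIntegral.isIntegral (R := Γ(Y, U₀)) b
  rw [RingHom.algebraMap_toAlgebra] at hpb
  set σ := CohIII.stalkToFunctionField f (genericPoint Y) hdom with hσ
  set z := X.presheaf.germ (f ⁻¹ᵁ U₀) (genericPoint X) hfξ b with hz
  -- germ ∘ φ = σ ∘ germ
  have hcomp : (X.presheaf.germ (f ⁻¹ᵁ U₀) (genericPoint X) hfξ).hom.comp (f.app U₀).hom =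
      σ.comp (Y.germToFunctionField U₀).hom := by
    ext a
    exact Groth.Agent.Lib.Helper50.germToFunctionField_app f hdom U₀ hfξ a
  have hz0 : Polynomial.eval₂ σ z (p.map (Y.germToFunctionField U₀).hom) = 0 := by
    rw [Polynomial.eval₂_map, ← hcomp]
    have := Polynomial.hom_eval₂ p (f.app U₀).hom
      (X.presheaf.germ (f ⁻¹ᵁ U₀) (genericPoint X) hfξ).hom b
    rw [hpb, map_zero] at this
    exact this.symm
  obtain ⟨κ, hκ⟩ := halg z ⟨_, (hp.map _).ne_zero, hz0⟩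
  have hκ0 : Polynomial.eval κ (p.map (Y.germToFunctionField U₀).hom) = 0 := by
    rw [← hκ, Polynomial.eval₂_at_apply] at hz0
    exact (map_eq_zero_iff σ σ.injective).mp hz0
  have hint : IsIntegral Γ(Y, U₀) κ := by
    refine ⟨p, hp, ?_⟩
    rw [Polynomial.eval₂_eq_eval_map]
    exact hκ0
  letI := Y.presheaf.algebra_section_stalk (⟨y, hyU₀⟩ : U₀)
  haveI := functionField_isScalarTower Y U₀ ⟨y, hyU₀⟩
  have hint' : IsIntegral (Y.presheaf.stalk y) κ := hint.tower_top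
  obtain ⟨o, ho⟩ := IsIntegrallyClosed.isIntegral_iff.mp hint'
  haveI := hU₀.isLocalization_stalk ⟨y, hyU₀⟩
  obtain ⟨⟨a, t⟩, hat⟩ := IsLocalization.surj (hU₀.primeIdealOf ⟨y, hyU₀⟩).asIdeal.primeCompl o
  refine ⟨t.1, a, ?_, ?_⟩
  · rw [Scheme.mem_basicOpen _ _ _ hyU₀]
    exact IsLocalization.map_units (Y.presheaf.stalk y) t
  · apply germ_injective_of_isIntegral X (genericPoint X) hfξ
    have h1 : κ * algebraMap Γ(Y, U₀) Y.functionField t.1 =
        algebraMap Γ(Y, U₀) Y.functionField a := by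
      rw [IsScalarTower.algebraMap_apply Γ(Y, U₀) (Y.presheaf.stalk y) Y.functionField,
        IsScalarTower.algebraMap_apply Γ(Y, U₀) (Y.presheaf.stalk y) Y.functionField a,
        ← ho, ← map_mul, hat]
    have h2 : ∀ c : Γ(Y, U₀), σ (algebraMap Γ(Y, U₀) Y.functionField c) =
        X.presheaf.germ (f ⁻¹ᵁ U₀) (genericPoint X) hfξ (f.app U₀ c) := fun c =>
      (DFunLike.congr_fun hcomp c).symm
    have h3 := congrArg σ h1
    rw [map_mul, hκ, h2, h2] at h3
    rw [map_mul, mul_comm]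
    exact h3

include halg hy hU₀ hyU₀ in
theorem exists_forall_mul_eq_app :
    ∃ t : Γ(Y, U₀), y ∈ Y.basicOpen t ∧
      ∀ b : Γ(X, f ⁻¹ᵁ U₀), ∃ a : Γ(Y, U₀), f.app U₀ t * b = f.app U₀ a := by
  classical
  letI := (f.app U₀).hom.toAlgebra
  haveI hfin : Module.Finite Γ(Y, U₀) Γ(X, f ⁻¹ᵁ U₀) :=
    Groth.Agent.S1297.finite_sections_of_isProper f U₀ hU₀
  obtain ⟨S, hS⟩ := hfin.fg_top
  choose t a ht hta using fun b => exists_mul_eq_app f hdom halg y hy U₀ hU₀ hyU₀ b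
  refine ⟨∏ b ∈ S, t b, ?_, ?_⟩
  · rw [Scheme.mem_basicOpen _ _ _ hyU₀, map_prod]
    exact Finset.prod_induction _ IsUnit (fun _ _ => IsUnit.mul) isUnit_one
      (fun b _ => (Scheme.mem_basicOpen _ _ _ hyU₀).mp (ht b))
  · intro b
    have hb : b ∈ Submodule.span Γ(Y, U₀) (S : Set Γ(X, f ⁻¹ᵁ U₀)) := hS ▸ Submodule.mem_top
    induction hb using Submodule.span_induction with
    | mem b hbS =>
      refine ⟨(∏ c ∈ S.erase b, t c) * a b, ?_⟩
      rw [← Finset.mul_prod_erase S t hbS, map_mul, map_mul, ← hta b]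
      ring
    | zero => exact ⟨0, by simp⟩
    | add b c _ _ hb hc =>
      obtain ⟨a1, h1⟩ := hb
      obtain ⟨a2, h2⟩ := hc
      exact ⟨a1 + a2, by rw [mul_add, h1, h2, map_add]⟩
    | smul r b _ hb =>
      obtain ⟨a1, h1⟩ := hb
      refine ⟨r * a1, ?_⟩
      rw [Algebra.smul_def, RingHom.algebraMap_toAlgebra, map_mul, ← h1]
      ring

omit [IsLocallyNoetherian Y] [IsProper f] in
include hdom in
theorem app_injective_of_dominant (V : Y.Opens) : Function.Injective (f.app V) := by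
  by_cases hV : (V : Set Y).Nonempty
  · haveI : Nonempty V := hV.to_subtype
    have hξY : genericPoint Y ∈ V :=
      ((genericPoint_spec Y).mem_open_set_iff V.isOpen).mpr (by simpa using hV)
    have hfξ : f.base (genericPoint X) ∈ V := hdom.mem_open V.2 hξY
    intro a₁ a₂ h12
    apply Scheme.germToFunctionField_injective Y V
    apply (CohIII.stalkToFunctionField f (genericPoint Y) hdom).injective
    rw [← Groth.Agent.Lib.Helper50.germToFunctionField_app f hdom V hfξ a₁,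
      ← Groth.Agent.Lib.Helper50.germToFunctionField_app f hdom V hfξ a₂, h12]
  · have hV' : V = ⊥ := by
      ext x
      simp only [Opens.coe_bot, Set.mem_empty_iff_false, iff_false]
      exact fun hx => hV ⟨x, hx⟩
    subst hV'
    intro a₁ a₂ _
    exact Subsingleton.elim _ _

omit [IsLocallyNoetherian Y] in
include hdom hU₀ in
theorem app_basicOpen_surjective (t : Γ(Y, U₀))
    (ht : ∀ b : Γ(X, f ⁻¹ᵁ U₀), ∃ a : Γ(Y, U₀), f.app U₀ t * b = f.app U₀ a) (r : Γ(Y, U₀))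
    (hrt : Y.basicOpen r ≤ Y.basicOpen t) (hne : (Y.basicOpen r : Set Y).Nonempty) :
    Function.Surjective (f.app (Y.basicOpen r)) := by
  intro s
  haveI : Nonempty (Y.basicOpen r) := hne.to_subtype
  have hrU₀ : Y.basicOpen r ≤ U₀ := Y.basicOpen_le r
  haveI : Nonempty U₀ := ⟨⟨hne.some, hrU₀ hne.some_mem⟩⟩
  have hξW : genericPoint Y ∈ Y.basicOpen r :=
    ((genericPoint_spec Y).mem_open_set_iff (Y.basicOpen r).isOpen).mpr (by simpa using hne)
  have hfξW : f.base (genericPoint X) ∈ Y.basicOpen r := hdom.mem_open (Y.basicOpen r).2 hξW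
  have hfξ : f.base (genericPoint X) ∈ U₀ := hrU₀ hfξW
  have e : f ⁻¹ᵁ Y.basicOpen r = X.basicOpen (f.app U₀ r) := Scheme.preimage_basicOpen f r
  have hξb : genericPoint X ∈ X.basicOpen (f.app U₀ r) := e ▸ hfξW
  obtain ⟨n, b, hb⟩ := exists_eq_pow_mul_of_isCompact_of_isQuasiSeparated X (f ⁻¹ᵁ U₀)
    (f.isCompact_preimage hU₀.isCompact) (f.isQuasiSeparated_preimage hU₀.isQuasiSeparated)
    (f.app U₀ r) (X.presheaf.map (eqToHom e.symm).op s)
  dsimp only [TopCat.Presheaf.restrictOpenCommRingCat_apply] at hb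
  obtain ⟨a, hta⟩ := ht b
  -- units
  have hut : IsUnit (Y.presheaf.map (homOfLE (hrt.trans (Y.basicOpen_le t))).op t) := by
    have h1 : IsUnit (Y.presheaf.map (homOfLE (Y.basicOpen_le t)).op t) :=
      RingedSpace.isUnit_res_basicOpen Y.toRingedSpace t
    have h2 := h1.map (Y.presheaf.map (homOfLE hrt).op).hom
    have h3 : Y.presheaf.map (homOfLE (hrt.trans (Y.basicOpen_le t))).op t =
        (Y.presheaf.map (homOfLE hrt).op).hom
          (Y.presheaf.map (homOfLE (Y.basicOpen_le t)).op t) := by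
      change _ = (Y.presheaf.map (homOfLE (Y.basicOpen_le t)).op ≫
        Y.presheaf.map (homOfLE hrt).op) t
      rw [← Functor.map_comp]
      rfl
    rw [h3]
    exact h2
  have hur : IsUnit (Y.presheaf.map (homOfLE hrU₀).op r) :=
    RingedSpace.isUnit_res_basicOpen Y.toRingedSpace r
  obtain ⟨ut, hut'⟩ := hut.exists_left_inv
  obtain ⟨ur, hur'⟩ := hur.exists_left_inv
  refine ⟨Y.presheaf.map (homOfLE hrU₀).op a * ut * ur ^ n, ?_⟩
  apply germ_injective_of_isIntegral X (genericPoint X) hfξW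
  set σ := CohIII.stalkToFunctionField f (genericPoint Y) hdom with hσ
  have hG : ∀ c : Γ(Y, U₀), X.presheaf.germ (f ⁻¹ᵁ U₀) (genericPoint X) hfξ (f.app U₀ c) =
      σ (Y.germToFunctionField U₀ c) :=
    fun c => Groth.Agent.Lib.Helper50.germToFunctionField_app f hdom U₀ hfξ c
  have hGW : ∀ c : Γ(Y, Y.basicOpen r),
      X.presheaf.germ (f ⁻¹ᵁ Y.basicOpen r) (genericPoint X) hfξW (f.app (Y.basicOpen r) c) =
      σ (Y.germToFunctionField (Y.basicOpen r) c) :=
    fun c => Groth.Agent.Lib.Helper50.germToFunctionField_app f hdom (Y.basicOpen r) hfξW c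
  have hres : ∀ c : Γ(Y, U₀), Y.germToFunctionField (Y.basicOpen r)
      (Y.presheaf.map (homOfLE hrU₀).op c) = Y.germToFunctionField U₀ c :=
    fun c => TopCat.Presheaf.germ_res_apply _ _ _ _ _
  -- (E1)
  have E1 : X.presheaf.germ (f ⁻¹ᵁ U₀) (genericPoint X) hfξ b =
      (X.presheaf.germ (f ⁻¹ᵁ U₀) (genericPoint X) hfξ (f.app U₀ r)) ^ n *
        X.presheaf.germ (f ⁻¹ᵁ Y.basicOpen r) (genericPoint X) hfξW s := by
    have := congrArg (X.presheaf.germ (X.basicOpen (f.app U₀ r)) (genericPoint X) hξb) hb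
    rw [map_mul, map_pow, TopCat.Presheaf.germ_res_apply, TopCat.Presheaf.germ_res_apply,
      TopCat.Presheaf.germ_res_apply] at this
    exact this
  have E2 := congrArg (X.presheaf.germ (f ⁻¹ᵁ U₀) (genericPoint X) hfξ) hta
  rw [map_mul, hG, hG] at E2
  rw [hG] at E1
  have hTu : σ (Y.germToFunctionField (Y.basicOpen r) ut) * σ (Y.germToFunctionField U₀ t) = 1 := by
    rw [← hres t, ← map_mul, ← map_mul, hut', map_one, map_one]
  have hRu : σ (Y.germToFunctionField (Y.basicOpen r) ur) * σ (Y.germToFunctionField U₀ r) = 1 := by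
    rw [← hres r, ← map_mul, ← map_mul, hur', map_one, map_one]
  rw [hGW, map_mul, map_mul, map_pow, map_mul, map_mul, map_pow, hres, ← E2, E1]
  set S := X.presheaf.germ (f ⁻¹ᵁ Y.basicOpen r) (genericPoint X) hfξW s
  set T := σ (Y.germToFunctionField U₀ t)
  set R := σ (Y.germToFunctionField U₀ r)
  set Tu := σ (Y.germToFunctionField (Y.basicOpen r) ut)
  set Ru := σ (Y.germToFunctionField (Y.basicOpen r) ur)
  have : T * (R ^ n * S) * Tu * Ru ^ n = (Tu * T) * (Ru * R) ^ n * S := by ring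
  rw [this, hTu, hRu, one_pow, one_mul, one_mul]

include halg hy in
theorem exists_nhd_isIso_app :
    ∃ U : Y.Opens, IsAffineOpen U ∧ y ∈ U ∧ ∀ V : Y.Opens, V ≤ U → IsIso (f.app V) := by
  obtain ⟨_, ⟨U₀, hU₀, rfl⟩, hyU₀, -⟩ :=
    Y.isBasis_affineOpens.exists_subset_of_mem_open (Set.mem_univ y) isOpen_univ
  obtain ⟨t, hyt, ht⟩ := exists_forall_mul_eq_app f hdom halg y hy U₀ hU₀ hyU₀
  refine ⟨Y.basicOpen t, hU₀.basicOpen t, hyt, fun V hV => ?_⟩
  rw [ConcreteCategory.isIso_iff_bijective]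
  refine ⟨app_injective_of_dominant f hdom V, ?_⟩
  refine app_surjective_of_basis f (Y.basicOpen t)
    {W | ∃ r : Γ(Y, U₀), W = Y.basicOpen r ∧ W ≤ Y.basicOpen t ∧ (W : Set Y).Nonempty} ?_
    (fun V _ => app_injective_of_dominant f hdom V) ?_ V hV
  · intro V' hV' y' hy'
    obtain ⟨r, hr1, hr2⟩ := hU₀.exists_basicOpen_le ⟨y', hy'⟩ (Y.basicOpen_le t (hV' hy'))
    exact ⟨Y.basicOpen r, ⟨r, rfl, hr1.trans hV', ⟨y', hr2⟩⟩, hr2, hr1⟩
  · rintro W ⟨r, rfl, hrt, hne⟩
    exact app_basicOpen_surjective f hdom U₀ hU₀ t ht r hrt hne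

open Groth.Agent.Lib.Helper50.ZC3 in
include halg hy in
/-- **S4480, conditionally on the theorem on formal functions.** -/
theorem geometricallyConnected_fiber_and_isIso_near (FF : FormalFunctions.{u}) :
    GeometricallyConnected (f.fiberToSpecResidueField y) ∧
      ∃ U : Y.Opens, y ∈ U ∧ ∀ V : Y.Opens, V ≤ U → IsIso (f.app V) := by
  obtain ⟨U, hU, hyU, hiso⟩ := exists_nhd_isIso_app f hdom halg y hy
  exact ⟨Groth.Agent.Lib.Helper50.ZC22.geometricallyConnected_fiber_of_formalFunctions FF f y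
    ⟨U, hU, hyU, hiso U le_rfl⟩, U, hyU, hiso⟩

end

end Groth.Agent.Lib.Helper50.ZC23
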