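import Mathlib
import Groth.Agent.Lib.Helper50.ZC6
import Groth.Agent.S2422

set_option autoImplicit false
universe u
open AlgebraicGeometry CategoryTheory Limits Opposite TopologicalSpace

namespace Groth.Agent.Lib.Helper50.ZC7

open Groth.Agent.Lib.Helper50.ZC3 Groth.Agent.Lib.Helper50.ZC6

/-- **S15544, conditionally on the theorem on formal functions.** -/
theorem connectedSpace_fiber_of_birational (FF : FormalFunctions.{u}) {X Y : Scheme.{u}}
    [IsIntegral X] [IsIntegral Y] [IsLocallyNoetherian Y] (hY : Pi1.IsNormalScheme Y) (f : X ⟶ Y)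
    [IsProper f] (hgen : f.base (genericPoint X) = genericPoint Y)
    (hbir : IsIso (f.stalkMap (genericPoint X))) (y : Y) : ConnectedSpace ↥(f.fiber y) := by
  haveI : IsLocallyNoetherian X := LocallyOfFiniteType.isLocallyNoetherian f
  have hdom : f.base (genericPoint X) ⤳ genericPoint Y := (Inseparable.of_eq hgen).specializes
  have hdom' : genericPoint Y ⤳ f.base (genericPoint X) := (Inseparable.of_eq hgen).specializes'
  have hiso := Groth.Agent.S2422.result hY f hdom (fun x _ => by
    obtain ⟨b, hb⟩ := (ConcreteCategory.bijective_of_isIso (f.stalkMap (genericPoint X))).surjective x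
    refine ⟨(Y.presheaf.stalkSpecializes hdom').hom b, ?_⟩
    rw [← hb]
    change (f.stalkMap (genericPoint X)).hom ((Y.presheaf.stalkSpecializes hdom).hom
      ((Y.presheaf.stalkSpecializes hdom').hom b)) = _
    congr 1
    rw [← CommRingCat.comp_apply, TopCat.Presheaf.stalkSpecializes_comp,
      TopCat.Presheaf.stalkSpecializes_refl]
    rfl)
  haveI := geometricallyConnected_of_formalFunctions FF f hiso
  infer_instance

end Groth.Agent.Lib.Helper50.ZC7
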